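import Cfsg.Agent.Lib.Presented.MatCheck

/-! Generated data: the generators and root elements in the adjoint representation. -/
set_option autoImplicit false
set_option maxRecDepth 100000

namespace CfsgLib.Presented.LyAdj

open MatCheck

def sb : ℕ := 6

def idx : ATree ℕ := (.node (.node (.node (.node (.leaf 0) (.leaf 8)) (.node (.leaf 4) (.leaf 12))) (.node (.node (.leaf 2) (.leaf 10)) (.leaf 6))) (.node (.node (.node (.leaf 1) (.leaf 9)) (.node (.leaf 5) (.leaf 13))) (.node (.node (.leaf 3) (.leaf 11)) (.leaf 7))))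

def m0 : Rows := (.node (.node (.node (.node (.leaf [(0, 3), (1, 4), (6, 3), (9, 1)]) (.leaf [(8, 4), (10, 1), (11, 3), (12, 2)])) (.node (.leaf [(3, 2), (4, 4), (7, 3)]) (.leaf [(8, 4), (10, 2), (11, 2), (12, 1)]))) (.node (.node (.leaf [(2, 2)]) (.leaf [(8, 1), (10, 2), (12, 1)])) (.leaf [(0, 2), (1, 4), (6, 3), (9, 3)]))) (.node (.node (.node (.leaf [(1, 1)]) (.leaf [(0, 1), (1, 2), (6, 2), (9, 3)])) (.node (.leaf [(3, 2), (5, 1), (7, 1)]) (.leaf [(13, 3)]))) (.node (.node (.leaf [(3, 3), (4, 2), (5, 4), (7, 1)]) (.leaf [(8, 4), (11, 3), (12, 3)])) (.leaf [(3, 2), (4, 1), (5, 4), (7, 2)]))))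

def m1 : Rows := (.node (.node (.node (.node (.leaf [(0, 3), (1, 4), (6, 3), (9, 1)]) (.leaf [(8, 2), (10, 3), (11, 4), (12, 1)])) (.node (.leaf [(3, 4), (4, 3), (7, 1)]) (.leaf [(8, 2), (10, 1), (11, 1), (12, 3)]))) (.node (.node (.leaf [(2, 3)]) (.leaf [(8, 3), (10, 1), (12, 3)])) (.leaf [(0, 2), (1, 4), (6, 3), (9, 3)]))) (.node (.node (.node (.leaf [(1, 1)]) (.leaf [(0, 1), (1, 2), (6, 2), (9, 3)])) (.node (.leaf [(3, 4), (5, 2), (7, 2)]) (.leaf [(13, 2)]))) (.node (.node (.leaf [(3, 1), (4, 4), (5, 3), (7, 2)]) (.leaf [(8, 2), (11, 4), (12, 4)])) (.leaf [(3, 4), (4, 2), (5, 3), (7, 4)]))))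

def m2 : Rows := (.node (.node (.node (.node (.leaf [(0, 1), (9, 2)]) (.leaf [(8, 1), (10, 1), (11, 2), (12, 2)])) (.node (.leaf [(4, 1), (5, 1), (7, 4)]) (.leaf [(12, 1)]))) (.node (.node (.leaf [(2, 1)]) (.leaf [(10, 1), (11, 4), (12, 1)])) (.leaf [(0, 1), (1, 2), (6, 1), (9, 1)]))) (.node (.node (.node (.leaf [(1, 1)]) (.leaf [(9, 1)])) (.node (.leaf [(5, 1), (7, 3)]) (.leaf [(13, 1)]))) (.node (.node (.leaf [(3, 1), (4, 1), (5, 3), (7, 3)]) (.leaf [(11, 1), (12, 3)])) (.leaf [(7, 1)]))))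

def m3 : Rows := (.node (.node (.node (.node (.leaf [(0, 1), (9, 3)]) (.leaf [(8, 1), (10, 4), (11, 2), (12, 3)])) (.node (.leaf [(4, 1), (5, 4), (7, 4)]) (.leaf [(12, 1)]))) (.node (.node (.leaf [(2, 1)]) (.leaf [(10, 1), (11, 1), (12, 1)])) (.leaf [(0, 4), (1, 3), (6, 1), (9, 1)]))) (.node (.node (.node (.leaf [(1, 1)]) (.leaf [(9, 1)])) (.node (.leaf [(5, 1), (7, 2)]) (.leaf [(13, 1)]))) (.node (.node (.leaf [(3, 1), (4, 4), (5, 3), (7, 2)]) (.leaf [(11, 1), (12, 2)])) (.leaf [(7, 1)]))))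

def m4 : Rows := (.node (.node (.node (.node (.leaf [(0, 1), (2, 1), (4, 1), (5, 1)]) (.leaf [(0, 2), (1, 2), (2, 3), (3, 2), (4, 2), (5, 3), (6, 3), (7, 4), (8, 1)])) (.node (.leaf [(2, 4), (4, 1)]) (.leaf [(2, 2), (5, 2), (7, 2), (9, 1), (12, 1)]))) (.node (.node (.leaf [(2, 1)]) (.leaf [(0, 1), (1, 4), (2, 3), (3, 4), (6, 1), (7, 1), (9, 4), (10, 1)])) (.leaf [(2, 4), (3, 3), (4, 3), (5, 1), (6, 1)]))) (.node (.node (.node (.leaf [(1, 1), (4, 4), (5, 3), (7, 4)]) (.leaf [(2, 1), (5, 4), (7, 4), (9, 1)])) (.node (.leaf [(2, 3), (5, 1)]) (.leaf [(0, 1), (1, 2), (3, 3), (4, 1), (5, 1), (6, 3), (7, 2), (9, 2), (10, 1), (11, 3), (12, 4), (13, 1)]))) (.node (.node (.leaf [(2, 1), (3, 1)]) (.leaf [(0, 2), (2, 3), (4, 1), (7, 4), (9, 2), (11, 1)])) (.leaf [(7, 1)]))))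

def m5 : Rows := (.node (.node (.node (.node (.leaf [(0, 1), (2, 1), (4, 4), (5, 4)]) (.leaf [(0, 3), (1, 3), (2, 2), (3, 2), (4, 2), (5, 3), (6, 2), (7, 4), (8, 1)])) (.node (.leaf [(2, 1), (4, 1)]) (.leaf [(2, 3), (5, 2), (7, 2), (9, 4), (12, 1)]))) (.node (.node (.leaf [(2, 1)]) (.leaf [(0, 4), (1, 1), (2, 2), (3, 4), (6, 4), (7, 1), (9, 1), (10, 1)])) (.leaf [(2, 4), (3, 2), (4, 2), (5, 4), (6, 1)]))) (.node (.node (.node (.leaf [(1, 1), (4, 1), (5, 2), (7, 1)]) (.leaf [(2, 1), (5, 1), (7, 1), (9, 1)])) (.node (.leaf [(2, 2), (5, 1)]) (.leaf [(0, 1), (1, 2), (3, 2), (4, 4), (5, 4), (6, 3), (7, 3), (9, 2), (10, 4), (11, 2), (12, 1), (13, 1)]))) (.node (.node (.leaf [(2, 4), (3, 1)]) (.leaf [(0, 3), (2, 2), (4, 1), (7, 4), (9, 3), (11, 1)])) (.leaf [(7, 1)]))))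

def m6 : Rows := (.node (.node (.node (.node (.leaf [(0, 1), (1, 4)]) (.leaf [(3, 2)])) (.node (.leaf [(10, 2)]) (.leaf [(7, 3)]))) (.node (.node (.leaf [(13, 1)]) (.leaf [(4, 2)])) (.leaf [(6, 1)]))) (.node (.node (.node (.leaf [(1, 4)]) (.leaf [(9, 1)])) (.node (.leaf [(11, 3)]) (.leaf [(2, 1)]))) (.node (.node (.leaf [(8, 2)]) (.leaf [(5, 3)])) (.leaf [(12, 3)]))))

def m7 : Rows := (.node (.node (.node (.node (.leaf [(0, 1), (1, 4)]) (.leaf [(3, 3)])) (.node (.leaf [(10, 3)]) (.leaf [(7, 2)]))) (.node (.node (.leaf [(13, 1)]) (.leaf [(4, 3)])) (.leaf [(6, 1)]))) (.node (.node (.node (.leaf [(1, 4)]) (.leaf [(9, 1)])) (.node (.leaf [(11, 2)]) (.leaf [(2, 1)]))) (.node (.node (.leaf [(8, 3)]) (.leaf [(5, 2)])) (.leaf [(12, 2)]))))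

def m8 : Rows := (.node (.node (.node (.node (.leaf [(0, 3), (1, 1), (2, 4), (4, 1), (7, 1), (9, 4)]) (.leaf [(0, 3), (1, 4), (2, 1), (3, 3), (5, 2), (6, 1), (7, 2), (9, 2), (10, 4), (11, 3), (12, 2), (13, 3)])) (.node (.leaf [(2, 3), (5, 4), (7, 1), (9, 2)]) (.leaf [(3, 4), (4, 1), (5, 2), (7, 3)]))) (.node (.node (.leaf [(7, 3)]) (.leaf [(0, 2), (1, 2), (2, 2), (3, 4), (4, 2), (5, 2), (6, 2), (7, 4), (9, 4), (10, 4), (11, 4), (12, 4)])) (.leaf [(0, 2), (2, 2), (4, 3), (5, 4), (7, 4), (11, 2), (12, 4)]))) (.node (.node (.node (.leaf [(0, 2), (1, 2), (5, 3), (7, 1), (9, 1)]) (.leaf [(2, 2), (4, 3), (5, 2), (7, 2)])) (.node (.leaf [(2, 1), (5, 4), (7, 3)]) (.leaf [(0, 4), (1, 3), (2, 2), (4, 4), (5, 1), (6, 1), (7, 1), (8, 2), (9, 1), (10, 3), (11, 4), (12, 1)]))) (.node (.node (.leaf [(2, 1), (5, 2), (7, 2), (9, 2),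 (12, 4)]) (.leaf [(0, 2), (1, 4), (2, 3), (3, 2), (4, 2), (5, 2), (6, 3), (9, 3)])) (.leaf [(2, 2)]))))

def m9 : Rows := (.node (.node (.node (.node (.leaf [(0, 3), (1, 1), (2, 4), (4, 1), (7, 1), (9, 4)]) (.leaf [(0, 3), (1, 4), (2, 1), (3, 3), (5, 2), (6, 1), (7, 2), (9, 2), (10, 4), (11, 3), (12, 2), (13, 3)])) (.node (.leaf [(2, 3), (5, 4), (7, 1), (9, 2)]) (.leaf [(3, 4), (4, 1), (5, 2), (7, 3)]))) (.node (.node (.leaf [(7, 3)]) (.leaf [(0, 2), (1, 2), (2, 2), (3, 4), (4, 2), (5, 2), (6, 2), (7, 4), (9, 4), (10, 4), (11, 4), (12, 4)])) (.leaf [(0, 2), (2, 2), (4, 3), (5, 4), (7, 4), (11, 2), (12, 4)]))) (.node (.node (.node (.leaf [(0, 2), (1, 2), (5, 3), (7, 1), (9, 1)]) (.leaf [(2, 2), (4, 3), (5, 2), (7, 2)])) (.node (.leaf [(2, 1), (5, 4), (7, 3)]) (.leaf [(0, 4), (1, 3), (2, 2), (4, 4), (5, 1), (6, 1), (7,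 1), (8, 2), (9, 1), (10, 3), (11, 4), (12, 1)]))) (.node (.node (.leaf [(2, 1), (5, 2), (7, 2), (9, 2), (12, 4)]) (.leaf [(0, 2), (1, 4), (2, 3), (3, 2), (4, 2), (5, 2), (6, 3), (9, 3)])) (.leaf [(2, 2)]))))

def m10 : Rows := (.node (.node (.node (.node (.leaf [(0, 1), (13, 4)]) (.leaf [(8, 1)])) (.node (.leaf [(4, 1), (10, 1)]) (.leaf [(12, 1)]))) (.node (.node (.leaf [(1, 1), (2, 1), (13, 4)]) (.leaf [(10, 1)])) (.leaf [(6, 1)]))) (.node (.node (.node (.leaf [(1, 1), (13, 3)]) (.leaf [(9, 1)])) (.node (.leaf [(5, 1), (11, 4)]) (.leaf [(13, 1)]))) (.node (.node (.leaf [(3, 1), (8, 1)]) (.leaf [(11, 1)])) (.leaf [(7, 1), (12, 4)]))))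

def m11 : Rows := (.node (.node (.node (.node (.leaf [(0, 1), (12, 4)]) (.leaf [(8, 1), (13, 4)])) (.node (.leaf [(4, 1), (9, 1)]) (.leaf [(12, 1)]))) (.node (.node (.leaf [(2, 1), (7, 1)]) (.leaf [(10, 1)])) (.leaf [(6, 1), (11, 4)]))) (.node (.node (.node (.leaf [(1, 1), (12, 4)]) (.leaf [(9, 1)])) (.node (.leaf [(5, 1)]) (.leaf [(13, 1)]))) (.node (.node (.leaf [(0, 3), (1, 4), (3, 1), (12, 4)]) (.leaf [(11, 1)])) (.leaf [(7, 1)]))))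

def m12 : Rows := (.node (.node (.node (.node (.leaf [(0, 1), (11, 3)]) (.leaf [(8, 1)])) (.node (.leaf [(0, 1), (4, 1), (11, 4)]) (.leaf [(12, 1)]))) (.node (.node (.leaf [(2, 1), (5, 3), (9, 2), (12, 1)]) (.leaf [(10, 1), (13, 4)])) (.leaf [(6, 1), (10, 2), (13, 4)]))) (.node (.node (.node (.leaf [(1, 1), (11, 2)]) (.leaf [(9, 1), (12, 4)])) (.node (.leaf [(5, 1), (9, 3), (12, 1)]) (.leaf [(13, 1)]))) (.node (.node (.leaf [(3, 1), (6, 3), (10, 3), (13, 4)]) (.leaf [(11, 1)])) (.leaf [(7, 1)]))))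

def m13 : Rows := (.node (.node (.node (.node (.leaf [(0, 1), (10, 4)]) (.leaf [(8, 1)])) (.node (.leaf [(4, 1), (6, 3), (8, 4)]) (.leaf [(12, 1)]))) (.node (.node (.leaf [(2, 1), (4, 2), (6, 3), (8, 1)]) (.leaf [(10, 1)])) (.leaf [(6, 1), (8, 1)]))) (.node (.node (.node (.leaf [(1, 1), (10, 2)]) (.leaf [(9, 1), (11, 2), (13, 1)])) (.node (.leaf [(0, 4), (1, 1), (5, 1), (10, 4)]) (.leaf [(13, 1)]))) (.node (.node (.leaf [(3, 1)]) (.leaf [(11, 1), (13, 1)])) (.leaf [(7, 1), (9, 2), (11, 2), (13, 4)]))))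

def m14 : Rows := (.node (.node (.node (.node (.leaf [(0, 1), (9, 4)]) (.leaf [(8, 1), (10, 2), (11, 3), (12, 1)])) (.node (.leaf [(4, 1), (5, 2), (7, 1)]) (.leaf [(12, 1)]))) (.node (.node (.leaf [(2, 1)]) (.leaf [(10, 1), (11, 3), (12, 4)])) (.leaf [(0, 2), (1, 4), (6, 1), (9, 4)]))) (.node (.node (.node (.leaf [(1, 1)]) (.leaf [(9, 1)])) (.node (.leaf [(5, 1), (7, 1)]) (.leaf [(13, 1)]))) (.node (.node (.leaf [(3, 1), (4, 2), (5, 2), (7, 4)]) (.leaf [(11, 1), (12, 1)])) (.leaf [(7, 1)]))))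

def m15 : Rows := (.node (.node (.node (.node (.leaf [(0, 1)]) (.leaf [(8, 1)])) (.node (.leaf [(4, 1)]) (.leaf [(12, 1), (13, 1)]))) (.node (.node (.leaf [(2, 1), (3, 4)]) (.leaf [(10, 1)])) (.leaf [(6, 1)]))) (.node (.node (.node (.leaf [(1, 1), (8, 4)]) (.leaf [(9, 1), (10, 1)])) (.node (.leaf [(5, 1), (6, 4)]) (.leaf [(13, 1)]))) (.node (.node (.leaf [(3, 1)]) (.leaf [(11, 1)])) (.leaf [(0, 2), (1, 2), (7, 1), (8, 4)]))))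

def m16 : Rows := (.node (.node (.node (.node (.leaf [(0, 1)]) (.leaf [(0, 3), (1, 3), (7, 4), (8, 1)])) (.node (.leaf [(4, 1)]) (.leaf [(12, 1)]))) (.node (.node (.leaf [(2, 1)]) (.leaf [(9, 1), (10, 1)])) (.leaf [(5, 4), (6, 1)]))) (.node (.node (.node (.leaf [(1, 1), (7, 1)]) (.leaf [(9, 1)])) (.node (.leaf [(5, 1)]) (.leaf [(12, 1), (13, 1)]))) (.node (.node (.leaf [(2, 4), (3, 1)]) (.leaf [(11, 1)])) (.leaf [(7, 1)]))))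

def m17 : Rows := (.node (.node (.node (.node (.leaf [(0, 1), (6, 1)]) (.leaf [(8, 1)])) (.node (.leaf [(3, 4), (4, 1)]) (.leaf [(8, 1), (10, 2), (11, 3), (12, 1)]))) (.node (.node (.leaf [(2, 1)]) (.leaf [(8, 4), (10, 1)])) (.leaf [(6, 1)]))) (.node (.node (.node (.leaf [(1, 1)]) (.leaf [(0, 3), (1, 1), (6, 4), (9, 1)])) (.node (.leaf [(3, 4), (4, 2), (5, 1)]) (.leaf [(13, 1)]))) (.node (.node (.leaf [(3, 1)]) (.leaf [(8, 1), (10, 3), (11, 1)])) (.leaf [(3, 4), (4, 3), (5, 3), (7, 1)]))))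

def m18 : Rows := (.node (.node (.node (.node (.leaf [(0, 1), (5, 1)]) (.leaf [(2, 1), (4, 2), (6, 3), (8, 1)])) (.node (.leaf [(2, 4), (4, 1)]) (.leaf [(12, 1)]))) (.node (.node (.leaf [(2, 1)]) (.leaf [(0, 1), (1, 4), (5, 4), (10, 1)])) (.leaf [(2, 1), (4, 3), (6, 1)]))) (.node (.node (.node (.leaf [(1, 1), (5, 3)]) (.leaf [(7, 4), (9, 1)])) (.node (.leaf [(5, 1)]) (.leaf [(7, 4), (9, 3), (11, 3), (13, 1)]))) (.node (.node (.leaf [(3, 1)]) (.leaf [(7, 4), (9, 2), (11, 1)])) (.leaf [(7, 1)]))))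

def m19 : Rows := (.node (.node (.node (.node (.leaf [(0, 1), (4, 2)]) (.leaf [(8, 1)])) (.node (.leaf [(4, 1)]) (.leaf [(2, 1), (5, 3), (9, 2), (12, 1)]))) (.node (.node (.leaf [(2, 1)]) (.leaf [(3, 1), (6, 2), (10, 1)])) (.leaf [(3, 1), (6, 1)]))) (.node (.node (.node (.leaf [(1, 1), (4, 3)]) (.leaf [(2, 4), (5, 3), (9, 1)])) (.node (.leaf [(2, 1), (5, 1)]) (.leaf [(3, 4), (6, 2), (10, 2), (13, 1)]))) (.node (.node (.leaf [(3, 1)]) (.leaf [(0, 4), (4, 4), (11, 1)])) (.leaf [(7, 1)]))))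

def m20 : Rows := (.node (.node (.node (.node (.leaf [(0, 1), (3, 1)]) (.leaf [(8, 1)])) (.node (.leaf [(4, 1)]) (.leaf [(0, 2), (1, 1), (3, 4), (12, 1)]))) (.node (.node (.leaf [(2, 1)]) (.leaf [(10, 1)])) (.leaf [(6, 1)]))) (.node (.node (.node (.leaf [(1, 1), (3, 1)]) (.leaf [(4, 1), (9, 1)])) (.node (.leaf [(5, 1)]) (.leaf [(8, 4), (13, 1)]))) (.node (.node (.leaf [(3, 1)]) (.leaf [(6, 4), (11, 1)])) (.leaf [(2, 1), (7, 1)]))))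

def m21 : Rows := (.node (.node (.node (.node (.leaf [(0, 1), (2, 1)]) (.leaf [(3, 1), (8, 1)])) (.node (.leaf [(4, 1)]) (.leaf [(7, 4), (12, 1)]))) (.node (.node (.leaf [(2, 1)]) (.leaf [(4, 1), (10, 1)])) (.leaf [(6, 1)]))) (.node (.node (.node (.leaf [(1, 1), (2, 2)]) (.leaf [(9, 1)])) (.node (.leaf [(5, 1)]) (.leaf [(1, 4), (2, 4), (13, 1)]))) (.node (.node (.leaf [(3, 1)]) (.leaf [(5, 4), (11, 1)])) (.leaf [(7, 1)]))))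

def gens : List Rows := [m0, m1, m2, m3, m4, m5, m6, m7, m8, m9, m10, m11, m12, m13, m14, m15, m16, m17, m18, m19, m20, m21]

/-- words in the letters for the root elements with parameter one -/
def rootWords : List (List ℕ) := [
  [2, 8, 4, 8, 3, 8, 5, 8, 2, 5, 1, 4, 2, 0, 4, 9, 0, 9, 3, 4, 9, 2, 8, 4, 8, 3, 8, 5, 8, 3, 3, 0, 2, 1, 2, 2, 3, 3, 3, 3, 0, 2, 1, 2, 2, 8, 5, 2, 8, 1, 8, 5, 1, 3, 5, 0, 4, 3, 3, 3, 0, 3, 1, 2, 2, 2, 2, 3, 3, 0, 3, 1, 2, 2, 9, 4, 9, 2, 9, 5, 9, 3, 8, 5, 2, 8, 1, 8, 5, 1, 3, 5, 0, 4, 3, 9, 4, 9, 2, 9, 5, 9, 3],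
  [3, 3, 0, 2, 1, 2, 2, 3, 3, 3, 3, 0, 2, 1, 2, 2, 8, 5, 2, 8, 1, 8, 5, 1, 3, 5, 0, 4, 3, 3, 3, 0, 3, 1, 2, 2, 2, 2, 3, 3, 0, 3, 1, 2, 2],
  [3, 3, 0, 2, 1, 2, 2, 3, 3, 3, 3, 0, 2, 1, 2, 2, 2, 8, 4, 8, 3, 8, 5, 8, 2, 5, 1, 4, 2, 0, 4, 9, 0, 9, 3, 4, 9, 2, 8, 4, 8, 3, 8, 5, 8, 2, 2, 9, 4, 9, 2, 9, 5, 9, 3, 8, 5, 2, 8, 1, 8, 5, 1, 3, 5, 0, 4, 3, 9, 4, 9, 2, 9, 5, 9, 3, 3, 3, 0, 3, 1, 2, 2, 2, 2, 3, 3, 0, 3, 1, 2, 2],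
  [2, 8, 4, 8, 3, 8, 5, 8, 2, 5, 1, 4, 2, 0, 4, 9, 0, 9, 3, 4, 9, 2, 8, 4, 8, 3, 8, 5, 8, 2, 2, 9, 4, 9, 2, 9, 5, 9, 3, 8, 5, 2, 8, 1, 8, 5, 1, 3, 5, 0, 4, 3, 9, 4, 9, 2, 9, 5, 9, 3],
  [2, 2],
  [8, 5, 2, 8, 1, 8, 5, 1, 3, 5, 0, 4, 3],
  [2, 8, 4, 8, 3, 8, 5, 8],
  [3, 3, 0, 2, 1, 2, 2],
  [2, 8, 4, 8, 3, 8, 5, 8, 2, 5, 1, 4, 2, 0, 4, 9, 0, 9, 3, 4, 9, 2, 8, 4, 8, 3, 8, 5, 8, 3, 3, 0, 2, 1, 2, 2, 9, 4, 9, 2, 9, 5, 9, 3, 8, 5, 2, 8, 1, 8, 5, 1, 3, 5, 0, 4, 3, 9, 4, 9, 2, 9, 5, 9, 3],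
  [3, 3, 0, 2, 1, 2, 2, 3, 3, 3, 3, 0, 2, 1, 2, 2, 2, 8, 4, 8, 3, 8, 5, 8, 2, 5, 1, 4, 2, 0, 4, 9, 0, 9, 3, 4, 9, 2, 8, 4, 8, 3, 8, 5, 8, 3, 3, 0, 2, 1, 2, 2, 9, 4, 9, 2, 9, 5, 9, 3, 8, 5, 2, 8, 1, 8, 5, 1, 3, 5, 0, 4, 3, 9, 4, 9, 2, 9, 5, 9, 3, 3, 3, 0, 3, 1, 2, 2, 2, 2, 3, 3, 0, 3, 1, 2, 2],
  [3, 3, 0, 2, 1, 2, 2, 3, 3, 3, 3, 0, 2, 1, 2, 2, 2, 8, 4, 8, 3, 8, 5, 8, 3, 3, 0, 3, 1, 2, 2, 2, 2, 3, 3, 0, 3, 1, 2, 2],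
  [2, 8, 4, 8, 3, 8, 5, 8, 2, 5, 1, 4, 2, 0, 4, 9, 0, 9, 3, 4, 9, 2, 8, 4, 8, 3, 8, 5, 8, 3, 3, 0, 2, 1, 2, 2, 3, 3, 3, 3, 0, 2, 1, 2, 2, 2, 8, 4, 8, 3, 8, 5, 8, 3, 3, 0, 3, 1, 2, 2, 2, 2, 3, 3, 0, 3, 1, 2, 2, 9, 4, 9, 2, 9, 5, 9, 3, 8, 5, 2, 8, 1, 8, 5, 1, 3, 5, 0, 4, 3, 9, 4, 9, 2, 9, 5, 9, 3]]

/-- the generators as words in root elements (letters from ten on) -/
def genRootWords : List (List ℕ) := [
  [17, 14, 16, 15, 15, 16, 16, 16, 15, 15, 15, 15],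
  [14, 14, 14],
  [17, 16, 17, 17, 16, 16, 16, 16, 17, 17, 17, 16, 17, 17, 17, 17, 16, 16, 16],
  [17, 14, 14, 14, 14, 16, 16, 16, 17, 17, 16, 16, 16, 16, 17, 15, 15, 14, 14, 14, 14, 16, 16, 17]]

/-- the fourth generator in the others -/
def dWord : List ℕ := [0, 2, 2, 1, 3, 5, 2, 5, 3, 1, 5, 0, 5, 1, 4, 0, 4, 0, 8, 0, 8, 0, 1, 5, 0, 2, 8]

end CfsgLib.Presented.LyAdj
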