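import Cfsg.Agent.Lib.Presented.Tree

/-! Generated: a 78-dimensional representation modulo 13 of the presented Fischer group on 22 letters, as sparse rows. -/
set_option autoImplicit false
set_option maxRecDepth 8000

namespace CfsgLib.Presented.Fi22M78

/-- row numbering -/
def idx : ATree ℕ := (.node (.node (.node (.node (.node (.node (.node (.leaf 0) (.leaf 64)) (.node (.leaf 32) (.leaf 96))) (.node (.node (.leaf 16) (.leaf 80)) (.node (.leaf 48) (.leaf 112)))) (.node (.node (.node (.leaf 8) (.leaf 72)) (.node (.leaf 40) (.leaf 104))) (.node (.node (.leaf 24) (.leaf 88)) (.node (.leaf 56) (.leaf 120))))) (.node (.node (.node (.node (.leaf 4) (.leaf 68)) (.node (.leaf 36) (.leaf 100))) (.node (.node (.leaf 20) (.leaf 84)) (.node (.leaf 52) (.leaf 116)))) (.node (.node (.node (.leaf 12) (.leaf 76)) (.node (.leaf 44) (.leaf 108))) (.node (.node (.leaf 28) (.leaf 92)) (.node (.leaf 60) (.leaf 124)))))) (.node (.node (.node (.node (.node (.leaf 2) (.leaf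 66)) (.node (.leaf 34) (.leaf 98))) (.node (.node (.leaf 18) (.leaf 82)) (.node (.leaf 50) (.leaf 114)))) (.node (.node (.node (.leaf 10) (.leaf 74)) (.node (.leaf 42) (.leaf 106))) (.node (.node (.leaf 26) (.leaf 90)) (.node (.leaf 58) (.leaf 122))))) (.node (.node (.node (.node (.leaf 6) (.leaf 70)) (.node (.leaf 38) (.leaf 102))) (.node (.node (.leaf 22) (.leaf 86)) (.node (.leaf 54) (.leaf 118)))) (.node (.node (.node (.leaf 14) (.leaf 78)) (.node (.leaf 46) (.leaf 110))) (.node (.node (.leaf 30) (.leaf 94)) (.node (.leaf 62) (.leaf 126))))))) (.node (.node (.node (.node (.node (.node (.leaf 1) (.leaf 65)) (.node (.leaf 33) (.leaf 97))) (.node (.node (.leaf 17) (.leaf 81)) (.node (.leaf 49) (.leaf 113)))) (.node (.node (.node (.leaf 9) (.leaf 73)) (.node (.leaf 41) (.leaf 105))) (.node (.node (.leaf 25) (.leaf 89)) (.node (.leaf 57) (.leaf 121))))) (.node (.node (.node (.node (.leaf 5) (.leaf 69)) (.node (.leaf 37) (.leaf 101))) (.node (.node (.leaf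 21) (.leaf 85)) (.node (.leaf 53) (.leaf 117)))) (.node (.node (.node (.leaf 13) (.leaf 77)) (.node (.leaf 45) (.leaf 109))) (.node (.node (.leaf 29) (.leaf 93)) (.node (.leaf 61) (.leaf 125)))))) (.node (.node (.node (.node (.node (.leaf 3) (.leaf 67)) (.node (.leaf 35) (.leaf 99))) (.node (.node (.leaf 19) (.leaf 83)) (.node (.leaf 51) (.leaf 115)))) (.node (.node (.node (.leaf 11) (.leaf 75)) (.node (.leaf 43) (.leaf 107))) (.node (.node (.leaf 27) (.leaf 91)) (.node (.leaf 59) (.leaf 123))))) (.node (.node (.node (.node (.leaf 7) (.leaf 71)) (.node (.leaf 39) (.leaf 103))) (.node (.node (.leaf 23) (.leaf 87)) (.node (.leaf 55) (.leaf 119)))) (.node (.node (.node (.leaf 15) (.leaf 79)) (.node (.leaf 47) (.leaf 111))) (.node (.node (.leaf 31) (.leaf 95)) (.node (.leaf 63) (.leaf 127))))))))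

/-- the matrix of generator 0 -/
def m0 : ATree (List (ℕ × ℕ)) := (.node
  (.node (.node
  (.node (.node
  (.node (.node (.leaf [(0,1)]) (.leaf [(64,12)])) (.node (.leaf [(32,12)]) (.leaf []))) (.node
  (.node (.leaf [(16,1)]) (.leaf [])) (.node (.leaf [(48,12)]) (.leaf [])))) (.node
  (.node (.node (.leaf [(8,1)]) (.leaf [(72,12)])) (.node (.leaf [(40,12)]) (.leaf []))) (.node
  (.node (.leaf [(24,12)]) (.leaf [])) (.node (.leaf [(56,12)]) (.leaf []))))) (.node
  (.node (.node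
  (.node (.leaf [(4,1)]) (.leaf [(68,12)])) (.node (.leaf [(36,12)]) (.leaf []))) (.node
  (.node (.leaf [(20,1)]) (.leaf [])) (.node (.leaf [(52,12)]) (.leaf [])))) (.node
  (.node (.node (.leaf [(12,1)]) (.leaf [(76,12)])) (.node (.leaf [(44,12)]) (.leaf []))) (.node
  (.node (.leaf [(28,12)]) (.leaf [])) (.node (.leaf [(60,12)]) (.leaf [])))))) (.node
  (.node (.node
  (.node (.node (.leaf [(2,1)]) (.leaf [(66,12)])) (.node (.leaf [(34,12)]) (.leaf []))) (.node
  (.node (.leaf [(18,1)]) (.leaf [])) (.node (.leaf [(50,12)]) (.leaf [])))) (.node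
  (.node (.node (.leaf [(10,1)]) (.leaf [(74,12)])) (.node (.leaf [(42,12)]) (.leaf []))) (.node
  (.node (.leaf [(26,12)]) (.leaf [])) (.node (.leaf [(58,12)]) (.leaf []))))) (.node
  (.node (.node
  (.node (.leaf [(6,1)]) (.leaf [(70,12)])) (.node (.leaf [(38,12)]) (.leaf []))) (.node
  (.node (.leaf [(22,12)]) (.leaf [])) (.node (.leaf [(54,12)]) (.leaf [])))) (.node
  (.node (.node (.leaf [(14,1)]) (.leaf [])) (.node (.leaf [(46,12)]) (.leaf []))) (.node
  (.node (.leaf [(30,12)]) (.leaf [])) (.node (.leaf [(62,12)]) (.leaf []))))))) (.node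
  (.node (.node
  (.node (.node
  (.node (.leaf [(1,1)]) (.leaf [(65,12)])) (.node (.leaf [(33,12)]) (.leaf []))) (.node
  (.node (.leaf [(17,1)]) (.leaf [])) (.node (.leaf [(49,12)]) (.leaf [])))) (.node
  (.node (.node (.leaf [(9,1)]) (.leaf [(73,12)])) (.node (.leaf [(41,12)]) (.leaf []))) (.node
  (.node (.leaf [(25,12)]) (.leaf [])) (.node (.leaf [(57,12)]) (.leaf []))))) (.node
  (.node (.node
  (.node (.leaf [(5,1)]) (.leaf [(69,12)])) (.node (.leaf [(37,12)]) (.leaf []))) (.node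
  (.node (.leaf [(21,1)]) (.leaf [])) (.node (.leaf [(53,12)]) (.leaf [])))) (.node
  (.node (.node (.leaf [(13,1)]) (.leaf [(77,12)])) (.node (.leaf [(45,12)]) (.leaf []))) (.node
  (.node (.leaf [(29,12)]) (.leaf [])) (.node (.leaf [(61,12)]) (.leaf [])))))) (.node
  (.node (.node
  (.node (.node (.leaf [(3,1)]) (.leaf [(67,12)])) (.node (.leaf [(35,12)]) (.leaf []))) (.node
  (.node (.leaf [(19,1)]) (.leaf [])) (.node (.leaf [(51,12)]) (.leaf [])))) (.node
  (.node (.node (.leaf [(11,1)]) (.leaf [(75,12)])) (.node (.leaf [(43,12)]) (.leaf []))) (.node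
  (.node (.leaf [(27,12)]) (.leaf [])) (.node (.leaf [(59,12)]) (.leaf []))))) (.node
  (.node (.node
  (.node (.leaf [(7,1)]) (.leaf [(71,12)])) (.node (.leaf [(39,12)]) (.leaf []))) (.node
  (.node (.leaf [(23,12)]) (.leaf [])) (.node (.leaf [(55,12)]) (.leaf [])))) (.node
  (.node (.node (.leaf [(15,1)]) (.leaf [])) (.node (.leaf [(47,12)]) (.leaf []))) (.node
  (.node (.leaf [(31,12)]) (.leaf [])) (.node (.leaf [(63,12)]) (.leaf []))))))))

/-- the matrix of generator 1 -/
def m1 : ATree (List (ℕ × ℕ)) := (.node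
  (.node (.node
  (.node (.node
  (.node (.node (.leaf [(0,6), (38,4)]) (.leaf [(14,7), (31,7), (63,7), (64,6)])) (.node (.leaf [(18,7), (32,6), (70,7), (72,7)]) (.leaf []))) (.node
  (.node (.leaf [(3,10), (4,10), (16,3), (19,10), (20,10), (21,10), (33,10), (35,3), (36,3), (37,3), (66,10), (67,10), (69,10), (73,3), (75,3), (77,3)]) (.leaf [])) (.node (.leaf [(8,7), (23,7), (47,7), (48,6)]) (.leaf [])))) (.node
  (.node (.node (.leaf [(8,6), (23,7), (47,7), (48,7)]) (.leaf [(18,7), (32,7), (70,7), (72,6)])) (.node (.leaf [(1,7), (39,7), (40,6), (41,7)]) (.leaf []))) (.node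
  (.node (.leaf [(7,7), (24,6), (45,7), (46,7)]) (.leaf [])) (.node (.leaf [(11,7), (29,7), (55,7), (56,6)]) (.leaf []))))) (.node
  (.node (.node
  (.node (.leaf [(3,10), (4,3), (16,10), (19,10), (20,10), (21,10), (33,10), (35,10), (36,10), (37,10), (66,3), (67,3), (69,3), (73,3), (75,3), (77,3)]) (.leaf [(5,7), (68,6), (74,7), (76,7)])) (.node (.leaf [(3,10), (4,10), (16,3), (19,10), (20,3), (21,3), (33,10), (35,10), (36,3), (37,10), (66,3), (67,3), (69,10), (73,10), (75,3), (77,10)]) (.leaf []))) (.node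
  (.node (.leaf [(3,10), (4,10), (16,10), (19,10), (20,3), (21,10), (33,3), (35,3), (36,3), (37,10), (66,3), (67,10), (69,3), (73,10), (75,10), (77,3)]) (.leaf [])) (.node (.leaf [(12,7), (27,7), (52,6), (54,7)]) (.leaf [])))) (.node
  (.node (.node (.leaf [(12,6), (27,7), (52,7), (54,7)]) (.leaf [(5,7), (68,7), (74,7), (76,6)])) (.node (.leaf [(9,7), (25,7), (44,6), (49,7)]) (.leaf []))) (.node
  (.node (.leaf [(13,7), (28,6), (53,7), (57,7)]) (.leaf [])) (.node (.leaf [(2,7), (58,7), (60,6), (61,7)]) (.leaf [])))))) (.node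
  (.node (.node
  (.node (.node (.leaf [(2,6), (58,7), (60,7), (61,7)]) (.leaf [(3,10), (4,3), (16,10), (19,3), (20,3), (21,10), (33,10), (35,10), (36,3), (37,3), (66,3), (67,10), (69,10), (73,3), (75,10), (77,10)])) (.node (.leaf [(17,7), (34,6), (65,7), (71,7)]) (.leaf []))) (.node
  (.node (.leaf [(18,6), (32,7), (70,7), (72,7)]) (.leaf [])) (.node (.leaf [(10,7), (26,7), (50,6), (51,7)]) (.leaf [])))) (.node
  (.node (.node (.leaf [(10,6), (26,7), (50,7), (51,7)]) (.leaf [(5,7), (68,7), (74,6), (76,7)])) (.node (.leaf [(6,7), (22,7), (42,6), (43,7)]) (.leaf []))) (.node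
  (.node (.leaf [(10,7), (26,6), (50,7), (51,7)]) (.leaf [])) (.node (.leaf [(2,7), (58,6), (60,7), (61,7)]) (.leaf []))))) (.node
  (.node (.node
  (.node (.leaf [(6,6), (22,7), (42,7), (43,7)]) (.leaf [(18,7), (32,7), (70,6), (72,7)])) (.node (.leaf [(0,1), (38,7)]) (.leaf []))) (.node
  (.node (.leaf [(6,7), (22,6), (42,7), (43,7)]) (.leaf [])) (.node (.leaf [(12,7), (27,7), (52,7), (54,6)]) (.leaf [])))) (.node
  (.node (.node (.leaf [(14,6), (31,7), (63,7), (64,7)]) (.leaf [])) (.node (.leaf [(7,7), (24,7), (45,7), (46,6)]) (.leaf []))) (.node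
  (.node (.leaf [(15,7), (30,6), (59,7), (62,7)]) (.leaf [])) (.node (.leaf [(15,7), (30,7), (59,7), (62,6)]) (.leaf []))))))) (.node
  (.node (.node
  (.node (.node
  (.node (.leaf [(1,6), (39,7), (40,7), (41,7)]) (.leaf [(17,7), (34,7), (65,6), (71,7)])) (.node (.leaf [(3,10), (4,10), (16,10), (19,3), (20,3), (21,3), (33,3), (35,10), (36,10), (37,10), (66,10), (67,10), (69,10), (73,3), (75,3), (77,3)]) (.leaf []))) (.node
  (.node (.leaf [(17,6), (34,7), (65,7), (71,7)]) (.leaf [])) (.node (.leaf [(9,7), (25,7), (44,7), (49,6)]) (.leaf [])))) (.node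
  (.node (.node (.leaf [(9,6), (25,7), (44,7), (49,7)]) (.leaf [(3,10), (4,3), (16,3), (19,10), (20,10), (21,3), (33,3), (35,3), (36,10), (37,10), (66,3), (67,10), (69,10), (73,3), (75,10), (77,10)])) (.node (.leaf [(1,7), (39,7), (40,7), (41,6)]) (.leaf []))) (.node
  (.node (.leaf [(9,7), (25,6), (44,7), (49,7)]) (.leaf [])) (.node (.leaf [(13,7), (28,7), (53,7), (57,6)]) (.leaf []))))) (.node
  (.node (.node
  (.node (.leaf [(5,6), (68,7), (74,7), (76,7)]) (.leaf [(3,10), (4,3), (16,10), (19,10), (20,3), (21,3), (33,10), (35,3), (36,10), (37,3), (66,10), (67,10), (69,3), (73,10), (75,3), (77,10)])) (.node (.leaf [(3,10), (4,10), (16,3), (19,3), (20,10), (21,3), (33,10), (35,10), (36,10), (37,3), (66,3), (67,10), (69,3), (73,10), (75,10), (77,3)]) (.leaf []))) (.node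
  (.node (.leaf [(3,10), (4,10), (16,10), (19,10), (20,10), (21,3), (33,3), (35,10), (36,3), (37,3), (66,10), (67,3), (69,3), (73,3), (75,10), (77,10)]) (.leaf [])) (.node (.leaf [(13,7), (28,7), (53,6), (57,7)]) (.leaf [])))) (.node
  (.node (.node (.leaf [(13,6), (28,7), (53,7), (57,7)]) (.leaf [(3,10), (4,3), (16,3), (19,10), (20,3), (21,10), (33,3), (35,10), (36,10), (37,3), (66,10), (67,3), (69,10), (73,10), (75,10), (77,3)])) (.node (.leaf [(7,7), (24,7), (45,6), (46,7)]) (.leaf []))) (.node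
  (.node (.leaf [(11,7), (29,6), (55,7), (56,7)]) (.leaf [])) (.node (.leaf [(2,7), (58,7), (60,7), (61,6)]) (.leaf [])))))) (.node
  (.node (.node
  (.node (.node (.leaf [(3,3), (4,10), (16,10), (19,10), (20,10), (21,10), (33,10), (35,10), (36,10), (37,10), (66,10), (67,10), (69,10), (73,10), (75,10), (77,10)]) (.leaf [(3,10), (4,3), (16,10), (19,3), (20,10), (21,3), (33,10), (35,3), (36,3), (37,10), (66,10), (67,3), (69,10), (73,10), (75,10), (77,3)])) (.node (.leaf [(3,10), (4,10), (16,3), (19,3), (20,3), (21,10), (33,10), (35,3), (36,10), (37,10), (66,10), (67,3), (69,3), (73,3), (75,10), (77,10)]) (.leaf []))) (.node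
  (.node (.leaf [(3,10), (4,10), (16,10), (19,3), (20,10), (21,10), (33,3), (35,3), (36,10), (37,3), (66,3), (67,3), (69,10), (73,10), (75,3), (77,10)]) (.leaf [])) (.node (.leaf [(10,7), (26,7), (50,7), (51,6)]) (.leaf [])))) (.node
  (.node (.node (.leaf [(11,6), (29,7), (55,7), (56,7)]) (.leaf [(3,10), (4,3), (16,3), (19,3), (20,10), (21,10), (33,3), (35,10), (36,3), (37,10), (66,10), (67,10), (69,3), (73,10), (75,3), (77,10)])) (.node (.leaf [(6,7), (22,7), (42,7), (43,6)]) (.leaf []))) (.node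
  (.node (.leaf [(12,7), (27,6), (52,7), (54,7)]) (.leaf [])) (.node (.leaf [(15,7), (30,7), (59,6), (62,7)]) (.leaf []))))) (.node
  (.node (.node
  (.node (.leaf [(7,6), (24,7), (45,7), (46,7)]) (.leaf [(17,7), (34,7), (65,7), (71,6)])) (.node (.leaf [(1,7), (39,6), (40,7), (41,7)]) (.leaf []))) (.node
  (.node (.leaf [(8,7), (23,6), (47,7), (48,7)]) (.leaf [])) (.node (.leaf [(11,7), (29,7), (55,6), (56,7)]) (.leaf [])))) (.node
  (.node (.node (.leaf [(15,6), (30,7), (59,7), (62,7)]) (.leaf [])) (.node (.leaf [(8,7), (23,7), (47,6), (48,7)]) (.leaf []))) (.node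
  (.node (.leaf [(14,7), (31,6), (63,7), (64,7)]) (.leaf [])) (.node (.leaf [(14,7), (31,7), (63,6), (64,7)]) (.leaf []))))))))

/-- the matrix of generator 2 -/
def m2 : ATree (List (ℕ × ℕ)) := (.node
  (.node (.node
  (.node (.node
  (.node (.node (.leaf [(0,1)]) (.leaf [(64,12)])) (.node (.leaf [(32,1)]) (.leaf []))) (.node
  (.node (.leaf [(16,12)]) (.leaf [])) (.node (.leaf [(48,12)]) (.leaf [])))) (.node
  (.node (.node (.leaf [(8,12)]) (.leaf [(72,12)])) (.node (.leaf [(40,12)]) (.leaf []))) (.node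
  (.node (.leaf [(24,1)]) (.leaf [])) (.node (.leaf [(56,12)]) (.leaf []))))) (.node
  (.node (.node
  (.node (.leaf [(4,1)]) (.leaf [(68,12)])) (.node (.leaf [(36,1)]) (.leaf []))) (.node
  (.node (.leaf [(20,12)]) (.leaf [])) (.node (.leaf [(52,12)]) (.leaf [])))) (.node
  (.node (.node (.leaf [(12,12)]) (.leaf [(76,12)])) (.node (.leaf [(44,12)]) (.leaf []))) (.node
  (.node (.leaf [(28,1)]) (.leaf [])) (.node (.leaf [(60,12)]) (.leaf [])))))) (.node
  (.node (.node
  (.node (.node (.leaf [(2,1)]) (.leaf [(66,12)])) (.node (.leaf [(34,1)]) (.leaf []))) (.node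
  (.node (.leaf [(18,12)]) (.leaf [])) (.node (.leaf [(50,12)]) (.leaf [])))) (.node
  (.node (.node (.leaf [(10,12)]) (.leaf [(74,12)])) (.node (.leaf [(42,12)]) (.leaf []))) (.node
  (.node (.leaf [(26,1)]) (.leaf [])) (.node (.leaf [(58,12)]) (.leaf []))))) (.node
  (.node (.node
  (.node (.leaf [(6,12)]) (.leaf [(70,12)])) (.node (.leaf [(38,12)]) (.leaf []))) (.node
  (.node (.leaf [(22,1)]) (.leaf [])) (.node (.leaf [(54,12)]) (.leaf [])))) (.node
  (.node (.node (.leaf [(14,12)]) (.leaf [])) (.node (.leaf [(46,12)]) (.leaf []))) (.node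
  (.node (.leaf [(30,1)]) (.leaf [])) (.node (.leaf [(62,12)]) (.leaf []))))))) (.node
  (.node (.node
  (.node (.node
  (.node (.leaf [(1,1)]) (.leaf [(65,12)])) (.node (.leaf [(33,1)]) (.leaf []))) (.node
  (.node (.leaf [(17,12)]) (.leaf [])) (.node (.leaf [(49,12)]) (.leaf [])))) (.node
  (.node (.node (.leaf [(9,12)]) (.leaf [(73,12)])) (.node (.leaf [(41,12)]) (.leaf []))) (.node
  (.node (.leaf [(25,1)]) (.leaf [])) (.node (.leaf [(57,12)]) (.leaf []))))) (.node
  (.node (.node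
  (.node (.leaf [(5,1)]) (.leaf [(69,12)])) (.node (.leaf [(37,1)]) (.leaf []))) (.node
  (.node (.leaf [(21,12)]) (.leaf [])) (.node (.leaf [(53,12)]) (.leaf [])))) (.node
  (.node (.node (.leaf [(13,12)]) (.leaf [(77,12)])) (.node (.leaf [(45,12)]) (.leaf []))) (.node
  (.node (.leaf [(29,1)]) (.leaf [])) (.node (.leaf [(61,12)]) (.leaf [])))))) (.node
  (.node (.node
  (.node (.node (.leaf [(3,1)]) (.leaf [(67,12)])) (.node (.leaf [(35,1)]) (.leaf []))) (.node
  (.node (.leaf [(19,12)]) (.leaf [])) (.node (.leaf [(51,12)]) (.leaf [])))) (.node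
  (.node (.node (.leaf [(11,12)]) (.leaf [(75,12)])) (.node (.leaf [(43,12)]) (.leaf []))) (.node
  (.node (.leaf [(27,1)]) (.leaf [])) (.node (.leaf [(59,12)]) (.leaf []))))) (.node
  (.node (.node
  (.node (.leaf [(7,12)]) (.leaf [(71,12)])) (.node (.leaf [(39,12)]) (.leaf []))) (.node
  (.node (.leaf [(23,1)]) (.leaf [])) (.node (.leaf [(55,12)]) (.leaf [])))) (.node
  (.node (.node (.leaf [(15,12)]) (.leaf [])) (.node (.leaf [(47,12)]) (.leaf []))) (.node
  (.node (.leaf [(31,1)]) (.leaf [])) (.node (.leaf [(63,12)]) (.leaf []))))))))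

/-- the matrix of generator 3 -/
def m3 : ATree (List (ℕ × ℕ)) := (.node
  (.node (.node
  (.node (.node
  (.node (.node (.leaf [(0,6), (11,4)]) (.leaf [(22,3), (24,10), (31,3), (34,3), (36,10), (37,10), (43,10), (46,10), (47,10), (48,3), (60,3), (61,10), (64,3), (71,10), (75,10), (77,10)])) (.node (.leaf [(32,6), (44,7), (59,7), (68,7)]) (.leaf []))) (.node
  (.node (.leaf [(3,6), (7,6), (14,6), (16,6)]) (.leaf [])) (.node (.leaf [(22,3), (24,3), (31,10), (34,10), (36,10), (37,3), (43,10), (46,10), (47,3), (48,3), (60,10), (61,10), (64,3), (71,3), (75,3), (77,10)]) (.leaf [])))) (.node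
  (.node (.node (.leaf [(2,7), (8,6), (19,7), (20,6)]) (.leaf [(30,7), (49,7), (72,6), (76,7)])) (.node (.leaf [(28,7), (40,6), (50,7), (54,7)]) (.leaf []))) (.node
  (.node (.leaf [(22,10), (24,3), (31,10), (34,10), (36,10), (37,10), (43,3), (46,3), (47,10), (48,3), (60,3), (61,10), (64,10), (71,3), (75,10), (77,10)]) (.leaf [])) (.node (.leaf [(29,7), (38,7), (55,7), (56,6)]) (.leaf []))))) (.node
  (.node (.node
  (.node (.leaf [(4,6), (6,7), (17,7), (21,6)]) (.leaf [(32,7), (44,7), (59,7), (68,6)])) (.node (.leaf [(22,10), (24,10), (31,10), (34,10), (36,3), (37,10), (43,10), (46,10), (47,10), (48,10), (60,10), (61,10), (64,10), (71,10), (75,3), (77,10)]) (.leaf []))) (.node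
  (.node (.leaf [(2,6), (8,6), (19,6), (20,6)]) (.leaf [])) (.node (.leaf [(26,7), (39,7), (52,6), (53,7)]) (.leaf [])))) (.node
  (.node (.node (.leaf [(1,7), (10,7), (12,6), (13,7)]) (.leaf [(30,7), (49,7), (72,7), (76,6)])) (.node (.leaf [(32,7), (44,6), (59,7), (68,7)]) (.leaf []))) (.node
  (.node (.leaf [(28,6), (40,7), (50,7), (54,7)]) (.leaf [])) (.node (.leaf [(22,10), (24,3), (31,10), (34,3), (36,10), (37,3), (43,3), (46,10), (47,10), (48,10), (60,3), (61,3), (64,3), (71,10), (75,3), (77,10)]) (.leaf [])))))) (.node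
  (.node (.node
  (.node (.node (.leaf [(2,6), (8,7), (19,7), (20,6)]) (.leaf [(33,6), (42,6), (65,6), (66,6)])) (.node (.leaf [(22,10), (24,10), (31,10), (34,3), (36,10), (37,10), (43,10), (46,3), (47,3), (48,10), (60,3), (61,10), (64,3), (71,3), (75,3), (77,3)]) (.leaf []))) (.node
  (.node (.leaf [(5,7), (9,7), (15,7), (18,6)]) (.leaf [])) (.node (.leaf [(28,7), (40,7), (50,6), (54,7)]) (.leaf [])))) (.node
  (.node (.node (.leaf [(1,7), (10,6), (12,7), (13,7)]) (.leaf [(25,7), (62,7), (70,7), (74,6)])) (.node (.leaf [(33,7), (42,6), (65,7), (66,6)]) (.leaf []))) (.node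
  (.node (.leaf [(26,6), (39,7), (52,7), (53,7)]) (.leaf [])) (.node (.leaf [(23,7), (58,6), (67,6), (69,7)]) (.leaf []))))) (.node
  (.node (.node
  (.node (.leaf [(4,7), (6,6), (17,7), (21,6)]) (.leaf [(25,7), (62,7), (70,6), (74,7)])) (.node (.leaf [(29,7), (38,6), (55,7), (56,7)]) (.leaf []))) (.node
  (.node (.leaf [(22,3), (24,10), (31,10), (34,10), (36,10), (37,10), (43,3), (46,3), (47,10), (48,3), (60,10), (61,3), (64,3), (71,10), (75,3), (77,3)]) (.leaf [])) (.node (.leaf [(28,7), (40,7), (50,7), (54,6)]) (.leaf [])))) (.node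
  (.node (.node (.leaf [(3,7), (7,7), (14,6), (16,6)]) (.leaf [])) (.node (.leaf [(22,3), (24,3), (31,10), (34,3), (36,10), (37,10), (43,10), (46,3), (47,3), (48,10), (60,10), (61,3), (64,10), (71,10), (75,10), (77,10)]) (.leaf []))) (.node
  (.node (.leaf [(30,6), (49,7), (72,7), (76,7)]) (.leaf [])) (.node (.leaf [(25,7), (62,6), (70,7), (74,7)]) (.leaf []))))))) (.node
  (.node (.node
  (.node (.node
  (.node (.leaf [(1,6), (10,7), (12,7), (13,7)]) (.leaf [(33,7), (42,7), (65,6), (66,6)])) (.node (.leaf [(33,6), (42,7), (65,7), (66,6)]) (.leaf []))) (.node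
  (.node (.leaf [(4,7), (6,7), (17,6), (21,6)]) (.leaf [])) (.node (.leaf [(30,7), (49,6), (72,7), (76,7)]) (.leaf [])))) (.node
  (.node (.node (.leaf [(5,7), (9,6), (15,7), (18,7)]) (.leaf [(35,7), (45,7), (63,7), (73,6)])) (.node (.leaf [(27,7), (41,6), (51,7), (57,7)]) (.leaf []))) (.node
  (.node (.leaf [(25,6), (62,7), (70,7), (74,7)]) (.leaf [])) (.node (.leaf [(27,7), (41,7), (51,7), (57,6)]) (.leaf []))))) (.node
  (.node (.node
  (.node (.leaf [(5,6), (9,7), (15,7), (18,7)]) (.leaf [(23,7), (58,7), (67,6), (69,6)])) (.node (.leaf [(22,10), (24,10), (31,10), (34,10), (36,10), (37,3), (43,10), (46,10), (47,3), (48,3), (60,3), (61,3), (64,10), (71,10), (75,10), (77,3)]) (.leaf []))) (.node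
  (.node (.leaf [(4,6), (6,6), (17,6), (21,6)]) (.leaf [])) (.node (.leaf [(26,7), (39,7), (52,7), (53,6)]) (.leaf [])))) (.node
  (.node (.node (.leaf [(1,7), (10,7), (12,7), (13,6)]) (.leaf [(22,3), (24,10), (31,10), (34,3), (36,10), (37,3), (43,3), (46,10), (47,10), (48,10), (60,10), (61,10), (64,10), (71,3), (75,10), (77,3)])) (.node (.leaf [(35,7), (45,6), (63,7), (73,7)]) (.leaf []))) (.node
  (.node (.leaf [(29,6), (38,7), (55,7), (56,7)]) (.leaf [])) (.node (.leaf [(22,3), (24,10), (31,3), (34,10), (36,10), (37,3), (43,10), (46,3), (47,10), (48,10), (60,3), (61,3), (64,10), (71,3), (75,3), (77,10)]) (.leaf [])))))) (.node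
  (.node (.node
  (.node (.node (.leaf [(3,6), (7,7), (14,7), (16,6)]) (.leaf [(23,6), (58,6), (67,6), (69,6)])) (.node (.leaf [(35,6), (45,7), (63,7), (73,7)]) (.leaf []))) (.node
  (.node (.leaf [(2,7), (8,7), (19,6), (20,6)]) (.leaf [])) (.node (.leaf [(27,7), (41,7), (51,6), (57,7)]) (.leaf [])))) (.node
  (.node (.node (.leaf [(0,1), (11,7)]) (.leaf [(22,3), (24,10), (31,10), (34,3), (36,3), (37,10), (43,3), (46,10), (47,3), (48,3), (60,3), (61,3), (64,10), (71,3), (75,3), (77,10)])) (.node (.leaf [(22,3), (24,3), (31,3), (34,10), (36,10), (37,10), (43,3), (46,10), (47,3), (48,10), (60,3), (61,10), (64,10), (71,10), (75,3), (77,3)]) (.leaf []))) (.node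
  (.node (.leaf [(27,6), (41,7), (51,7), (57,7)]) (.leaf [])) (.node (.leaf [(32,7), (44,7), (59,6), (68,7)]) (.leaf []))))) (.node
  (.node (.node
  (.node (.leaf [(3,7), (7,6), (14,7), (16,6)]) (.leaf [(22,10), (24,3), (31,3), (34,3), (36,10), (37,10), (43,10), (46,10), (47,10), (48,3), (60,10), (61,3), (64,10), (71,3), (75,3), (77,3)])) (.node (.leaf [(26,7), (39,6), (52,7), (53,7)]) (.leaf []))) (.node
  (.node (.leaf [(23,6), (58,7), (67,6), (69,7)]) (.leaf [])) (.node (.leaf [(29,7), (38,7), (55,6), (56,7)]) (.leaf [])))) (.node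
  (.node (.node (.leaf [(5,7), (9,7), (15,6), (18,7)]) (.leaf [])) (.node (.leaf [(22,10), (24,10), (31,3), (34,3), (36,10), (37,3), (43,3), (46,3), (47,3), (48,3), (60,10), (61,10), (64,10), (71,10), (75,3), (77,10)]) (.leaf []))) (.node
  (.node (.leaf [(22,10), (24,10), (31,3), (34,10), (36,10), (37,10), (43,3), (46,10), (47,3), (48,10), (60,10), (61,3), (64,3), (71,3), (75,10), (77,10)]) (.leaf [])) (.node (.leaf [(35,7), (45,7), (63,6), (73,7)]) (.leaf []))))))))

/-- the matrix of generator 4 -/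
def m4 : ATree (List (ℕ × ℕ)) := (.node
  (.node (.node
  (.node (.node
  (.node (.node (.leaf [(0,1)]) (.leaf [(64,12)])) (.node (.leaf [(32,12)]) (.leaf []))) (.node
  (.node (.leaf [(16,12)]) (.leaf [])) (.node (.leaf [(48,1)]) (.leaf [])))) (.node
  (.node (.node (.leaf [(8,1)]) (.leaf [(72,12)])) (.node (.leaf [(40,1)]) (.leaf []))) (.node
  (.node (.leaf [(24,1)]) (.leaf [])) (.node (.leaf [(56,12)]) (.leaf []))))) (.node
  (.node (.node
  (.node (.leaf [(4,12)]) (.leaf [(68,12)])) (.node (.leaf [(36,12)]) (.leaf []))) (.node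
  (.node (.leaf [(20,12)]) (.leaf [])) (.node (.leaf [(52,12)]) (.leaf [])))) (.node
  (.node (.node (.leaf [(12,12)]) (.leaf [(76,12)])) (.node (.leaf [(44,1)]) (.leaf []))) (.node
  (.node (.leaf [(28,12)]) (.leaf [])) (.node (.leaf [(60,12)]) (.leaf [])))))) (.node
  (.node (.node
  (.node (.node (.leaf [(2,12)]) (.leaf [(66,12)])) (.node (.leaf [(34,12)]) (.leaf []))) (.node
  (.node (.leaf [(18,12)]) (.leaf [])) (.node (.leaf [(50,12)]) (.leaf [])))) (.node
  (.node (.node (.leaf [(10,12)]) (.leaf [(74,12)])) (.node (.leaf [(42,1)]) (.leaf []))) (.node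
  (.node (.leaf [(26,12)]) (.leaf [])) (.node (.leaf [(58,12)]) (.leaf []))))) (.node
  (.node (.node
  (.node (.leaf [(6,1)]) (.leaf [(70,12)])) (.node (.leaf [(38,1)]) (.leaf []))) (.node
  (.node (.leaf [(22,1)]) (.leaf [])) (.node (.leaf [(54,12)]) (.leaf [])))) (.node
  (.node (.node (.leaf [(14,12)]) (.leaf [])) (.node (.leaf [(46,1)]) (.leaf []))) (.node
  (.node (.leaf [(30,12)]) (.leaf [])) (.node (.leaf [(62,12)]) (.leaf []))))))) (.node
  (.node (.node
  (.node (.node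
  (.node (.leaf [(1,1)]) (.leaf [(65,12)])) (.node (.leaf [(33,12)]) (.leaf []))) (.node
  (.node (.leaf [(17,12)]) (.leaf [])) (.node (.leaf [(49,1)]) (.leaf [])))) (.node
  (.node (.node (.leaf [(9,1)]) (.leaf [(73,12)])) (.node (.leaf [(41,1)]) (.leaf []))) (.node
  (.node (.leaf [(25,1)]) (.leaf [])) (.node (.leaf [(57,12)]) (.leaf []))))) (.node
  (.node (.node
  (.node (.leaf [(5,12)]) (.leaf [(69,12)])) (.node (.leaf [(37,12)]) (.leaf []))) (.node
  (.node (.leaf [(21,12)]) (.leaf [])) (.node (.leaf [(53,12)]) (.leaf [])))) (.node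
  (.node (.node (.leaf [(13,12)]) (.leaf [(77,12)])) (.node (.leaf [(45,1)]) (.leaf []))) (.node
  (.node (.leaf [(29,12)]) (.leaf [])) (.node (.leaf [(61,12)]) (.leaf [])))))) (.node
  (.node (.node
  (.node (.node (.leaf [(3,12)]) (.leaf [(67,12)])) (.node (.leaf [(35,12)]) (.leaf []))) (.node
  (.node (.leaf [(19,12)]) (.leaf [])) (.node (.leaf [(51,12)]) (.leaf [])))) (.node
  (.node (.node (.leaf [(11,12)]) (.leaf [(75,12)])) (.node (.leaf [(43,1)]) (.leaf []))) (.node
  (.node (.leaf [(27,12)]) (.leaf [])) (.node (.leaf [(59,12)]) (.leaf []))))) (.node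
  (.node (.node
  (.node (.leaf [(7,1)]) (.leaf [(71,12)])) (.node (.leaf [(39,1)]) (.leaf []))) (.node
  (.node (.leaf [(23,1)]) (.leaf [])) (.node (.leaf [(55,12)]) (.leaf [])))) (.node
  (.node (.node (.leaf [(15,12)]) (.leaf [])) (.node (.leaf [(47,1)]) (.leaf []))) (.node
  (.node (.leaf [(31,12)]) (.leaf [])) (.node (.leaf [(63,12)]) (.leaf []))))))))

/-- the matrix of generator 5 -/
def m5 : ATree (List (ℕ × ℕ)) := (.node
  (.node (.node
  (.node (.node
  (.node (.node (.leaf [(0,6), (2,4)]) (.leaf [(43,6), (51,7), (59,7), (64,6)])) (.node (.leaf [(24,7), (27,7), (32,6), (34,6)]) (.leaf []))) (.node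
  (.node (.leaf [(9,6), (13,6), (16,6), (21,6)]) (.leaf [])) (.node (.leaf [(39,10), (41,3), (44,3), (47,3), (48,3), (49,10), (53,10), (55,10), (56,10), (57,3), (67,3), (68,3), (69,10), (75,3), (76,10), (77,10)]) (.leaf [])))) (.node
  (.node (.node (.leaf [(8,6), (11,7), (19,7), (20,6)]) (.leaf [(46,7), (52,7), (71,6), (72,6)])) (.node (.leaf [(40,6), (66,7), (73,7), (74,7)]) (.leaf []))) (.node
  (.node (.leaf [(24,6), (27,7), (32,7), (34,6)]) (.leaf [])) (.node (.leaf [(39,10), (41,3), (44,10), (47,10), (48,10), (49,3), (53,3), (55,3), (56,3), (57,10), (67,3), (68,3), (69,10), (75,3), (76,10), (77,10)]) (.leaf []))))) (.node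
  (.node (.node
  (.node (.leaf [(1,6), (3,6), (4,6), (5,6)]) (.leaf [(39,10), (41,10), (44,3), (47,10), (48,3), (49,10), (53,3), (55,10), (56,3), (57,10), (67,10), (68,3), (69,10), (75,10), (76,3), (77,10)])) (.node (.leaf [(23,7), (29,7), (36,6), (37,6)]) (.leaf []))) (.node
  (.node (.leaf [(8,6), (11,6), (19,6), (20,6)]) (.leaf [])) (.node (.leaf [(46,7), (52,6), (71,6), (72,7)]) (.leaf [])))) (.node
  (.node (.node (.leaf [(7,7), (12,6), (17,6), (18,7)]) (.leaf [(39,10), (41,10), (44,10), (47,3), (48,10), (49,3), (53,10), (55,3), (56,10), (57,3), (67,10), (68,3), (69,10), (75,10), (76,3), (77,10)])) (.node (.leaf [(39,3), (41,10), (44,3), (47,10), (48,3), (49,3), (53,10), (55,3), (56,10), (57,10), (67,3), (68,3), (69,3), (75,10), (76,10), (77,10)]) (.leaf []))) (.node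
  (.node (.leaf [(25,7), (28,6), (33,6), (35,7)]) (.leaf [])) (.node (.leaf [(38,7), (58,7), (60,6), (61,7)]) (.leaf [])))))) (.node
  (.node (.node
  (.node (.node (.leaf [(0,1), (2,7)]) (.leaf [(40,7), (66,6), (73,7), (74,7)])) (.node (.leaf [(24,6), (27,6), (32,6), (34,6)]) (.leaf []))) (.node
  (.node (.leaf [(7,7), (12,7), (17,6), (18,6)]) (.leaf [])) (.node (.leaf [(42,6), (50,6), (62,7), (63,7)]) (.leaf [])))) (.node
  (.node (.node (.leaf [(6,6), (10,6), (14,7), (15,7)]) (.leaf [(40,7), (66,7), (73,7), (74,6)])) (.node (.leaf [(42,6), (50,6), (62,6), (63,6)]) (.leaf []))) (.node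
  (.node (.leaf [(22,6), (26,6), (30,7), (31,7)]) (.leaf [])) (.node (.leaf [(38,7), (58,6), (60,7), (61,7)]) (.leaf []))))) (.node
  (.node (.node
  (.node (.leaf [(6,6), (10,6), (14,6), (15,6)]) (.leaf [(45,7), (54,7), (65,6), (70,6)])) (.node (.leaf [(38,6), (58,7), (60,7), (61,7)]) (.leaf []))) (.node
  (.node (.leaf [(22,6), (26,6), (30,6), (31,6)]) (.leaf [])) (.node (.leaf [(45,7), (54,6), (65,6), (70,7)]) (.leaf [])))) (.node
  (.node (.node (.leaf [(6,6), (10,7), (14,6), (15,7)]) (.leaf [])) (.node (.leaf [(46,6), (52,7), (71,6), (72,7)]) (.leaf []))) (.node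
  (.node (.leaf [(22,6), (26,7), (30,6), (31,7)]) (.leaf [])) (.node (.leaf [(42,6), (50,7), (62,6), (63,7)]) (.leaf []))))))) (.node
  (.node (.node
  (.node (.node
  (.node (.leaf [(1,6), (3,7), (4,6), (5,7)]) (.leaf [(45,6), (54,6), (65,6), (70,6)])) (.node (.leaf [(25,6), (28,6), (33,6), (35,6)]) (.leaf []))) (.node
  (.node (.leaf [(7,6), (12,6), (17,6), (18,6)]) (.leaf [])) (.node (.leaf [(39,10), (41,3), (44,3), (47,3), (48,10), (49,3), (53,10), (55,10), (56,3), (57,10), (67,3), (68,10), (69,3), (75,10), (76,3), (77,10)]) (.leaf [])))) (.node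
  (.node (.node (.leaf [(9,6), (13,7), (16,6), (21,7)]) (.leaf [(40,7), (66,7), (73,6), (74,7)])) (.node (.leaf [(39,3), (41,3), (44,10), (47,10), (48,3), (49,3), (53,10), (55,10), (56,3), (57,3), (67,10), (68,10), (69,10), (75,10), (76,10), (77,10)]) (.leaf []))) (.node
  (.node (.leaf [(25,6), (28,7), (33,6), (35,7)]) (.leaf [])) (.node (.leaf [(39,10), (41,3), (44,10), (47,10), (48,3), (49,10), (53,3), (55,3), (56,10), (57,3), (67,3), (68,10), (69,3), (75,10), (76,3), (77,10)]) (.leaf []))))) (.node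
  (.node (.node
  (.node (.leaf [(1,7), (3,7), (4,6), (5,6)]) (.leaf [(39,10), (41,10), (44,3), (47,10), (48,10), (49,3), (53,3), (55,10), (56,10), (57,3), (67,10), (68,10), (69,3), (75,3), (76,10), (77,10)])) (.node (.leaf [(23,6), (29,6), (36,6), (37,6)]) (.leaf []))) (.node
  (.node (.leaf [(9,7), (13,7), (16,6), (21,6)]) (.leaf [])) (.node (.leaf [(39,3), (41,10), (44,10), (47,3), (48,10), (49,10), (53,3), (55,10), (56,3), (57,3), (67,3), (68,3), (69,3), (75,10), (76,10), (77,10)]) (.leaf [])))) (.node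
  (.node (.node (.leaf [(9,7), (13,6), (16,6), (21,7)]) (.leaf [(39,10), (41,10), (44,10), (47,10), (48,10), (49,10), (53,10), (55,10), (56,10), (57,10), (67,3), (68,10), (69,10), (75,10), (76,10), (77,3)])) (.node (.leaf [(45,6), (54,7), (65,6), (70,7)]) (.leaf []))) (.node
  (.node (.leaf [(23,7), (29,6), (36,7), (37,6)]) (.leaf [])) (.node (.leaf [(38,7), (58,7), (60,7), (61,6)]) (.leaf [])))))) (.node
  (.node (.node
  (.node (.node (.leaf [(1,7), (3,6), (4,6), (5,7)]) (.leaf [(39,10), (41,10), (44,3), (47,3), (48,3), (49,3), (53,3), (55,3), (56,3), (57,3), (67,3), (68,10), (69,10), (75,10), (76,10), (77,3)])) (.node (.leaf [(25,7), (28,7), (33,6), (35,6)]) (.leaf []))) (.node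
  (.node (.leaf [(8,7), (11,7), (19,6), (20,6)]) (.leaf [])) (.node (.leaf [(43,6), (51,6), (59,7), (64,7)]) (.leaf [])))) (.node
  (.node (.node (.leaf [(8,7), (11,6), (19,7), (20,6)]) (.leaf [(39,10), (41,10), (44,10), (47,3), (48,3), (49,10), (53,10), (55,3), (56,3), (57,10), (67,10), (68,10), (69,3), (75,3), (76,10), (77,10)])) (.node (.leaf [(43,6), (51,6), (59,6), (64,6)]) (.leaf []))) (.node
  (.node (.leaf [(24,7), (27,6), (32,7), (34,6)]) (.leaf [])) (.node (.leaf [(43,6), (51,7), (59,6), (64,7)]) (.leaf []))))) (.node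
  (.node (.node
  (.node (.leaf [(7,6), (12,7), (17,6), (18,7)]) (.leaf [(46,6), (52,6), (71,6), (72,6)])) (.node (.leaf [(39,3), (41,3), (44,3), (47,3), (48,10), (49,10), (53,3), (55,3), (56,10), (57,10), (67,10), (68,10), (69,10), (75,10), (76,10), (77,10)]) (.leaf []))) (.node
  (.node (.leaf [(23,6), (29,7), (36,7), (37,6)]) (.leaf [])) (.node (.leaf [(39,3), (41,10), (44,3), (47,10), (48,10), (49,10), (53,10), (55,3), (56,3), (57,3), (67,3), (68,10), (69,10), (75,3), (76,3), (77,10)]) (.leaf [])))) (.node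
  (.node (.node (.leaf [(6,6), (10,7), (14,7), (15,6)]) (.leaf [])) (.node (.leaf [(39,3), (41,10), (44,10), (47,3), (48,3), (49,3), (53,3), (55,10), (56,10), (57,10), (67,3), (68,10), (69,10), (75,3), (76,3), (77,10)]) (.leaf []))) (.node
  (.node (.leaf [(22,6), (26,7), (30,7), (31,6)]) (.leaf [])) (.node (.leaf [(42,6), (50,7), (62,7), (63,6)]) (.leaf []))))))))

/-- the matrix of generator 6 -/
def m6 : ATree (List (ℕ × ℕ)) := (.node
  (.node (.node
  (.node (.node
  (.node (.node (.leaf [(0,1)]) (.leaf [(64,12)])) (.node (.leaf [(32,12)]) (.leaf []))) (.node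
  (.node (.leaf [(16,12)]) (.leaf [])) (.node (.leaf [(48,12)]) (.leaf [])))) (.node
  (.node (.node (.leaf [(8,12)]) (.leaf [(72,12)])) (.node (.leaf [(40,1)]) (.leaf []))) (.node
  (.node (.leaf [(24,12)]) (.leaf [])) (.node (.leaf [(56,1)]) (.leaf []))))) (.node
  (.node (.node
  (.node (.leaf [(4,12)]) (.leaf [(68,12)])) (.node (.leaf [(36,12)]) (.leaf []))) (.node
  (.node (.leaf [(20,12)]) (.leaf [])) (.node (.leaf [(52,1)]) (.leaf [])))) (.node
  (.node (.node (.leaf [(12,1)]) (.leaf [(76,12)])) (.node (.leaf [(44,12)]) (.leaf []))) (.node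
  (.node (.leaf [(28,1)]) (.leaf [])) (.node (.leaf [(60,12)]) (.leaf [])))))) (.node
  (.node (.node
  (.node (.node (.leaf [(2,12)]) (.leaf [(66,12)])) (.node (.leaf [(34,12)]) (.leaf []))) (.node
  (.node (.leaf [(18,12)]) (.leaf [])) (.node (.leaf [(50,1)]) (.leaf [])))) (.node
  (.node (.node (.leaf [(10,1)]) (.leaf [(74,12)])) (.node (.leaf [(42,12)]) (.leaf []))) (.node
  (.node (.leaf [(26,1)]) (.leaf [])) (.node (.leaf [(58,12)]) (.leaf []))))) (.node
  (.node (.node
  (.node (.leaf [(6,12)]) (.leaf [(70,12)])) (.node (.leaf [(38,1)]) (.leaf []))) (.node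
  (.node (.leaf [(22,12)]) (.leaf [])) (.node (.leaf [(54,1)]) (.leaf [])))) (.node
  (.node (.node (.leaf [(14,12)]) (.leaf [])) (.node (.leaf [(46,12)]) (.leaf []))) (.node
  (.node (.leaf [(30,12)]) (.leaf [])) (.node (.leaf [(62,12)]) (.leaf []))))))) (.node
  (.node (.node
  (.node (.node
  (.node (.leaf [(1,1)]) (.leaf [(65,12)])) (.node (.leaf [(33,12)]) (.leaf []))) (.node
  (.node (.leaf [(17,12)]) (.leaf [])) (.node (.leaf [(49,12)]) (.leaf [])))) (.node
  (.node (.node (.leaf [(9,12)]) (.leaf [(73,12)])) (.node (.leaf [(41,1)]) (.leaf []))) (.node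
  (.node (.leaf [(25,12)]) (.leaf [])) (.node (.leaf [(57,1)]) (.leaf []))))) (.node
  (.node (.node
  (.node (.leaf [(5,12)]) (.leaf [(69,12)])) (.node (.leaf [(37,12)]) (.leaf []))) (.node
  (.node (.leaf [(21,12)]) (.leaf [])) (.node (.leaf [(53,1)]) (.leaf [])))) (.node
  (.node (.node (.leaf [(13,1)]) (.leaf [(77,12)])) (.node (.leaf [(45,12)]) (.leaf []))) (.node
  (.node (.leaf [(29,1)]) (.leaf [])) (.node (.leaf [(61,12)]) (.leaf [])))))) (.node
  (.node (.node
  (.node (.node (.leaf [(3,12)]) (.leaf [(67,12)])) (.node (.leaf [(35,12)]) (.leaf []))) (.node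
  (.node (.leaf [(19,12)]) (.leaf [])) (.node (.leaf [(51,1)]) (.leaf [])))) (.node
  (.node (.node (.leaf [(11,1)]) (.leaf [(75,12)])) (.node (.leaf [(43,12)]) (.leaf []))) (.node
  (.node (.leaf [(27,1)]) (.leaf [])) (.node (.leaf [(59,12)]) (.leaf []))))) (.node
  (.node (.node
  (.node (.leaf [(7,12)]) (.leaf [(71,12)])) (.node (.leaf [(39,1)]) (.leaf []))) (.node
  (.node (.leaf [(23,12)]) (.leaf [])) (.node (.leaf [(55,1)]) (.leaf [])))) (.node
  (.node (.node (.leaf [(15,12)]) (.leaf [])) (.node (.leaf [(47,12)]) (.leaf []))) (.node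
  (.node (.leaf [(31,12)]) (.leaf [])) (.node (.leaf [(63,12)]) (.leaf []))))))))

/-- the matrix of generator 7 -/
def m7 : ATree (List (ℕ × ℕ)) := (.node
  (.node (.node
  (.node (.node
  (.node (.node (.leaf [(0,1)]) (.leaf [(64,1)])) (.node (.leaf [(32,12)]) (.leaf []))) (.node
  (.node (.leaf [(16,12)]) (.leaf [])) (.node (.leaf [(48,12)]) (.leaf [])))) (.node
  (.node (.node (.leaf [(8,12)]) (.leaf [(72,12)])) (.node (.leaf [(40,12)]) (.leaf []))) (.node
  (.node (.leaf [(24,12)]) (.leaf [])) (.node (.leaf [(56,12)]) (.leaf []))))) (.node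
  (.node (.node
  (.node (.leaf [(4,12)]) (.leaf [(68,12)])) (.node (.leaf [(36,12)]) (.leaf []))) (.node
  (.node (.leaf [(20,12)]) (.leaf [])) (.node (.leaf [(52,12)]) (.leaf [])))) (.node
  (.node (.node (.leaf [(12,12)]) (.leaf [(76,12)])) (.node (.leaf [(44,12)]) (.leaf []))) (.node
  (.node (.leaf [(28,12)]) (.leaf [])) (.node (.leaf [(60,1)]) (.leaf [])))))) (.node
  (.node (.node
  (.node (.node (.leaf [(2,1)]) (.leaf [(66,12)])) (.node (.leaf [(34,12)]) (.leaf []))) (.node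
  (.node (.leaf [(18,12)]) (.leaf [])) (.node (.leaf [(50,1)]) (.leaf [])))) (.node
  (.node (.node (.leaf [(10,1)]) (.leaf [(74,12)])) (.node (.leaf [(42,1)]) (.leaf []))) (.node
  (.node (.leaf [(26,1)]) (.leaf [])) (.node (.leaf [(58,1)]) (.leaf []))))) (.node
  (.node (.node
  (.node (.leaf [(6,1)]) (.leaf [(70,12)])) (.node (.leaf [(38,1)]) (.leaf []))) (.node
  (.node (.leaf [(22,1)]) (.leaf [])) (.node (.leaf [(54,12)]) (.leaf [])))) (.node
  (.node (.node (.leaf [(14,1)]) (.leaf [])) (.node (.leaf [(46,12)]) (.leaf []))) (.node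
  (.node (.leaf [(30,1)]) (.leaf [])) (.node (.leaf [(62,1)]) (.leaf []))))))) (.node
  (.node (.node
  (.node (.node
  (.node (.leaf [(1,12)]) (.leaf [(65,12)])) (.node (.leaf [(33,12)]) (.leaf []))) (.node
  (.node (.leaf [(17,12)]) (.leaf [])) (.node (.leaf [(49,12)]) (.leaf [])))) (.node
  (.node (.node (.leaf [(9,12)]) (.leaf [(73,12)])) (.node (.leaf [(41,12)]) (.leaf []))) (.node
  (.node (.leaf [(25,12)]) (.leaf [])) (.node (.leaf [(57,12)]) (.leaf []))))) (.node
  (.node (.node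
  (.node (.leaf [(5,12)]) (.leaf [(69,12)])) (.node (.leaf [(37,12)]) (.leaf []))) (.node
  (.node (.leaf [(21,12)]) (.leaf [])) (.node (.leaf [(53,12)]) (.leaf [])))) (.node
  (.node (.node (.leaf [(13,12)]) (.leaf [(77,12)])) (.node (.leaf [(45,12)]) (.leaf []))) (.node
  (.node (.leaf [(29,12)]) (.leaf [])) (.node (.leaf [(61,1)]) (.leaf [])))))) (.node
  (.node (.node
  (.node (.node (.leaf [(3,12)]) (.leaf [(67,12)])) (.node (.leaf [(35,12)]) (.leaf []))) (.node
  (.node (.leaf [(19,12)]) (.leaf [])) (.node (.leaf [(51,1)]) (.leaf [])))) (.node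
  (.node (.node (.leaf [(11,12)]) (.leaf [(75,12)])) (.node (.leaf [(43,1)]) (.leaf []))) (.node
  (.node (.leaf [(27,12)]) (.leaf [])) (.node (.leaf [(59,1)]) (.leaf []))))) (.node
  (.node (.node
  (.node (.leaf [(7,12)]) (.leaf [(71,12)])) (.node (.leaf [(39,12)]) (.leaf []))) (.node
  (.node (.leaf [(23,12)]) (.leaf [])) (.node (.leaf [(55,12)]) (.leaf [])))) (.node
  (.node (.node (.leaf [(15,1)]) (.leaf [])) (.node (.leaf [(47,12)]) (.leaf []))) (.node
  (.node (.leaf [(31,1)]) (.leaf [])) (.node (.leaf [(63,1)]) (.leaf []))))))))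

/-- the matrix of generator 8 -/
def m8 : ATree (List (ℕ × ℕ)) := (.node
  (.node (.node
  (.node (.node
  (.node (.node (.leaf [(0,6), (1,4)]) (.leaf [(58,10), (59,3), (60,3), (62,10), (63,3), (64,3), (65,3), (66,10), (67,3), (68,3), (70,10), (71,10), (72,10), (73,3), (76,10), (77,10)])) (.node (.leaf [(31,7), (32,6), (35,7), (37,6)]) (.leaf []))) (.node
  (.node (.leaf [(15,6), (16,6), (17,7), (19,6)]) (.leaf [])) (.node (.leaf [(43,6), (44,7), (45,7), (48,6)]) (.leaf [])))) (.node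
  (.node (.node (.leaf [(6,6), (7,7), (8,6), (9,7)]) (.leaf [(58,3), (59,3), (60,10), (62,10), (63,10), (64,10), (65,3), (66,10), (67,3), (68,10), (70,3), (71,10), (72,3), (73,3), (76,3), (77,10)])) (.node (.leaf [(38,7), (39,7), (40,6), (41,7)]) (.leaf []))) (.node
  (.node (.leaf [(22,6), (23,7), (24,6), (25,7)]) (.leaf [])) (.node (.leaf [(51,7), (53,7), (54,7), (56,6)]) (.leaf []))))) (.node
  (.node (.node
  (.node (.leaf [(2,6), (3,6), (4,6), (5,6)]) (.leaf [(58,10), (59,3), (60,10), (62,10), (63,10), (64,3), (65,10), (66,10), (67,10), (68,3), (70,3), (71,3), (72,10), (73,10), (76,3), (77,10)])) (.node (.leaf [(30,7), (33,6), (34,6), (36,6)]) (.leaf []))) (.node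
  (.node (.leaf [(14,6), (18,6), (20,6), (21,6)]) (.leaf [])) (.node (.leaf [(50,7), (52,6), (55,7), (57,7)]) (.leaf [])))) (.node
  (.node (.node (.leaf [(10,7), (11,7), (12,6), (13,7)]) (.leaf [(58,10), (59,10), (60,10), (62,3), (63,3), (64,10), (65,3), (66,10), (67,10), (68,3), (70,10), (71,10), (72,3), (73,10), (76,3), (77,10)])) (.node (.leaf [(43,6), (44,6), (45,7), (48,7)]) (.leaf []))) (.node
  (.node (.leaf [(26,7), (27,7), (28,6), (29,7)]) (.leaf [])) (.node (.leaf [(58,3), (59,10), (60,3), (62,3), (63,10), (64,3), (65,3), (66,10), (67,10), (68,10), (70,3), (71,10), (72,10), (73,10), (76,10), (77,10)]) (.leaf [])))))) (.node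
  (.node (.node
  (.node (.node (.leaf [(2,6), (3,7), (4,6), (5,7)]) (.leaf [(58,10), (59,3), (60,10), (62,3), (63,10), (64,10), (65,10), (66,3), (67,10), (68,10), (70,10), (71,10), (72,10), (73,3), (76,10), (77,10)])) (.node (.leaf [(30,6), (33,7), (34,6), (36,6)]) (.leaf []))) (.node
  (.node (.leaf [(14,7), (18,6), (20,6), (21,7)]) (.leaf [])) (.node (.leaf [(50,6), (52,7), (55,7), (57,7)]) (.leaf [])))) (.node
  (.node (.node (.leaf [(10,6), (11,7), (12,7), (13,7)]) (.leaf [(61,7), (69,7), (74,6), (75,7)])) (.node (.leaf [(42,6), (46,6), (47,6), (49,6)]) (.leaf []))) (.node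
  (.node (.leaf [(26,6), (27,7), (28,7), (29,7)]) (.leaf [])) (.node (.leaf [(58,3), (59,3), (60,3), (62,10), (63,3), (64,10), (65,10), (66,10), (67,10), (68,10), (70,10), (71,3), (72,3), (73,10), (76,10), (77,10)]) (.leaf []))))) (.node
  (.node (.node
  (.node (.leaf [(6,6), (7,6), (8,6), (9,6)]) (.leaf [(58,10), (59,10), (60,3), (62,3), (63,10), (64,10), (65,10), (66,10), (67,3), (68,3), (70,3), (71,3), (72,3), (73,3), (76,10), (77,10)])) (.node (.leaf [(38,6), (39,7), (40,7), (41,7)]) (.leaf []))) (.node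
  (.node (.leaf [(22,6), (23,6), (24,6), (25,6)]) (.leaf [])) (.node (.leaf [(51,7), (53,7), (54,6), (56,7)]) (.leaf [])))) (.node
  (.node (.node (.leaf [(14,6), (18,7), (20,6), (21,7)]) (.leaf [])) (.node (.leaf [(42,6), (46,6), (47,7), (49,7)]) (.leaf []))) (.node
  (.node (.leaf [(30,6), (33,6), (34,6), (36,7)]) (.leaf [])) (.node (.leaf [(58,10), (59,3), (60,3), (62,3), (63,3), (64,10), (65,3), (66,3), (67,3), (68,10), (70,3), (71,3), (72,10), (73,10), (76,3), (77,10)]) (.leaf []))))))) (.node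
  (.node (.node
  (.node (.node
  (.node (.leaf [(0,1), (1,7)]) (.leaf [(58,10), (59,3), (60,3), (62,3), (63,10), (64,3), (65,3), (66,10), (67,10), (68,10), (70,10), (71,3), (72,3), (73,3), (76,3), (77,3)])) (.node (.leaf [(30,6), (33,6), (34,7), (36,6)]) (.leaf []))) (.node
  (.node (.leaf [(15,6), (16,7), (17,6), (19,6)]) (.leaf [])) (.node (.leaf [(42,6), (46,7), (47,7), (49,6)]) (.leaf [])))) (.node
  (.node (.node (.leaf [(6,6), (7,7), (8,7), (9,6)]) (.leaf [(58,10), (59,10), (60,10), (62,10), (63,3), (64,3), (65,3), (66,3), (67,10), (68,10), (70,3), (71,3), (72,3), (73,3), (76,10), (77,10)])) (.node (.leaf [(38,7), (39,7), (40,7), (41,6)]) (.leaf []))) (.node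
  (.node (.leaf [(22,6), (23,7), (24,7), (25,6)]) (.leaf [])) (.node (.leaf [(50,7), (52,7), (55,7), (57,6)]) (.leaf []))))) (.node
  (.node (.node
  (.node (.leaf [(2,7), (3,7), (4,6), (5,6)]) (.leaf [(61,7), (69,6), (74,7), (75,7)])) (.node (.leaf [(31,6), (32,6), (35,6), (37,6)]) (.leaf []))) (.node
  (.node (.leaf [(14,7), (18,7), (20,6), (21,6)]) (.leaf [])) (.node (.leaf [(51,7), (53,6), (54,7), (56,7)]) (.leaf [])))) (.node
  (.node (.node (.leaf [(10,7), (11,7), (12,7), (13,6)]) (.leaf [(58,10), (59,10), (60,10), (62,10), (63,10), (64,10), (65,3), (66,10), (67,3), (68,10), (70,10), (71,3), (72,10), (73,10), (76,10), (77,3)])) (.node (.leaf [(43,6), (44,7), (45,6), (48,7)]) (.leaf []))) (.node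
  (.node (.leaf [(26,7), (27,7), (28,7), (29,6)]) (.leaf [])) (.node (.leaf [(61,6), (69,7), (74,7), (75,7)]) (.leaf [])))))) (.node
  (.node (.node
  (.node (.node (.leaf [(2,7), (3,6), (4,6), (5,7)]) (.leaf [(58,10), (59,3), (60,10), (62,3), (63,3), (64,3), (65,10), (66,10), (67,3), (68,10), (70,3), (71,10), (72,3), (73,10), (76,10), (77,3)])) (.node (.leaf [(31,7), (32,7), (35,6), (37,6)]) (.leaf []))) (.node
  (.node (.leaf [(15,7), (16,6), (17,6), (19,6)]) (.leaf [])) (.node (.leaf [(51,6), (53,7), (54,7), (56,7)]) (.leaf [])))) (.node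
  (.node (.node (.leaf [(10,7), (11,6), (12,7), (13,7)]) (.leaf [(61,7), (69,7), (74,7), (75,6)])) (.node (.leaf [(43,6), (44,6), (45,6), (48,6)]) (.leaf []))) (.node
  (.node (.leaf [(26,7), (27,6), (28,7), (29,7)]) (.leaf [])) (.node (.leaf [(58,3), (59,3), (60,10), (62,3), (63,10), (64,3), (65,3), (66,3), (67,3), (68,3), (70,10), (71,3), (72,3), (73,10), (76,10), (77,10)]) (.leaf []))))) (.node
  (.node (.node
  (.node (.leaf [(6,6), (7,6), (8,7), (9,7)]) (.leaf [(58,3), (59,3), (60,10), (62,3), (63,3), (64,10), (65,3), (66,10), (67,10), (68,3), (70,3), (71,3), (72,10), (73,3), (76,10), (77,3)])) (.node (.leaf [(38,7), (39,6), (40,7), (41,7)]) (.leaf []))) (.node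
  (.node (.leaf [(22,6), (23,6), (24,7), (25,7)]) (.leaf [])) (.node (.leaf [(50,7), (52,7), (55,6), (57,7)]) (.leaf [])))) (.node
  (.node (.node (.leaf [(15,6), (16,6), (17,6), (19,7)]) (.leaf [])) (.node (.leaf [(42,6), (46,7), (47,6), (49,7)]) (.leaf []))) (.node
  (.node (.leaf [(31,6), (32,7), (35,7), (37,6)]) (.leaf [])) (.node (.leaf [(58,3), (59,10), (60,10), (62,3), (63,3), (64,3), (65,10), (66,10), (67,3), (68,10), (70,10), (71,3), (72,10), (73,3), (76,3), (77,10)]) (.leaf []))))))))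

/-- the nine matrices -/
def gens : List (ATree (List (ℕ × ℕ))) := [m0, m1, m2, m3, m4, m5, m6, m7, m8]

end CfsgLib.Presented.Fi22M78
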