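import Cfsg.Agent.Lib.Presented.HNIndex.Steps

/-! Generated data: deductions of the double coset enumeration. -/
set_option autoImplicit false
set_option maxRecDepth 8000

namespace CfsgLib.Presented.HNIndexEvents

open HNIndex

def gw : List (List ℕ) := [
  [],
  [6],
  [6, 4, 0, 6],
  [6, 4, 1, 6],
  [6, 4, 2, 4, 0, 6],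
  [6, 4, 2, 4, 2, 4, 6],
  [6, 4, 0, 0, 2, 1, 6, 4, 1, 6],
  [6, 4, 2, 2, 2, 2, 2, 1, 6, 4, 0, 0, 2, 1, 6, 4, 1, 6],
  [6, 4, 0, 2, 4, 6, 4, 2, 4, 0, 6]]

def state0 : Know := ⟨[(0, [0]), (0, [1]), (0, [2]), (0, [3]), (0, [4])], []⟩

def events1 : List Ev := [
  .root 0 [] 1,
  .comm 0 [1] [0, 2, 1] [0, 2, 1],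
  .comm 0 [0] [2] [2],
  .scan 0 [] 1 0 0 [⟨0, [], [0, 0]⟩] [] (.edge [] [] [0, 0] []),
  .scan 0 [] 2 0 1 [⟨0, [], [0]⟩] [⟨1, [], []⟩] (.edge [] [] [1] [0, 0]),
  .scan 1 [] 2 0 5 [] [⟨0, [], []⟩, ⟨1, [], []⟩] (.edge [] [] [0] [1]),
  .scan 1 [0] 2 0 0 [⟨1, [], []⟩, ⟨0, [], [1]⟩] [] (.edge [] [] [] [0]),
  .scan 0 [] 0 0 3 [⟨0, [], []⟩] [⟨1, [], [4]⟩] (.edge [] [] [4] [4, 0, 0]),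
  .root 1 [4, 0] 2,
  .comm 6 [0, 0, 0, 0, 1, 1, 0, 0, 0, 0] [5, 5, 5, 5, 6, 6, 5, 5, 5, 5] [2, 2, 2, 2, 0, 2, 2, 1, 2, 2, 2, 2],
  .comm 6 [0, 0, 0, 1, 1, 1, 0, 0, 0] [5, 5, 5, 6, 6, 6, 5, 5, 5] [2, 2, 2, 0, 2, 2, 2, 1, 2, 2, 2],
  .comm 6 [1, 0, 1, 0, 1, 0, 0, 1] [6, 5, 6, 5, 6, 5, 5, 6] [0, 2, 1, 2, 0, 2, 1, 2, 0, 2, 1, 2, 2, 0, 2, 1]]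

def state1 : Know := ⟨[(0, [0]), (0, [1]), (0, [2]), (0, [3]), (0, [4]), (1, [0, 2, 1]), (1, [2]), (2, [2, 2, 2, 2, 0, 2, 2, 1, 2, 2, 2, 2]), (2, [2, 2, 2, 0, 2, 2, 2, 1, 2, 2, 2]), (2, [0, 2, 1, 2, 0, 2, 1, 2, 0, 2, 1, 2, 2, 0, 2, 1])], [⟨0, [], 1, []⟩,
   ⟨1, [0, 0], 0, []⟩,
   ⟨1, [1], 1, [0, 0]⟩,
   ⟨1, [0], 1, [1]⟩,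
   ⟨1, [], 1, [0]⟩,
   ⟨1, [4], 1, [4, 0, 0]⟩,
   ⟨1, [4, 0], 2, []⟩]⟩

def events2 : List Ev := [
  .comm 6 [1, 1, 0, 0, 0, 1, 1, 0, 1, 0, 1, 1, 0, 0, 0] [6, 6, 5, 5, 5, 6, 6, 5, 6, 5, 6, 6, 5, 5, 5] [0, 2, 2, 1, 2, 2, 2, 0, 2, 2, 1, 2, 0, 2, 1, 2, 0, 2, 2, 1, 2, 2, 2],
  .scan 1 [4, 1] 1 0 0 [⟨6, [], []⟩] [] (.edge [] [] [0, 0] [4, 1]),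
  .scan 1 [4, 0, 0] 2 0 1 [⟨6, [], []⟩] [⟨5, [], []⟩] (.edge [] [] [1] [4]),
  .scan 2 [0] 2 0 0 [⟨7, [], []⟩, ⟨5, [], []⟩] [] (.edge [] [] [4, 0, 0] [0]),
  .scan 2 [0, 0] 2 0 0 [⟨8, [], []⟩, ⟨6, [], []⟩] [] (.edge [] [] [] [0, 0]),
  .scan 1 [] 0 0 2 [⟨4, [], []⟩, ⟨6, [], []⟩] [⟨8, [], []⟩] (.loop [4, 1]),
  .root 1 [4, 1] 3,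
  .comm 11 [1, 0, 1, 1, 1, 1, 1, 0, 1, 0, 1, 1, 1, 0, 1, 0, 0] [6, 5, 6, 6, 6, 6, 6, 5, 6, 5, 6, 6, 6, 5, 6, 5, 5] [0, 2, 1, 2, 0, 2, 2, 2, 2, 2, 1, 2, 0, 2, 1, 2, 0, 2, 2, 2, 1, 2, 0, 2, 1, 2, 2],
  .comm 11 [1, 1, 1, 0, 0, 0, 0, 1, 0, 1, 0, 0, 0] [6, 6, 6, 5, 5, 5, 5, 6, 5, 6, 5, 5, 5] [0, 2, 2, 2, 1, 2, 2, 2, 2, 0, 2, 1, 2, 0, 2, 1, 2, 2, 2],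
  .comm 11 [1, 0, 1, 0, 1, 0, 0, 1] [6, 5, 6, 5, 6, 5, 5, 6] [0, 2, 1, 2, 0, 2, 1, 2, 0, 2, 1, 2, 2, 0, 2, 1],
  .comm 11 [1, 1, 1, 1, 1, 0, 0, 1, 0] [6, 6, 6, 6, 6, 5, 5, 6, 5] [0, 2, 2, 2, 2, 2, 1, 2, 2, 0, 2, 1, 2],
  .scan 1 [4, 0] 2 0 0 [⟨5, [], []⟩, ⟨11, [], []⟩] [] (.edge [] [] [] [4, 0])]

def state2 : Know := ⟨[(0, [0]), (0, [1]), (0, [2]), (0, [3]), (0, [4]), (1, [0, 2, 1]), (1, [2]), (2, [2, 2, 2, 2, 0, 2, 2, 1, 2, 2, 2, 2]), (2, [2, 2, 2, 0, 2, 2, 2, 1, 2, 2, 2]), (2, [0, 2, 1, 2, 0, 2, 1, 2, 0, 2, 1, 2, 2, 0, 2, 1]), (2, [0, 2, 2, 1, 2, 2, 2, 0, 2, 2, 1, 2, 0, 2, 1, 2, 0, 2, 2, 1, 2, 2, 2]), (2, [4, 1]),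 (3, [0, 2, 1, 2, 0, 2, 2, 2, 2, 2, 1, 2, 0, 2, 1, 2, 0, 2, 2, 2, 1, 2, 0, 2, 1, 2, 2]), (3, [0, 2, 2, 2, 1, 2, 2, 2, 2, 0, 2, 1, 2, 0, 2, 1, 2, 2, 2]), (3, [0, 2, 1, 2, 0, 2, 1, 2, 0, 2, 1, 2, 2, 0, 2, 1]), (3, [0, 2, 2, 2, 2, 2, 1, 2, 2, 0, 2, 1, 2])], [⟨0, [], 1, []⟩,
   ⟨1, [0, 0], 0, []⟩,
   ⟨1, [1], 1, [0, 0]⟩,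
   ⟨1, [0], 1, [1]⟩,
   ⟨1, [], 1, [0]⟩,
   ⟨1, [4], 1, [4, 0, 0]⟩,
   ⟨1, [4, 0], 2, []⟩,
   ⟨2, [0, 0], 1, [4, 1]⟩,
   ⟨2, [1], 1, [4]⟩,
   ⟨1, [4, 0, 0], 2, [0]⟩,
   ⟨2, [], 2, [0, 0]⟩,
   ⟨1, [4, 1], 3, []⟩,
   ⟨3, [], 1, [4, 0]⟩]⟩

def events3 : List Ev := [
  .scan 2 [] 2 0 5 [] [⟨6, [], []⟩, ⟨12, [], []⟩] (.edge [] [] [0] [0]),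
  .scan 2 [1] 2 0 0 [⟨10, [], []⟩, ⟨13, [], []⟩] [] (.edge [] [] [0] [1]),
  .scan 3 [0] 2 0 6 [] [⟨13, [], []⟩, ⟨9, [], []⟩, ⟨12, [], []⟩] (.loop [0, 0]),
  .scan 1 [0] 0 0 2 [⟨3, [], []⟩, ⟨11, [], []⟩] [⟨12, [], []⟩] (.loop [4]),
  .root 1 [4, 2, 4, 0] 4,
  .comm 15 [0, 0, 1, 1, 0, 1, 0, 1, 1, 1, 1] [5, 5, 5, 5, 5, 6, 5, 5, 6, 5, 6, 6, 6] [2, 2, 0, 2, 2, 1, 2, 0, 2, 1, 2, 0, 2, 2, 2, 2, 1],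
  .comm 15 [0, 1, 0, 1, 1, 1, 0, 0, 0, 1, 1, 1, 1] [6, 5, 5, 5, 6, 6, 6, 5, 5, 5, 6, 6] [2, 0, 2, 1, 2, 0, 2, 2, 2, 1, 2, 2, 2, 0, 2, 2, 2, 2, 1],
  .scan 1 [4, 2, 4, 0] 0 0 3 [⟨15, [], []⟩] [⟨12, [0], []⟩] (.edge [] [] [4] [4, 2]),
  .scan 1 [4, 2, 4, 0] 1 0 0 [⟨15, [0, 0, 0, 1, 1, 0, 1, 0, 1, 0, 0, 0], [5, 5, 6, 5, 6, 6, 5, 5, 5, 5, 6, 6, 6, 6, 6, 5, 6, 5, 5, 6]⟩] [] (.edge [0, 0, 0, 1, 1, 0, 1, 0, 1, 0, 0, 0] [] [0, 0] [4, 2, 4, 2, 2, 1, 2, 0, 2, 1, 2, 2, 0, 2, 2, 2, 1, 2, 0, 2, 2, 2, 2, 2, 1, 2, 2, 0, 2, 2, 1, 2]),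
  .scan 3 [4, 2] 1 0 3 [] [⟨16, [], []⟩] (.edge [] [16] [4, 2] [4, 0, 0]),
  .scan 4 [] 2 0 5 [] [⟨15, [], []⟩, ⟨17, [0, 0, 0, 1, 1, 0, 1, 0, 1, 0, 0, 0], []⟩] (.edge [] [] [0] [1, 2, 2, 2, 0, 2, 2, 1, 2, 0, 2, 1, 2, 0, 2, 1, 2, 2, 2]),
  .scan 4 [4, 0, 0] 2 0 5 [] [⟨18, [], []⟩, ⟨16, [], []⟩] (.edge [] [] [4, 0] [4, 1])]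

def state3 : Know := ⟨[(0, [0]), (0, [1]), (0, [2]), (0, [3]), (0, [4]), (1, [0, 2, 1]), (1, [2]), (2, [2, 2, 2, 2, 0, 2, 2, 1, 2, 2, 2, 2]), (2, [2, 2, 2, 0, 2, 2, 2, 1, 2, 2, 2]), (2, [0, 2, 1, 2, 0, 2, 1, 2, 0, 2, 1, 2, 2, 0, 2, 1]), (2, [0, 2, 2, 1, 2, 2, 2, 0, 2, 2, 1, 2, 0, 2, 1, 2, 0, 2, 2, 1, 2, 2, 2]), (2, [4, 1]), (3, [0, 2, 1, 2, 0, 2, 2, 2, 2, 2, 1, 2, 0, 2, 1, 2, 0, 2, 2, 2, 1, 2, 0, 2, 1, 2, 2]), (3, [0, 2, 2, 2, 1, 2, 2, 2, 2, 0, 2, 1, 2, 0, 2, 1, 2, 2, 2]), (3, [0, 2, 1, 2, 0, 2, 1, 2, 0, 2, 1, 2, 2, 0, 2, 1]), (3, [0, 2, 2, 2, 2, 2, 1, 2, 2, 0, 2, 1, 2]), (3, [0, 0]), (3, [4]), (4, [2, 2, 0, 2, 2,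 1, 2, 0, 2, 1, 2, 0, 2, 2, 2, 2, 1]), (4, [2, 0, 2, 1, 2, 0, 2, 2, 2, 1, 2, 2, 2, 0, 2, 2, 2, 2, 1])], [⟨0, [], 1, []⟩,
   ⟨1, [0, 0], 0, []⟩,
   ⟨1, [1], 1, [0, 0]⟩,
   ⟨1, [0], 1, [1]⟩,
   ⟨1, [], 1, [0]⟩,
   ⟨1, [4], 1, [4, 0, 0]⟩,
   ⟨1, [4, 0], 2, []⟩,
   ⟨2, [0, 0], 1, [4, 1]⟩,
   ⟨2, [1], 1, [4]⟩,
   ⟨1, [4, 0, 0], 2, [0]⟩,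
   ⟨2, [], 2, [0, 0]⟩,
   ⟨1, [4, 1], 3, []⟩,
   ⟨3, [], 1, [4, 0]⟩,
   ⟨2, [0], 3, [0]⟩,
   ⟨3, [0], 2, [1]⟩,
   ⟨1, [4, 2, 4, 0], 4, []⟩,
   ⟨4, [4], 3, [4, 2]⟩,
   ⟨4, [0, 0], 1, [4, 2, 4, 2, 2, 1, 2, 0, 2, 1, 2, 2, 0, 2, 2, 2, 1, 2, 0, 2, 2, 2, 2, 2, 1, 2, 2, 0, 2, 2, 1, 2]⟩,
   ⟨3, [4, 2], 4, [4, 0, 0]⟩,
   ⟨4, [0], 4, [1, 2, 2, 2, 0, 2, 2, 1, 2, 0, 2, 1, 2, 0, 2, 1, 2, 2, 2]⟩,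
   ⟨4, [4, 0], 4, [4, 1]⟩]⟩

def events4 : List Ev := [
  .scan 1 [3, 0, 2, 2, 4, 0, 0, 2, 2, 2, 2, 1, 2, 0, 2, 2, 2, 1, 2, 0, 2, 2, 1, 2, 2] 0 0 2 [⟨5, [1, 0, 0, 0, 0], [5, 5, 6, 6, 5, 6, 6, 5, 5]⟩, ⟨15, [1, 1, 0, 0, 0, 1, 0, 1, 1, 1], [6, 6, 6, 5, 6, 5, 5, 5, 6, 5, 5, 6, 5, 6, 5]⟩] [⟨17, [1, 1, 0, 0, 0, 1, 0, 1, 1, 1], [5, 6, 5, 5, 6, 6, 6, 5, 6, 6, 6, 6, 6, 5, 5, 5, 6, 5, 5, 5]⟩] (.loop [4, 2, 4, 3, 4, 1, 2, 2, 0, 2, 1, 2, 2, 2, 0, 2, 2, 1, 2, 0, 2, 2, 1, 2, 0, 2, 2, 1, 2, 2, 2, 0, 2, 1, 2]),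
  .scan 1 [2, 1, 2, 2, 2, 4, 2, 2, 0, 2, 1, 2, 2, 2, 0, 2, 2, 2, 1, 2, 2, 2, 2] 0 0 3 [⟨6, [0, 1, 1, 1], [6, 6, 5, 6, 6, 6, 5, 5, 5, 6, 6, 6, 6]⟩] [⟨17, [1, 0, 1, 1, 1, 0, 1, 1], [6, 5, 6, 6, 6, 5, 5, 6, 6, 5, 5, 6, 6, 5, 6, 5, 5]⟩] (.edge [0, 1, 1, 1, 1, 0, 1] [9, 8, 7, 9] [4, 2] [4, 0, 0, 2, 0, 2, 2, 1, 2, 2, 0, 2, 1, 2, 0, 2, 2, 1, 2, 2, 0, 2, 2, 1, 2, 2, 2]),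
  .scan 2 [4, 0, 0, 2, 1, 2] 0 0 5 [] [⟨9, [1, 0], [9, 9, 9]⟩, ⟨17, [1, 0, 0, 0, 0, 1, 0, 0, 1, 1], [6, 6, 6, 5, 5, 5, 5, 6, 6, 5, 5, 5, 6, 5, 5, 6, 5, 6]⟩] (.edge [] [] [4, 0, 0, 2, 1, 2] [4, 0, 0, 0, 2, 1, 2, 2, 2, 2, 0, 2, 1, 2, 2, 0, 2, 2, 1]),
  .scan 4 [1, 2, 0, 2, 2, 2, 4, 0, 2, 2, 1, 2, 0, 2, 2, 2, 2, 2, 1, 2, 0, 2, 1, 2, 0, 2, 2, 1, 2, 2, 2] 0 0 0 [⟨16, [0, 0, 1, 0, 0, 1, 1, 1], []⟩, ⟨18, [1, 1, 0, 0, 0, 1, 0, 0, 0, 0, 1, 0, 1, 1, 1, 0, 0], [17, 13, 15, 13, 12, 15]⟩, ⟨20, [1, 0, 1, 1, 1, 0, 0, 0, 1, 0, 0, 1, 0, 1, 0, 0, 1, 0], [20, 19, 18, 18, 19, 19, 18]⟩] [] (.loop [2, 4, 1, 2, 0, 2, 2, 1, 2, 0, 2, 1, 2,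 2, 2, 0, 2, 2, 2, 2, 1, 2, 2, 0, 2, 1]),
  .scan 4 [4, 0] 0 0 3 [⟨20, [], []⟩] [⟨22, [1, 0, 0, 1, 1, 0, 1, 1, 0, 0], [21, 21, 21, 18, 19]⟩] (.edge [] [] [1] [4, 1, 2, 4, 2, 2, 0, 2, 2, 1, 2, 0, 2, 2, 1, 2, 2, 0, 2, 1, 2]),
  .scan 1 [1, 2, 0, 2, 2, 2, 4, 0, 0, 2, 2, 1, 2, 0, 2, 2, 2, 1, 2, 2, 2, 0, 2, 2, 2, 2, 1] 0 1 1 [⟨15, [1, 0, 0], [6, 5, 6, 5, 6, 6, 6, 6, 5, 5, 5, 6, 6]⟩, ⟨16, [1, 0, 0, 1, 1, 0, 1], [19, 21, 18, 21, 21, 20]⟩] [⟨12, [1, 0, 0, 0], [5, 5, 6, 5, 5, 5, 6, 6, 6, 5, 5, 5, 5]⟩] (.loop [3, 4, 2, 4, 0, 2, 1, 2, 0, 2, 1, 2, 0, 2, 2, 2, 2, 2, 1, 2]),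
  .scan 1 [0, 3, 3, 4, 2, 0, 2, 1, 2, 0, 2, 1] 0 1 2 [⟨15, [0, 0, 1, 0, 1, 0, 0, 1, 0, 0], [5, 5, 6, 6, 6, 5, 5, 5, 6, 6, 6, 5, 5, 5, 5, 6]⟩] [⟨7, [1, 1, 1, 1], [6, 5, 6, 5]⟩] (.edge [1, 1, 1, 0, 1, 0, 0, 1, 0, 0, 1, 1] [21, 20, 18, 18, 18, 19, 18, 18] [4, 0, 0, 0, 2, 1] [4, 0, 2, 4, 0, 2, 4, 0, 2, 1, 2, 0, 2, 2, 2, 1, 2, 2, 2, 0, 2, 1, 2, 0, 2, 2, 1, 2, 0, 2, 2, 2, 1, 2, 2]),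
  .scan 1 [3, 0, 3, 3, 4, 0, 3, 4, 0, 2, 1] 0 1 0 [⟨11, [0, 1, 0, 0, 0], [6, 5, 5, 6, 5, 6, 6, 5, 6, 6, 6, 5, 6, 6, 5, 5, 5]⟩, ⟨14, [0, 1, 0, 0, 0], [12, 15, 13, 22, 12, 22, 17, 12]⟩] [] (.edge [0, 1, 0, 0, 0, 1, 0] [8, 9, 9, 8, 9] [4, 2, 1, 2] [4, 2, 0, 2, 4, 0, 2, 1, 2, 2, 0, 2, 1, 2, 2, 2, 0, 2, 1, 2, 2, 0, 2, 2, 2, 1]),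
  .scan 1 [4, 0, 2, 4, 0, 2, 0, 2, 1, 2, 2, 0, 2, 1, 2, 0, 2, 1, 2] 0 1 2 [⟨5, [1], [6, 5, 6, 6, 5, 6, 5, 6]⟩] [⟨25, [1, 0, 0, 1, 1, 0, 1, 1, 0, 0], [6, 6, 6, 6, 5, 5, 5, 6, 6, 5, 6, 5, 6]⟩] (.edge [0, 1, 0, 0, 0, 1, 0, 0, 1, 0, 0] [5, 5, 6, 5, 5, 6, 6, 5, 6, 5, 6, 6, 5, 6, 6, 6, 6, 5, 6, 5] [4, 2, 4] [4, 2, 4, 0, 2, 2, 2, 0, 2, 1, 2, 0, 2, 2, 1, 2, 2, 2, 2, 0, 2, 1, 2, 0, 2, 2, 2, 1, 2, 2, 0, 2, 1]),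
  .scan 2 [0, 2, 2, 1, 2, 2, 0, 2, 1, 2, 2, 2] 0 1 4 [] [⟨6, [1, 1, 0, 0, 1, 0, 0, 0], []⟩, ⟨25, [0, 0, 0, 1, 0, 1, 0, 1, 1, 0, 0], [6, 6, 6, 5, 5, 5, 6, 6, 5, 6, 6, 5, 6, 5, 5, 6, 5]⟩] (.edge [0, 0, 1, 1, 0, 1, 1, 0, 0] [10, 8, 7, 9, 7, 7] [4, 2, 0, 2, 1] [4, 2, 0, 2, 4, 0, 2, 2, 2, 2, 1, 2, 0, 2, 2, 2, 1, 2, 2, 2, 0, 2, 2, 1, 2, 2, 0, 2, 1, 2]),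
  .scan 2 [0, 2, 2, 2, 0, 2, 1, 2, 0, 2, 1, 2, 2] 0 1 4 [] [⟨9, [0, 0, 0, 1, 0, 0, 0], [9, 10, 10, 7, 8]⟩, ⟨25, [1, 1, 0, 0, 0, 1, 0, 0], [6, 5, 5, 6, 5, 5, 5, 6, 6, 5, 6, 5, 6, 6, 6, 5, 5, 6]⟩] (.edge [1, 1, 0, 1, 0, 0, 1, 1, 0, 1, 1] [7, 10, 10, 8, 9, 7] [4, 0, 0, 2, 1] [2, 4, 3, 4, 0, 2, 2, 2, 2, 1, 2, 2, 0, 2, 1, 2, 0, 2, 2, 2, 1, 2, 0, 2, 1, 2, 0, 2, 2, 1, 2, 2]),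
  .scan 2 [4, 3, 4, 2] 0 1 2 [⟨21, [1, 0, 1], [9, 8, 7, 9]⟩] [⟨27, [1, 1, 0, 0, 1, 0, 0, 0, 1, 0], [9, 10, 7, 10, 9, 7]⟩] (.edge [1, 1, 1, 0, 1, 0, 0, 0, 0, 1, 0, 0, 0] [18, 19, 21, 20, 18] [] [4, 2, 4, 0, 0, 0, 2, 2, 1, 2, 0, 2, 2, 1, 2, 2, 0, 2, 1, 2, 2, 2, 2, 0, 2, 1, 2, 2, 2, 0, 2, 2, 2, 1])]

def state4 : Know := ⟨[(0, [0]), (0, [1]), (0, [2]), (0, [3]), (0, [4]), (1, [0, 2, 1]), (1, [2]), (2, [2, 2, 2, 2, 0, 2, 2, 1, 2, 2, 2, 2]), (2, [2, 2, 2, 0, 2, 2, 2, 1, 2, 2, 2]), (2, [0, 2, 1, 2, 0, 2, 1, 2, 0, 2, 1, 2, 2, 0, 2, 1]), (2, [0, 2, 2, 1, 2, 2, 2, 0, 2, 2, 1, 2, 0, 2, 1, 2, 0, 2, 2, 1, 2, 2, 2]), (2, [4, 1]),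 (3, [0, 2, 1, 2, 0, 2, 2, 2, 2, 2, 1, 2, 0, 2, 1, 2, 0, 2, 2, 2, 1, 2, 0, 2, 1, 2, 2]), (3, [0, 2, 2, 2, 1, 2, 2, 2, 2, 0, 2, 1, 2, 0, 2, 1, 2, 2, 2]), (3, [0, 2, 1, 2, 0, 2, 1, 2, 0, 2, 1, 2, 2, 0, 2, 1]), (3, [0, 2, 2, 2, 2, 2, 1, 2, 2, 0, 2, 1, 2]), (3, [0, 0]), (3, [4]), (4, [2, 2, 0, 2, 2, 1, 2, 0, 2, 1, 2, 0, 2, 2, 2, 2, 1]), (4, [2, 0, 2, 1, 2, 0, 2, 2, 2, 1, 2, 2, 2, 0, 2, 2, 2, 2, 1]), (4, [4, 2, 4, 3, 4, 1, 2, 2, 0, 2, 1, 2, 2, 2, 0, 2, 2, 1, 2, 0, 2, 2, 1, 2, 0, 2, 2, 1, 2, 2, 2, 0, 2, 1, 2]), (4, [2, 4, 1, 2, 0, 2, 2, 1, 2, 0, 2, 1, 2, 2, 2, 0, 2, 2, 2, 2, 1, 2, 2, 0, 2, 1]), (3, [3, 4, 2, 4, 0, 2, 1, 2,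 0, 2, 1, 2, 0, 2, 2, 2, 2, 2, 1, 2])], [⟨0, [], 1, []⟩,
   ⟨1, [0, 0], 0, []⟩,
   ⟨1, [1], 1, [0, 0]⟩,
   ⟨1, [0], 1, [1]⟩,
   ⟨1, [], 1, [0]⟩,
   ⟨1, [4], 1, [4, 0, 0]⟩,
   ⟨1, [4, 0], 2, []⟩,
   ⟨2, [0, 0], 1, [4, 1]⟩,
   ⟨2, [1], 1, [4]⟩,
   ⟨1, [4, 0, 0], 2, [0]⟩,
   ⟨2, [], 2, [0, 0]⟩,
   ⟨1, [4, 1], 3, []⟩,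
   ⟨3, [], 1, [4, 0]⟩,
   ⟨2, [0], 3, [0]⟩,
   ⟨3, [0], 2, [1]⟩,
   ⟨1, [4, 2, 4, 0], 4, []⟩,
   ⟨4, [4], 3, [4, 2]⟩,
   ⟨4, [0, 0], 1, [4, 2, 4, 2, 2, 1, 2, 0, 2, 1, 2, 2, 0, 2, 2, 2, 1, 2, 0, 2, 2, 2, 2, 2, 1, 2, 2, 0, 2, 2, 1, 2]⟩,
   ⟨3, [4, 2], 4, [4, 0, 0]⟩,
   ⟨4, [0], 4, [1, 2, 2, 2, 0, 2, 2, 1, 2, 0, 2, 1, 2, 0, 2, 1, 2, 2, 2]⟩,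
   ⟨4, [4, 0], 4, [4, 1]⟩,
   ⟨2, [4, 2], 4, [4, 0, 0, 2, 0, 2, 2, 1, 2, 2, 0, 2, 1, 2, 0, 2, 2, 1, 2, 2, 0, 2, 2, 1, 2, 2, 2]⟩,
   ⟨2, [4, 0, 0, 2, 1, 2], 4, [4, 0, 0, 0, 2, 1, 2, 2, 2, 2, 0, 2, 1, 2, 2, 0, 2, 2, 1]⟩,
   ⟨4, [1], 2, [4, 1, 2, 4, 2, 2, 0, 2, 2, 1, 2, 0, 2, 2, 1, 2, 2, 0, 2, 1, 2]⟩,
   ⟨4, [4, 0, 0, 0, 2, 1], 2, [4, 0, 2, 4, 0, 2, 4, 0, 2, 1, 2, 0, 2, 2, 2, 1, 2, 2, 2, 0, 2, 1, 2, 0, 2, 2, 1, 2, 0, 2, 2, 2, 1, 2, 2]⟩,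
   ⟨2, [4, 2, 1, 2], 1, [4, 2, 0, 2, 4, 0, 2, 1, 2, 2, 0, 2, 1, 2, 2, 2, 0, 2, 1, 2, 2, 0, 2, 2, 2, 1]⟩,
   ⟨1, [4, 2, 4], 2, [4, 2, 4, 0, 2, 2, 2, 0, 2, 1, 2, 0, 2, 2, 1, 2, 2, 2, 2, 0, 2, 1, 2, 0, 2, 2, 2, 1, 2, 2, 0, 2, 1]⟩,
   ⟨2, [4, 2, 0, 2, 1], 2, [4, 2, 0, 2, 4, 0, 2, 2, 2, 2, 1, 2, 0, 2, 2, 2, 1, 2, 2, 2, 0, 2, 2, 1, 2, 2, 0, 2, 1, 2]⟩,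
   ⟨2, [4, 0, 0, 2, 1], 2, [2, 4, 3, 4, 0, 2, 2, 2, 2, 1, 2, 2, 0, 2, 1, 2, 0, 2, 2, 2, 1, 2, 0, 2, 1, 2, 0, 2, 2, 1, 2, 2]⟩,
   ⟨4, [], 2, [4, 2, 4, 0, 0, 0, 2, 2, 1, 2, 0, 2, 2, 1, 2, 2, 0, 2, 1, 2, 2, 2, 2, 0, 2, 1, 2, 2, 2, 0, 2, 2, 2, 1]⟩]⟩

def events5 : List Ev := [
  .scan 2 [4, 2, 0, 2, 1] 0 1 2 [⟨10, [1, 0], [9]⟩] [⟨29, [0, 0, 0, 1, 0, 0, 1, 1], [10, 11, 8, 10, 9, 8]⟩] (.edge [0, 0, 0, 1, 0, 0, 1, 1, 1] [11, 8, 9, 7, 10, 7] [4, 3, 4, 2] [4, 3, 4, 2, 4, 0, 0, 2, 1, 2, 0, 2, 2, 2, 1, 2, 2, 0, 2, 1, 2, 2, 0, 2, 1, 2, 2, 0, 2, 2, 2, 1, 2, 0, 2, 1]),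
  .scan 3 [2, 0, 2, 4, 0, 2, 0, 2, 1, 2, 0, 2, 1, 2, 0, 2, 2, 1, 2, 2] 0 1 2 [⟨18, [0, 0, 1, 0, 0, 0, 0, 1, 0, 0], [14, 22, 12, 13, 22, 17, 15, 13]⟩] [⟨16, [1, 0], []⟩] (.edge [1, 1, 0, 1, 1, 1, 0, 0, 1, 0, 1, 0, 0, 1] [19, 21, 19, 18] [4, 1, 2] [1, 2, 4, 2, 4, 2, 2, 0, 2, 2, 1, 2, 0, 2, 1, 2, 0, 2, 2, 1, 2, 2, 2, 0, 2, 1, 2, 2, 0, 2, 1, 2]),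
  .root 1 [4, 2, 4, 2, 4] 5,
  .comm 32 [0, 0, 1, 1, 0, 0, 0, 1, 1, 0, 1, 0, 1, 0, 0, 0, 0] [6, 6, 5, 5, 6, 5, 6, 6, 6, 5, 5, 6, 6, 5, 6, 6, 6, 5] [2, 2, 0, 2, 2, 1, 2, 2, 2, 0, 2, 2, 1, 2, 0, 2, 1, 2, 0, 2, 1, 2, 2, 2, 2],
  .comm 32 [0, 0, 1, 0, 1, 1, 0, 1, 1, 1, 0] [5, 5, 5, 6, 5, 5, 6, 5, 5, 5, 6, 5, 5, 6, 6, 5] [2, 2, 0, 2, 1, 2, 0, 2, 2, 1, 2, 0, 2, 2, 2, 1, 2],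
  .comm 32 [0, 0, 1, 1, 0, 1, 0, 0, 1, 0, 0, 1, 0, 0, 0, 1, 0] [5, 5, 5, 6, 6, 6, 5, 6, 6, 5, 5, 5, 5] [2, 2, 0, 2, 2, 1, 2, 0, 2, 1, 2, 2, 0, 2, 1, 2, 2, 0, 2, 1, 2, 2, 2, 0, 2, 1, 2],
  .scan 1 [4, 2, 4, 2, 4] 0 0 3 [⟨32, [], []⟩] [⟨25, [0, 0, 0, 0, 1, 1, 0, 1, 1, 0, 0], [6, 6, 6, 6, 5, 5, 5, 6, 5, 6, 5, 6, 6]⟩] (.edge [] [] [4] [4, 2, 2, 4, 1, 2, 2, 0, 2, 2, 1, 2, 0, 2, 2, 1, 2, 2, 0, 2, 1, 2]),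
  .scan 1 [4, 3, 3, 4, 3, 4, 0, 2, 2, 0, 2, 2, 1, 2, 0, 2, 2, 2, 1, 2, 0, 2, 2, 1, 2, 2, 0, 2, 2, 1, 2] 0 0 3 [⟨32, [1, 0, 1, 0, 0, 0, 1, 1], []⟩] [⟨17, [0, 1, 0, 0, 0, 0, 1, 0, 1, 1, 1], [5, 6, 5, 5, 6, 5, 5, 6, 6, 6, 6, 5, 5, 6, 5, 6, 6, 6, 5]⟩] (.edge [1, 0, 0, 0, 1, 1, 1, 1, 1, 0, 1, 1, 0] [23, 25, 25, 24, 24] [4, 2, 2, 2, 2, 2] [4, 0, 0, 2, 2, 0, 2, 1, 2, 0, 2, 2, 2, 2, 2, 1, 2, 0, 2, 1, 2, 0, 2, 1]),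
  .scan 2 [2, 0, 3, 0, 2, 0, 2, 2, 4, 2, 2, 2, 0, 2, 2, 1, 2, 0, 2, 1, 2, 0, 2, 2, 2, 1, 2, 0, 2, 1, 2, 0, 2, 1, 2] 0 0 3 [⟨28, [0, 0, 0, 0, 1, 0, 0, 0], []⟩] [⟨33, [1, 0, 1, 0, 0, 0, 0, 1, 0, 0, 0, 0, 1], [10, 7, 9, 9, 8]⟩] (.edge [0, 1, 1, 0, 0, 0, 0, 1, 0, 1, 1, 0, 0] [9, 7, 9, 10, 11, 8] [4, 2, 4, 0, 0, 2, 1] [2, 4, 3, 1, 2, 2, 4, 2, 2, 0, 2, 2, 1, 2, 0, 2, 2, 1, 2, 0, 2, 1, 2, 2, 0, 2, 2, 1, 2, 2, 0, 2, 1, 2, 0, 2, 2, 1]),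
  .scan 2 [3, 1, 2, 0, 2, 2, 2, 4, 0, 0, 2, 2, 1, 2, 0, 2, 2, 2, 1, 2, 0, 2, 1, 2, 2, 2, 2, 2] 0 0 3 [⟨22, [1, 1, 0, 0, 1, 1, 1], [9, 7]⟩] [⟨33, [1, 1, 0, 1, 1, 1, 1, 0, 0, 1, 0], [7, 8, 10, 8, 9, 10, 7]⟩] (.edge [0, 0, 1, 1, 1, 1, 0, 0, 0, 1, 1, 0] [21, 19, 21, 21, 21, 21] [4, 0, 2] [1, 2, 4, 0, 2, 4, 0, 2, 1, 2, 2, 2, 2, 0, 2, 2, 1, 2, 0, 2, 1, 2, 0, 2, 1, 2, 2, 2, 2]),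
  .scan 4 [1, 2, 0, 2, 1, 2, 2, 0, 2, 2, 1, 2, 0, 2, 1] 0 0 1 [⟨23, [0, 0, 0], [21, 18, 18, 21, 21, 21]⟩, ⟨35, [0, 1, 1, 0, 1, 1, 0, 1, 0, 0, 1, 1, 0], [9, 10, 8, 11, 9, 10, 8]⟩] [] (.edge [1, 1, 1, 0, 0, 1, 0, 1, 1, 0, 0, 1, 1, 0, 0, 0, 0] [24, 23, 24, 25, 23, 23] [4, 2, 2, 2, 2, 2, 1] [4, 2, 4, 3, 4, 2, 0, 2, 2, 1, 2, 0, 2, 1, 2, 0, 2, 2, 1, 2, 2, 0, 2, 2, 2, 1, 2, 2, 2]),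
  .scan 4 [1, 3, 0, 2, 2, 2, 4, 2, 0, 2, 2, 2, 1] 0 0 5 [] [⟨31, [1, 1, 0, 0, 0, 1, 0, 1, 1, 1, 0, 1], [18, 21, 20, 19]⟩, ⟨37, [1, 0, 1, 0, 1, 1, 0, 1, 1, 1, 1, 0, 0, 1, 0], [19, 18, 18, 21, 19, 21, 20]⟩] (.edge [1, 1, 0, 0, 1, 1, 1, 0] [] [4, 2] [2, 4, 2, 4, 0, 2, 0, 2, 1, 2, 2, 0, 2, 2, 2, 1, 2, 0, 2, 1, 2, 0, 2, 2, 2, 1, 2, 0, 2, 1, 2, 0, 2, 1])]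

def state5 : Know := ⟨[(0, [0]), (0, [1]), (0, [2]), (0, [3]), (0, [4]), (1, [0, 2, 1]), (1, [2]), (2, [2, 2, 2, 2, 0, 2, 2, 1, 2, 2, 2, 2]), (2, [2, 2, 2, 0, 2, 2, 2, 1, 2, 2, 2]), (2, [0, 2, 1, 2, 0, 2, 1, 2, 0, 2, 1, 2, 2, 0, 2, 1]), (2, [0, 2, 2, 1, 2, 2, 2, 0, 2, 2, 1, 2, 0, 2, 1, 2, 0, 2, 2, 1, 2, 2, 2]), (2, [4, 1]), (3, [0, 2, 1, 2, 0, 2, 2, 2, 2, 2, 1, 2, 0, 2, 1, 2, 0, 2, 2, 2, 1, 2, 0, 2, 1, 2, 2]), (3, [0, 2, 2, 2, 1, 2, 2, 2, 2, 0, 2, 1, 2, 0, 2, 1, 2, 2, 2]), (3, [0, 2, 1, 2, 0, 2, 1, 2, 0, 2, 1, 2, 2, 0, 2, 1]), (3, [0, 2, 2, 2, 2, 2, 1, 2, 2, 0, 2, 1, 2]), (3, [0, 0]), (3, [4]), (4, [2, 2, 0, 2, 2,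 1, 2, 0, 2, 1, 2, 0, 2, 2, 2, 2, 1]), (4, [2, 0, 2, 1, 2, 0, 2, 2, 2, 1, 2, 2, 2, 0, 2, 2, 2, 2, 1]), (4, [4, 2, 4, 3, 4, 1, 2, 2, 0, 2, 1, 2, 2, 2, 0, 2, 2, 1, 2, 0, 2, 2, 1, 2, 0, 2, 2, 1, 2, 2, 2, 0, 2, 1, 2]), (4, [2, 4, 1, 2, 0, 2, 2, 1, 2, 0, 2, 1, 2, 2, 2, 0, 2, 2, 2, 2, 1, 2, 2, 0, 2, 1]), (3, [3, 4, 2, 4, 0, 2, 1, 2, 0, 2, 1, 2, 0, 2, 2, 2, 2, 2, 1, 2]), (5, [2, 2, 0, 2, 2, 1, 2, 2, 2, 0, 2, 2, 1, 2, 0, 2, 1, 2, 0, 2, 1, 2, 2, 2, 2]), (5, [2, 2, 0, 2, 1, 2, 0, 2, 2, 1, 2, 0, 2, 2, 2, 1, 2]), (5, [2, 2, 0, 2, 2, 1, 2, 0, 2, 1, 2, 2, 0, 2, 1, 2, 2, 0, 2, 1, 2, 2, 2, 0, 2, 1, 2])], [⟨0, [], 1, []⟩,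
   ⟨1, [0, 0], 0, []⟩,
   ⟨1, [1], 1, [0, 0]⟩,
   ⟨1, [0], 1, [1]⟩,
   ⟨1, [], 1, [0]⟩,
   ⟨1, [4], 1, [4, 0, 0]⟩,
   ⟨1, [4, 0], 2, []⟩,
   ⟨2, [0, 0], 1, [4, 1]⟩,
   ⟨2, [1], 1, [4]⟩,
   ⟨1, [4, 0, 0], 2, [0]⟩,
   ⟨2, [], 2, [0, 0]⟩,
   ⟨1, [4, 1], 3, []⟩,
   ⟨3, [], 1, [4, 0]⟩,
   ⟨2, [0], 3, [0]⟩,
   ⟨3, [0], 2, [1]⟩,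
   ⟨1, [4, 2, 4, 0], 4, []⟩,
   ⟨4, [4], 3, [4, 2]⟩,
   ⟨4, [0, 0], 1, [4, 2, 4, 2, 2, 1, 2, 0, 2, 1, 2, 2, 0, 2, 2, 2, 1, 2, 0, 2, 2, 2, 2, 2, 1, 2, 2, 0, 2, 2, 1, 2]⟩,
   ⟨3, [4, 2], 4, [4, 0, 0]⟩,
   ⟨4, [0], 4, [1, 2, 2, 2, 0, 2, 2, 1, 2, 0, 2, 1, 2, 0, 2, 1, 2, 2, 2]⟩,
   ⟨4, [4, 0], 4, [4, 1]⟩,
   ⟨2, [4, 2], 4, [4, 0, 0, 2, 0, 2, 2, 1, 2, 2, 0, 2, 1, 2, 0, 2, 2, 1, 2, 2, 0, 2, 2, 1, 2, 2, 2]⟩,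
   ⟨2, [4, 0, 0, 2, 1, 2], 4, [4, 0, 0, 0, 2, 1, 2, 2, 2, 2, 0, 2, 1, 2, 2, 0, 2, 2, 1]⟩,
   ⟨4, [1], 2, [4, 1, 2, 4, 2, 2, 0, 2, 2, 1, 2, 0, 2, 2, 1, 2, 2, 0, 2, 1, 2]⟩,
   ⟨4, [4, 0, 0, 0, 2, 1], 2, [4, 0, 2, 4, 0, 2, 4, 0, 2, 1, 2, 0, 2, 2, 2, 1, 2, 2, 2, 0, 2, 1, 2, 0, 2, 2, 1, 2, 0, 2, 2, 2, 1, 2, 2]⟩,
   ⟨2, [4, 2, 1, 2], 1, [4, 2, 0, 2, 4, 0, 2, 1, 2, 2, 0, 2, 1, 2, 2, 2, 0, 2, 1, 2, 2, 0, 2, 2, 2, 1]⟩,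
   ⟨1, [4, 2, 4], 2, [4, 2, 4, 0, 2, 2, 2, 0, 2, 1, 2, 0, 2, 2, 1, 2, 2, 2, 2, 0, 2, 1, 2, 0, 2, 2, 2, 1, 2, 2, 0, 2, 1]⟩,
   ⟨2, [4, 2, 0, 2, 1], 2, [4, 2, 0, 2, 4, 0, 2, 2, 2, 2, 1, 2, 0, 2, 2, 2, 1, 2, 2, 2, 0, 2, 2, 1, 2, 2, 0, 2, 1, 2]⟩,
   ⟨2, [4, 0, 0, 2, 1], 2, [2, 4, 3, 4, 0, 2, 2, 2, 2, 1, 2, 2, 0, 2, 1, 2, 0, 2, 2, 2, 1, 2, 0, 2, 1, 2, 0, 2, 2, 1, 2, 2]⟩,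
   ⟨4, [], 2, [4, 2, 4, 0, 0, 0, 2, 2, 1, 2, 0, 2, 2, 1, 2, 2, 0, 2, 1, 2, 2, 2, 2, 0, 2, 1, 2, 2, 2, 0, 2, 2, 2, 1]⟩,
   ⟨2, [4, 3, 4, 2], 4, [4, 3, 4, 2, 4, 0, 0, 2, 1, 2, 0, 2, 2, 2, 1, 2, 2, 0, 2, 1, 2, 2, 0, 2, 1, 2, 2, 0, 2, 2, 2, 1, 2, 0, 2, 1]⟩,
   ⟨4, [4, 1, 2], 4, [1, 2, 4, 2, 4, 2, 2, 0, 2, 2, 1, 2, 0, 2, 1, 2, 0, 2, 2, 1, 2, 2, 2, 0, 2, 1, 2, 2, 0, 2, 1, 2]⟩,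
   ⟨1, [4, 2, 4, 2, 4], 5, []⟩,
   ⟨5, [4], 2, [4, 2, 2, 4, 1, 2, 2, 0, 2, 2, 1, 2, 0, 2, 2, 1, 2, 2, 0, 2, 1, 2]⟩,
   ⟨5, [4, 2, 2, 2, 2, 2], 4, [4, 0, 0, 2, 2, 0, 2, 1, 2, 0, 2, 2, 2, 2, 2, 1, 2, 0, 2, 1, 2, 0, 2, 1]⟩,
   ⟨2, [4, 2, 4, 0, 0, 2, 1], 5, [2, 4, 3, 1, 2, 2, 4, 2, 2, 0, 2, 2, 1, 2, 0, 2, 2, 1, 2, 0, 2, 1, 2, 2, 0, 2, 2, 1, 2, 2, 0, 2, 1, 2, 0, 2, 2, 1]⟩,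
   ⟨4, [4, 0, 2], 5, [1, 2, 4, 0, 2, 4, 0, 2, 1, 2, 2, 2, 2, 0, 2, 2, 1, 2, 0, 2, 1, 2, 0, 2, 1, 2, 2, 2, 2]⟩,
   ⟨5, [4, 2, 2, 2, 2, 2, 1], 4, [4, 2, 4, 3, 4, 2, 0, 2, 2, 1, 2, 0, 2, 1, 2, 0, 2, 2, 1, 2, 2, 0, 2, 2, 2, 1, 2, 2, 2]⟩,
   ⟨4, [4, 2], 5, [2, 4, 2, 4, 0, 2, 0, 2, 1, 2, 2, 0, 2, 2, 2, 1, 2, 0, 2, 1, 2, 0, 2, 2, 2, 1, 2, 0, 2, 1, 2, 0, 2, 1]⟩]⟩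

def events6 : List Ev := [
  .scan 4 [2, 0, 2, 4, 0, 2, 0, 2, 1, 2, 0, 2, 1, 2, 0, 2, 2, 1, 2, 2] 0 0 3 [⟨38, [1, 0], []⟩] [⟨37, [1, 0, 0, 1, 1, 0, 1], [20, 19, 18, 19, 19, 18]⟩] (.edge [1, 0, 1, 1, 1, 0, 1, 0, 1, 1, 0, 1, 1, 1, 0, 0, 0, 1] [23, 23, 25, 23, 23] [4, 0] [3, 3, 4, 2, 2, 4, 1, 2, 2, 2, 2, 0, 2, 2, 2, 2, 1, 2, 2, 0, 2, 1, 2, 2]),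
  .scan 5 [3, 0, 2, 2, 4, 0, 0, 2, 2, 2, 2, 1, 2, 2, 0, 2, 1, 2, 2, 2, 0, 2, 2, 2, 1] 0 0 1 [⟨33, [0, 0, 0, 0, 0, 1, 1], [25, 24, 24, 23]⟩, ⟨35, [1, 0, 1, 0, 0, 0, 1, 1, 1, 0, 1, 0, 0, 0, 0, 1, 0], [11, 9, 8, 7, 9, 7]⟩] [] (.edge [0, 0, 0, 1, 0, 1, 0, 0, 1, 1, 0, 1, 0, 1, 1, 1] [23, 24, 25, 24] [4, 0, 0, 2, 2, 2, 2, 2] [3, 1, 2, 4, 2, 4, 0, 2, 2, 2, 1, 2, 0, 2, 2, 1, 2, 2, 0, 2, 2, 1, 2, 0, 2, 1, 2, 2, 0, 2, 2, 2, 1, 2, 2, 2]),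
  .scan 1 [4, 2, 4, 2, 4] 1 0 0 [⟨32, [1, 1, 1, 0, 1, 0, 0, 0, 1], [5, 5, 5, 5, 6, 5, 6, 5, 5, 6, 5, 5, 6, 5, 6, 5, 6]⟩] [] (.edge [1, 1, 1, 0, 1, 0, 0, 0, 1] [] [0, 0] [4, 2, 4, 2, 4, 0, 0, 0, 2, 2, 2, 2, 1, 2, 0, 2, 1, 2, 0, 2, 2, 1, 2, 0, 2, 2, 1, 2, 0, 2, 1, 2, 0, 2, 1, 2]),
  .scan 2 [4, 2, 4, 0, 0, 2, 1] 1 0 1 [⟨35, [1, 1, 0, 1, 1, 1, 1, 0, 1, 1, 0, 1, 1, 1, 0], [10, 10, 8, 9, 7, 7, 10, 7]⟩] [⟨33, [1, 0, 1, 1, 1, 0, 1, 1, 0, 1, 0, 1, 0, 0], [7, 8, 7, 10, 7, 9, 7]⟩] (.loop [4, 2, 4, 2, 4, 0, 2, 2, 1, 2, 0, 2, 2, 1, 2, 2, 0, 2, 1, 2, 0, 2, 2, 1, 2, 2, 2, 0, 2, 2, 1, 2, 0, 2, 1]),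
  .scan 1 [4, 2, 4, 2, 4] 2 0 1 [⟨32, [1, 0, 1, 1, 1, 1], [6, 5, 5, 5, 6, 6, 6, 5, 5, 5, 6, 6, 6, 5, 5, 6]⟩] [⟨41, [1, 1, 1, 0, 1, 0, 0, 0, 1], []⟩] (.edge [0, 1, 0, 0, 0, 0] [] [1] [0, 0, 2, 0, 2, 2, 2, 2, 1, 2, 2, 0, 2, 2, 1, 2, 2, 0, 2, 1, 2, 0, 2, 1, 2, 2]),
  .scan 5 [] 2 0 5 [] [⟨32, [], []⟩, ⟨41, [1, 1, 1, 0, 1, 0, 0, 0, 1], []⟩] (.edge [] [] [0] [2, 2, 2, 1, 2, 0, 2, 1, 2, 2, 2, 0, 2, 1]),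
  .scan 5 [0] 2 0 0 [⟨41, [], []⟩, ⟨32, [1, 0, 1, 1, 1, 1], [5, 5, 5, 6, 5, 5, 5, 6, 6, 5, 6, 6, 6, 6, 5, 5]⟩] [] (.edge [1, 0, 1, 1, 1, 1] [] [] [0, 2, 2, 2, 0, 2, 1, 2, 0, 2, 1, 2, 0, 2, 1]),
  .scan 5 [3, 3, 4, 0, 2, 2, 2, 1, 2, 0, 2, 1, 2, 0, 2, 1, 2, 2, 2] 0 0 1 [⟨33, [0, 1, 0, 1, 0, 1, 1, 1], []⟩, ⟨35, [0, 1, 1, 0, 1, 0, 1, 0, 0, 1, 0, 0, 1, 1], [7, 7, 11, 10, 8]⟩] [] (.edge [0, 1, 0, 1, 1, 1, 0, 1, 0, 0, 1, 0, 0, 1, 1] [26, 24, 23, 24] [4, 2, 2, 4] [2, 2, 4, 2, 1, 2, 4, 0, 2, 1, 2, 0, 2, 2, 1, 2, 0, 2, 2, 1, 2, 2, 0, 2, 2, 1, 2, 0, 2, 2, 2, 2, 1]),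
  .root 3 [4, 0, 0, 2, 1] 6,
  .comm 46 [0, 0, 0, 1, 0, 0, 1, 1, 1, 1, 1, 0, 0, 1, 0, 0] [22, 15, 14, 14, 14, 12] [2, 2, 2, 0, 2, 1, 2, 2, 0, 2, 2, 2, 2, 2, 1, 2, 2, 0, 2, 1, 2, 2],
  .comm 46 [1, 0, 0, 1, 1, 1, 0, 0, 0, 0, 1, 0, 0, 0, 1] [13, 12, 15, 22, 22, 12] [0, 2, 1, 2, 2, 0, 2, 2, 2, 1, 2, 2, 2, 2, 0, 2, 1, 2, 2, 2, 0, 2, 1],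
  .scan 2 [0, 2, 2, 2, 2, 0, 2, 1, 2, 2, 0, 2, 1] 0 0 1 [⟨13, [1, 1, 1, 1], [7, 9, 7, 9, 8]⟩, ⟨46, [0, 1, 0, 1, 0, 1, 1], [13, 12, 22, 13, 14, 12]⟩] [] (.edge [1, 0, 1, 1, 1, 0, 1, 0, 1, 1, 0] [28, 28, 27, 28, 27, 28, 28, 28, 27] [4] [4, 0, 0, 2, 2, 1, 2, 0, 2, 2, 2, 2, 1, 2, 2, 0, 2, 2, 1, 2, 2, 0, 2, 1, 2, 0, 2, 2, 1, 2, 2, 0, 2, 1])]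

def state6 : Know := ⟨[(0, [0]), (0, [1]), (0, [2]), (0, [3]), (0, [4]), (1, [0, 2, 1]), (1, [2]), (2, [2, 2, 2, 2, 0, 2, 2, 1, 2, 2, 2, 2]), (2, [2, 2, 2, 0, 2, 2, 2, 1, 2, 2, 2]), (2, [0, 2, 1, 2, 0, 2, 1, 2, 0, 2, 1, 2, 2, 0, 2, 1]), (2, [0, 2, 2, 1, 2, 2, 2, 0, 2, 2, 1, 2, 0, 2, 1, 2, 0, 2, 2, 1, 2, 2, 2]), (2, [4, 1]), (3, [0, 2, 1, 2, 0, 2, 2, 2, 2, 2, 1, 2, 0, 2, 1, 2, 0, 2, 2, 2, 1, 2, 0, 2, 1, 2, 2]), (3, [0, 2, 2, 2, 1, 2, 2, 2, 2, 0, 2, 1, 2, 0, 2, 1, 2, 2, 2]), (3, [0, 2, 1, 2, 0, 2, 1, 2, 0, 2, 1, 2, 2, 0, 2, 1]), (3, [0, 2, 2, 2, 2, 2, 1, 2, 2, 0, 2, 1, 2]), (3, [0, 0]), (3, [4]), (4, [2, 2, 0, 2, 2,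 1, 2, 0, 2, 1, 2, 0, 2, 2, 2, 2, 1]), (4, [2, 0, 2, 1, 2, 0, 2, 2, 2, 1, 2, 2, 2, 0, 2, 2, 2, 2, 1]), (4, [4, 2, 4, 3, 4, 1, 2, 2, 0, 2, 1, 2, 2, 2, 0, 2, 2, 1, 2, 0, 2, 2, 1, 2, 0, 2, 2, 1, 2, 2, 2, 0, 2, 1, 2]), (4, [2, 4, 1, 2, 0, 2, 2, 1, 2, 0, 2, 1, 2, 2, 2, 0, 2, 2, 2, 2, 1, 2, 2, 0, 2, 1]), (3, [3, 4, 2, 4, 0, 2, 1, 2, 0, 2, 1, 2, 0, 2, 2, 2, 2, 2, 1, 2]), (5, [2, 2, 0, 2, 2, 1, 2, 2, 2, 0, 2, 2, 1, 2, 0, 2, 1, 2, 0, 2, 1, 2, 2, 2, 2]), (5, [2, 2, 0, 2, 1, 2, 0, 2, 2, 1, 2, 0, 2, 2, 2, 1, 2]), (5, [2, 2, 0, 2, 2, 1, 2, 0, 2, 1, 2, 2, 0, 2, 1, 2, 2, 0, 2, 1, 2, 2, 2, 0, 2, 1, 2]), (5, [4, 2, 4, 2, 4, 0, 2, 2,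 1, 2, 0, 2, 2, 1, 2, 2, 0, 2, 1, 2, 0, 2, 2, 1, 2, 2, 2, 0, 2, 2, 1, 2, 0, 2, 1]), (6, [2, 2, 2, 0, 2, 1, 2, 2, 0, 2, 2, 2, 2, 2, 1, 2, 2, 0, 2, 1, 2, 2]), (6, [0, 2, 1, 2, 2, 0, 2, 2, 2, 1, 2, 2, 2, 2, 0, 2, 1, 2, 2, 2, 0, 2, 1])], [⟨0, [], 1, []⟩,
   ⟨1, [0, 0], 0, []⟩,
   ⟨1, [1], 1, [0, 0]⟩,
   ⟨1, [0], 1, [1]⟩,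
   ⟨1, [], 1, [0]⟩,
   ⟨1, [4], 1, [4, 0, 0]⟩,
   ⟨1, [4, 0], 2, []⟩,
   ⟨2, [0, 0], 1, [4, 1]⟩,
   ⟨2, [1], 1, [4]⟩,
   ⟨1, [4, 0, 0], 2, [0]⟩,
   ⟨2, [], 2, [0, 0]⟩,
   ⟨1, [4, 1], 3, []⟩,
   ⟨3, [], 1, [4, 0]⟩,
   ⟨2, [0], 3, [0]⟩,
   ⟨3, [0], 2, [1]⟩,
   ⟨1, [4, 2, 4, 0], 4, []⟩,
   ⟨4, [4], 3, [4, 2]⟩,
   ⟨4, [0, 0], 1, [4, 2, 4, 2, 2, 1, 2, 0, 2, 1, 2, 2, 0, 2, 2, 2, 1, 2, 0, 2, 2, 2, 2, 2, 1, 2, 2, 0, 2, 2, 1, 2]⟩,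
   ⟨3, [4, 2], 4, [4, 0, 0]⟩,
   ⟨4, [0], 4, [1, 2, 2, 2, 0, 2, 2, 1, 2, 0, 2, 1, 2, 0, 2, 1, 2, 2, 2]⟩,
   ⟨4, [4, 0], 4, [4, 1]⟩,
   ⟨2, [4, 2], 4, [4, 0, 0, 2, 0, 2, 2, 1, 2, 2, 0, 2, 1, 2, 0, 2, 2, 1, 2, 2, 0, 2, 2, 1, 2, 2, 2]⟩,
   ⟨2, [4, 0, 0, 2, 1, 2], 4, [4, 0, 0, 0, 2, 1, 2, 2, 2, 2, 0, 2, 1, 2, 2, 0, 2, 2, 1]⟩,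
   ⟨4, [1], 2, [4, 1, 2, 4, 2, 2, 0, 2, 2, 1, 2, 0, 2, 2, 1, 2, 2, 0, 2, 1, 2]⟩,
   ⟨4, [4, 0, 0, 0, 2, 1], 2, [4, 0, 2, 4, 0, 2, 4, 0, 2, 1, 2, 0, 2, 2, 2, 1, 2, 2, 2, 0, 2, 1, 2, 0, 2, 2, 1, 2, 0, 2, 2, 2, 1, 2, 2]⟩,
   ⟨2, [4, 2, 1, 2], 1, [4, 2, 0, 2, 4, 0, 2, 1, 2, 2, 0, 2, 1, 2, 2, 2, 0, 2, 1, 2, 2, 0, 2, 2, 2, 1]⟩,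
   ⟨1, [4, 2, 4], 2, [4, 2, 4, 0, 2, 2, 2, 0, 2, 1, 2, 0, 2, 2, 1, 2, 2, 2, 2, 0, 2, 1, 2, 0, 2, 2, 2, 1, 2, 2, 0, 2, 1]⟩,
   ⟨2, [4, 2, 0, 2, 1], 2, [4, 2, 0, 2, 4, 0, 2, 2, 2, 2, 1, 2, 0, 2, 2, 2, 1, 2, 2, 2, 0, 2, 2, 1, 2, 2, 0, 2, 1, 2]⟩,
   ⟨2, [4, 0, 0, 2, 1], 2, [2, 4, 3, 4, 0, 2, 2, 2, 2, 1, 2, 2, 0, 2, 1, 2, 0, 2, 2, 2, 1, 2, 0, 2, 1, 2, 0, 2, 2, 1, 2, 2]⟩,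
   ⟨4, [], 2, [4, 2, 4, 0, 0, 0, 2, 2, 1, 2, 0, 2, 2, 1, 2, 2, 0, 2, 1, 2, 2, 2, 2, 0, 2, 1, 2, 2, 2, 0, 2, 2, 2, 1]⟩,
   ⟨2, [4, 3, 4, 2], 4, [4, 3, 4, 2, 4, 0, 0, 2, 1, 2, 0, 2, 2, 2, 1, 2, 2, 0, 2, 1, 2, 2, 0, 2, 1, 2, 2, 0, 2, 2, 2, 1, 2, 0, 2, 1]⟩,
   ⟨4, [4, 1, 2], 4, [1, 2, 4, 2, 4, 2, 2, 0, 2, 2, 1, 2, 0, 2, 1, 2, 0, 2, 2, 1, 2, 2, 2, 0, 2, 1, 2, 2, 0, 2, 1, 2]⟩,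
   ⟨1, [4, 2, 4, 2, 4], 5, []⟩,
   ⟨5, [4], 2, [4, 2, 2, 4, 1, 2, 2, 0, 2, 2, 1, 2, 0, 2, 2, 1, 2, 2, 0, 2, 1, 2]⟩,
   ⟨5, [4, 2, 2, 2, 2, 2], 4, [4, 0, 0, 2, 2, 0, 2, 1, 2, 0, 2, 2, 2, 2, 2, 1, 2, 0, 2, 1, 2, 0, 2, 1]⟩,
   ⟨2, [4, 2, 4, 0, 0, 2, 1], 5, [2, 4, 3, 1, 2, 2, 4, 2, 2, 0, 2, 2, 1, 2, 0, 2, 2, 1, 2, 0, 2, 1, 2, 2, 0, 2, 2, 1, 2, 2, 0, 2, 1, 2, 0, 2, 2, 1]⟩,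
   ⟨4, [4, 0, 2], 5, [1, 2, 4, 0, 2, 4, 0, 2, 1, 2, 2, 2, 2, 0, 2, 2, 1, 2, 0, 2, 1, 2, 0, 2, 1, 2, 2, 2, 2]⟩,
   ⟨5, [4, 2, 2, 2, 2, 2, 1], 4, [4, 2, 4, 3, 4, 2, 0, 2, 2, 1, 2, 0, 2, 1, 2, 0, 2, 2, 1, 2, 2, 0, 2, 2, 2, 1, 2, 2, 2]⟩,
   ⟨4, [4, 2], 5, [2, 4, 2, 4, 0, 2, 0, 2, 1, 2, 2, 0, 2, 2, 2, 1, 2, 0, 2, 1, 2, 0, 2, 2, 2, 1, 2, 0, 2, 1, 2, 0, 2, 1]⟩,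
   ⟨5, [4, 0], 5, [3, 3, 4, 2, 2, 4, 1, 2, 2, 2, 2, 0, 2, 2, 2, 2, 1, 2, 2, 0, 2, 1, 2, 2]⟩,
   ⟨5, [4, 0, 0, 2, 2, 2, 2, 2], 5, [3, 1, 2, 4, 2, 4, 0, 2, 2, 2, 1, 2, 0, 2, 2, 1, 2, 2, 0, 2, 2, 1, 2, 0, 2, 1, 2, 2, 0, 2, 2, 2, 1, 2, 2, 2]⟩,
   ⟨5, [0, 0], 1, [4, 2, 4, 2, 4, 0, 0, 0, 2, 2, 2, 2, 1, 2, 0, 2, 1, 2, 0, 2, 2, 1, 2, 0, 2, 2, 1, 2, 0, 2, 1, 2, 0, 2, 1, 2]⟩,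
   ⟨5, [1], 5, [0, 0, 2, 0, 2, 2, 2, 2, 1, 2, 2, 0, 2, 2, 1, 2, 2, 0, 2, 1, 2, 0, 2, 1, 2, 2]⟩,
   ⟨5, [0], 5, [2, 2, 2, 1, 2, 0, 2, 1, 2, 2, 2, 0, 2, 1]⟩,
   ⟨5, [], 5, [0, 2, 2, 2, 0, 2, 1, 2, 0, 2, 1, 2, 0, 2, 1]⟩,
   ⟨5, [4, 2, 2, 4], 5, [2, 2, 4, 2, 1, 2, 4, 0, 2, 1, 2, 0, 2, 2, 1, 2, 0, 2, 2, 1, 2, 2, 0, 2, 2, 1, 2, 0, 2, 2, 2, 2, 1]⟩,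
   ⟨3, [4, 0, 0, 2, 1], 6, []⟩,
   ⟨6, [4], 2, [4, 0, 0, 2, 2, 1, 2, 0, 2, 2, 2, 2, 1, 2, 2, 0, 2, 2, 1, 2, 2, 0, 2, 1, 2, 0, 2, 2, 1, 2, 2, 0, 2, 1]⟩]⟩

def events7 : List Ev := [
  .scan 2 [4, 2, 4, 0, 0, 2, 1] 0 0 3 [⟨35, [], []⟩] [⟨47, [0], [8, 7, 9, 10, 8, 9]⟩] (.edge [1, 1, 0, 1, 0, 0, 0, 1, 1, 1, 0, 1, 0, 0, 1, 1, 1, 0] [26, 23, 23, 24] [4, 2, 4] [2, 4, 3, 1, 2, 2, 4, 2, 0, 2, 2, 2, 1, 2, 0, 2, 2, 2, 2, 1, 2, 0, 2, 2, 2, 2, 1]),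
  .scan 4 [1, 2, 0, 2, 0, 2, 2, 4, 0, 2, 0, 2, 1, 2, 0, 2, 1] 0 0 1 [⟨16, [1, 0, 1, 1], [18, 21, 19, 18, 18, 21]⟩, ⟨46, [0, 0, 1, 1, 1, 0, 0, 0], [15, 15, 22, 15, 22, 17, 15, 14, 12]⟩] [] (.edge [1, 0, 1, 1, 1, 1, 0, 1, 0, 1, 0] [27] [4, 2] [4, 0, 2, 2, 4, 0, 2, 2, 2, 2, 2, 0, 2, 2, 1, 2, 0, 2, 1]),
  .scan 4 [4, 0, 0, 2, 1] 0 0 5 [] [⟨22, [1, 1, 0, 1, 1, 0, 1, 1, 0, 0], [21, 19, 19, 21, 21, 19]⟩, ⟨47, [0, 0, 1, 1, 0, 0, 1, 1, 1, 1, 0, 0, 0], [10, 11, 8, 9, 10]⟩] (.edge [] [] [4, 0, 0, 2, 1] [2, 4, 1, 2, 4, 0, 2, 0, 2, 2, 1, 2, 0, 2, 1, 2, 0, 2, 1, 2, 2, 2, 0, 2, 1, 2, 2, 2, 2, 0, 2, 1, 2, 2]),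
  .scan 4 [0, 3, 0, 2, 2, 2, 4, 2, 2, 2, 0, 2, 2, 2, 1, 2, 2, 0, 2, 2, 1, 2, 0, 2, 2, 1] 0 0 3 [⟨24, [1, 1, 0, 0, 1, 1, 0, 1], []⟩] [⟨49, [0, 0, 1, 0, 1, 1, 1, 1, 0, 0, 1], [19, 18, 21, 20, 18, 18, 19]⟩] (.edge [0, 0, 1, 0, 0, 1, 0, 0, 0, 1, 0, 0, 1] [7, 9, 8, 9, 8] [4, 2, 4, 2] [2, 4, 3, 1, 2, 2, 4, 0, 2, 1, 2, 2, 2, 2, 0, 2, 2, 1, 2, 2, 0, 2, 1, 2, 0, 2, 1, 2, 0, 2, 2, 1, 2, 2, 0, 2, 1]),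
  .scan 5 [4, 2, 2, 4] 0 0 1 [⟨45, [], []⟩, ⟨48, [1, 0, 1, 0, 1, 0, 0, 1, 1, 0, 1, 0, 0, 0, 1, 1, 1, 0], [24, 25, 26]⟩] [] (.edge [1, 0, 0, 1, 1, 1, 1, 0, 0, 1, 0, 0, 0, 0, 1, 0] [28, 28, 27, 28, 28, 28, 27] [4, 0, 0, 0, 2, 1] [4, 2, 4, 3, 4, 0, 0, 2, 1, 2, 2, 0, 2, 1, 2, 2, 0, 2, 1, 2, 0, 2, 1, 2, 2, 0, 2, 1, 2, 2, 2, 0, 2, 1]),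
  .scan 6 [0, 3, 4, 0, 0, 2, 2, 1, 2, 0, 2, 2, 2, 1, 2, 0, 2, 2, 1] 0 0 1 [⟨47, [1, 0, 1, 1, 1, 0, 1, 1], []⟩, ⟨21, [1, 1, 1, 0, 0, 1, 0, 1, 1, 0, 0], [7, 8, 7, 11]⟩] [] (.edge [0, 1, 1, 0, 0, 0, 0, 0] [20, 19, 18, 18, 19, 18, 18, 18] [4, 0, 0, 2] [3, 3, 4, 2, 2, 4, 2, 0, 2, 2, 1, 2, 0, 2, 1, 2, 0, 2, 2, 2, 2, 2, 1, 2, 2, 0, 2, 1, 2, 2, 2, 2, 0, 2, 1]),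
  .scan 6 [3, 0, 2, 2, 4, 0, 0, 2, 2, 2, 2, 1, 2, 0, 2, 1, 2, 0, 2, 2, 2, 1, 2, 2, 2] 0 0 1 [⟨47, [1, 0, 1, 1, 1, 0, 0, 0], []⟩, ⟨51, [0, 0, 1, 1, 0, 0, 1, 0, 1, 1, 0, 1, 1], [10, 8, 10, 9, 7]⟩] [] (.edge [1, 0, 1, 0, 1, 1, 1, 1, 1, 0, 0, 0] [28, 28, 28, 28, 27, 28, 28] [4, 0, 2, 1] [4, 1, 2, 4, 0, 2, 1, 2, 0, 2, 2, 1, 2, 2, 2, 0, 2, 1, 2, 2, 0, 2, 2, 2, 2, 1, 2, 2, 0, 2, 1, 2, 2]),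
  .scan 6 [2, 1, 2, 4, 0, 2, 1, 2, 0, 2, 2, 2, 1, 2, 2, 2, 2, 0, 2, 1, 2, 0, 2, 2, 1, 2] 0 0 5 [] [⟨51, [0, 0, 1, 1, 1, 0, 0, 0, 1, 1, 1, 0], [28, 28, 27, 28, 27, 28, 28, 28, 27]⟩, ⟨28, [0, 0, 0, 0, 1, 0, 1, 0, 1, 1, 0, 1, 1, 1], [11, 7, 9, 7, 8]⟩] (.edge [1, 1, 0, 0, 0, 0, 0] [28, 28, 27, 28, 28, 27, 28] [4, 0] [2, 4, 3, 4, 2, 2, 1, 2, 0, 2, 2, 2, 1, 2, 2, 0, 2, 1, 2, 2, 0, 2, 1, 2, 2, 0, 2, 2, 2, 1, 2, 0, 2, 1]),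
  .scan 6 [2, 1, 3, 0, 3, 3, 4, 0, 0, 2, 2, 1, 2, 0, 2, 2, 2, 2, 2, 1, 2, 0, 2, 1, 2, 0, 2, 2, 1, 2, 2, 2] 0 0 1 [⟨55, [1, 0, 1, 0, 0, 1, 1, 1], []⟩, ⟨35, [1, 1, 1, 1, 1, 0, 0, 1, 1, 0, 0, 0, 0], [11, 7, 10, 9, 8, 7, 8]⟩] [] (.edge [0, 0, 0, 0, 0, 1, 0, 0, 1, 0, 0, 1, 1, 0] [25, 23, 25, 25] [4, 0, 0, 2, 2, 2, 2, 2, 1] [2, 4, 3, 4, 2, 1, 2, 0, 2, 2, 2, 1, 2, 0, 2, 2, 1, 2, 2, 0, 2, 1, 2, 0, 2, 1, 2, 2, 2, 0, 2, 1]),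
  .scan 6 [4, 0, 0, 0, 2, 1] 0 0 1 [⟨52, [], []⟩, ⟨34, [0, 0, 1, 1, 0, 1, 0, 1, 0, 0, 1, 0, 0, 0, 1], [24, 23, 26]⟩] [] (.edge [1, 1, 0, 0, 0, 0, 0] [19, 19, 18, 18, 21, 21, 20, 18] [4, 1] [0, 0, 2, 0, 2, 2, 2, 2, 2, 1]),
  .scan 6 [0, 3, 0, 2, 2, 2, 4, 0, 2, 1] 0 0 1 [⟨52, [1, 1, 1, 1, 1, 0, 0, 0], []⟩, ⟨40, [1, 1, 0, 0, 0, 1, 1, 1, 0, 0, 0, 1, 0], [24, 26, 24, 24, 23]⟩] [] (.edge [1, 1, 0, 1, 0, 1, 1, 1, 1, 1, 0, 1, 0] [25, 26, 26, 26, 26] [4, 1] [3, 3, 4, 2, 2, 4, 0, 0, 0, 2, 2, 2, 2, 1, 2, 0, 2, 2, 1, 2, 0, 2, 2, 1, 2, 0, 2, 1, 2]),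
  .scan 2 [0, 0, 2, 2, 0, 2, 1, 2, 2, 0, 2, 2, 1, 2] 0 1 4 [] [⟨10, [1], [7, 8, 7, 10, 7]⟩, ⟨55, [1, 1, 0, 1, 1, 1, 0, 1], [11, 10, 11, 8, 9, 8, 11]⟩] (.edge [1, 0, 0, 1, 0, 0, 0, 1, 1, 1, 0, 0, 0] [8, 7, 10, 8] [4, 0, 0, 2] [4, 2, 4, 0, 2, 2, 2, 2, 0, 2, 2, 1, 2, 2, 2, 2])]

def state7 : Know := ⟨[(0, [0]), (0, [1]), (0, [2]), (0, [3]), (0, [4]), (1, [0, 2, 1]), (1, [2]), (2, [2, 2, 2, 2, 0, 2, 2, 1, 2, 2, 2, 2]), (2, [2, 2, 2, 0, 2, 2, 2, 1, 2, 2, 2]), (2, [0, 2, 1, 2, 0, 2, 1, 2, 0, 2, 1, 2, 2, 0, 2, 1]), (2, [0, 2, 2, 1, 2, 2, 2, 0, 2, 2, 1, 2, 0, 2, 1, 2, 0, 2, 2, 1, 2, 2, 2]), (2, [4, 1]), (3, [0, 2, 1, 2, 0,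 2, 2, 2, 2, 2, 1, 2, 0, 2, 1, 2, 0, 2, 2, 2, 1, 2, 0, 2, 1, 2, 2]), (3, [0, 2, 2, 2, 1, 2, 2, 2, 2, 0, 2, 1, 2, 0, 2, 1, 2, 2, 2]), (3, [0, 2, 1, 2, 0, 2, 1, 2, 0, 2, 1, 2, 2, 0, 2, 1]), (3, [0, 2, 2, 2, 2, 2, 1, 2, 2, 0, 2, 1, 2]), (3, [0, 0]), (3, [4]), (4, [2, 2, 0, 2, 2, 1, 2, 0, 2, 1, 2, 0, 2, 2, 2, 2, 1]), (4, [2, 0, 2, 1, 2, 0, 2, 2, 2, 1, 2, 2, 2, 0, 2, 2, 2, 2, 1]), (4, [4, 2, 4, 3, 4, 1, 2, 2, 0, 2, 1, 2, 2, 2, 0, 2, 2, 1, 2, 0, 2, 2, 1, 2, 0, 2, 2, 1, 2, 2, 2, 0, 2, 1, 2]), (4, [2, 4, 1, 2, 0, 2, 2, 1, 2, 0, 2, 1, 2, 2, 2, 0, 2, 2, 2, 2, 1, 2, 2, 0, 2, 1]), (3, [3, 4, 2, 4, 0, 2, 1, 2, 0, 2, 1, 2, 0, 2, 2,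 2, 2, 2, 1, 2]), (5, [2, 2, 0, 2, 2, 1, 2, 2, 2, 0, 2, 2, 1, 2, 0, 2, 1, 2, 0, 2, 1, 2, 2, 2, 2]), (5, [2, 2, 0, 2, 1, 2, 0, 2, 2, 1, 2, 0, 2, 2, 2, 1, 2]), (5, [2, 2, 0, 2, 2, 1, 2, 0, 2, 1, 2, 2, 0, 2, 1, 2, 2, 0, 2, 1, 2, 2, 2, 0, 2, 1, 2]), (5, [4, 2, 4, 2, 4, 0, 2, 2, 1, 2, 0, 2, 2, 1, 2, 2, 0, 2, 1, 2, 0, 2, 2, 1, 2, 2, 2, 0, 2, 2, 1, 2, 0, 2, 1]), (6, [2, 2, 2, 0, 2, 1, 2, 2, 0, 2, 2, 2, 2, 2, 1, 2, 2, 0, 2, 1, 2, 2]), (6, [0, 2, 1, 2, 2, 0, 2, 2, 2, 1, 2, 2, 2, 2, 0, 2, 1, 2, 2, 2, 0, 2, 1])], [⟨0, [], 1, []⟩,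
   ⟨1, [0, 0], 0, []⟩,
   ⟨1, [1], 1, [0, 0]⟩,
   ⟨1, [0], 1, [1]⟩,
   ⟨1, [], 1, [0]⟩,
   ⟨1, [4], 1, [4, 0, 0]⟩,
   ⟨1, [4, 0], 2, []⟩,
   ⟨2, [0, 0], 1, [4, 1]⟩,
   ⟨2, [1], 1, [4]⟩,
   ⟨1, [4, 0, 0], 2, [0]⟩,
   ⟨2, [], 2, [0, 0]⟩,
   ⟨1, [4, 1], 3, []⟩,
   ⟨3, [], 1, [4, 0]⟩,
   ⟨2, [0], 3, [0]⟩,
   ⟨3, [0], 2, [1]⟩,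
   ⟨1, [4, 2, 4, 0], 4, []⟩,
   ⟨4, [4], 3, [4, 2]⟩,
   ⟨4, [0, 0], 1, [4, 2, 4, 2, 2, 1, 2, 0, 2, 1, 2, 2, 0, 2, 2, 2, 1, 2, 0, 2, 2, 2, 2, 2, 1, 2, 2, 0, 2, 2, 1, 2]⟩,
   ⟨3, [4, 2], 4, [4, 0, 0]⟩,
   ⟨4, [0], 4, [1, 2, 2, 2, 0, 2, 2, 1, 2, 0, 2, 1, 2, 0, 2, 1, 2, 2, 2]⟩,
   ⟨4, [4, 0], 4, [4, 1]⟩,
   ⟨2, [4, 2], 4, [4, 0, 0, 2, 0, 2, 2, 1, 2, 2, 0, 2, 1, 2, 0, 2, 2, 1, 2, 2, 0, 2, 2, 1, 2, 2, 2]⟩,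
   ⟨2, [4, 0, 0, 2, 1, 2], 4, [4, 0, 0, 0, 2, 1, 2, 2, 2, 2, 0, 2, 1, 2, 2, 0, 2, 2, 1]⟩,
   ⟨4, [1], 2, [4, 1, 2, 4, 2, 2, 0, 2, 2, 1, 2, 0, 2, 2, 1, 2, 2, 0, 2, 1, 2]⟩,
   ⟨4, [4, 0, 0, 0, 2, 1], 2, [4, 0, 2, 4, 0, 2, 4, 0, 2, 1, 2, 0, 2, 2, 2, 1, 2, 2, 2, 0, 2, 1, 2, 0, 2, 2, 1, 2, 0, 2, 2, 2, 1, 2, 2]⟩,
   ⟨2, [4, 2, 1, 2], 1, [4, 2, 0, 2, 4, 0, 2, 1, 2, 2, 0, 2, 1, 2, 2, 2, 0, 2, 1, 2, 2, 0, 2, 2, 2, 1]⟩,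
   ⟨1, [4, 2, 4], 2, [4, 2, 4, 0, 2, 2, 2, 0, 2, 1, 2, 0, 2, 2, 1, 2, 2, 2, 2, 0, 2, 1, 2, 0, 2, 2, 2, 1, 2, 2, 0, 2, 1]⟩,
   ⟨2, [4, 2, 0, 2, 1], 2, [4, 2, 0, 2, 4, 0, 2, 2, 2, 2, 1, 2, 0, 2, 2, 2, 1, 2, 2, 2, 0, 2, 2, 1, 2, 2, 0, 2, 1, 2]⟩,
   ⟨2, [4, 0, 0, 2, 1], 2, [2, 4, 3, 4, 0, 2, 2, 2, 2, 1, 2, 2, 0, 2, 1, 2, 0, 2, 2, 2, 1, 2, 0, 2, 1, 2, 0, 2, 2, 1, 2, 2]⟩,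
   ⟨4, [], 2, [4, 2, 4, 0, 0, 0, 2, 2, 1, 2, 0, 2, 2, 1, 2, 2, 0, 2, 1, 2, 2, 2, 2, 0, 2, 1, 2, 2, 2, 0, 2, 2, 2, 1]⟩,
   ⟨2, [4, 3, 4, 2], 4, [4, 3, 4, 2, 4, 0, 0, 2, 1, 2, 0, 2, 2, 2, 1, 2, 2, 0, 2, 1, 2, 2, 0, 2, 1, 2, 2, 0, 2, 2, 2, 1, 2, 0, 2, 1]⟩,
   ⟨4, [4, 1, 2], 4, [1, 2, 4, 2, 4, 2, 2, 0, 2, 2, 1, 2, 0, 2, 1, 2, 0, 2, 2, 1, 2, 2, 2, 0, 2, 1, 2, 2, 0, 2, 1, 2]⟩,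
   ⟨1, [4, 2, 4, 2, 4], 5, []⟩,
   ⟨5, [4], 2, [4, 2, 2, 4, 1, 2, 2, 0, 2, 2, 1, 2, 0, 2, 2, 1, 2, 2, 0, 2, 1, 2]⟩,
   ⟨5, [4, 2, 2, 2, 2, 2], 4, [4, 0, 0, 2, 2, 0, 2, 1, 2, 0, 2, 2, 2, 2, 2, 1, 2, 0, 2, 1, 2, 0, 2, 1]⟩,
   ⟨2, [4, 2, 4, 0, 0, 2, 1], 5, [2, 4, 3, 1, 2, 2, 4, 2, 2, 0, 2, 2, 1, 2, 0, 2, 2, 1, 2, 0, 2, 1, 2, 2, 0, 2, 2, 1, 2, 2, 0, 2, 1, 2, 0, 2, 2, 1]⟩,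
   ⟨4, [4, 0, 2], 5, [1, 2, 4, 0, 2, 4, 0, 2, 1, 2, 2, 2, 2, 0, 2, 2, 1, 2, 0, 2, 1, 2, 0, 2, 1, 2, 2, 2, 2]⟩,
   ⟨5, [4, 2, 2, 2, 2, 2, 1], 4, [4, 2, 4, 3, 4, 2, 0, 2, 2, 1, 2, 0, 2, 1, 2, 0, 2, 2, 1, 2, 2, 0, 2, 2, 2, 1, 2, 2, 2]⟩,
   ⟨4, [4, 2], 5, [2, 4, 2, 4, 0, 2, 0, 2, 1, 2, 2, 0, 2, 2, 2, 1, 2, 0, 2, 1, 2, 0, 2, 2, 2, 1, 2, 0, 2, 1, 2, 0, 2, 1]⟩,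
   ⟨5, [4, 0], 5, [3, 3, 4, 2, 2, 4, 1, 2, 2, 2, 2, 0, 2, 2, 2, 2, 1, 2, 2, 0, 2, 1, 2, 2]⟩,
   ⟨5, [4, 0, 0, 2, 2, 2, 2, 2], 5, [3, 1, 2, 4, 2, 4, 0, 2, 2, 2, 1, 2, 0, 2, 2, 1, 2, 2, 0, 2, 2, 1, 2, 0, 2, 1, 2, 2, 0, 2, 2, 2, 1, 2, 2, 2]⟩,
   ⟨5, [0, 0], 1, [4, 2, 4, 2, 4, 0, 0, 0, 2, 2, 2, 2, 1, 2, 0, 2, 1, 2, 0, 2, 2, 1, 2, 0, 2, 2, 1, 2, 0, 2, 1, 2, 0, 2, 1, 2]⟩,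
   ⟨5, [1], 5, [0, 0, 2, 0, 2, 2, 2, 2, 1, 2, 2, 0, 2, 2, 1, 2, 2, 0, 2, 1, 2, 0, 2, 1, 2, 2]⟩,
   ⟨5, [0], 5, [2, 2, 2, 1, 2, 0, 2, 1, 2, 2, 2, 0, 2, 1]⟩,
   ⟨5, [], 5, [0, 2, 2, 2, 0, 2, 1, 2, 0, 2, 1, 2, 0, 2, 1]⟩,
   ⟨5, [4, 2, 2, 4], 5, [2, 2, 4, 2, 1, 2, 4, 0, 2, 1, 2, 0, 2, 2, 1, 2, 0, 2, 2, 1, 2, 2, 0, 2, 2, 1, 2, 0, 2, 2, 2, 2, 1]⟩,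
   ⟨3, [4, 0, 0, 2, 1], 6, []⟩,
   ⟨6, [4], 2, [4, 0, 0, 2, 2, 1, 2, 0, 2, 2, 2, 2, 1, 2, 2, 0, 2, 2, 1, 2, 2, 0, 2, 1, 2, 0, 2, 2, 1, 2, 2, 0, 2, 1]⟩,
   ⟨5, [4, 2, 4], 6, [2, 4, 3, 1, 2, 2, 4, 2, 0, 2, 2, 2, 1, 2, 0, 2, 2, 2, 2, 1, 2, 0, 2, 2, 2, 2, 1]⟩,
   ⟨6, [4, 2], 4, [4, 0, 2, 2, 4, 0, 2, 2, 2, 2, 2, 0, 2, 2, 1, 2, 0, 2, 1]⟩,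
   ⟨4, [4, 0, 0, 2, 1], 6, [2, 4, 1, 2, 4, 0, 2, 0, 2, 2, 1, 2, 0, 2, 1, 2, 0, 2, 1, 2, 2, 2, 0, 2, 1, 2, 2, 2, 2, 0, 2, 1, 2, 2]⟩,
   ⟨2, [4, 2, 4, 2], 6, [2, 4, 3, 1, 2, 2, 4, 0, 2, 1, 2, 2, 2, 2, 0, 2, 2, 1, 2, 2, 0, 2, 1, 2, 0, 2, 1, 2, 0, 2, 2, 1, 2, 2, 0, 2, 1]⟩,
   ⟨6, [4, 0, 0, 0, 2, 1], 5, [4, 2, 4, 3, 4, 0, 0, 2, 1, 2, 2, 0, 2, 1, 2, 2, 0, 2, 1, 2, 0, 2, 1, 2, 2, 0, 2, 1, 2, 2, 2, 0, 2, 1]⟩,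
   ⟨4, [4, 0, 0, 2], 6, [3, 3, 4, 2, 2, 4, 2, 0, 2, 2, 1, 2, 0, 2, 1, 2, 0, 2, 2, 2, 2, 2, 1, 2, 2, 0, 2, 1, 2, 2, 2, 2, 0, 2, 1]⟩,
   ⟨6, [4, 0, 2, 1], 6, [4, 1, 2, 4, 0, 2, 1, 2, 0, 2, 2, 1, 2, 2, 2, 0, 2, 1, 2, 2, 0, 2, 2, 2, 2, 1, 2, 2, 0, 2, 1, 2, 2]⟩,
   ⟨6, [4, 0], 2, [2, 4, 3, 4, 2, 2, 1, 2, 0, 2, 2, 2, 1, 2, 2, 0, 2, 1, 2, 2, 0, 2, 1, 2, 2, 0, 2, 2, 2, 1, 2, 0, 2, 1]⟩,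
   ⟨5, [4, 0, 0, 2, 2, 2, 2, 2, 1], 6, [2, 4, 3, 4, 2, 1, 2, 0, 2, 2, 2, 1, 2, 0, 2, 2, 1, 2, 2, 0, 2, 1, 2, 0, 2, 1, 2, 2, 2, 0, 2, 1]⟩,
   ⟨4, [4, 1], 6, [0, 0, 2, 0, 2, 2, 2, 2, 2, 1]⟩,
   ⟨5, [4, 1], 6, [3, 3, 4, 2, 2, 4, 0, 0, 0, 2, 2, 2, 2, 1, 2, 0, 2, 2, 1, 2, 0, 2, 2, 1, 2, 0, 2, 1, 2]⟩,
   ⟨2, [4, 0, 0, 2], 6, [4, 2, 4, 0, 2, 2, 2, 2, 0, 2, 2, 1, 2, 2, 2, 2]⟩]⟩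

def events8 : List Ev := [
  .scan 2 [1, 2, 0, 3, 0, 3, 3, 4, 0, 2, 2, 2, 2, 1, 2, 0, 2, 2, 1, 2, 2, 2, 0, 2, 1, 2, 0, 2, 2, 1, 2, 2] 0 1 2 [⟨59, [0, 0, 1, 0, 1, 1, 0, 0, 0, 1, 0, 0], [7, 9, 11, 10, 9, 8]⟩] [⟨28, [1, 1, 0, 1, 0, 1, 1, 1, 0, 1, 1, 1, 1], [9, 11, 10, 8, 9, 7]⟩] (.edge [1, 1, 0, 0, 1, 1, 0, 1, 0, 0, 1, 0] [27, 28, 28, 28, 27, 28, 28] [4, 2, 1] [2, 2, 4, 3, 4, 0, 2, 2, 2, 1, 2, 2, 0, 2, 1, 2, 0, 2, 2, 1, 2, 0, 2, 1, 2, 0, 2, 1, 2, 2, 0, 2, 2, 1]),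
  .scan 2 [4, 2, 4, 2] 0 1 2 [⟨21, [0], []⟩] [⟨60, [1, 0, 1, 1, 0, 0, 1, 1, 1, 1, 0, 0, 0], [9, 10, 7, 11, 10, 11]⟩] (.edge [1, 0, 1, 1, 1, 0, 1, 1, 0, 1, 0, 1, 0, 0] [19, 21, 21, 19, 21, 20, 19] [4, 2, 4] [1, 2, 4, 0, 2, 4, 0, 2, 2, 0, 2, 1, 2, 2, 0, 2, 2, 1, 2, 0, 2, 1, 2, 0, 2, 2, 2, 1, 2, 2, 0, 2, 1, 2, 2]),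
  .scan 2 [3, 4, 3, 0, 3, 3, 4, 0, 0, 2, 1, 2, 2, 2, 0, 2, 2, 2, 2, 2, 1, 2] 0 1 2 [⟨35, [1, 1, 0, 1, 0, 0, 1, 0, 0, 0, 1, 1, 1, 0, 1], [10, 10, 11, 7, 9, 7, 7]⟩] [⟨60, [1, 1, 1, 1, 0, 0, 1, 0, 1, 1, 0, 1, 0, 1, 0, 0], [10, 7, 8, 9, 8]⟩] (.edge [1, 1, 1, 1, 0, 0, 0, 1, 0, 1, 0, 0, 1, 0, 0, 0] [23] [4, 0, 0] [2, 4, 2, 4, 1, 2, 2, 0, 2, 1, 2, 2, 0, 2, 1, 2, 0, 2, 1, 2, 2, 0, 2, 1, 2, 2, 0, 2, 1]),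
  .scan 2 [3, 0, 3, 3, 4, 0, 3, 4, 0, 2, 1, 2, 0, 2, 1, 2, 0, 2, 2, 2, 1, 2, 0, 2, 1, 2, 0, 2, 2, 2, 1, 2, 2, 2] 0 1 4 [] [⟨60, [0, 1, 1, 1, 0, 1, 1, 1, 1, 0, 1, 1, 1], [9, 8, 11, 10, 11, 8]⟩, ⟨54, [1, 1, 0, 0, 1, 0, 1, 0, 1, 1], [28, 27, 28, 28, 28, 27, 28, 27, 28, 27]⟩] (.edge [1, 1, 0, 0, 0, 1, 0, 1, 0, 0, 1, 0, 0] [8, 7, 9, 10, 8, 9] [4, 2, 1] [2, 4, 3, 4, 0, 0, 2, 0, 2, 1, 2, 0, 2, 2, 1, 2, 0, 2, 2, 2, 2, 1, 2]),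
  .scan 4 [1] 0 1 2 [⟨57, [], []⟩] [⟨19, [1, 0, 0, 0, 1, 1, 1, 1, 0, 0, 1, 1], [18, 21, 19, 18, 18, 21]⟩] (.edge [1, 0, 0, 1, 0, 0, 0, 1, 1, 1, 0, 0, 0] [28, 28, 27, 28, 28, 28, 27, 28, 28, 27] [4, 0, 0] [4, 0, 0, 2, 1, 2, 2, 0, 2, 2, 2, 1, 2, 0, 2, 1, 2, 2, 2, 0, 2, 1, 2, 0, 2, 1, 2]),
  .scan 4 [0, 0] 0 1 4 [] [⟨30, [1], [20]⟩, ⟨55, [0, 0, 1, 0, 0, 0, 1, 1, 1, 0, 0, 0, 0], [10, 9, 8, 11, 9, 9]⟩] (.edge [] [] [4, 0, 0] [0, 0, 2, 2, 1, 2, 0, 2, 2, 2, 1, 2, 2, 2, 0, 2, 2, 2, 2, 1]),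
  .scan 5 [1] 0 1 2 [⟨58, [], []⟩] [⟨43, [1, 1, 1, 1, 0, 0, 0, 1, 0], [23, 24, 23, 25, 23]⟩] (.edge [0, 1, 0, 1, 0, 0, 1, 0, 0, 0, 1, 0, 0, 1, 0] [27, 28, 28] [4, 0, 0, 2, 1] [2, 1, 2, 4, 0, 2, 2, 2, 1, 2, 2, 2, 0, 2, 1, 2, 0, 2, 2, 1, 2, 0, 2, 2, 2, 2, 1, 2]),
  .scan 5 [0, 2, 2, 4] 0 1 4 [] [⟨39, [0, 0, 1, 0, 1, 0, 1, 1, 1, 1, 1, 0, 0, 1], [26, 26, 26, 25, 24]⟩, ⟨66, [1, 1, 0, 1, 0, 1, 1, 0], [25, 25, 26, 24, 24]⟩] (.edge [0, 1, 0, 0, 1, 1, 0, 1, 1, 1, 1, 0, 0, 1, 1, 1, 0, 1, 0] [25, 23, 26, 25, 26] [4, 2, 4, 0] [3, 4, 1, 3, 0, 3, 3, 4, 0, 0, 2, 1, 2, 0, 2, 2, 1, 2, 0, 2, 1, 2, 2, 0, 2, 1, 2, 2, 2, 0, 2, 1, 2, 2,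 2, 2, 0, 2, 1, 2]),
  .scan 6 [0, 2, 2, 2, 2, 2, 0, 2, 1, 2, 2] 0 1 4 [] [⟨65, [0, 1, 0, 0, 1, 0, 1, 1, 0, 0], [27, 28, 28, 27, 28, 28, 27, 28]⟩, ⟨49, [1, 1, 1, 0, 0, 1, 1, 0, 0, 0, 1, 0, 1, 1, 0, 0], [19, 18, 21, 18, 21, 19, 18]⟩] (.edge [0, 0, 1, 1, 0, 1, 0, 1, 1, 1, 0, 1, 1, 1] [28, 27, 28, 28, 28, 27, 28, 27, 28, 27] [4, 0, 2] [1, 2, 4, 0, 2, 4, 2, 0, 2, 1, 2, 2, 0, 2, 1, 2, 0, 2, 1, 2, 2, 0, 2, 2, 1, 2, 0, 2, 2, 2, 1]),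
  .scan 2 [0, 3, 3, 4, 0, 2, 2, 2, 2, 1, 2, 0, 2, 1, 2, 2, 2, 2, 0, 2, 1] 0 0 3 [⟨63, [1, 1, 0, 1, 0, 0, 0, 0], []⟩] [⟨55, [0, 0, 0, 0, 1, 1, 0, 1, 1, 0], [9, 10, 8, 10, 9, 7]⟩] (.edge [0, 1, 1, 0, 0, 1, 0, 1, 1] [28, 27, 28, 28, 28, 28] [4, 0, 0, 0, 2, 2, 2, 2, 2, 1] [3, 4, 2, 4, 0, 2, 0, 2, 1, 2, 0, 2, 2, 1, 2, 2, 0, 2, 2, 2, 1, 2, 2, 2, 2, 0, 2, 1, 2, 2, 0, 2, 1]),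
  .scan 6 [0, 2, 2, 0, 2, 2, 4, 0, 0, 2, 1, 2, 2, 0, 2, 1, 2, 2, 0, 2, 2, 1, 2, 0, 2, 2, 1, 2, 2] 0 0 5 [] [⟨56, [0, 0, 1, 1, 0, 0, 0, 1, 1, 0], [27, 28, 28, 28, 27, 28, 27]⟩, ⟨66, [0, 0, 1, 1, 1, 0, 0, 0, 0, 1, 0, 0, 1, 0, 0], [26, 24, 25, 25]⟩] (.edge [0, 1, 1, 0, 0] [27, 28, 28, 27, 28, 28, 28, 27, 28, 27] [4, 1] [4, 0, 2, 4, 2, 0, 2, 2, 1, 2, 0, 2, 1, 2, 2, 2, 0, 2, 2, 2, 1, 2, 0, 2, 1, 2, 2, 2, 2]),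
  .scan 6 [1, 2, 4, 2, 0, 2, 2, 2, 2, 1, 2] 0 0 5 [] [⟨59, [1, 1, 0, 1], [28, 28, 28, 27, 28, 27, 28]⟩, ⟨47, [1, 0, 1, 0, 0, 0, 1, 0], [9, 8, 10, 11, 7, 7]⟩] (.edge [1] [28, 28, 27, 28, 28, 27, 28] [4, 0, 0, 2, 2, 2, 2, 2, 1] [3, 4, 2, 4, 2, 2, 2, 2, 2, 0, 2, 1, 2, 0, 2, 1, 2, 2, 2, 0, 2, 1, 2])]

def state8 : Know := ⟨[(0, [0]), (0, [1]), (0, [2]), (0, [3]), (0, [4]), (1, [0, 2, 1]), (1, [2]), (2, [2, 2, 2, 2, 0, 2, 2, 1, 2, 2, 2, 2]), (2, [2, 2, 2, 0, 2, 2, 2, 1, 2, 2, 2]), (2, [0, 2, 1, 2, 0, 2, 1, 2, 0, 2, 1, 2, 2, 0, 2, 1]), (2, [0, 2, 2, 1, 2, 2, 2, 0, 2, 2, 1, 2, 0, 2, 1, 2, 0, 2, 2, 1, 2, 2, 2]), (2, [4, 1]),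 (3, [0, 2, 1, 2, 0, 2, 2, 2, 2, 2, 1, 2, 0, 2, 1, 2, 0, 2, 2, 2, 1, 2, 0, 2, 1, 2, 2]), (3, [0, 2, 2, 2, 1, 2, 2, 2, 2, 0, 2, 1, 2, 0, 2, 1, 2, 2, 2]), (3, [0, 2, 1, 2, 0, 2, 1, 2, 0, 2, 1, 2, 2, 0, 2, 1]), (3, [0, 2, 2, 2, 2, 2, 1, 2, 2, 0, 2, 1, 2]), (3, [0, 0]), (3, [4]), (4, [2, 2, 0, 2, 2, 1, 2, 0, 2, 1, 2, 0, 2, 2, 2, 2, 1]), (4, [2, 0, 2, 1, 2, 0, 2, 2, 2, 1, 2, 2, 2, 0, 2, 2, 2, 2, 1]), (4, [4, 2, 4, 3, 4, 1, 2, 2, 0, 2, 1, 2, 2, 2, 0, 2, 2, 1, 2, 0, 2, 2, 1, 2, 0, 2, 2, 1, 2, 2, 2, 0, 2, 1, 2]), (4, [2, 4, 1, 2, 0, 2, 2, 1, 2, 0, 2, 1, 2, 2, 2, 0, 2, 2, 2, 2, 1, 2, 2, 0, 2, 1]), (3, [3, 4, 2, 4, 0, 2, 1, 2,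 0, 2, 1, 2, 0, 2, 2, 2, 2, 2, 1, 2]), (5, [2, 2, 0, 2, 2, 1, 2, 2, 2, 0, 2, 2, 1, 2, 0, 2, 1, 2, 0, 2, 1, 2, 2, 2, 2]), (5, [2, 2, 0, 2, 1, 2, 0, 2, 2, 1, 2, 0, 2, 2, 2, 1, 2]), (5, [2, 2, 0, 2, 2, 1, 2, 0, 2, 1, 2, 2, 0, 2, 1, 2, 2, 0, 2, 1, 2, 2, 2, 0, 2, 1, 2]), (5, [4, 2, 4, 2, 4, 0, 2, 2, 1, 2, 0, 2, 2, 1, 2, 2, 0, 2, 1, 2, 0, 2, 2, 1, 2, 2, 2, 0, 2, 2, 1, 2, 0, 2, 1]), (6, [2, 2, 2, 0, 2, 1, 2, 2, 0, 2, 2, 2, 2, 2, 1, 2, 2, 0, 2, 1, 2, 2]), (6, [0, 2, 1, 2, 2, 0, 2, 2, 2, 1, 2, 2, 2, 2, 0, 2, 1, 2, 2, 2, 0, 2, 1])], [⟨0, [], 1, []⟩,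
   ⟨1, [0, 0], 0, []⟩,
   ⟨1, [1], 1, [0, 0]⟩,
   ⟨1, [0], 1, [1]⟩,
   ⟨1, [], 1, [0]⟩,
   ⟨1, [4], 1, [4, 0, 0]⟩,
   ⟨1, [4, 0], 2, []⟩,
   ⟨2, [0, 0], 1, [4, 1]⟩,
   ⟨2, [1], 1, [4]⟩,
   ⟨1, [4, 0, 0], 2, [0]⟩,
   ⟨2, [], 2, [0, 0]⟩,
   ⟨1, [4, 1], 3, []⟩,
   ⟨3, [], 1, [4, 0]⟩,
   ⟨2, [0], 3, [0]⟩,
   ⟨3, [0], 2, [1]⟩,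
   ⟨1, [4, 2, 4, 0], 4, []⟩,
   ⟨4, [4], 3, [4, 2]⟩,
   ⟨4, [0, 0], 1, [4, 2, 4, 2, 2, 1, 2, 0, 2, 1, 2, 2, 0, 2, 2, 2, 1, 2, 0, 2, 2, 2, 2, 2, 1, 2, 2, 0, 2, 2, 1, 2]⟩,
   ⟨3, [4, 2], 4, [4, 0, 0]⟩,
   ⟨4, [0], 4, [1, 2, 2, 2, 0, 2, 2, 1, 2, 0, 2, 1, 2, 0, 2, 1, 2, 2, 2]⟩,
   ⟨4, [4, 0], 4, [4, 1]⟩,
   ⟨2, [4, 2], 4, [4, 0, 0, 2, 0, 2, 2, 1, 2, 2, 0, 2, 1, 2, 0, 2, 2, 1, 2, 2, 0, 2, 2, 1, 2, 2, 2]⟩,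
   ⟨2, [4, 0, 0, 2, 1, 2], 4, [4, 0, 0, 0, 2, 1, 2, 2, 2, 2, 0, 2, 1, 2, 2, 0, 2, 2, 1]⟩,
   ⟨4, [1], 2, [4, 1, 2, 4, 2, 2, 0, 2, 2, 1, 2, 0, 2, 2, 1, 2, 2, 0, 2, 1, 2]⟩,
   ⟨4, [4, 0, 0, 0, 2, 1], 2, [4, 0, 2, 4, 0, 2, 4, 0, 2, 1, 2, 0, 2, 2, 2, 1, 2, 2, 2, 0, 2, 1, 2, 0, 2, 2, 1, 2, 0, 2, 2, 2, 1, 2, 2]⟩,
   ⟨2, [4, 2, 1, 2], 1, [4, 2, 0, 2, 4, 0, 2, 1, 2, 2, 0, 2, 1, 2, 2, 2, 0, 2, 1, 2, 2, 0, 2, 2, 2, 1]⟩,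
   ⟨1, [4, 2, 4], 2, [4, 2, 4, 0, 2, 2, 2, 0, 2, 1, 2, 0, 2, 2, 1, 2, 2, 2, 2, 0, 2, 1, 2, 0, 2, 2, 2, 1, 2, 2, 0, 2, 1]⟩,
   ⟨2, [4, 2, 0, 2, 1], 2, [4, 2, 0, 2, 4, 0, 2, 2, 2, 2, 1, 2, 0, 2, 2, 2, 1, 2, 2, 2, 0, 2, 2, 1, 2, 2, 0, 2, 1, 2]⟩,
   ⟨2, [4, 0, 0, 2, 1], 2, [2, 4, 3, 4, 0, 2, 2, 2, 2, 1, 2, 2, 0, 2, 1, 2, 0, 2, 2, 2, 1, 2, 0, 2, 1, 2, 0, 2, 2, 1, 2, 2]⟩,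
   ⟨4, [], 2, [4, 2, 4, 0, 0, 0, 2, 2, 1, 2, 0, 2, 2, 1, 2, 2, 0, 2, 1, 2, 2, 2, 2, 0, 2, 1, 2, 2, 2, 0, 2, 2, 2, 1]⟩,
   ⟨2, [4, 3, 4, 2], 4, [4, 3, 4, 2, 4, 0, 0, 2, 1, 2, 0, 2, 2, 2, 1, 2, 2, 0, 2, 1, 2, 2, 0, 2, 1, 2, 2, 0, 2, 2, 2, 1, 2, 0, 2, 1]⟩,
   ⟨4, [4, 1, 2], 4, [1, 2, 4, 2, 4, 2, 2, 0, 2, 2, 1, 2, 0, 2, 1, 2, 0, 2, 2, 1, 2, 2, 2, 0, 2, 1, 2, 2, 0, 2, 1, 2]⟩,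
   ⟨1, [4, 2, 4, 2, 4], 5, []⟩,
   ⟨5, [4], 2, [4, 2, 2, 4, 1, 2, 2, 0, 2, 2, 1, 2, 0, 2, 2, 1, 2, 2, 0, 2, 1, 2]⟩,
   ⟨5, [4, 2, 2, 2, 2, 2], 4, [4, 0, 0, 2, 2, 0, 2, 1, 2, 0, 2, 2, 2, 2, 2, 1, 2, 0, 2, 1, 2, 0, 2, 1]⟩,
   ⟨2, [4, 2, 4, 0, 0, 2, 1], 5, [2, 4, 3, 1, 2, 2, 4, 2, 2, 0, 2, 2, 1, 2, 0, 2, 2, 1, 2, 0, 2, 1, 2, 2, 0, 2, 2, 1, 2, 2, 0, 2, 1, 2, 0, 2, 2, 1]⟩,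
   ⟨4, [4, 0, 2], 5, [1, 2, 4, 0, 2, 4, 0, 2, 1, 2, 2, 2, 2, 0, 2, 2, 1, 2, 0, 2, 1, 2, 0, 2, 1, 2, 2, 2, 2]⟩,
   ⟨5, [4, 2, 2, 2, 2, 2, 1], 4, [4, 2, 4, 3, 4, 2, 0, 2, 2, 1, 2, 0, 2, 1, 2, 0, 2, 2, 1, 2, 2, 0, 2, 2, 2, 1, 2, 2, 2]⟩,
   ⟨4, [4, 2], 5, [2, 4, 2, 4, 0, 2, 0, 2, 1, 2, 2, 0, 2, 2, 2, 1, 2, 0, 2, 1, 2, 0, 2, 2, 2, 1, 2, 0, 2, 1, 2, 0, 2, 1]⟩,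
   ⟨5, [4, 0], 5, [3, 3, 4, 2, 2, 4, 1, 2, 2, 2, 2, 0, 2, 2, 2, 2, 1, 2, 2, 0, 2, 1, 2, 2]⟩,
   ⟨5, [4, 0, 0, 2, 2, 2, 2, 2], 5, [3, 1, 2, 4, 2, 4, 0, 2, 2, 2, 1, 2, 0, 2, 2, 1, 2, 2, 0, 2, 2, 1, 2, 0, 2, 1, 2, 2, 0, 2, 2, 2, 1, 2, 2, 2]⟩,
   ⟨5, [0, 0], 1, [4, 2, 4, 2, 4, 0, 0, 0, 2, 2, 2, 2, 1, 2, 0, 2, 1, 2, 0, 2, 2, 1, 2, 0, 2, 2, 1, 2, 0, 2, 1, 2, 0, 2, 1, 2]⟩,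
   ⟨5, [1], 5, [0, 0, 2, 0, 2, 2, 2, 2, 1, 2, 2, 0, 2, 2, 1, 2, 2, 0, 2, 1, 2, 0, 2, 1, 2, 2]⟩,
   ⟨5, [0], 5, [2, 2, 2, 1, 2, 0, 2, 1, 2, 2, 2, 0, 2, 1]⟩,
   ⟨5, [], 5, [0, 2, 2, 2, 0, 2, 1, 2, 0, 2, 1, 2, 0, 2, 1]⟩,
   ⟨5, [4, 2, 2, 4], 5, [2, 2, 4, 2, 1, 2, 4, 0, 2, 1, 2, 0, 2, 2, 1, 2, 0, 2, 2, 1, 2, 2, 0, 2, 2, 1, 2, 0, 2, 2, 2, 2, 1]⟩,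
   ⟨3, [4, 0, 0, 2, 1], 6, []⟩,
   ⟨6, [4], 2, [4, 0, 0, 2, 2, 1, 2, 0, 2, 2, 2, 2, 1, 2, 2, 0, 2, 2, 1, 2, 2, 0, 2, 1, 2, 0, 2, 2, 1, 2, 2, 0, 2, 1]⟩,
   ⟨5, [4, 2, 4], 6, [2, 4, 3, 1, 2, 2, 4, 2, 0, 2, 2, 2, 1, 2, 0, 2, 2, 2, 2, 1, 2, 0, 2, 2, 2, 2, 1]⟩,
   ⟨6, [4, 2], 4, [4, 0, 2, 2, 4, 0, 2, 2, 2, 2, 2, 0, 2, 2, 1, 2, 0, 2, 1]⟩,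
   ⟨4, [4, 0, 0, 2, 1], 6, [2, 4, 1, 2, 4, 0, 2, 0, 2, 2, 1, 2, 0, 2, 1, 2, 0, 2, 1, 2, 2, 2, 0, 2, 1, 2, 2, 2, 2, 0, 2, 1, 2, 2]⟩,
   ⟨2, [4, 2, 4, 2], 6, [2, 4, 3, 1, 2, 2, 4, 0, 2, 1, 2, 2, 2, 2, 0, 2, 2, 1, 2, 2, 0, 2, 1, 2, 0, 2, 1, 2, 0, 2, 2, 1, 2, 2, 0, 2, 1]⟩,
   ⟨6, [4, 0, 0, 0, 2, 1], 5, [4, 2, 4, 3, 4, 0, 0, 2, 1, 2, 2, 0, 2, 1, 2, 2, 0, 2, 1, 2, 0, 2, 1, 2, 2, 0, 2, 1, 2, 2, 2, 0, 2, 1]⟩,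
   ⟨4, [4, 0, 0, 2], 6, [3, 3, 4, 2, 2, 4, 2, 0, 2, 2, 1, 2, 0, 2, 1, 2, 0, 2, 2, 2, 2, 2, 1, 2, 2, 0, 2, 1, 2, 2, 2, 2, 0, 2, 1]⟩,
   ⟨6, [4, 0, 2, 1], 6, [4, 1, 2, 4, 0, 2, 1, 2, 0, 2, 2, 1, 2, 2, 2, 0, 2, 1, 2, 2, 0, 2, 2, 2, 2, 1, 2, 2, 0, 2, 1, 2, 2]⟩,
   ⟨6, [4, 0], 2, [2, 4, 3, 4, 2, 2, 1, 2, 0, 2, 2, 2, 1, 2, 2, 0, 2, 1, 2, 2, 0, 2, 1, 2, 2, 0, 2, 2, 2, 1, 2, 0, 2, 1]⟩,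
   ⟨5, [4, 0, 0, 2, 2, 2, 2, 2, 1], 6, [2, 4, 3, 4, 2, 1, 2, 0, 2, 2, 2, 1, 2, 0, 2, 2, 1, 2, 2, 0, 2, 1, 2, 0, 2, 1, 2, 2, 2, 0, 2, 1]⟩,
   ⟨4, [4, 1], 6, [0, 0, 2, 0, 2, 2, 2, 2, 2, 1]⟩,
   ⟨5, [4, 1], 6, [3, 3, 4, 2, 2, 4, 0, 0, 0, 2, 2, 2, 2, 1, 2, 0, 2, 2, 1, 2, 0, 2, 2, 1, 2, 0, 2, 1, 2]⟩,
   ⟨2, [4, 0, 0, 2], 6, [4, 2, 4, 0, 2, 2, 2, 2, 0, 2, 2, 1, 2, 2, 2, 2]⟩,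
   ⟨6, [4, 2, 1], 2, [2, 2, 4, 3, 4, 0, 2, 2, 2, 1, 2, 2, 0, 2, 1, 2, 0, 2, 2, 1, 2, 0, 2, 1, 2, 0, 2, 1, 2, 2, 0, 2, 2, 1]⟩,
   ⟨4, [4, 2, 4], 6, [1, 2, 4, 0, 2, 4, 0, 2, 2, 0, 2, 1, 2, 2, 0, 2, 2, 1, 2, 0, 2, 1, 2, 0, 2, 2, 2, 1, 2, 2, 0, 2, 1, 2, 2]⟩,
   ⟨5, [4, 0, 0], 6, [2, 4, 2, 4, 1, 2, 2, 0, 2, 1, 2, 2, 0, 2, 1, 2, 0, 2, 1, 2, 2, 0, 2, 1, 2, 2, 0, 2, 1]⟩,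
   ⟨2, [4, 2, 1], 6, [2, 4, 3, 4, 0, 0, 2, 0, 2, 1, 2, 0, 2, 2, 1, 2, 0, 2, 2, 2, 2, 1, 2]⟩,
   ⟨6, [4, 0, 0], 4, [4, 0, 0, 2, 1, 2, 2, 0, 2, 2, 2, 1, 2, 0, 2, 1, 2, 2, 2, 0, 2, 1, 2, 0, 2, 1, 2]⟩,
   ⟨4, [4, 0, 0], 6, [0, 0, 2, 2, 1, 2, 0, 2, 2, 2, 1, 2, 2, 2, 0, 2, 2, 2, 2, 1]⟩,
   ⟨6, [4, 0, 0, 2, 1], 5, [2, 1, 2, 4, 0, 2, 2, 2, 1, 2, 2, 2, 0, 2, 1, 2, 0, 2, 2, 1, 2, 0, 2, 2, 2, 2, 1, 2]⟩,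
   ⟨5, [4, 2, 4, 0], 6, [3, 4, 1, 3, 0, 3, 3, 4, 0, 0, 2, 1, 2, 0, 2, 2, 1, 2, 0, 2, 1, 2, 2, 0, 2, 1, 2, 2, 2, 0, 2, 1, 2, 2, 2, 2, 0, 2, 1, 2]⟩,
   ⟨6, [4, 0, 2], 6, [1, 2, 4, 0, 2, 4, 2, 0, 2, 1, 2, 2, 0, 2, 1, 2, 0, 2, 1, 2, 2, 0, 2, 2, 1, 2, 0, 2, 2, 2, 1]⟩,
   ⟨6, [4, 0, 0, 0, 2, 2, 2, 2, 2, 1], 6, [3, 4, 2, 4, 0, 2, 0, 2, 1, 2, 0, 2, 2, 1, 2, 2, 0, 2, 2, 2, 1, 2, 2, 2, 2, 0, 2, 1, 2, 2, 0, 2, 1]⟩,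
   ⟨6, [4, 1], 6, [4, 0, 2, 4, 2, 0, 2, 2, 1, 2, 0, 2, 1, 2, 2, 2, 0, 2, 2, 2, 1, 2, 0, 2, 1, 2, 2, 2, 2]⟩,
   ⟨6, [4, 0, 0, 2, 2, 2, 2, 2, 1], 6, [3, 4, 2, 4, 2, 2, 2, 2, 2, 0, 2, 1, 2, 0, 2, 1, 2, 2, 2, 0, 2, 1, 2]⟩]⟩

def events9 : List Ev := [
  .scan 6 [2, 0, 2, 2, 2, 4, 0, 2, 0, 2, 1, 2] 0 0 5 [] [⟨71, [0, 1, 1, 1, 0, 1, 0, 1], []⟩, ⟨69, [0, 1, 1, 1, 0, 1, 0, 1], [27, 28, 28, 28, 28]⟩] (.edge [0, 1, 1, 1, 0, 1, 0, 1] [] [4, 0, 2, 2, 2, 2, 2, 1] [3, 4, 2, 4, 0, 0, 2, 2, 2, 2, 2, 0, 2, 1, 2, 0, 2, 1, 2, 2, 2, 0, 2, 1, 2]),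
  .scan 2 [4, 2] 1 0 1 [⟨59, [], []⟩] [⟨55, [1, 0, 0, 0, 0, 0], [8, 10, 9, 10, 11, 10]⟩] (.loop [4, 2, 4, 3, 4, 0, 2, 1, 2, 0, 2, 2, 2, 2, 1, 2]),
  .scan 3 [4, 0, 0, 2, 1] 1 0 0 [⟨46, [], [16]⟩] [] (.edge [] [] [0, 0] [4, 0, 0, 2, 1]),
  .scan 4 [4] 1 0 0 [⟨65, [], []⟩] [] (.edge [1, 0, 0, 0, 0, 0] [28, 27, 29, 27, 29, 27] [1] [0, 2, 4, 0, 2, 2, 2, 2, 2, 0, 2, 1, 2, 2, 2, 2, 2]),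
  .scan 4 [4, 0] 1 0 0 [⟨57, [], []⟩] [] (.edge [0, 1, 1, 1, 1, 1] [] [] [2, 4, 0, 2, 2, 2, 2, 2, 0, 2, 1, 2, 2, 2, 2, 2]),
  .scan 4 [4, 2] 1 0 0 [⟨53, [], []⟩] [] (.edge [0, 1, 0, 0, 1, 0, 0, 1, 0, 1, 0, 0, 1, 0, 0] [27, 28, 27, 28, 27] [4, 0, 2, 4, 0] [4, 2, 4, 3, 4, 0, 2, 0, 2, 1, 2, 2, 0, 2, 1, 2, 2, 2, 0, 2, 1, 2, 2, 0, 2, 1, 2, 2, 0, 2, 1, 2, 0, 2, 1, 2, 0, 2, 1]),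
  .scan 5 [4, 2, 2, 2, 2, 2, 1] 1 0 0 [⟨56, [], []⟩] [] (.edge [0, 0, 1, 1, 0, 0, 1, 1, 0] [27, 28, 28] [4, 2, 4, 0] [2, 4, 1, 2, 2, 0, 2, 2, 1, 2, 2, 0, 2, 2, 1, 2, 2, 0, 2, 2, 2, 2, 2, 1]),
  .scan 5 [4, 2, 4, 1] 1 0 0 [⟨67, [], []⟩] [] (.edge [0, 0, 1, 1, 0, 0, 0, 1, 0, 1, 0, 0, 1, 0, 0] [27, 28, 27] [4, 1, 2, 4] [2, 2, 4, 3, 4, 0, 2, 2, 2, 0, 2, 1, 2, 2, 0, 2, 2, 1, 2, 2, 2, 0, 2, 1, 2, 0, 2, 1, 2, 2, 2, 2]),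
  .scan 5 [4, 2, 2, 4] 1 0 0 [⟨48, [1, 1, 0, 1, 1, 1, 0, 0, 1, 0, 1, 1, 0, 1, 0, 1, 0, 0, 0], [25, 25, 24]⟩] [] (.edge [0, 1, 1, 1, 0, 1, 0, 0, 0, 1, 0, 0, 1, 0, 0, 1] [27, 28, 29, 29, 27] [4, 2, 4, 0, 0] [4, 0, 2, 4, 0, 0, 2, 1, 2, 2, 0, 2, 1, 2, 2, 0, 2, 1, 2, 2, 2, 0, 2, 1, 2, 2]),
  .scan 4 [4] 2 0 1 [⟨57, [], []⟩] [⟨74, [1, 0, 0, 0, 0, 0], []⟩] (.edge [1, 0, 0, 0, 0, 0] [] [0] [1]),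
  .scan 5 [4, 2, 4, 1] 2 0 1 [⟨48, [0, 1, 0, 0, 0, 1, 1, 1, 0, 0, 0, 1, 1, 1, 0, 1], [25, 26, 26, 25, 24]⟩] [⟨78, [0, 0, 1, 1, 0, 0, 0, 1, 0, 1, 0, 0, 1, 0, 0], []⟩] (.edge [0, 0, 1, 0, 0, 1, 1, 1, 0, 0, 1, 0, 1, 1, 0, 0] [27, 28, 29, 29, 27] [4, 0, 2, 4] [2, 4, 1, 2, 4, 0, 2, 1, 2, 2, 0, 2, 1, 2, 2, 0, 2, 2, 1, 2, 2, 0, 2, 2, 1, 2, 0, 2, 2, 1, 2, 2]),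
  .scan 2 [2, 2, 4, 2, 4, 2, 4, 2, 4, 2, 0, 2, 1, 2, 2, 0, 2, 1, 2, 0, 2, 2, 2, 1, 2, 2, 0, 2, 2, 1, 2] 0 0 3 [⟨51, [0, 1, 0, 1, 1, 1, 0, 0], []⟩] [⟨60, [0, 0, 0, 0, 1, 1, 1, 0, 0, 1, 1, 0, 0], [10, 10, 11, 7, 9, 7, 7]⟩] (.edge [1, 0, 0, 0, 1, 0, 1, 1, 1, 0, 1, 1, 0, 1, 0] [29, 29, 28, 29] [4, 2, 4, 0, 0, 2, 1] [4, 3, 0, 3, 0, 3, 3, 4, 0, 2, 2, 2, 0, 2, 2, 1, 2, 0, 2, 2, 1, 2, 0, 2, 2, 2, 2, 1, 2, 2, 0, 2, 1, 2, 2, 2])]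

def state9 : Know := ⟨[(0, [0]), (0, [1]), (0, [2]), (0, [3]), (0, [4]), (1, [0, 2, 1]), (1, [2]), (2, [2, 2, 2, 2, 0, 2, 2, 1, 2, 2, 2, 2]), (2, [2, 2, 2, 0, 2, 2, 2, 1, 2, 2, 2]), (2, [0, 2, 1, 2, 0, 2, 1, 2, 0, 2, 1, 2, 2, 0, 2, 1]), (2, [0, 2, 2, 1, 2, 2, 2, 0, 2, 2, 1, 2, 0, 2, 1, 2, 0, 2, 2, 1, 2, 2, 2]), (2, [4, 1]), (3, [0, 2, 1, 2, 0, 2, 2, 2, 2, 2, 1, 2, 0, 2, 1, 2, 0, 2, 2, 2, 1, 2, 0, 2, 1, 2, 2]), (3, [0, 2, 2, 2, 1, 2, 2, 2, 2, 0, 2, 1, 2, 0, 2, 1, 2, 2, 2]), (3, [0, 2, 1, 2, 0, 2, 1, 2, 0, 2, 1, 2, 2, 0, 2, 1]), (3, [0, 2, 2, 2, 2, 2, 1, 2, 2, 0, 2, 1, 2]), (3, [0, 0]), (3, [4]), (4, [2, 2, 0, 2, 2,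 1, 2, 0, 2, 1, 2, 0, 2, 2, 2, 2, 1]), (4, [2, 0, 2, 1, 2, 0, 2, 2, 2, 1, 2, 2, 2, 0, 2, 2, 2, 2, 1]), (4, [4, 2, 4, 3, 4, 1, 2, 2, 0, 2, 1, 2, 2, 2, 0, 2, 2, 1, 2, 0, 2, 2, 1, 2, 0, 2, 2, 1, 2, 2, 2, 0, 2, 1, 2]), (4, [2, 4, 1, 2, 0, 2, 2, 1, 2, 0, 2, 1, 2, 2, 2, 0, 2, 2, 2, 2, 1, 2, 2, 0, 2, 1]), (3, [3, 4, 2, 4, 0, 2, 1, 2, 0, 2, 1, 2, 0, 2, 2, 2, 2, 2, 1, 2]), (5, [2, 2, 0, 2, 2, 1, 2, 2, 2, 0, 2, 2, 1, 2, 0, 2, 1, 2, 0, 2, 1, 2, 2, 2, 2]), (5, [2, 2, 0, 2, 1, 2, 0, 2, 2, 1, 2, 0, 2, 2, 2, 1, 2]), (5, [2, 2, 0, 2, 2, 1, 2, 0, 2, 1, 2, 2, 0, 2, 1, 2, 2, 0, 2, 1, 2, 2, 2, 0, 2, 1, 2]), (5, [4, 2, 4, 2, 4, 0, 2, 2,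 1, 2, 0, 2, 2, 1, 2, 2, 0, 2, 1, 2, 0, 2, 2, 1, 2, 2, 2, 0, 2, 2, 1, 2, 0, 2, 1]), (6, [2, 2, 2, 0, 2, 1, 2, 2, 0, 2, 2, 2, 2, 2, 1, 2, 2, 0, 2, 1, 2, 2]), (6, [0, 2, 1, 2, 2, 0, 2, 2, 2, 1, 2, 2, 2, 2, 0, 2, 1, 2, 2, 2, 0, 2, 1]), (6, [4, 2, 4, 3, 4, 0, 2, 1, 2, 0, 2, 2, 2, 2, 1, 2])], [⟨0, [], 1, []⟩,
   ⟨1, [0, 0], 0, []⟩,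
   ⟨1, [1], 1, [0, 0]⟩,
   ⟨1, [0], 1, [1]⟩,
   ⟨1, [], 1, [0]⟩,
   ⟨1, [4], 1, [4, 0, 0]⟩,
   ⟨1, [4, 0], 2, []⟩,
   ⟨2, [0, 0], 1, [4, 1]⟩,
   ⟨2, [1], 1, [4]⟩,
   ⟨1, [4, 0, 0], 2, [0]⟩,
   ⟨2, [], 2, [0, 0]⟩,
   ⟨1, [4, 1], 3, []⟩,
   ⟨3, [], 1, [4, 0]⟩,
   ⟨2, [0], 3, [0]⟩,
   ⟨3, [0], 2, [1]⟩,
   ⟨1, [4, 2, 4, 0], 4, []⟩,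
   ⟨4, [4], 3, [4, 2]⟩,
   ⟨4, [0, 0], 1, [4, 2, 4, 2, 2, 1, 2, 0, 2, 1, 2, 2, 0, 2, 2, 2, 1, 2, 0, 2, 2, 2, 2, 2, 1, 2, 2, 0, 2, 2, 1, 2]⟩,
   ⟨3, [4, 2], 4, [4, 0, 0]⟩,
   ⟨4, [0], 4, [1, 2, 2, 2, 0, 2, 2, 1, 2, 0, 2, 1, 2, 0, 2, 1, 2, 2, 2]⟩,
   ⟨4, [4, 0], 4, [4, 1]⟩,
   ⟨2, [4, 2], 4, [4, 0, 0, 2, 0, 2, 2, 1, 2, 2, 0, 2, 1, 2, 0, 2, 2, 1, 2, 2, 0, 2, 2, 1, 2, 2, 2]⟩,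
   ⟨2, [4, 0, 0, 2, 1, 2], 4, [4, 0, 0, 0, 2, 1, 2, 2, 2, 2, 0, 2, 1, 2, 2, 0, 2, 2, 1]⟩,
   ⟨4, [1], 2, [4, 1, 2, 4, 2, 2, 0, 2, 2, 1, 2, 0, 2, 2, 1, 2, 2, 0, 2, 1, 2]⟩,
   ⟨4, [4, 0, 0, 0, 2, 1], 2, [4, 0, 2, 4, 0, 2, 4, 0, 2, 1, 2, 0, 2, 2, 2, 1, 2, 2, 2, 0, 2, 1, 2, 0, 2, 2, 1, 2, 0, 2, 2, 2, 1, 2, 2]⟩,
   ⟨2, [4, 2, 1, 2], 1, [4, 2, 0, 2, 4, 0, 2, 1, 2, 2, 0, 2, 1, 2, 2, 2, 0, 2, 1, 2, 2, 0, 2, 2, 2, 1]⟩,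
   ⟨1, [4, 2, 4], 2, [4, 2, 4, 0, 2, 2, 2, 0, 2, 1, 2, 0, 2, 2, 1, 2, 2, 2, 2, 0, 2, 1, 2, 0, 2, 2, 2, 1, 2, 2, 0, 2, 1]⟩,
   ⟨2, [4, 2, 0, 2, 1], 2, [4, 2, 0, 2, 4, 0, 2, 2, 2, 2, 1, 2, 0, 2, 2, 2, 1, 2, 2, 2, 0, 2, 2, 1, 2, 2, 0, 2, 1, 2]⟩,
   ⟨2, [4, 0, 0, 2, 1], 2, [2, 4, 3, 4, 0, 2, 2, 2, 2, 1, 2, 2, 0, 2, 1, 2, 0, 2, 2, 2, 1, 2, 0, 2, 1, 2, 0, 2, 2, 1, 2, 2]⟩,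
   ⟨4, [], 2, [4, 2, 4, 0, 0, 0, 2, 2, 1, 2, 0, 2, 2, 1, 2, 2, 0, 2, 1, 2, 2, 2, 2, 0, 2, 1, 2, 2, 2, 0, 2, 2, 2, 1]⟩,
   ⟨2, [4, 3, 4, 2], 4, [4, 3, 4, 2, 4, 0, 0, 2, 1, 2, 0, 2, 2, 2, 1, 2, 2, 0, 2, 1, 2, 2, 0, 2, 1, 2, 2, 0, 2, 2, 2, 1, 2, 0, 2, 1]⟩,
   ⟨4, [4, 1, 2], 4, [1, 2, 4, 2, 4, 2, 2, 0, 2, 2, 1, 2, 0, 2, 1, 2, 0, 2, 2, 1, 2, 2, 2, 0, 2, 1, 2, 2, 0, 2, 1, 2]⟩,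
   ⟨1, [4, 2, 4, 2, 4], 5, []⟩,
   ⟨5, [4], 2, [4, 2, 2, 4, 1, 2, 2, 0, 2, 2, 1, 2, 0, 2, 2, 1, 2, 2, 0, 2, 1, 2]⟩,
   ⟨5, [4, 2, 2, 2, 2, 2], 4, [4, 0, 0, 2, 2, 0, 2, 1, 2, 0, 2, 2, 2, 2, 2, 1, 2, 0, 2, 1, 2, 0, 2, 1]⟩,
   ⟨2, [4, 2, 4, 0, 0, 2, 1], 5, [2, 4, 3, 1, 2, 2, 4, 2, 2, 0, 2, 2, 1, 2, 0, 2, 2, 1, 2, 0, 2, 1, 2, 2, 0, 2, 2, 1, 2, 2, 0, 2, 1, 2, 0, 2, 2, 1]⟩,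
   ⟨4, [4, 0, 2], 5, [1, 2, 4, 0, 2, 4, 0, 2, 1, 2, 2, 2, 2, 0, 2, 2, 1, 2, 0, 2, 1, 2, 0, 2, 1, 2, 2, 2, 2]⟩,
   ⟨5, [4, 2, 2, 2, 2, 2, 1], 4, [4, 2, 4, 3, 4, 2, 0, 2, 2, 1, 2, 0, 2, 1, 2, 0, 2, 2, 1, 2, 2, 0, 2, 2, 2, 1, 2, 2, 2]⟩,
   ⟨4, [4, 2], 5, [2, 4, 2, 4, 0, 2, 0, 2, 1, 2, 2, 0, 2, 2, 2, 1, 2, 0, 2, 1, 2, 0, 2, 2, 2, 1, 2, 0, 2, 1, 2, 0, 2, 1]⟩,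
   ⟨5, [4, 0], 5, [3, 3, 4, 2, 2, 4, 1, 2, 2, 2, 2, 0, 2, 2, 2, 2, 1, 2, 2, 0, 2, 1, 2, 2]⟩,
   ⟨5, [4, 0, 0, 2, 2, 2, 2, 2], 5, [3, 1, 2, 4, 2, 4, 0, 2, 2, 2, 1, 2, 0, 2, 2, 1, 2, 2, 0, 2, 2, 1, 2, 0, 2, 1, 2, 2, 0, 2, 2, 2, 1, 2, 2, 2]⟩,
   ⟨5, [0, 0], 1, [4, 2, 4, 2, 4, 0, 0, 0, 2, 2, 2, 2, 1, 2, 0, 2, 1, 2, 0, 2, 2, 1, 2, 0, 2, 2, 1, 2, 0, 2, 1, 2, 0, 2, 1, 2]⟩,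
   ⟨5, [1], 5, [0, 0, 2, 0, 2, 2, 2, 2, 1, 2, 2, 0, 2, 2, 1, 2, 2, 0, 2, 1, 2, 0, 2, 1, 2, 2]⟩,
   ⟨5, [0], 5, [2, 2, 2, 1, 2, 0, 2, 1, 2, 2, 2, 0, 2, 1]⟩,
   ⟨5, [], 5, [0, 2, 2, 2, 0, 2, 1, 2, 0, 2, 1, 2, 0, 2, 1]⟩,
   ⟨5, [4, 2, 2, 4], 5, [2, 2, 4, 2, 1, 2, 4, 0, 2, 1, 2, 0, 2, 2, 1, 2, 0, 2, 2, 1, 2, 2, 0, 2, 2, 1, 2, 0, 2, 2, 2, 2, 1]⟩,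
   ⟨3, [4, 0, 0, 2, 1], 6, []⟩,
   ⟨6, [4], 2, [4, 0, 0, 2, 2, 1, 2, 0, 2, 2, 2, 2, 1, 2, 2, 0, 2, 2, 1, 2, 2, 0, 2, 1, 2, 0, 2, 2, 1, 2, 2, 0, 2, 1]⟩,
   ⟨5, [4, 2, 4], 6, [2, 4, 3, 1, 2, 2, 4, 2, 0, 2, 2, 2, 1, 2, 0, 2, 2, 2, 2, 1, 2, 0, 2, 2, 2, 2, 1]⟩,
   ⟨6, [4, 2], 4, [4, 0, 2, 2, 4, 0, 2, 2, 2, 2, 2, 0, 2, 2, 1, 2, 0, 2, 1]⟩,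
   ⟨4, [4, 0, 0, 2, 1], 6, [2, 4, 1, 2, 4, 0, 2, 0, 2, 2, 1, 2, 0, 2, 1, 2, 0, 2, 1, 2, 2, 2, 0, 2, 1, 2, 2, 2, 2, 0, 2, 1, 2, 2]⟩,
   ⟨2, [4, 2, 4, 2], 6, [2, 4, 3, 1, 2, 2, 4, 0, 2, 1, 2, 2, 2, 2, 0, 2, 2, 1, 2, 2, 0, 2, 1, 2, 0, 2, 1, 2, 0, 2, 2, 1, 2, 2, 0, 2, 1]⟩,
   ⟨6, [4, 0, 0, 0, 2, 1], 5, [4, 2, 4, 3, 4, 0, 0, 2, 1, 2, 2, 0, 2, 1, 2, 2, 0, 2, 1, 2, 0, 2, 1, 2, 2, 0, 2, 1, 2, 2, 2, 0, 2, 1]⟩,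
   ⟨4, [4, 0, 0, 2], 6, [3, 3, 4, 2, 2, 4, 2, 0, 2, 2, 1, 2, 0, 2, 1, 2, 0, 2, 2, 2, 2, 2, 1, 2, 2, 0, 2, 1, 2, 2, 2, 2, 0, 2, 1]⟩,
   ⟨6, [4, 0, 2, 1], 6, [4, 1, 2, 4, 0, 2, 1, 2, 0, 2, 2, 1, 2, 2, 2, 0, 2, 1, 2, 2, 0, 2, 2, 2, 2, 1, 2, 2, 0, 2, 1, 2, 2]⟩,
   ⟨6, [4, 0], 2, [2, 4, 3, 4, 2, 2, 1, 2, 0, 2, 2, 2, 1, 2, 2, 0, 2, 1, 2, 2, 0, 2, 1, 2, 2, 0, 2, 2, 2, 1, 2, 0, 2, 1]⟩,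
   ⟨5, [4, 0, 0, 2, 2, 2, 2, 2, 1], 6, [2, 4, 3, 4, 2, 1, 2, 0, 2, 2, 2, 1, 2, 0, 2, 2, 1, 2, 2, 0, 2, 1, 2, 0, 2, 1, 2, 2, 2, 0, 2, 1]⟩,
   ⟨4, [4, 1], 6, [0, 0, 2, 0, 2, 2, 2, 2, 2, 1]⟩,
   ⟨5, [4, 1], 6, [3, 3, 4, 2, 2, 4, 0, 0, 0, 2, 2, 2, 2, 1, 2, 0, 2, 2, 1, 2, 0, 2, 2, 1, 2, 0, 2, 1, 2]⟩,
   ⟨2, [4, 0, 0, 2], 6, [4, 2, 4, 0, 2, 2, 2, 2, 0, 2, 2, 1, 2, 2, 2, 2]⟩,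
   ⟨6, [4, 2, 1], 2, [2, 2, 4, 3, 4, 0, 2, 2, 2, 1, 2, 2, 0, 2, 1, 2, 0, 2, 2, 1, 2, 0, 2, 1, 2, 0, 2, 1, 2, 2, 0, 2, 2, 1]⟩,
   ⟨4, [4, 2, 4], 6, [1, 2, 4, 0, 2, 4, 0, 2, 2, 0, 2, 1, 2, 2, 0, 2, 2, 1, 2, 0, 2, 1, 2, 0, 2, 2, 2, 1, 2, 2, 0, 2, 1, 2, 2]⟩,
   ⟨5, [4, 0, 0], 6, [2, 4, 2, 4, 1, 2, 2, 0, 2, 1, 2, 2, 0, 2, 1, 2, 0, 2, 1, 2, 2, 0, 2, 1, 2, 2, 0, 2, 1]⟩,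
   ⟨2, [4, 2, 1], 6, [2, 4, 3, 4, 0, 0, 2, 0, 2, 1, 2, 0, 2, 2, 1, 2, 0, 2, 2, 2, 2, 1, 2]⟩,
   ⟨6, [4, 0, 0], 4, [4, 0, 0, 2, 1, 2, 2, 0, 2, 2, 2, 1, 2, 0, 2, 1, 2, 2, 2, 0, 2, 1, 2, 0, 2, 1, 2]⟩,
   ⟨4, [4, 0, 0], 6, [0, 0, 2, 2, 1, 2, 0, 2, 2, 2, 1, 2, 2, 2, 0, 2, 2, 2, 2, 1]⟩,
   ⟨6, [4, 0, 0, 2, 1], 5, [2, 1, 2, 4, 0, 2, 2, 2, 1, 2, 2, 2, 0, 2, 1, 2, 0, 2, 2, 1, 2, 0, 2, 2, 2, 2, 1, 2]⟩,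
   ⟨5, [4, 2, 4, 0], 6, [3, 4, 1, 3, 0, 3, 3, 4, 0, 0, 2, 1, 2, 0, 2, 2, 1, 2, 0, 2, 1, 2, 2, 0, 2, 1, 2, 2, 2, 0, 2, 1, 2, 2, 2, 2, 0, 2, 1, 2]⟩,
   ⟨6, [4, 0, 2], 6, [1, 2, 4, 0, 2, 4, 2, 0, 2, 1, 2, 2, 0, 2, 1, 2, 0, 2, 1, 2, 2, 0, 2, 2, 1, 2, 0, 2, 2, 2, 1]⟩,
   ⟨6, [4, 0, 0, 0, 2, 2, 2, 2, 2, 1], 6, [3, 4, 2, 4, 0, 2, 0, 2, 1, 2, 0, 2, 2, 1, 2, 2, 0, 2, 2, 2, 1, 2, 2, 2, 2, 0, 2, 1, 2, 2, 0, 2, 1]⟩,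
   ⟨6, [4, 1], 6, [4, 0, 2, 4, 2, 0, 2, 2, 1, 2, 0, 2, 1, 2, 2, 2, 0, 2, 2, 2, 1, 2, 0, 2, 1, 2, 2, 2, 2]⟩,
   ⟨6, [4, 0, 0, 2, 2, 2, 2, 2, 1], 6, [3, 4, 2, 4, 2, 2, 2, 2, 2, 0, 2, 1, 2, 0, 2, 1, 2, 2, 2, 0, 2, 1, 2]⟩,
   ⟨6, [4, 0, 2, 2, 2, 2, 2, 1], 6, [3, 4, 2, 4, 0, 0, 2, 2, 2, 2, 2, 0, 2, 1, 2, 0, 2, 1, 2, 2, 2, 0, 2, 1, 2]⟩,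
   ⟨6, [0, 0], 3, [4, 0, 0, 2, 1]⟩,
   ⟨6, [1], 4, [0, 2, 4, 0, 2, 2, 2, 2, 2, 0, 2, 1, 2, 2, 2, 2, 2]⟩,
   ⟨6, [], 4, [2, 4, 0, 2, 2, 2, 2, 2, 0, 2, 1, 2, 2, 2, 2, 2]⟩,
   ⟨6, [4, 0, 2, 4, 0], 4, [4, 2, 4, 3, 4, 0, 2, 0, 2, 1, 2, 2, 0, 2, 1, 2, 2, 2, 0, 2, 1, 2, 2, 0, 2, 1, 2, 2, 0, 2, 1, 2, 0, 2, 1, 2, 0, 2, 1]⟩,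
   ⟨6, [4, 2, 4, 0], 5, [2, 4, 1, 2, 2, 0, 2, 2, 1, 2, 2, 0, 2, 2, 1, 2, 2, 0, 2, 2, 2, 2, 2, 1]⟩,
   ⟨6, [4, 1, 2, 4], 5, [2, 2, 4, 3, 4, 0, 2, 2, 2, 0, 2, 1, 2, 2, 0, 2, 2, 1, 2, 2, 2, 0, 2, 1, 2, 0, 2, 1, 2, 2, 2, 2]⟩,
   ⟨6, [4, 2, 4, 0, 0], 5, [4, 0, 2, 4, 0, 0, 2, 1, 2, 2, 0, 2, 1, 2, 2, 0, 2, 1, 2, 2, 2, 0, 2, 1, 2, 2]⟩,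
   ⟨6, [0], 6, [1]⟩,
   ⟨6, [4, 0, 2, 4], 6, [2, 4, 1, 2, 4, 0, 2, 1, 2, 2, 0, 2, 1, 2, 2, 0, 2, 2, 1, 2, 2, 0, 2, 2, 1, 2, 0, 2, 2, 1, 2, 2]⟩,
   ⟨6, [4, 2, 4, 0, 0, 2, 1], 6, [4, 3, 0, 3, 0, 3, 3, 4, 0, 2, 2, 2, 0, 2, 2, 1, 2, 0, 2, 2, 1, 2, 0, 2, 2, 2, 2, 1, 2, 2, 0, 2, 1, 2, 2, 2]⟩]⟩

def events10 : List Ev := [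
  .scan 2 [3, 4, 2, 2, 4, 2, 0, 2, 1, 2, 0, 2, 1, 2, 0, 2, 2, 1, 2, 0, 2, 2, 2, 2, 2, 1, 2, 2] 0 0 3 [⟨51, [0, 0, 1, 0, 1, 0, 1, 1], []⟩] [⟨60, [1, 0, 0, 0, 1, 1, 1, 0, 1, 1, 0, 0], [10, 11, 8, 9, 7, 7, 10]⟩] (.edge [0, 1, 0, 1, 1, 0, 0, 1, 0, 1, 0, 0, 1, 1, 1, 1, 0, 0, 0, 0] [27, 28, 29, 28] [4, 2, 4, 2, 1] [1, 3, 4, 0, 2, 2, 2, 4, 0, 2, 2, 2, 2, 0, 2, 1, 2, 0, 2, 2, 2, 1, 2, 2, 0, 2, 1, 2, 2, 0, 2, 1, 2, 2, 2, 2, 2]),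
  .scan 4 [0, 2, 2, 4, 0, 2, 4] 0 0 3 [⟨61, [1, 1], []⟩] [⟨76, [0, 1, 0, 0, 1, 1, 0, 0, 0, 1, 0, 0], [21, 19, 21, 18, 19, 21, 20]⟩] (.edge [0, 1, 0, 1, 1, 1, 0, 0, 1, 1, 1, 1, 0, 0, 1, 0] [29, 27, 29, 27, 29] [4, 2, 4, 2] [0, 2, 4, 2, 0, 2, 4, 2, 2, 4, 0, 2, 2, 2, 1, 2, 2, 0, 2, 2, 2, 2, 2, 1, 2, 0, 2, 1, 2, 0, 2, 2, 2, 1, 2, 0, 2, 1]),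
  .scan 4 [1, 2, 4, 3, 3, 4, 0, 2, 0, 2, 2, 2, 2, 2, 1, 2, 2, 0, 2, 1, 2, 0, 2, 2, 1] 0 0 3 [⟨61, [0, 0, 0, 0, 1, 1, 1, 1], []⟩] [⟨76, [1, 0, 0, 1, 1, 0, 0, 0, 0, 1, 1, 0, 1, 1, 1], [18, 21, 18, 21, 21, 20, 18, 19]⟩] (.edge [0, 0, 1, 0, 1, 1, 1, 1, 1, 0, 0, 1, 1, 0, 1, 0, 1, 0] [27, 28, 28, 29] [4, 2, 4, 2, 2] [2, 4, 2, 2, 4, 1, 2, 4, 0, 2, 1, 2, 0, 2, 2, 2, 1, 2, 0, 2, 1, 2, 0, 2, 2, 1, 2, 0, 2, 2, 1, 2, 2, 2, 0, 2, 2, 1, 2, 2]),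
  .root 6 [4, 2, 2, 2, 2, 2, 1] 7,
  .comm 86 [1, 0, 1, 0, 1, 1, 1, 1, 0, 1, 1, 0, 0, 1, 1, 0, 1, 0, 0] [27, 29, 29, 28, 28, 27] [0, 2, 1, 2, 0, 2, 1, 2, 0, 2, 2, 2, 2, 1, 2, 0, 2, 2, 1, 2, 2, 0, 2, 2, 1, 2, 0, 2, 1, 2, 2],
  .comm 86 [1, 0, 1, 1, 1, 0, 0, 0, 1, 1, 1, 0, 0, 0, 1, 0] [28, 29, 29, 27, 28] [0, 2, 1, 2, 0, 2, 2, 2, 1, 2, 2, 2, 0, 2, 2, 2, 1, 2, 2, 2, 0, 2, 1, 2],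
  .scan 6 [4, 0, 0, 2, 2, 2, 2, 2, 1] 2 0 0 [⟨72, [], []⟩, ⟨86, [], [27, 29, 28, 28, 28]⟩] [] (.edge [] [] [] [4, 0, 0, 2, 2, 2, 2, 2, 1]),
  .scan 6 [4, 0, 2, 2, 2, 2, 2, 1] 2 0 2 [⟨86, [], []⟩] [⟨71, [], [27, 29, 28, 28, 28]⟩, ⟨87, [], []⟩] (.loop [0]),
  .scan 6 [2, 0, 2, 0, 2, 2, 4, 0, 0, 2, 2, 2, 2, 1, 2, 2, 0, 2, 2, 2, 2, 1] 0 0 2 [⟨70, [0, 1, 1, 1, 0, 0, 0, 0], []⟩, ⟨86, [0, 1, 1, 1, 0, 0, 0, 0, 1], [28, 27, 29, 29]⟩] [⟨87, [0, 1, 0, 0], [28, 28, 29, 28, 28, 28]⟩] (.loop [3, 4, 0, 2, 1, 2, 0, 2, 2, 2, 2, 1, 2, 0, 2, 1]),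
  .scan 6 [4, 2, 2, 2, 2, 2, 1] 0 0 4 [⟨86, [], []⟩] [⟨80, [0, 0, 0, 0, 0], []⟩, ⟨87, [], []⟩] (.loop [4]),
  .scan 6 [0, 3, 0, 3, 3, 4, 0, 0, 2, 2, 1, 2, 0, 2, 2, 1, 2, 0, 2, 2, 1, 2, 0, 2, 1] 0 0 4 [⟨86, [0, 0, 1, 0, 0, 1, 0, 0], []⟩] [⟨82, [1, 1, 0, 0, 0, 0, 1, 1, 0, 1, 0, 1, 1, 1, 0, 1], [28, 27, 29, 29, 28, 27]⟩, ⟨87, [1, 1, 0, 1, 1, 0, 0, 0], [28, 28, 29, 27, 29, 27]⟩] (.loop [1, 2, 0, 2, 2, 4, 0, 2, 1, 2, 2, 0, 2, 2, 2, 1, 2, 0, 2, 2, 1, 2, 2, 2]),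
  .scan 7 [2, 2, 2, 0, 2, 1, 2, 0, 2, 2, 1, 2] 0 0 1 [⟨87, [0, 0, 0, 1, 0, 1, 1, 0], []⟩, ⟨86, [0, 0, 0, 1, 0, 1, 1, 0], [29, 27, 29, 29]⟩] [] (.edge [1, 1] [35, 31, 35, 35, 35, 33, 30] [4, 3, 4, 2, 2, 2, 2, 2] [0, 3, 3, 4, 0, 2, 2, 2, 0, 2, 1, 2, 0, 2, 2, 1, 2])]

def state10 : Know := ⟨[(0, [0]), (0, [1]), (0, [2]), (0, [3]), (0, [4]), (1, [0, 2, 1]), (1, [2]), (2, [2, 2, 2, 2, 0, 2, 2, 1, 2, 2, 2, 2]), (2, [2, 2, 2, 0, 2, 2, 2, 1, 2, 2, 2]), (2, [0, 2, 1, 2, 0, 2, 1, 2, 0, 2, 1, 2, 2, 0, 2, 1]), (2, [0, 2, 2, 1, 2, 2, 2, 0, 2, 2, 1, 2, 0, 2, 1, 2, 0, 2, 2, 1, 2, 2, 2]), (2, [4, 1]), (3, [0, 2, 1, 2, 0, 2, 2, 2, 2,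 2, 1, 2, 0, 2, 1, 2, 0, 2, 2, 2, 1, 2, 0, 2, 1, 2, 2]), (3, [0, 2, 2, 2, 1, 2, 2, 2, 2, 0, 2, 1, 2, 0, 2, 1, 2, 2, 2]), (3, [0, 2, 1, 2, 0, 2, 1, 2, 0, 2, 1, 2, 2, 0, 2, 1]), (3, [0, 2, 2, 2, 2, 2, 1, 2, 2, 0, 2, 1, 2]), (3, [0, 0]), (3, [4]), (4, [2, 2, 0, 2, 2, 1, 2, 0, 2, 1, 2, 0, 2, 2, 2, 2, 1]), (4, [2, 0, 2, 1, 2, 0, 2, 2, 2, 1, 2, 2, 2, 0, 2, 2, 2, 2, 1]), (4, [4, 2, 4, 3, 4, 1, 2, 2, 0, 2, 1, 2, 2, 2, 0, 2, 2, 1, 2, 0, 2, 2, 1, 2, 0, 2, 2, 1, 2, 2, 2, 0, 2, 1, 2]), (4, [2, 4, 1, 2, 0, 2, 2, 1, 2, 0, 2, 1, 2, 2, 2, 0, 2, 2, 2, 2, 1, 2, 2, 0, 2, 1]), (3, [3, 4, 2, 4, 0, 2, 1, 2, 0, 2, 1, 2, 0, 2, 2, 2, 2, 2, 1,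 2]), (5, [2, 2, 0, 2, 2, 1, 2, 2, 2, 0, 2, 2, 1, 2, 0, 2, 1, 2, 0, 2, 1, 2, 2, 2, 2]), (5, [2, 2, 0, 2, 1, 2, 0, 2, 2, 1, 2, 0, 2, 2, 2, 1, 2]), (5, [2, 2, 0, 2, 2, 1, 2, 0, 2, 1, 2, 2, 0, 2, 1, 2, 2, 0, 2, 1, 2, 2, 2, 0, 2, 1, 2]), (5, [4, 2, 4, 2, 4, 0, 2, 2, 1, 2, 0, 2, 2, 1, 2, 2, 0, 2, 1, 2, 0, 2, 2, 1, 2, 2, 2, 0, 2, 2, 1, 2, 0, 2, 1]), (6, [2, 2, 2, 0, 2, 1, 2, 2, 0, 2, 2, 2, 2, 2, 1, 2, 2, 0, 2, 1, 2, 2]), (6, [0, 2, 1, 2, 2, 0, 2, 2, 2, 1, 2, 2, 2, 2, 0, 2, 1, 2, 2, 2, 0, 2, 1]), (6, [4, 2, 4, 3, 4, 0, 2, 1, 2, 0, 2, 2, 2, 2, 1, 2]), (7, [0, 2, 1, 2, 0, 2, 1, 2, 0, 2, 2, 2, 2, 1, 2, 0, 2, 2, 1, 2, 2, 0, 2,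 2, 1, 2, 0, 2, 1, 2, 2]), (7, [0, 2, 1, 2, 0, 2, 2, 2, 1, 2, 2, 2, 0, 2, 2, 2, 1, 2, 2, 2, 0, 2, 1, 2]), (7, [0]), (7, [3, 4, 0, 2, 1, 2, 0, 2, 2, 2, 2, 1, 2, 0, 2, 1]), (7, [4]), (7, [1, 2, 0, 2, 2, 4, 0, 2, 1, 2, 2, 0, 2, 2, 2, 1, 2, 0, 2, 2, 1, 2, 2, 2])], [⟨0, [], 1, []⟩,
   ⟨1, [0, 0], 0, []⟩,
   ⟨1, [1], 1, [0, 0]⟩,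
   ⟨1, [0], 1, [1]⟩,
   ⟨1, [], 1, [0]⟩,
   ⟨1, [4], 1, [4, 0, 0]⟩,
   ⟨1, [4, 0], 2, []⟩,
   ⟨2, [0, 0], 1, [4, 1]⟩,
   ⟨2, [1], 1, [4]⟩,
   ⟨1, [4, 0, 0], 2, [0]⟩,
   ⟨2, [], 2, [0, 0]⟩,
   ⟨1, [4, 1], 3, []⟩,
   ⟨3, [], 1, [4, 0]⟩,
   ⟨2, [0], 3, [0]⟩,
   ⟨3, [0], 2, [1]⟩,
   ⟨1, [4, 2, 4, 0], 4, []⟩,
   ⟨4, [4], 3, [4, 2]⟩,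
   ⟨4, [0, 0], 1, [4, 2, 4, 2, 2, 1, 2, 0, 2, 1, 2, 2, 0, 2, 2, 2, 1, 2, 0, 2, 2, 2, 2, 2, 1, 2, 2, 0, 2, 2, 1, 2]⟩,
   ⟨3, [4, 2], 4, [4, 0, 0]⟩,
   ⟨4, [0], 4, [1, 2, 2, 2, 0, 2, 2, 1, 2, 0, 2, 1, 2, 0, 2, 1, 2, 2, 2]⟩,
   ⟨4, [4, 0], 4, [4, 1]⟩,
   ⟨2, [4, 2], 4, [4, 0, 0, 2, 0, 2, 2, 1, 2, 2, 0, 2, 1, 2, 0, 2, 2, 1, 2, 2, 0, 2, 2, 1, 2, 2, 2]⟩,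
   ⟨2, [4, 0, 0, 2, 1, 2], 4, [4, 0, 0, 0, 2, 1, 2, 2, 2, 2, 0, 2, 1, 2, 2, 0, 2, 2, 1]⟩,
   ⟨4, [1], 2, [4, 1, 2, 4, 2, 2, 0, 2, 2, 1, 2, 0, 2, 2, 1, 2, 2, 0, 2, 1, 2]⟩,
   ⟨4, [4, 0, 0, 0, 2, 1], 2, [4, 0, 2, 4, 0, 2, 4, 0, 2, 1, 2, 0, 2, 2, 2, 1, 2, 2, 2, 0, 2, 1, 2, 0, 2, 2, 1, 2, 0, 2, 2, 2, 1, 2, 2]⟩,
   ⟨2, [4, 2, 1, 2], 1, [4, 2, 0, 2, 4, 0, 2, 1, 2, 2, 0, 2, 1, 2, 2, 2, 0, 2, 1, 2, 2, 0, 2, 2, 2, 1]⟩,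
   ⟨1, [4, 2, 4], 2, [4, 2, 4, 0, 2, 2, 2, 0, 2, 1, 2, 0, 2, 2, 1, 2, 2, 2, 2, 0, 2, 1, 2, 0, 2, 2, 2, 1, 2, 2, 0, 2, 1]⟩,
   ⟨2, [4, 2, 0, 2, 1], 2, [4, 2, 0, 2, 4, 0, 2, 2, 2, 2, 1, 2, 0, 2, 2, 2, 1, 2, 2, 2, 0, 2, 2, 1, 2, 2, 0, 2, 1, 2]⟩,
   ⟨2, [4, 0, 0, 2, 1], 2, [2, 4, 3, 4, 0, 2, 2, 2, 2, 1, 2, 2, 0, 2, 1, 2, 0, 2, 2, 2, 1, 2, 0, 2, 1, 2, 0, 2, 2, 1, 2, 2]⟩,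
   ⟨4, [], 2, [4, 2, 4, 0, 0, 0, 2, 2, 1, 2, 0, 2, 2, 1, 2, 2, 0, 2, 1, 2, 2, 2, 2, 0, 2, 1, 2, 2, 2, 0, 2, 2, 2, 1]⟩,
   ⟨2, [4, 3, 4, 2], 4, [4, 3, 4, 2, 4, 0, 0, 2, 1, 2, 0, 2, 2, 2, 1, 2, 2, 0, 2, 1, 2, 2, 0, 2, 1, 2, 2, 0, 2, 2, 2, 1, 2, 0, 2, 1]⟩,
   ⟨4, [4, 1, 2], 4, [1, 2, 4, 2, 4, 2, 2, 0, 2, 2, 1, 2, 0, 2, 1, 2, 0, 2, 2, 1, 2, 2, 2, 0, 2, 1, 2, 2, 0, 2, 1, 2]⟩,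
   ⟨1, [4, 2, 4, 2, 4], 5, []⟩,
   ⟨5, [4], 2, [4, 2, 2, 4, 1, 2, 2, 0, 2, 2, 1, 2, 0, 2, 2, 1, 2, 2, 0, 2, 1, 2]⟩,
   ⟨5, [4, 2, 2, 2, 2, 2], 4, [4, 0, 0, 2, 2, 0, 2, 1, 2, 0, 2, 2, 2, 2, 2, 1, 2, 0, 2, 1, 2, 0, 2, 1]⟩,
   ⟨2, [4, 2, 4, 0, 0, 2, 1], 5, [2, 4, 3, 1, 2, 2, 4, 2, 2, 0, 2, 2, 1, 2, 0, 2, 2, 1, 2, 0, 2, 1, 2, 2, 0, 2, 2, 1, 2, 2, 0, 2, 1, 2, 0, 2, 2, 1]⟩,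
   ⟨4, [4, 0, 2], 5, [1, 2, 4, 0, 2, 4, 0, 2, 1, 2, 2, 2, 2, 0, 2, 2, 1, 2, 0, 2, 1, 2, 0, 2, 1, 2, 2, 2, 2]⟩,
   ⟨5, [4, 2, 2, 2, 2, 2, 1], 4, [4, 2, 4, 3, 4, 2, 0, 2, 2, 1, 2, 0, 2, 1, 2, 0, 2, 2, 1, 2, 2, 0, 2, 2, 2, 1, 2, 2, 2]⟩,
   ⟨4, [4, 2], 5, [2, 4, 2, 4, 0, 2, 0, 2, 1, 2, 2, 0, 2, 2, 2, 1, 2, 0, 2, 1, 2, 0, 2, 2, 2, 1, 2, 0, 2, 1, 2, 0, 2, 1]⟩,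
   ⟨5, [4, 0], 5, [3, 3, 4, 2, 2, 4, 1, 2, 2, 2, 2, 0, 2, 2, 2, 2, 1, 2, 2, 0, 2, 1, 2, 2]⟩,
   ⟨5, [4, 0, 0, 2, 2, 2, 2, 2], 5, [3, 1, 2, 4, 2, 4, 0, 2, 2, 2, 1, 2, 0, 2, 2, 1, 2, 2, 0, 2, 2, 1, 2, 0, 2, 1, 2, 2, 0, 2, 2, 2, 1, 2, 2, 2]⟩,
   ⟨5, [0, 0], 1, [4, 2, 4, 2, 4, 0, 0, 0, 2, 2, 2, 2, 1, 2, 0, 2, 1, 2, 0, 2, 2, 1, 2, 0, 2, 2, 1, 2, 0, 2, 1, 2, 0, 2, 1, 2]⟩,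
   ⟨5, [1], 5, [0, 0, 2, 0, 2, 2, 2, 2, 1, 2, 2, 0, 2, 2, 1, 2, 2, 0, 2, 1, 2, 0, 2, 1, 2, 2]⟩,
   ⟨5, [0], 5, [2, 2, 2, 1, 2, 0, 2, 1, 2, 2, 2, 0, 2, 1]⟩,
   ⟨5, [], 5, [0, 2, 2, 2, 0, 2, 1, 2, 0, 2, 1, 2, 0, 2, 1]⟩,
   ⟨5, [4, 2, 2, 4], 5, [2, 2, 4, 2, 1, 2, 4, 0, 2, 1, 2, 0, 2, 2, 1, 2, 0, 2, 2, 1, 2, 2, 0, 2, 2, 1, 2, 0, 2, 2, 2, 2, 1]⟩,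
   ⟨3, [4, 0, 0, 2, 1], 6, []⟩,
   ⟨6, [4], 2, [4, 0, 0, 2, 2, 1, 2, 0, 2, 2, 2, 2, 1, 2, 2, 0, 2, 2, 1, 2, 2, 0, 2, 1, 2, 0, 2, 2, 1, 2, 2, 0, 2, 1]⟩,
   ⟨5, [4, 2, 4], 6, [2, 4, 3, 1, 2, 2, 4, 2, 0, 2, 2, 2, 1, 2, 0, 2, 2, 2, 2, 1, 2, 0, 2, 2, 2, 2, 1]⟩,
   ⟨6, [4, 2], 4, [4, 0, 2, 2, 4, 0, 2, 2, 2, 2, 2, 0, 2, 2, 1, 2, 0, 2, 1]⟩,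
   ⟨4, [4, 0, 0, 2, 1], 6, [2, 4, 1, 2, 4, 0, 2, 0, 2, 2, 1, 2, 0, 2, 1, 2, 0, 2, 1, 2, 2, 2, 0, 2, 1, 2, 2, 2, 2, 0, 2, 1, 2, 2]⟩,
   ⟨2, [4, 2, 4, 2], 6, [2, 4, 3, 1, 2, 2, 4, 0, 2, 1, 2, 2, 2, 2, 0, 2, 2, 1, 2, 2, 0, 2, 1, 2, 0, 2, 1, 2, 0, 2, 2, 1, 2, 2, 0, 2, 1]⟩,
   ⟨6, [4, 0, 0, 0, 2, 1], 5, [4, 2, 4, 3, 4, 0, 0, 2, 1, 2, 2, 0, 2, 1, 2, 2, 0, 2, 1, 2, 0, 2, 1, 2, 2, 0, 2, 1, 2, 2, 2, 0, 2, 1]⟩,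
   ⟨4, [4, 0, 0, 2], 6, [3, 3, 4, 2, 2, 4, 2, 0, 2, 2, 1, 2, 0, 2, 1, 2, 0, 2, 2, 2, 2, 2, 1, 2, 2, 0, 2, 1, 2, 2, 2, 2, 0, 2, 1]⟩,
   ⟨6, [4, 0, 2, 1], 6, [4, 1, 2, 4, 0, 2, 1, 2, 0, 2, 2, 1, 2, 2, 2, 0, 2, 1, 2, 2, 0, 2, 2, 2, 2, 1, 2, 2, 0, 2, 1, 2, 2]⟩,
   ⟨6, [4, 0], 2, [2, 4, 3, 4, 2, 2, 1, 2, 0, 2, 2, 2, 1, 2, 2, 0, 2, 1, 2, 2, 0, 2, 1, 2, 2, 0, 2, 2, 2, 1, 2, 0, 2, 1]⟩,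
   ⟨5, [4, 0, 0, 2, 2, 2, 2, 2, 1], 6, [2, 4, 3, 4, 2, 1, 2, 0, 2, 2, 2, 1, 2, 0, 2, 2, 1, 2, 2, 0, 2, 1, 2, 0, 2, 1, 2, 2, 2, 0, 2, 1]⟩,
   ⟨4, [4, 1], 6, [0, 0, 2, 0, 2, 2, 2, 2, 2, 1]⟩,
   ⟨5, [4, 1], 6, [3, 3, 4, 2, 2, 4, 0, 0, 0, 2, 2, 2, 2, 1, 2, 0, 2, 2, 1, 2, 0, 2, 2, 1, 2, 0, 2, 1, 2]⟩,
   ⟨2, [4, 0, 0, 2], 6, [4, 2, 4, 0, 2, 2, 2, 2, 0, 2, 2, 1, 2, 2, 2, 2]⟩,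
   ⟨6, [4, 2, 1], 2, [2, 2, 4, 3, 4, 0, 2, 2, 2, 1, 2, 2, 0, 2, 1, 2, 0, 2, 2, 1, 2, 0, 2, 1, 2, 0, 2, 1, 2, 2, 0, 2, 2, 1]⟩,
   ⟨4, [4, 2, 4], 6, [1, 2, 4, 0, 2, 4, 0, 2, 2, 0, 2, 1, 2, 2, 0, 2, 2, 1, 2, 0, 2, 1, 2, 0, 2, 2, 2, 1, 2, 2, 0, 2, 1, 2, 2]⟩,
   ⟨5, [4, 0, 0], 6, [2, 4, 2, 4, 1, 2, 2, 0, 2, 1, 2, 2, 0, 2, 1, 2, 0, 2, 1, 2, 2, 0, 2, 1, 2, 2, 0, 2, 1]⟩,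
   ⟨2, [4, 2, 1], 6, [2, 4, 3, 4, 0, 0, 2, 0, 2, 1, 2, 0, 2, 2, 1, 2, 0, 2, 2, 2, 2, 1, 2]⟩,
   ⟨6, [4, 0, 0], 4, [4, 0, 0, 2, 1, 2, 2, 0, 2, 2, 2, 1, 2, 0, 2, 1, 2, 2, 2, 0, 2, 1, 2, 0, 2, 1, 2]⟩,
   ⟨4, [4, 0, 0], 6, [0, 0, 2, 2, 1, 2, 0, 2, 2, 2, 1, 2, 2, 2, 0, 2, 2, 2, 2, 1]⟩,
   ⟨6, [4, 0, 0, 2, 1], 5, [2, 1, 2, 4, 0, 2, 2, 2, 1, 2, 2, 2, 0, 2, 1, 2, 0, 2, 2, 1, 2, 0, 2, 2, 2, 2, 1, 2]⟩,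
   ⟨5, [4, 2, 4, 0], 6, [3, 4, 1, 3, 0, 3, 3, 4, 0, 0, 2, 1, 2, 0, 2, 2, 1, 2, 0, 2, 1, 2, 2, 0, 2, 1, 2, 2, 2, 0, 2, 1, 2, 2, 2, 2, 0, 2, 1, 2]⟩,
   ⟨6, [4, 0, 2], 6, [1, 2, 4, 0, 2, 4, 2, 0, 2, 1, 2, 2, 0, 2, 1, 2, 0, 2, 1, 2, 2, 0, 2, 2, 1, 2, 0, 2, 2, 2, 1]⟩,
   ⟨6, [4, 0, 0, 0, 2, 2, 2, 2, 2, 1], 6, [3, 4, 2, 4, 0, 2, 0, 2, 1, 2, 0, 2, 2, 1, 2, 2, 0, 2, 2, 2, 1, 2, 2, 2, 2, 0, 2, 1, 2, 2, 0, 2, 1]⟩,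
   ⟨6, [4, 1], 6, [4, 0, 2, 4, 2, 0, 2, 2, 1, 2, 0, 2, 1, 2, 2, 2, 0, 2, 2, 2, 1, 2, 0, 2, 1, 2, 2, 2, 2]⟩,
   ⟨6, [4, 0, 0, 2, 2, 2, 2, 2, 1], 6, [3, 4, 2, 4, 2, 2, 2, 2, 2, 0, 2, 1, 2, 0, 2, 1, 2, 2, 2, 0, 2, 1, 2]⟩,
   ⟨6, [4, 0, 2, 2, 2, 2, 2, 1], 6, [3, 4, 2, 4, 0, 0, 2, 2, 2, 2, 2, 0, 2, 1, 2, 0, 2, 1, 2, 2, 2, 0, 2, 1, 2]⟩,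
   ⟨6, [0, 0], 3, [4, 0, 0, 2, 1]⟩,
   ⟨6, [1], 4, [0, 2, 4, 0, 2, 2, 2, 2, 2, 0, 2, 1, 2, 2, 2, 2, 2]⟩,
   ⟨6, [], 4, [2, 4, 0, 2, 2, 2, 2, 2, 0, 2, 1, 2, 2, 2, 2, 2]⟩,
   ⟨6, [4, 0, 2, 4, 0], 4, [4, 2, 4, 3, 4, 0, 2, 0, 2, 1, 2, 2, 0, 2, 1, 2, 2, 2, 0, 2, 1, 2, 2, 0, 2, 1, 2, 2, 0, 2, 1, 2, 0, 2, 1, 2, 0, 2, 1]⟩,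
   ⟨6, [4, 2, 4, 0], 5, [2, 4, 1, 2, 2, 0, 2, 2, 1, 2, 2, 0, 2, 2, 1, 2, 2, 0, 2, 2, 2, 2, 2, 1]⟩,
   ⟨6, [4, 1, 2, 4], 5, [2, 2, 4, 3, 4, 0, 2, 2, 2, 0, 2, 1, 2, 2, 0, 2, 2, 1, 2, 2, 2, 0, 2, 1, 2, 0, 2, 1, 2, 2, 2, 2]⟩,
   ⟨6, [4, 2, 4, 0, 0], 5, [4, 0, 2, 4, 0, 0, 2, 1, 2, 2, 0, 2, 1, 2, 2, 0, 2, 1, 2, 2, 2, 0, 2, 1, 2, 2]⟩,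
   ⟨6, [0], 6, [1]⟩,
   ⟨6, [4, 0, 2, 4], 6, [2, 4, 1, 2, 4, 0, 2, 1, 2, 2, 0, 2, 1, 2, 2, 0, 2, 2, 1, 2, 2, 0, 2, 2, 1, 2, 0, 2, 2, 1, 2, 2]⟩,
   ⟨6, [4, 2, 4, 0, 0, 2, 1], 6, [4, 3, 0, 3, 0, 3, 3, 4, 0, 2, 2, 2, 0, 2, 2, 1, 2, 0, 2, 2, 1, 2, 0, 2, 2, 2, 2, 1, 2, 2, 0, 2, 1, 2, 2, 2]⟩,
   ⟨6, [4, 2, 4, 2, 1], 6, [1, 3, 4, 0, 2, 2, 2, 4, 0, 2, 2, 2, 2, 0, 2, 1, 2, 0, 2, 2, 2, 1, 2, 2, 0, 2, 1, 2, 2, 0, 2, 1, 2, 2, 2, 2, 2]⟩,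
   ⟨6, [4, 2, 4, 2], 6, [0, 2, 4, 2, 0, 2, 4, 2, 2, 4, 0, 2, 2, 2, 1, 2, 2, 0, 2, 2, 2, 2, 2, 1, 2, 0, 2, 1, 2, 0, 2, 2, 2, 1, 2, 0, 2, 1]⟩,
   ⟨6, [4, 2, 4, 2, 2], 6, [2, 4, 2, 2, 4, 1, 2, 4, 0, 2, 1, 2, 0, 2, 2, 2, 1, 2, 0, 2, 1, 2, 0, 2, 2, 1, 2, 0, 2, 2, 1, 2, 2, 2, 0, 2, 2, 1, 2, 2]⟩,
   ⟨6, [4, 2, 2, 2, 2, 2, 1], 7, []⟩,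
   ⟨7, [], 6, [4, 0, 0, 2, 2, 2, 2, 2, 1]⟩,
   ⟨7, [4, 3, 4, 2, 2, 2, 2, 2], 7, [0, 3, 3, 4, 0, 2, 2, 2, 0, 2, 1, 2, 0, 2, 2, 1, 2]⟩]⟩

def events11 : List Ev := [
  .root 4 [4, 0, 2, 4] 8,
  .comm 89 [1, 0, 1, 0, 1, 1, 1, 0, 1, 0, 1, 1, 1, 1, 0, 0, 0] [21, 18, 21, 18, 21, 20, 18] [0, 2, 1, 2, 0, 2, 1, 2, 0, 2, 2, 2, 1, 2, 0, 2, 1, 2, 0, 2, 2, 2, 2, 1, 2, 2, 2],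
  .comm 89 [0, 1, 1, 1, 1, 0, 0, 0, 0, 1, 0, 1, 0, 0, 0, 1, 0] [18, 21, 20, 18, 19, 19] [2, 0, 2, 2, 2, 2, 1, 2, 2, 2, 2, 0, 2, 1, 2, 0, 2, 1, 2, 2, 2, 0, 2, 1, 2],
  .scan 4 [2, 1, 2, 0, 2, 2, 4, 0, 0, 2, 2, 2, 1, 2, 2, 0, 2, 2, 1, 2, 0, 2, 2, 1, 2, 2, 0, 2, 2, 2, 1, 2] 0 0 1 [⟨20, [0, 1, 0, 0, 1, 0, 0], [18, 19, 19, 18, 21, 20, 19]⟩, ⟨89, [0, 1, 0, 1, 1, 0, 1, 1, 0, 0, 0, 0, 0], [18, 19, 18, 21, 20, 18, 18]⟩] [] (.edge [0, 1, 0, 1, 1, 0, 1, 1, 0, 0, 0, 0, 0] [] [4] [4, 1, 2, 4]),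
  .scan 4 [2, 2, 4, 1] 0 0 3 [⟨57, [0, 0], []⟩] [⟨90, [1, 1, 0, 1, 1, 1, 1, 0, 1, 1, 1, 0, 0, 0, 1, 0, 1], [18, 18, 21, 20, 19, 18, 18]⟩] (.edge [0, 1, 0, 0, 0, 0, 1, 0, 1, 1, 0, 0, 1, 1, 0] [28, 29, 28, 29, 27] [4, 0, 0, 2] [2, 4, 1, 2, 4, 0, 0, 2, 1, 2, 0, 2, 2, 1, 2, 2, 0, 2, 1, 2, 0, 2, 1, 2, 2, 0, 2, 1, 2, 2, 0, 2, 2, 1, 2, 2, 0, 2, 1]),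
  .scan 4 [3, 0, 2, 2, 4, 0, 0, 2, 2, 2, 2, 1, 2, 0, 2, 1, 2, 2, 2, 0, 2, 2, 1, 2, 0, 2, 1, 2] 0 0 3 [⟨38, [1, 0, 0, 0, 1, 1, 0, 1], []⟩] [⟨90, [0, 1, 0, 1, 1, 0, 0, 1, 1, 1, 0, 1, 0, 1, 0], [18, 19, 18, 21, 20, 19, 19]⟩] (.edge [1, 1, 0, 1, 0, 0, 1, 1, 0, 1, 1, 0, 1, 1, 1, 1, 1] [24, 23, 26, 24, 23] [4, 2, 4, 1] [4, 3, 1, 3, 0, 3, 3, 4, 0, 2, 1, 2, 0, 2, 2, 1, 2, 0, 2, 2, 2, 1, 2, 2, 2, 0, 2, 1]),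
  .scan 4 [2, 1, 2, 0, 2, 2, 4, 0, 2, 0, 2, 2, 1, 2, 0, 2, 2, 2, 2, 1, 2, 2, 2, 0, 2, 2, 2, 1, 2, 0, 2, 1, 2] 0 0 3 [⟨50, [1, 0, 1, 0, 0, 1, 0, 0], []⟩] [⟨90, [1, 1, 1, 1, 0, 1, 0, 0, 1, 1, 1, 1, 0, 0, 1, 1], [21, 19, 18, 21, 19, 18, 21, 20]⟩] (.edge [1, 0, 0, 0, 1, 1, 1, 1, 1, 0, 1, 1, 0] [28, 29, 28, 28, 28] [4, 2, 4] [4, 0, 2, 2, 4, 0, 2, 2, 2, 0, 2, 2, 1, 2, 2, 0, 2, 2, 2, 2, 2, 1, 2, 0, 2, 1, 2, 2, 0, 2, 2, 2, 1]),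
  .scan 4 [2, 4, 0, 2, 0, 2, 1, 2, 2, 2, 2, 0, 2, 1, 2] 0 0 2 [⟨36, [0, 1, 0, 1, 1, 1, 1, 0], []⟩, ⟨92, [0, 1, 0, 1, 1, 1, 1, 0, 1, 1, 0, 1, 0, 0, 0, 0], [25, 24, 26, 25, 23]⟩] [⟨90, [0, 1, 0, 1, 0, 0, 1, 0], [21, 21, 21, 21, 18]⟩] (.loop [4, 2, 4, 2, 4, 2, 4, 0, 0, 2, 1, 2, 2, 2, 0, 2, 1, 2, 0, 2, 1, 2, 2, 2, 0, 2, 1, 2, 2, 0, 2, 1]),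
  .scan 4 [4, 0, 2, 4, 2, 2, 4, 2, 4, 2, 0, 2, 1, 2, 2, 0, 2, 1, 2, 0, 2, 1, 2, 0, 2, 2, 1, 2, 2, 2, 2, 0, 2, 2, 1, 2, 2] 0 0 3 [⟨89, [0, 0, 0, 0, 1, 0, 1, 1], []⟩] [⟨34, [1, 1, 1, 0, 1, 0, 1, 1, 0, 0, 1, 0, 0, 0, 1], [21, 20, 18, 18, 19, 18]⟩] (.edge [0, 1, 0, 1, 1, 0, 1, 0, 1, 0, 0, 1, 1, 1, 0, 1] [38, 37, 36, 38, 36, 38, 37, 36] [4, 0, 0, 2, 1] [0, 3, 0, 3, 4, 0, 3, 3, 4, 0, 2, 2, 2, 1, 2, 2, 0, 2, 2, 1, 2, 2, 2, 0, 2, 1, 2, 2, 2, 2, 0, 2, 1, 2]),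
  .scan 4 [2, 4, 2, 0, 2, 2, 2, 4, 0, 2, 2, 2, 2, 2, 1, 2, 0, 2, 1, 2, 0, 2, 1, 2] 0 0 3 [⟨89, [0, 0, 1, 1, 1, 0, 1, 0], []⟩] [⟨49, [1, 0, 1, 1, 1, 0, 0, 0, 0, 1, 1, 0, 0, 1, 1], [19, 21, 18, 18, 19, 18, 18]⟩] (.edge [0, 0, 1, 1, 0, 0, 0, 1, 1, 1, 0, 0, 0, 1, 1, 0] [38, 37, 38, 38] [4, 2, 2, 2, 2, 2] [3, 4, 0, 2, 2, 4, 0, 0, 2, 2, 1, 2, 2, 0, 2, 2, 1, 2, 0, 2, 2, 2, 1, 2, 0, 2, 2, 1, 2, 0, 2, 2, 1, 2, 2, 2]),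
  .scan 5 [1, 3, 0, 2, 2, 2, 4, 0, 0, 2, 2, 2, 2, 2, 1] 0 0 3 [⟨56, [1, 1, 1, 1, 1, 0, 0, 0], []⟩] [⟨94, [1, 0, 0, 0, 1, 0, 0, 1, 0, 1, 0, 0, 1, 1, 1, 0, 0], [24, 24, 24, 24]⟩] (.edge [1, 1, 1, 1, 1, 0, 0, 1, 0, 0, 0, 0, 0] [28] [4, 1, 2] [1, 3, 4, 0, 3, 0, 3, 3, 4, 0, 2, 2, 1, 2, 2, 0, 2, 2, 1, 2, 2, 2, 0, 2, 2, 1, 2, 0, 2, 1, 2, 0, 2, 2, 1, 2, 2]),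
  .scan 8 [4, 2, 2, 2] 0 0 5 [] [⟨89, [0, 0, 0], []⟩, ⟨90, [1, 1, 1, 1, 1, 0, 0, 0, 0, 1, 1, 0, 0, 0], [20, 19, 18, 19, 18, 18]⟩] (.edge [] [] [4, 2, 2, 2] [1, 2, 4, 0, 2, 4, 0, 2, 1, 2, 2, 0, 2, 2, 2, 1, 2, 0, 2, 1, 2, 2, 2, 0, 2, 2, 1, 2, 0, 2, 2, 1, 2])]

def state11 : Know := ⟨[(0, [0]), (0, [1]), (0, [2]), (0, [3]), (0, [4]), (1, [0, 2, 1]), (1, [2]), (2, [2, 2, 2, 2, 0, 2, 2, 1, 2, 2, 2, 2]), (2, [2, 2, 2, 0, 2, 2, 2, 1, 2, 2, 2]), (2, [0, 2, 1, 2, 0, 2, 1, 2, 0, 2, 1, 2, 2, 0, 2, 1]), (2, [0, 2, 2, 1, 2, 2, 2, 0, 2, 2, 1, 2, 0, 2, 1, 2, 0, 2, 2, 1, 2, 2, 2]), (2, [4, 1]), (3, [0, 2, 1, 2, 0, 2, 2, 2, 2, 2, 1,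 2, 0, 2, 1, 2, 0, 2, 2, 2, 1, 2, 0, 2, 1, 2, 2]), (3, [0, 2, 2, 2, 1, 2, 2, 2, 2, 0, 2, 1, 2, 0, 2, 1, 2, 2, 2]), (3, [0, 2, 1, 2, 0, 2, 1, 2, 0, 2, 1, 2, 2, 0, 2, 1]), (3, [0, 2, 2, 2, 2, 2, 1, 2, 2, 0, 2, 1, 2]), (3, [0, 0]), (3, [4]), (4, [2, 2, 0, 2, 2, 1, 2, 0, 2, 1, 2, 0, 2, 2, 2, 2, 1]), (4, [2, 0, 2, 1, 2, 0, 2, 2, 2, 1, 2, 2, 2, 0, 2, 2, 2, 2, 1]), (4, [4, 2, 4, 3, 4, 1, 2, 2, 0, 2, 1, 2, 2, 2, 0, 2, 2, 1, 2, 0, 2, 2, 1, 2, 0, 2, 2, 1, 2, 2, 2, 0, 2, 1, 2]), (4, [2, 4, 1, 2, 0, 2, 2, 1, 2, 0, 2, 1, 2, 2, 2, 0, 2, 2, 2, 2, 1, 2, 2, 0, 2, 1]), (3, [3, 4, 2, 4, 0, 2, 1, 2, 0, 2, 1, 2, 0, 2, 2, 2, 2, 2, 1, 2]),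 (5, [2, 2, 0, 2, 2, 1, 2, 2, 2, 0, 2, 2, 1, 2, 0, 2, 1, 2, 0, 2, 1, 2, 2, 2, 2]), (5, [2, 2, 0, 2, 1, 2, 0, 2, 2, 1, 2, 0, 2, 2, 2, 1, 2]), (5, [2, 2, 0, 2, 2, 1, 2, 0, 2, 1, 2, 2, 0, 2, 1, 2, 2, 0, 2, 1, 2, 2, 2, 0, 2, 1, 2]), (5, [4, 2, 4, 2, 4, 0, 2, 2, 1, 2, 0, 2, 2, 1, 2, 2, 0, 2, 1, 2, 0, 2, 2, 1, 2, 2, 2, 0, 2, 2, 1, 2, 0, 2, 1]), (6, [2, 2, 2, 0, 2, 1, 2, 2, 0, 2, 2, 2, 2, 2, 1, 2, 2, 0, 2, 1, 2, 2]), (6, [0, 2, 1, 2, 2, 0, 2, 2, 2, 1, 2, 2, 2, 2, 0, 2, 1, 2, 2, 2, 0, 2, 1]), (6, [4, 2, 4, 3, 4, 0, 2, 1, 2, 0, 2, 2, 2, 2, 1, 2]), (7, [0, 2, 1, 2, 0, 2, 1, 2, 0, 2, 2, 2, 2, 1, 2, 0, 2, 2, 1, 2, 2, 0, 2, 2, 1,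 2, 0, 2, 1, 2, 2]), (7, [0, 2, 1, 2, 0, 2, 2, 2, 1, 2, 2, 2, 0, 2, 2, 2, 1, 2, 2, 2, 0, 2, 1, 2]), (7, [0]), (7, [3, 4, 0, 2, 1, 2, 0, 2, 2, 2, 2, 1, 2, 0, 2, 1]), (7, [4]), (7, [1, 2, 0, 2, 2, 4, 0, 2, 1, 2, 2, 0, 2, 2, 2, 1, 2, 0, 2, 2, 1, 2, 2, 2]), (8, [0, 2, 1, 2, 0, 2, 1, 2, 0, 2, 2, 2, 1, 2, 0, 2, 1, 2, 0, 2, 2, 2, 2, 1, 2, 2, 2]), (8, [2, 0, 2, 2, 2, 2, 1, 2, 2, 2, 2, 0, 2, 1, 2, 0, 2, 1, 2, 2, 2, 0, 2, 1, 2]), (8, [4, 2, 4, 2, 4, 2, 4, 0, 0, 2, 1, 2, 2, 2, 0, 2, 1, 2, 0, 2, 1, 2, 2, 2, 0, 2, 1, 2, 2, 0, 2, 1])], [⟨0, [], 1, []⟩,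
   ⟨1, [0, 0], 0, []⟩,
   ⟨1, [1], 1, [0, 0]⟩,
   ⟨1, [0], 1, [1]⟩,
   ⟨1, [], 1, [0]⟩,
   ⟨1, [4], 1, [4, 0, 0]⟩,
   ⟨1, [4, 0], 2, []⟩,
   ⟨2, [0, 0], 1, [4, 1]⟩,
   ⟨2, [1], 1, [4]⟩,
   ⟨1, [4, 0, 0], 2, [0]⟩,
   ⟨2, [], 2, [0, 0]⟩,
   ⟨1, [4, 1], 3, []⟩,
   ⟨3, [], 1, [4, 0]⟩,
   ⟨2, [0], 3, [0]⟩,
   ⟨3, [0], 2, [1]⟩,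
   ⟨1, [4, 2, 4, 0], 4, []⟩,
   ⟨4, [4], 3, [4, 2]⟩,
   ⟨4, [0, 0], 1, [4, 2, 4, 2, 2, 1, 2, 0, 2, 1, 2, 2, 0, 2, 2, 2, 1, 2, 0, 2, 2, 2, 2, 2, 1, 2, 2, 0, 2, 2, 1, 2]⟩,
   ⟨3, [4, 2], 4, [4, 0, 0]⟩,
   ⟨4, [0], 4, [1, 2, 2, 2, 0, 2, 2, 1, 2, 0, 2, 1, 2, 0, 2, 1, 2, 2, 2]⟩,
   ⟨4, [4, 0], 4, [4, 1]⟩,
   ⟨2, [4, 2], 4, [4, 0, 0, 2, 0, 2, 2, 1, 2, 2, 0, 2, 1, 2, 0, 2, 2, 1, 2, 2, 0, 2, 2, 1, 2, 2, 2]⟩,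
   ⟨2, [4, 0, 0, 2, 1, 2], 4, [4, 0, 0, 0, 2, 1, 2, 2, 2, 2, 0, 2, 1, 2, 2, 0, 2, 2, 1]⟩,
   ⟨4, [1], 2, [4, 1, 2, 4, 2, 2, 0, 2, 2, 1, 2, 0, 2, 2, 1, 2, 2, 0, 2, 1, 2]⟩,
   ⟨4, [4, 0, 0, 0, 2, 1], 2, [4, 0, 2, 4, 0, 2, 4, 0, 2, 1, 2, 0, 2, 2, 2, 1, 2, 2, 2, 0, 2, 1, 2, 0, 2, 2, 1, 2, 0, 2, 2, 2, 1, 2, 2]⟩,
   ⟨2, [4, 2, 1, 2], 1, [4, 2, 0, 2, 4, 0, 2, 1, 2, 2, 0, 2, 1, 2, 2, 2, 0, 2, 1, 2, 2, 0, 2, 2, 2, 1]⟩,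
   ⟨1, [4, 2, 4], 2, [4, 2, 4, 0, 2, 2, 2, 0, 2, 1, 2, 0, 2, 2, 1, 2, 2, 2, 2, 0, 2, 1, 2, 0, 2, 2, 2, 1, 2, 2, 0, 2, 1]⟩,
   ⟨2, [4, 2, 0, 2, 1], 2, [4, 2, 0, 2, 4, 0, 2, 2, 2, 2, 1, 2, 0, 2, 2, 2, 1, 2, 2, 2, 0, 2, 2, 1, 2, 2, 0, 2, 1, 2]⟩,
   ⟨2, [4, 0, 0, 2, 1], 2, [2, 4, 3, 4, 0, 2, 2, 2, 2, 1, 2, 2, 0, 2, 1, 2, 0, 2, 2, 2, 1, 2, 0, 2, 1, 2, 0, 2, 2, 1, 2, 2]⟩,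
   ⟨4, [], 2, [4, 2, 4, 0, 0, 0, 2, 2, 1, 2, 0, 2, 2, 1, 2, 2, 0, 2, 1, 2, 2, 2, 2, 0, 2, 1, 2, 2, 2, 0, 2, 2, 2, 1]⟩,
   ⟨2, [4, 3, 4, 2], 4, [4, 3, 4, 2, 4, 0, 0, 2, 1, 2, 0, 2, 2, 2, 1, 2, 2, 0, 2, 1, 2, 2, 0, 2, 1, 2, 2, 0, 2, 2, 2, 1, 2, 0, 2, 1]⟩,
   ⟨4, [4, 1, 2], 4, [1, 2, 4, 2, 4, 2, 2, 0, 2, 2, 1, 2, 0, 2, 1, 2, 0, 2, 2, 1, 2, 2, 2, 0, 2, 1, 2, 2, 0, 2, 1, 2]⟩,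
   ⟨1, [4, 2, 4, 2, 4], 5, []⟩,
   ⟨5, [4], 2, [4, 2, 2, 4, 1, 2, 2, 0, 2, 2, 1, 2, 0, 2, 2, 1, 2, 2, 0, 2, 1, 2]⟩,
   ⟨5, [4, 2, 2, 2, 2, 2], 4, [4, 0, 0, 2, 2, 0, 2, 1, 2, 0, 2, 2, 2, 2, 2, 1, 2, 0, 2, 1, 2, 0, 2, 1]⟩,
   ⟨2, [4, 2, 4, 0, 0, 2, 1], 5, [2, 4, 3, 1, 2, 2, 4, 2, 2, 0, 2, 2, 1, 2, 0, 2, 2, 1, 2, 0, 2, 1, 2, 2, 0, 2, 2, 1, 2, 2, 0, 2, 1, 2, 0, 2, 2, 1]⟩,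
   ⟨4, [4, 0, 2], 5, [1, 2, 4, 0, 2, 4, 0, 2, 1, 2, 2, 2, 2, 0, 2, 2, 1, 2, 0, 2, 1, 2, 0, 2, 1, 2, 2, 2, 2]⟩,
   ⟨5, [4, 2, 2, 2, 2, 2, 1], 4, [4, 2, 4, 3, 4, 2, 0, 2, 2, 1, 2, 0, 2, 1, 2, 0, 2, 2, 1, 2, 2, 0, 2, 2, 2, 1, 2, 2, 2]⟩,
   ⟨4, [4, 2], 5, [2, 4, 2, 4, 0, 2, 0, 2, 1, 2, 2, 0, 2, 2, 2, 1, 2, 0, 2, 1, 2, 0, 2, 2, 2, 1, 2, 0, 2, 1, 2, 0, 2, 1]⟩,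
   ⟨5, [4, 0], 5, [3, 3, 4, 2, 2, 4, 1, 2, 2, 2, 2, 0, 2, 2, 2, 2, 1, 2, 2, 0, 2, 1, 2, 2]⟩,
   ⟨5, [4, 0, 0, 2, 2, 2, 2, 2], 5, [3, 1, 2, 4, 2, 4, 0, 2, 2, 2, 1, 2, 0, 2, 2, 1, 2, 2, 0, 2, 2, 1, 2, 0, 2, 1, 2, 2, 0, 2, 2, 2, 1, 2, 2, 2]⟩,
   ⟨5, [0, 0], 1, [4, 2, 4, 2, 4, 0, 0, 0, 2, 2, 2, 2, 1, 2, 0, 2, 1, 2, 0, 2, 2, 1, 2, 0, 2, 2, 1, 2, 0, 2, 1, 2, 0, 2, 1, 2]⟩,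
   ⟨5, [1], 5, [0, 0, 2, 0, 2, 2, 2, 2, 1, 2, 2, 0, 2, 2, 1, 2, 2, 0, 2, 1, 2, 0, 2, 1, 2, 2]⟩,
   ⟨5, [0], 5, [2, 2, 2, 1, 2, 0, 2, 1, 2, 2, 2, 0, 2, 1]⟩,
   ⟨5, [], 5, [0, 2, 2, 2, 0, 2, 1, 2, 0, 2, 1, 2, 0, 2, 1]⟩,
   ⟨5, [4, 2, 2, 4], 5, [2, 2, 4, 2, 1, 2, 4, 0, 2, 1, 2, 0, 2, 2, 1, 2, 0, 2, 2, 1, 2, 2, 0, 2, 2, 1, 2, 0, 2, 2, 2, 2, 1]⟩,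
   ⟨3, [4, 0, 0, 2, 1], 6, []⟩,
   ⟨6, [4], 2, [4, 0, 0, 2, 2, 1, 2, 0, 2, 2, 2, 2, 1, 2, 2, 0, 2, 2, 1, 2, 2, 0, 2, 1, 2, 0, 2, 2, 1, 2, 2, 0, 2, 1]⟩,
   ⟨5, [4, 2, 4], 6, [2, 4, 3, 1, 2, 2, 4, 2, 0, 2, 2, 2, 1, 2, 0, 2, 2, 2, 2, 1, 2, 0, 2, 2, 2, 2, 1]⟩,
   ⟨6, [4, 2], 4, [4, 0, 2, 2, 4, 0, 2, 2, 2, 2, 2, 0, 2, 2, 1, 2, 0, 2, 1]⟩,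
   ⟨4, [4, 0, 0, 2, 1], 6, [2, 4, 1, 2, 4, 0, 2, 0, 2, 2, 1, 2, 0, 2, 1, 2, 0, 2, 1, 2, 2, 2, 0, 2, 1, 2, 2, 2, 2, 0, 2, 1, 2, 2]⟩,
   ⟨2, [4, 2, 4, 2], 6, [2, 4, 3, 1, 2, 2, 4, 0, 2, 1, 2, 2, 2, 2, 0, 2, 2, 1, 2, 2, 0, 2, 1, 2, 0, 2, 1, 2, 0, 2, 2, 1, 2, 2, 0, 2, 1]⟩,
   ⟨6, [4, 0, 0, 0, 2, 1], 5, [4, 2, 4, 3, 4, 0, 0, 2, 1, 2, 2, 0, 2, 1, 2, 2, 0, 2, 1, 2, 0, 2, 1, 2, 2, 0, 2, 1, 2, 2, 2, 0, 2, 1]⟩,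
   ⟨4, [4, 0, 0, 2], 6, [3, 3, 4, 2, 2, 4, 2, 0, 2, 2, 1, 2, 0, 2, 1, 2, 0, 2, 2, 2, 2, 2, 1, 2, 2, 0, 2, 1, 2, 2, 2, 2, 0, 2, 1]⟩,
   ⟨6, [4, 0, 2, 1], 6, [4, 1, 2, 4, 0, 2, 1, 2, 0, 2, 2, 1, 2, 2, 2, 0, 2, 1, 2, 2, 0, 2, 2, 2, 2, 1, 2, 2, 0, 2, 1, 2, 2]⟩,
   ⟨6, [4, 0], 2, [2, 4, 3, 4, 2, 2, 1, 2, 0, 2, 2, 2, 1, 2, 2, 0, 2, 1, 2, 2, 0, 2, 1, 2, 2, 0, 2, 2, 2, 1, 2, 0, 2, 1]⟩,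
   ⟨5, [4, 0, 0, 2, 2, 2, 2, 2, 1], 6, [2, 4, 3, 4, 2, 1, 2, 0, 2, 2, 2, 1, 2, 0, 2, 2, 1, 2, 2, 0, 2, 1, 2, 0, 2, 1, 2, 2, 2, 0, 2, 1]⟩,
   ⟨4, [4, 1], 6, [0, 0, 2, 0, 2, 2, 2, 2, 2, 1]⟩,
   ⟨5, [4, 1], 6, [3, 3, 4, 2, 2, 4, 0, 0, 0, 2, 2, 2, 2, 1, 2, 0, 2, 2, 1, 2, 0, 2, 2, 1, 2, 0, 2, 1, 2]⟩,
   ⟨2, [4, 0, 0, 2], 6, [4, 2, 4, 0, 2, 2, 2, 2, 0, 2, 2, 1, 2, 2, 2, 2]⟩,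
   ⟨6, [4, 2, 1], 2, [2, 2, 4, 3, 4, 0, 2, 2, 2, 1, 2, 2, 0, 2, 1, 2, 0, 2, 2, 1, 2, 0, 2, 1, 2, 0, 2, 1, 2, 2, 0, 2, 2, 1]⟩,
   ⟨4, [4, 2, 4], 6, [1, 2, 4, 0, 2, 4, 0, 2, 2, 0, 2, 1, 2, 2, 0, 2, 2, 1, 2, 0, 2, 1, 2, 0, 2, 2, 2, 1, 2, 2, 0, 2, 1, 2, 2]⟩,
   ⟨5, [4, 0, 0], 6, [2, 4, 2, 4, 1, 2, 2, 0, 2, 1, 2, 2, 0, 2, 1, 2, 0, 2, 1, 2, 2, 0, 2, 1, 2, 2, 0, 2, 1]⟩,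
   ⟨2, [4, 2, 1], 6, [2, 4, 3, 4, 0, 0, 2, 0, 2, 1, 2, 0, 2, 2, 1, 2, 0, 2, 2, 2, 2, 1, 2]⟩,
   ⟨6, [4, 0, 0], 4, [4, 0, 0, 2, 1, 2, 2, 0, 2, 2, 2, 1, 2, 0, 2, 1, 2, 2, 2, 0, 2, 1, 2, 0, 2, 1, 2]⟩,
   ⟨4, [4, 0, 0], 6, [0, 0, 2, 2, 1, 2, 0, 2, 2, 2, 1, 2, 2, 2, 0, 2, 2, 2, 2, 1]⟩,
   ⟨6, [4, 0, 0, 2, 1], 5, [2, 1, 2, 4, 0, 2, 2, 2, 1, 2, 2, 2, 0, 2, 1, 2, 0, 2, 2, 1, 2, 0, 2, 2, 2, 2, 1, 2]⟩,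
   ⟨5, [4, 2, 4, 0], 6, [3, 4, 1, 3, 0, 3, 3, 4, 0, 0, 2, 1, 2, 0, 2, 2, 1, 2, 0, 2, 1, 2, 2, 0, 2, 1, 2, 2, 2, 0, 2, 1, 2, 2, 2, 2, 0, 2, 1, 2]⟩,
   ⟨6, [4, 0, 2], 6, [1, 2, 4, 0, 2, 4, 2, 0, 2, 1, 2, 2, 0, 2, 1, 2, 0, 2, 1, 2, 2, 0, 2, 2, 1, 2, 0, 2, 2, 2, 1]⟩,
   ⟨6, [4, 0, 0, 0, 2, 2, 2, 2, 2, 1], 6, [3, 4, 2, 4, 0, 2, 0, 2, 1, 2, 0, 2, 2, 1, 2, 2, 0, 2, 2, 2, 1, 2, 2, 2, 2, 0, 2, 1, 2, 2, 0, 2, 1]⟩,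
   ⟨6, [4, 1], 6, [4, 0, 2, 4, 2, 0, 2, 2, 1, 2, 0, 2, 1, 2, 2, 2, 0, 2, 2, 2, 1, 2, 0, 2, 1, 2, 2, 2, 2]⟩,
   ⟨6, [4, 0, 0, 2, 2, 2, 2, 2, 1], 6, [3, 4, 2, 4, 2, 2, 2, 2, 2, 0, 2, 1, 2, 0, 2, 1, 2, 2, 2, 0, 2, 1, 2]⟩,
   ⟨6, [4, 0, 2, 2, 2, 2, 2, 1], 6, [3, 4, 2, 4, 0, 0, 2, 2, 2, 2, 2, 0, 2, 1, 2, 0, 2, 1, 2, 2, 2, 0, 2, 1, 2]⟩,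
   ⟨6, [0, 0], 3, [4, 0, 0, 2, 1]⟩,
   ⟨6, [1], 4, [0, 2, 4, 0, 2, 2, 2, 2, 2, 0, 2, 1, 2, 2, 2, 2, 2]⟩,
   ⟨6, [], 4, [2, 4, 0, 2, 2, 2, 2, 2, 0, 2, 1, 2, 2, 2, 2, 2]⟩,
   ⟨6, [4, 0, 2, 4, 0], 4, [4, 2, 4, 3, 4, 0, 2, 0, 2, 1, 2, 2, 0, 2, 1, 2, 2, 2, 0, 2, 1, 2, 2, 0, 2, 1, 2, 2, 0, 2, 1, 2, 0, 2, 1, 2, 0, 2, 1]⟩,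
   ⟨6, [4, 2, 4, 0], 5, [2, 4, 1, 2, 2, 0, 2, 2, 1, 2, 2, 0, 2, 2, 1, 2, 2, 0, 2, 2, 2, 2, 2, 1]⟩,
   ⟨6, [4, 1, 2, 4], 5, [2, 2, 4, 3, 4, 0, 2, 2, 2, 0, 2, 1, 2, 2, 0, 2, 2, 1, 2, 2, 2, 0, 2, 1, 2, 0, 2, 1, 2, 2, 2, 2]⟩,
   ⟨6, [4, 2, 4, 0, 0], 5, [4, 0, 2, 4, 0, 0, 2, 1, 2, 2, 0, 2, 1, 2, 2, 0, 2, 1, 2, 2, 2, 0, 2, 1, 2, 2]⟩,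
   ⟨6, [0], 6, [1]⟩,
   ⟨6, [4, 0, 2, 4], 6, [2, 4, 1, 2, 4, 0, 2, 1, 2, 2, 0, 2, 1, 2, 2, 0, 2, 2, 1, 2, 2, 0, 2, 2, 1, 2, 0, 2, 2, 1, 2, 2]⟩,
   ⟨6, [4, 2, 4, 0, 0, 2, 1], 6, [4, 3, 0, 3, 0, 3, 3, 4, 0, 2, 2, 2, 0, 2, 2, 1, 2, 0, 2, 2, 1, 2, 0, 2, 2, 2, 2, 1, 2, 2, 0, 2, 1, 2, 2, 2]⟩,
   ⟨6, [4, 2, 4, 2, 1], 6, [1, 3, 4, 0, 2, 2, 2, 4, 0, 2, 2, 2, 2, 0, 2, 1, 2, 0, 2, 2, 2, 1, 2, 2, 0, 2, 1, 2, 2, 0, 2, 1, 2, 2, 2, 2, 2]⟩,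
   ⟨6, [4, 2, 4, 2], 6, [0, 2, 4, 2, 0, 2, 4, 2, 2, 4, 0, 2, 2, 2, 1, 2, 2, 0, 2, 2, 2, 2, 2, 1, 2, 0, 2, 1, 2, 0, 2, 2, 2, 1, 2, 0, 2, 1]⟩,
   ⟨6, [4, 2, 4, 2, 2], 6, [2, 4, 2, 2, 4, 1, 2, 4, 0, 2, 1, 2, 0, 2, 2, 2, 1, 2, 0, 2, 1, 2, 0, 2, 2, 1, 2, 0, 2, 2, 1, 2, 2, 2, 0, 2, 2, 1, 2, 2]⟩,
   ⟨6, [4, 2, 2, 2, 2, 2, 1], 7, []⟩,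
   ⟨7, [], 6, [4, 0, 0, 2, 2, 2, 2, 2, 1]⟩,
   ⟨7, [4, 3, 4, 2, 2, 2, 2, 2], 7, [0, 3, 3, 4, 0, 2, 2, 2, 0, 2, 1, 2, 0, 2, 2, 1, 2]⟩,
   ⟨4, [4, 0, 2, 4], 8, []⟩,
   ⟨8, [4], 4, [4, 1, 2, 4]⟩,
   ⟨6, [4, 0, 0, 2], 8, [2, 4, 1, 2, 4, 0, 0, 2, 1, 2, 0, 2, 2, 1, 2, 2, 0, 2, 1, 2, 0, 2, 1, 2, 2, 0, 2, 1, 2, 2, 0, 2, 2, 1, 2, 2, 0, 2, 1]⟩,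
   ⟨5, [4, 2, 4, 1], 8, [4, 3, 1, 3, 0, 3, 3, 4, 0, 2, 1, 2, 0, 2, 2, 1, 2, 0, 2, 2, 2, 1, 2, 2, 2, 0, 2, 1]⟩,
   ⟨6, [4, 2, 4], 8, [4, 0, 2, 2, 4, 0, 2, 2, 2, 0, 2, 2, 1, 2, 2, 0, 2, 2, 2, 2, 2, 1, 2, 0, 2, 1, 2, 2, 0, 2, 2, 2, 1]⟩,
   ⟨8, [4, 0, 0, 2, 1], 5, [0, 3, 0, 3, 4, 0, 3, 3, 4, 0, 2, 2, 2, 1, 2, 2, 0, 2, 2, 1, 2, 2, 2, 0, 2, 1, 2, 2, 2, 2, 0, 2, 1, 2]⟩,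
   ⟨8, [4, 2, 2, 2, 2, 2], 6, [3, 4, 0, 2, 2, 4, 0, 0, 2, 2, 1, 2, 2, 0, 2, 2, 1, 2, 0, 2, 2, 2, 1, 2, 0, 2, 2, 1, 2, 0, 2, 2, 1, 2, 2, 2]⟩,
   ⟨6, [4, 1, 2], 8, [1, 3, 4, 0, 3, 0, 3, 3, 4, 0, 2, 2, 1, 2, 2, 0, 2, 2, 1, 2, 2, 2, 0, 2, 2, 1, 2, 0, 2, 1, 2, 0, 2, 2, 1, 2, 2]⟩,
   ⟨8, [4, 2, 2, 2], 8, [1, 2, 4, 0, 2, 4, 0, 2, 1, 2, 2, 0, 2, 2, 2, 1, 2, 0, 2, 1, 2, 2, 2, 0, 2, 2, 1, 2, 0, 2, 2, 1, 2]⟩]⟩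

def events12 : List Ev := [
  .scan 4 [4, 0, 2, 4] 1 0 1 [⟨89, [1, 0, 1, 1, 0, 1, 1, 1, 0, 1, 1, 0, 1, 0, 0, 0], [21, 19, 21, 21, 20]⟩] [⟨90, [1, 0, 1, 1, 0, 1, 1, 1, 0, 1, 1, 0, 1, 0, 0, 0], [21, 19, 21, 21, 20]⟩] (.loop [4, 0, 0]),
  .scan 6 [4, 2] 1 0 0 [⟨91, [], []⟩] [] (.edge [0, 0, 0, 0, 1, 0, 1, 0, 1, 1, 0, 1, 1, 1] [38, 38, 39, 38, 38, 38, 39, 36] [1] [4, 2, 4, 1, 2, 4, 0, 0, 2, 1, 2, 0, 2, 2, 1, 2, 0, 2, 1, 2, 0, 2, 2, 1, 2, 0, 2, 2, 1, 2, 0, 2, 1, 2, 0, 2, 2, 1, 2, 2]),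
  .scan 6 [4, 0, 2] 1 0 0 [⟨96, [], []⟩] [] (.edge [0, 1, 1, 0, 1, 0, 1, 0] [36, 38, 37, 38, 36] [] [4, 0, 2, 0, 2, 2, 1, 2, 0, 2, 1, 2, 0, 2, 1, 2, 2]),
  .scan 6 [4, 2] 2 0 1 [⟨96, [], []⟩] [⟨98, [0, 0, 0, 0, 1, 0, 1, 0, 1, 1, 0, 1, 1, 1], []⟩] (.edge [0, 1, 1, 0, 1, 0, 1, 0] [37, 38, 37, 38, 36] [0] [1, 2, 2, 0, 2, 2, 1, 2, 0, 2, 1, 2, 0, 2, 1, 2, 2, 0, 2, 2, 1, 2, 0, 2, 1, 2, 0, 2, 1])]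

def state12 : Know := ⟨[(0, [0]), (0, [1]), (0, [2]), (0, [3]), (0, [4]), (1, [0, 2, 1]), (1, [2]), (2, [2, 2, 2, 2, 0, 2, 2, 1, 2, 2, 2, 2]), (2, [2, 2, 2, 0, 2, 2, 2, 1, 2, 2, 2]), (2, [0, 2, 1, 2, 0, 2, 1, 2, 0, 2, 1, 2, 2, 0, 2, 1]), (2, [0, 2, 2, 1, 2, 2, 2, 0, 2, 2, 1, 2, 0, 2, 1, 2, 0, 2, 2, 1, 2, 2, 2]), (2, [4, 1]), (3, [0, 2, 1, 2, 0, 2, 2, 2, 2, 2, 1, 2, 0, 2, 1, 2, 0, 2, 2, 2, 1, 2, 0, 2, 1, 2, 2]), (3, [0, 2, 2, 2, 1, 2, 2, 2, 2, 0, 2, 1, 2, 0, 2, 1, 2, 2, 2]), (3, [0, 2, 1, 2, 0, 2, 1, 2, 0, 2, 1, 2, 2, 0, 2, 1]), (3, [0, 2, 2, 2, 2, 2, 1, 2, 2, 0, 2, 1, 2]), (3, [0, 0]), (3, [4]), (4, [2, 2, 0, 2, 2,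 1, 2, 0, 2, 1, 2, 0, 2, 2, 2, 2, 1]), (4, [2, 0, 2, 1, 2, 0, 2, 2, 2, 1, 2, 2, 2, 0, 2, 2, 2, 2, 1]), (4, [4, 2, 4, 3, 4, 1, 2, 2, 0, 2, 1, 2, 2, 2, 0, 2, 2, 1, 2, 0, 2, 2, 1, 2, 0, 2, 2, 1, 2, 2, 2, 0, 2, 1, 2]), (4, [2, 4, 1, 2, 0, 2, 2, 1, 2, 0, 2, 1, 2, 2, 2, 0, 2, 2, 2, 2, 1, 2, 2, 0, 2, 1]), (3, [3, 4, 2, 4, 0, 2, 1, 2, 0, 2, 1, 2, 0, 2, 2, 2, 2, 2, 1, 2]), (5, [2, 2, 0, 2, 2, 1, 2, 2, 2, 0, 2, 2, 1, 2, 0, 2, 1, 2, 0, 2, 1, 2, 2, 2, 2]), (5, [2, 2, 0, 2, 1, 2, 0, 2, 2, 1, 2, 0, 2, 2, 2, 1, 2]), (5, [2, 2, 0, 2, 2, 1, 2, 0, 2, 1, 2, 2, 0, 2, 1, 2, 2, 0, 2, 1, 2, 2, 2, 0, 2, 1, 2]), (5, [4, 2, 4, 2, 4, 0, 2, 2,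 1, 2, 0, 2, 2, 1, 2, 2, 0, 2, 1, 2, 0, 2, 2, 1, 2, 2, 2, 0, 2, 2, 1, 2, 0, 2, 1]), (6, [2, 2, 2, 0, 2, 1, 2, 2, 0, 2, 2, 2, 2, 2, 1, 2, 2, 0, 2, 1, 2, 2]), (6, [0, 2, 1, 2, 2, 0, 2, 2, 2, 1, 2, 2, 2, 2, 0, 2, 1, 2, 2, 2, 0, 2, 1]), (6, [4, 2, 4, 3, 4, 0, 2, 1, 2, 0, 2, 2, 2, 2, 1, 2]), (7, [0, 2, 1, 2, 0, 2, 1, 2, 0, 2, 2, 2, 2, 1, 2, 0, 2, 2, 1, 2, 2, 0, 2, 2, 1, 2, 0, 2, 1, 2, 2]), (7, [0, 2, 1, 2, 0, 2, 2, 2, 1, 2, 2, 2, 0, 2, 2, 2, 1, 2, 2, 2, 0, 2, 1, 2]), (7, [0]), (7, [3, 4, 0, 2, 1, 2, 0, 2, 2, 2, 2, 1, 2, 0, 2, 1]), (7, [4]), (7, [1, 2, 0, 2, 2, 4, 0, 2, 1, 2, 2, 0, 2, 2, 2, 1, 2, 0, 2, 2, 1, 2, 2, 2]), (8,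 [0, 2, 1, 2, 0, 2, 1, 2, 0, 2, 2, 2, 1, 2, 0, 2, 1, 2, 0, 2, 2, 2, 2, 1, 2, 2, 2]), (8, [2, 0, 2, 2, 2, 2, 1, 2, 2, 2, 2, 0, 2, 1, 2, 0, 2, 1, 2, 2, 2, 0, 2, 1, 2]), (8, [4, 2, 4, 2, 4, 2, 4, 0, 0, 2, 1, 2, 2, 2, 0, 2, 1, 2, 0, 2, 1, 2, 2, 2, 0, 2, 1, 2, 2, 0, 2, 1]), (8, [4, 0, 0])], [⟨0, [], 1, []⟩,
   ⟨1, [0, 0], 0, []⟩,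
   ⟨1, [1], 1, [0, 0]⟩,
   ⟨1, [0], 1, [1]⟩,
   ⟨1, [], 1, [0]⟩,
   ⟨1, [4], 1, [4, 0, 0]⟩,
   ⟨1, [4, 0], 2, []⟩,
   ⟨2, [0, 0], 1, [4, 1]⟩,
   ⟨2, [1], 1, [4]⟩,
   ⟨1, [4, 0, 0], 2, [0]⟩,
   ⟨2, [], 2, [0, 0]⟩,
   ⟨1, [4, 1], 3, []⟩,
   ⟨3, [], 1, [4, 0]⟩,
   ⟨2, [0], 3, [0]⟩,
   ⟨3, [0], 2, [1]⟩,
   ⟨1, [4, 2, 4, 0], 4, []⟩,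
   ⟨4, [4], 3, [4, 2]⟩,
   ⟨4, [0, 0], 1, [4, 2, 4, 2, 2, 1, 2, 0, 2, 1, 2, 2, 0, 2, 2, 2, 1, 2, 0, 2, 2, 2, 2, 2, 1, 2, 2, 0, 2, 2, 1, 2]⟩,
   ⟨3, [4, 2], 4, [4, 0, 0]⟩,
   ⟨4, [0], 4, [1, 2, 2, 2, 0, 2, 2, 1, 2, 0, 2, 1, 2, 0, 2, 1, 2, 2, 2]⟩,
   ⟨4, [4, 0], 4, [4, 1]⟩,
   ⟨2, [4, 2], 4, [4, 0, 0, 2, 0, 2, 2, 1, 2, 2, 0, 2, 1, 2, 0, 2, 2, 1, 2, 2, 0, 2, 2, 1, 2, 2, 2]⟩,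
   ⟨2, [4, 0, 0, 2, 1, 2], 4, [4, 0, 0, 0, 2, 1, 2, 2, 2, 2, 0, 2, 1, 2, 2, 0, 2, 2, 1]⟩,
   ⟨4, [1], 2, [4, 1, 2, 4, 2, 2, 0, 2, 2, 1, 2, 0, 2, 2, 1, 2, 2, 0, 2, 1, 2]⟩,
   ⟨4, [4, 0, 0, 0, 2, 1], 2, [4, 0, 2, 4, 0, 2, 4, 0, 2, 1, 2, 0, 2, 2, 2, 1, 2, 2, 2, 0, 2, 1, 2, 0, 2, 2, 1, 2, 0, 2, 2, 2, 1, 2, 2]⟩,
   ⟨2, [4, 2, 1, 2], 1, [4, 2, 0, 2, 4, 0, 2, 1, 2, 2, 0, 2, 1, 2, 2, 2, 0, 2, 1, 2, 2, 0, 2, 2, 2, 1]⟩,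
   ⟨1, [4, 2, 4], 2, [4, 2, 4, 0, 2, 2, 2, 0, 2, 1, 2, 0, 2, 2, 1, 2, 2, 2, 2, 0, 2, 1, 2, 0, 2, 2, 2, 1, 2, 2, 0, 2, 1]⟩,
   ⟨2, [4, 2, 0, 2, 1], 2, [4, 2, 0, 2, 4, 0, 2, 2, 2, 2, 1, 2, 0, 2, 2, 2, 1, 2, 2, 2, 0, 2, 2, 1, 2, 2, 0, 2, 1, 2]⟩,
   ⟨2, [4, 0, 0, 2, 1], 2, [2, 4, 3, 4, 0, 2, 2, 2, 2, 1, 2, 2, 0, 2, 1, 2, 0, 2, 2, 2, 1, 2, 0, 2, 1, 2, 0, 2, 2, 1, 2, 2]⟩,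
   ⟨4, [], 2, [4, 2, 4, 0, 0, 0, 2, 2, 1, 2, 0, 2, 2, 1, 2, 2, 0, 2, 1, 2, 2, 2, 2, 0, 2, 1, 2, 2, 2, 0, 2, 2, 2, 1]⟩,
   ⟨2, [4, 3, 4, 2], 4, [4, 3, 4, 2, 4, 0, 0, 2, 1, 2, 0, 2, 2, 2, 1, 2, 2, 0, 2, 1, 2, 2, 0, 2, 1, 2, 2, 0, 2, 2, 2, 1, 2, 0, 2, 1]⟩,
   ⟨4, [4, 1, 2], 4, [1, 2, 4, 2, 4, 2, 2, 0, 2, 2, 1, 2, 0, 2, 1, 2, 0, 2, 2, 1, 2, 2, 2, 0, 2, 1, 2, 2, 0, 2, 1, 2]⟩,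
   ⟨1, [4, 2, 4, 2, 4], 5, []⟩,
   ⟨5, [4], 2, [4, 2, 2, 4, 1, 2, 2, 0, 2, 2, 1, 2, 0, 2, 2, 1, 2, 2, 0, 2, 1, 2]⟩,
   ⟨5, [4, 2, 2, 2, 2, 2], 4, [4, 0, 0, 2, 2, 0, 2, 1, 2, 0, 2, 2, 2, 2, 2, 1, 2, 0, 2, 1, 2, 0, 2, 1]⟩,
   ⟨2, [4, 2, 4, 0, 0, 2, 1], 5, [2, 4, 3, 1, 2, 2, 4, 2, 2, 0, 2, 2, 1, 2, 0, 2, 2, 1, 2, 0, 2, 1, 2, 2, 0, 2, 2, 1, 2, 2, 0, 2, 1, 2, 0, 2, 2, 1]⟩,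
   ⟨4, [4, 0, 2], 5, [1, 2, 4, 0, 2, 4, 0, 2, 1, 2, 2, 2, 2, 0, 2, 2, 1, 2, 0, 2, 1, 2, 0, 2, 1, 2, 2, 2, 2]⟩,
   ⟨5, [4, 2, 2, 2, 2, 2, 1], 4, [4, 2, 4, 3, 4, 2, 0, 2, 2, 1, 2, 0, 2, 1, 2, 0, 2, 2, 1, 2, 2, 0, 2, 2, 2, 1, 2, 2, 2]⟩,
   ⟨4, [4, 2], 5, [2, 4, 2, 4, 0, 2, 0, 2, 1, 2, 2, 0, 2, 2, 2, 1, 2, 0, 2, 1, 2, 0, 2, 2, 2, 1, 2, 0, 2, 1, 2, 0, 2, 1]⟩,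
   ⟨5, [4, 0], 5, [3, 3, 4, 2, 2, 4, 1, 2, 2, 2, 2, 0, 2, 2, 2, 2, 1, 2, 2, 0, 2, 1, 2, 2]⟩,
   ⟨5, [4, 0, 0, 2, 2, 2, 2, 2], 5, [3, 1, 2, 4, 2, 4, 0, 2, 2, 2, 1, 2, 0, 2, 2, 1, 2, 2, 0, 2, 2, 1, 2, 0, 2, 1, 2, 2, 0, 2, 2, 2, 1, 2, 2, 2]⟩,
   ⟨5, [0, 0], 1, [4, 2, 4, 2, 4, 0, 0, 0, 2, 2, 2, 2, 1, 2, 0, 2, 1, 2, 0, 2, 2, 1, 2, 0, 2, 2, 1, 2, 0, 2, 1, 2, 0, 2, 1, 2]⟩,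
   ⟨5, [1], 5, [0, 0, 2, 0, 2, 2, 2, 2, 1, 2, 2, 0, 2, 2, 1, 2, 2, 0, 2, 1, 2, 0, 2, 1, 2, 2]⟩,
   ⟨5, [0], 5, [2, 2, 2, 1, 2, 0, 2, 1, 2, 2, 2, 0, 2, 1]⟩,
   ⟨5, [], 5, [0, 2, 2, 2, 0, 2, 1, 2, 0, 2, 1, 2, 0, 2, 1]⟩,
   ⟨5, [4, 2, 2, 4], 5, [2, 2, 4, 2, 1, 2, 4, 0, 2, 1, 2, 0, 2, 2, 1, 2, 0, 2, 2, 1, 2, 2, 0, 2, 2, 1, 2, 0, 2, 2, 2, 2, 1]⟩,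
   ⟨3, [4, 0, 0, 2, 1], 6, []⟩,
   ⟨6, [4], 2, [4, 0, 0, 2, 2, 1, 2, 0, 2, 2, 2, 2, 1, 2, 2, 0, 2, 2, 1, 2, 2, 0, 2, 1, 2, 0, 2, 2, 1, 2, 2, 0, 2, 1]⟩,
   ⟨5, [4, 2, 4], 6, [2, 4, 3, 1, 2, 2, 4, 2, 0, 2, 2, 2, 1, 2, 0, 2, 2, 2, 2, 1, 2, 0, 2, 2, 2, 2, 1]⟩,
   ⟨6, [4, 2], 4, [4, 0, 2, 2, 4, 0, 2, 2, 2, 2, 2, 0, 2, 2, 1, 2, 0, 2, 1]⟩,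
   ⟨4, [4, 0, 0, 2, 1], 6, [2, 4, 1, 2, 4, 0, 2, 0, 2, 2, 1, 2, 0, 2, 1, 2, 0, 2, 1, 2, 2, 2, 0, 2, 1, 2, 2, 2, 2, 0, 2, 1, 2, 2]⟩,
   ⟨2, [4, 2, 4, 2], 6, [2, 4, 3, 1, 2, 2, 4, 0, 2, 1, 2, 2, 2, 2, 0, 2, 2, 1, 2, 2, 0, 2, 1, 2, 0, 2, 1, 2, 0, 2, 2, 1, 2, 2, 0, 2, 1]⟩,
   ⟨6, [4, 0, 0, 0, 2, 1], 5, [4, 2, 4, 3, 4, 0, 0, 2, 1, 2, 2, 0, 2, 1, 2, 2, 0, 2, 1, 2, 0, 2, 1, 2, 2, 0, 2, 1, 2, 2, 2, 0, 2, 1]⟩,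
   ⟨4, [4, 0, 0, 2], 6, [3, 3, 4, 2, 2, 4, 2, 0, 2, 2, 1, 2, 0, 2, 1, 2, 0, 2, 2, 2, 2, 2, 1, 2, 2, 0, 2, 1, 2, 2, 2, 2, 0, 2, 1]⟩,
   ⟨6, [4, 0, 2, 1], 6, [4, 1, 2, 4, 0, 2, 1, 2, 0, 2, 2, 1, 2, 2, 2, 0, 2, 1, 2, 2, 0, 2, 2, 2, 2, 1, 2, 2, 0, 2, 1, 2, 2]⟩,
   ⟨6, [4, 0], 2, [2, 4, 3, 4, 2, 2, 1, 2, 0, 2, 2, 2, 1, 2, 2, 0, 2, 1, 2, 2, 0, 2, 1, 2, 2, 0, 2, 2, 2, 1, 2, 0, 2, 1]⟩,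
   ⟨5, [4, 0, 0, 2, 2, 2, 2, 2, 1], 6, [2, 4, 3, 4, 2, 1, 2, 0, 2, 2, 2, 1, 2, 0, 2, 2, 1, 2, 2, 0, 2, 1, 2, 0, 2, 1, 2, 2, 2, 0, 2, 1]⟩,
   ⟨4, [4, 1], 6, [0, 0, 2, 0, 2, 2, 2, 2, 2, 1]⟩,
   ⟨5, [4, 1], 6, [3, 3, 4, 2, 2, 4, 0, 0, 0, 2, 2, 2, 2, 1, 2, 0, 2, 2, 1, 2, 0, 2, 2, 1, 2, 0, 2, 1, 2]⟩,
   ⟨2, [4, 0, 0, 2], 6, [4, 2, 4, 0, 2, 2, 2, 2, 0, 2, 2, 1, 2, 2, 2, 2]⟩,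
   ⟨6, [4, 2, 1], 2, [2, 2, 4, 3, 4, 0, 2, 2, 2, 1, 2, 2, 0, 2, 1, 2, 0, 2, 2, 1, 2, 0, 2, 1, 2, 0, 2, 1, 2, 2, 0, 2, 2, 1]⟩,
   ⟨4, [4, 2, 4], 6, [1, 2, 4, 0, 2, 4, 0, 2, 2, 0, 2, 1, 2, 2, 0, 2, 2, 1, 2, 0, 2, 1, 2, 0, 2, 2, 2, 1, 2, 2, 0, 2, 1, 2, 2]⟩,
   ⟨5, [4, 0, 0], 6, [2, 4, 2, 4, 1, 2, 2, 0, 2, 1, 2, 2, 0, 2, 1, 2, 0, 2, 1, 2, 2, 0, 2, 1, 2, 2, 0, 2, 1]⟩,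
   ⟨2, [4, 2, 1], 6, [2, 4, 3, 4, 0, 0, 2, 0, 2, 1, 2, 0, 2, 2, 1, 2, 0, 2, 2, 2, 2, 1, 2]⟩,
   ⟨6, [4, 0, 0], 4, [4, 0, 0, 2, 1, 2, 2, 0, 2, 2, 2, 1, 2, 0, 2, 1, 2, 2, 2, 0, 2, 1, 2, 0, 2, 1, 2]⟩,
   ⟨4, [4, 0, 0], 6, [0, 0, 2, 2, 1, 2, 0, 2, 2, 2, 1, 2, 2, 2, 0, 2, 2, 2, 2, 1]⟩,
   ⟨6, [4, 0, 0, 2, 1], 5, [2, 1, 2, 4, 0, 2, 2, 2, 1, 2, 2, 2, 0, 2, 1, 2, 0, 2, 2, 1, 2, 0, 2, 2, 2, 2, 1, 2]⟩,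
   ⟨5, [4, 2, 4, 0], 6, [3, 4, 1, 3, 0, 3, 3, 4, 0, 0, 2, 1, 2, 0, 2, 2, 1, 2, 0, 2, 1, 2, 2, 0, 2, 1, 2, 2, 2, 0, 2, 1, 2, 2, 2, 2, 0, 2, 1, 2]⟩,
   ⟨6, [4, 0, 2], 6, [1, 2, 4, 0, 2, 4, 2, 0, 2, 1, 2, 2, 0, 2, 1, 2, 0, 2, 1, 2, 2, 0, 2, 2, 1, 2, 0, 2, 2, 2, 1]⟩,
   ⟨6, [4, 0, 0, 0, 2, 2, 2, 2, 2, 1], 6, [3, 4, 2, 4, 0, 2, 0, 2, 1, 2, 0, 2, 2, 1, 2, 2, 0, 2, 2, 2, 1, 2, 2, 2, 2, 0, 2, 1, 2, 2, 0, 2, 1]⟩,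
   ⟨6, [4, 1], 6, [4, 0, 2, 4, 2, 0, 2, 2, 1, 2, 0, 2, 1, 2, 2, 2, 0, 2, 2, 2, 1, 2, 0, 2, 1, 2, 2, 2, 2]⟩,
   ⟨6, [4, 0, 0, 2, 2, 2, 2, 2, 1], 6, [3, 4, 2, 4, 2, 2, 2, 2, 2, 0, 2, 1, 2, 0, 2, 1, 2, 2, 2, 0, 2, 1, 2]⟩,
   ⟨6, [4, 0, 2, 2, 2, 2, 2, 1], 6, [3, 4, 2, 4, 0, 0, 2, 2, 2, 2, 2, 0, 2, 1, 2, 0, 2, 1, 2, 2, 2, 0, 2, 1, 2]⟩,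
   ⟨6, [0, 0], 3, [4, 0, 0, 2, 1]⟩,
   ⟨6, [1], 4, [0, 2, 4, 0, 2, 2, 2, 2, 2, 0, 2, 1, 2, 2, 2, 2, 2]⟩,
   ⟨6, [], 4, [2, 4, 0, 2, 2, 2, 2, 2, 0, 2, 1, 2, 2, 2, 2, 2]⟩,
   ⟨6, [4, 0, 2, 4, 0], 4, [4, 2, 4, 3, 4, 0, 2, 0, 2, 1, 2, 2, 0, 2, 1, 2, 2, 2, 0, 2, 1, 2, 2, 0, 2, 1, 2, 2, 0, 2, 1, 2, 0, 2, 1, 2, 0, 2, 1]⟩,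
   ⟨6, [4, 2, 4, 0], 5, [2, 4, 1, 2, 2, 0, 2, 2, 1, 2, 2, 0, 2, 2, 1, 2, 2, 0, 2, 2, 2, 2, 2, 1]⟩,
   ⟨6, [4, 1, 2, 4], 5, [2, 2, 4, 3, 4, 0, 2, 2, 2, 0, 2, 1, 2, 2, 0, 2, 2, 1, 2, 2, 2, 0, 2, 1, 2, 0, 2, 1, 2, 2, 2, 2]⟩,
   ⟨6, [4, 2, 4, 0, 0], 5, [4, 0, 2, 4, 0, 0, 2, 1, 2, 2, 0, 2, 1, 2, 2, 0, 2, 1, 2, 2, 2, 0, 2, 1, 2, 2]⟩,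
   ⟨6, [0], 6, [1]⟩,
   ⟨6, [4, 0, 2, 4], 6, [2, 4, 1, 2, 4, 0, 2, 1, 2, 2, 0, 2, 1, 2, 2, 0, 2, 2, 1, 2, 2, 0, 2, 2, 1, 2, 0, 2, 2, 1, 2, 2]⟩,
   ⟨6, [4, 2, 4, 0, 0, 2, 1], 6, [4, 3, 0, 3, 0, 3, 3, 4, 0, 2, 2, 2, 0, 2, 2, 1, 2, 0, 2, 2, 1, 2, 0, 2, 2, 2, 2, 1, 2, 2, 0, 2, 1, 2, 2, 2]⟩,
   ⟨6, [4, 2, 4, 2, 1], 6, [1, 3, 4, 0, 2, 2, 2, 4, 0, 2, 2, 2, 2, 0, 2, 1, 2, 0, 2, 2, 2, 1, 2, 2, 0, 2, 1, 2, 2, 0, 2, 1, 2, 2, 2, 2, 2]⟩,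
   ⟨6, [4, 2, 4, 2], 6, [0, 2, 4, 2, 0, 2, 4, 2, 2, 4, 0, 2, 2, 2, 1, 2, 2, 0, 2, 2, 2, 2, 2, 1, 2, 0, 2, 1, 2, 0, 2, 2, 2, 1, 2, 0, 2, 1]⟩,
   ⟨6, [4, 2, 4, 2, 2], 6, [2, 4, 2, 2, 4, 1, 2, 4, 0, 2, 1, 2, 0, 2, 2, 2, 1, 2, 0, 2, 1, 2, 0, 2, 2, 1, 2, 0, 2, 2, 1, 2, 2, 2, 0, 2, 2, 1, 2, 2]⟩,
   ⟨6, [4, 2, 2, 2, 2, 2, 1], 7, []⟩,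
   ⟨7, [], 6, [4, 0, 0, 2, 2, 2, 2, 2, 1]⟩,
   ⟨7, [4, 3, 4, 2, 2, 2, 2, 2], 7, [0, 3, 3, 4, 0, 2, 2, 2, 0, 2, 1, 2, 0, 2, 2, 1, 2]⟩,
   ⟨4, [4, 0, 2, 4], 8, []⟩,
   ⟨8, [4], 4, [4, 1, 2, 4]⟩,
   ⟨6, [4, 0, 0, 2], 8, [2, 4, 1, 2, 4, 0, 0, 2, 1, 2, 0, 2, 2, 1, 2, 2, 0, 2, 1, 2, 0, 2, 1, 2, 2, 0, 2, 1, 2, 2, 0, 2, 2, 1, 2, 2, 0, 2, 1]⟩,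
   ⟨5, [4, 2, 4, 1], 8, [4, 3, 1, 3, 0, 3, 3, 4, 0, 2, 1, 2, 0, 2, 2, 1, 2, 0, 2, 2, 2, 1, 2, 2, 2, 0, 2, 1]⟩,
   ⟨6, [4, 2, 4], 8, [4, 0, 2, 2, 4, 0, 2, 2, 2, 0, 2, 2, 1, 2, 2, 0, 2, 2, 2, 2, 2, 1, 2, 0, 2, 1, 2, 2, 0, 2, 2, 2, 1]⟩,
   ⟨8, [4, 0, 0, 2, 1], 5, [0, 3, 0, 3, 4, 0, 3, 3, 4, 0, 2, 2, 2, 1, 2, 2, 0, 2, 2, 1, 2, 2, 2, 0, 2, 1, 2, 2, 2, 2, 0, 2, 1, 2]⟩,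
   ⟨8, [4, 2, 2, 2, 2, 2], 6, [3, 4, 0, 2, 2, 4, 0, 0, 2, 2, 1, 2, 2, 0, 2, 2, 1, 2, 0, 2, 2, 2, 1, 2, 0, 2, 2, 1, 2, 0, 2, 2, 1, 2, 2, 2]⟩,
   ⟨6, [4, 1, 2], 8, [1, 3, 4, 0, 3, 0, 3, 3, 4, 0, 2, 2, 1, 2, 2, 0, 2, 2, 1, 2, 2, 2, 0, 2, 2, 1, 2, 0, 2, 1, 2, 0, 2, 2, 1, 2, 2]⟩,
   ⟨8, [4, 2, 2, 2], 8, [1, 2, 4, 0, 2, 4, 0, 2, 1, 2, 2, 0, 2, 2, 2, 1, 2, 0, 2, 1, 2, 2, 2, 0, 2, 2, 1, 2, 0, 2, 2, 1, 2]⟩,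
   ⟨8, [1], 6, [4, 2, 4, 1, 2, 4, 0, 0, 2, 1, 2, 0, 2, 2, 1, 2, 0, 2, 1, 2, 0, 2, 2, 1, 2, 0, 2, 2, 1, 2, 0, 2, 1, 2, 0, 2, 2, 1, 2, 2]⟩,
   ⟨8, [], 6, [4, 0, 2, 0, 2, 2, 1, 2, 0, 2, 1, 2, 0, 2, 1, 2, 2]⟩,
   ⟨8, [0], 8, [1, 2, 2, 0, 2, 2, 1, 2, 0, 2, 1, 2, 0, 2, 1, 2, 2, 0, 2, 2, 1, 2, 0, 2, 1, 2, 0, 2, 1]⟩]⟩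

end CfsgLib.Presented.HNIndexEvents
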