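import Cfsg.Agent.Lib.Presented.MatCheck

/-! Generated data: a representation of dimension 133 modulo 11. -/
set_option autoImplicit false
set_option maxRecDepth 100000
set_option maxHeartbeats 1000000

namespace CfsgLib.Presented.HNMat

open MatCheck

def sb : ℕ := 9

def idx : ATree ℕ := (.node (.node (.node (.node (.node (.node (.node (.node (.leaf 0) (.leaf 128)) (.leaf 64)) (.node (.leaf 32) (.leaf 96))) (.node (.node (.leaf 16) (.leaf 80)) (.node (.leaf 48) (.leaf 112)))) (.node (.node (.node (.leaf 8) (.leaf 72)) (.node (.leaf 40) (.leaf 104))) (.node (.node (.leaf 24) (.leaf 88)) (.node (.leaf 56) (.leaf 120))))) (.node (.node (.node (.node (.node (.leaf 4) (.leaf 132)) (.leaf 68)) (.node (.leaf 36) (.leaf 100))) (.node (.node (.leaf 20) (.leaf 84)) (.node (.leaf 52) (.leaf 116)))) (.node (.node (.node (.leaf 12) (.leaf 76)) (.node (.leaf 44) (.leaf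 108))) (.node (.node (.leaf 28) (.leaf 92)) (.node (.leaf 60) (.leaf 124)))))) (.node (.node (.node (.node (.node (.node (.leaf 2) (.leaf 130)) (.leaf 66)) (.node (.leaf 34) (.leaf 98))) (.node (.node (.leaf 18) (.leaf 82)) (.node (.leaf 50) (.leaf 114)))) (.node (.node (.node (.leaf 10) (.leaf 74)) (.node (.leaf 42) (.leaf 106))) (.node (.node (.leaf 26) (.leaf 90)) (.node (.leaf 58) (.leaf 122))))) (.node (.node (.node (.node (.leaf 6) (.leaf 70)) (.node (.leaf 38) (.leaf 102))) (.node (.node (.leaf 22) (.leaf 86)) (.node (.leaf 54) (.leaf 118)))) (.node (.node (.node (.leaf 14) (.leaf 78)) (.node (.leaf 46) (.leaf 110))) (.node (.node (.leaf 30) (.leaf 94)) (.node (.leaf 62) (.leaf 126))))))) (.node (.node (.node (.node (.node (.node (.node (.leaf 1) (.leaf 129)) (.leaf 65)) (.node (.leaf 33) (.leaf 97))) (.node (.node (.leaf 17) (.leaf 81)) (.node (.leaf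 49) (.leaf 113)))) (.node (.node (.node (.leaf 9) (.leaf 73)) (.node (.leaf 41) (.leaf 105))) (.node (.node (.leaf 25) (.leaf 89)) (.node (.leaf 57) (.leaf 121))))) (.node (.node (.node (.node (.leaf 5) (.leaf 69)) (.node (.leaf 37) (.leaf 101))) (.node (.node (.leaf 21) (.leaf 85)) (.node (.leaf 53) (.leaf 117)))) (.node (.node (.node (.leaf 13) (.leaf 77)) (.node (.leaf 45) (.leaf 109))) (.node (.node (.leaf 29) (.leaf 93)) (.node (.leaf 61) (.leaf 125)))))) (.node (.node (.node (.node (.node (.node (.leaf 3) (.leaf 131)) (.leaf 67)) (.node (.leaf 35) (.leaf 99))) (.node (.node (.leaf 19) (.leaf 83)) (.node (.leaf 51) (.leaf 115)))) (.node (.node (.node (.leaf 11) (.leaf 75)) (.node (.leaf 43) (.leaf 107))) (.node (.node (.leaf 27) (.leaf 91)) (.node (.leaf 59) (.leaf 123))))) (.node (.node (.node (.node (.leaf 7) (.leaf 71)) (.node (.leaf 39) (.leaf 103)))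 (.node (.node (.leaf 23) (.leaf 87)) (.node (.leaf 55) (.leaf 119)))) (.node (.node (.node (.leaf 15) (.leaf 79)) (.node (.leaf 47) (.leaf 111))) (.node (.node (.leaf 31) (.leaf 95)) (.node (.leaf 63) (.leaf 127))))))))

def m0 : Rows := 
 (.node 
 (.node 
 (.node 
 (.node 
 (.node 
 (.node 
 (.node 
 (.node (.leaf [(1,1),(20,10)]) (.leaf [(100,10)])) (.leaf [(36,1)])) 
 (.node (.leaf [(60,1)]) (.leaf [(124,1)]))) 
 (.node 
 (.node (.leaf [(10,1),(17,1)]) (.leaf [(108,1)])) 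
 (.node (.leaf [(76,1)]) (.leaf [(84,10)])))) 
 (.node 
 (.node 
 (.node (.leaf [(9,1),(10,9),(15,1),(20,5)]) (.leaf [(44,1)])) 
 (.node (.leaf [(68,1)]) (.leaf [(132,1)]))) 
 (.node 
 (.node (.leaf [(52,1)]) (.leaf [(116,1)])) 
 (.node (.leaf [(28,1)]) (.leaf [(92,10)]))))) 
 (.node 
 (.node 
 (.node 
 (.node 
 (.node (.leaf [(5,1),(10,10),(20,6)]) (.leaf [(104,10)])) (.leaf [(40,1)])) 
 (.node (.leaf [(64,1)]) (.leaf [(128,1)]))) 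
 (.node 
 (.node (.leaf [(10,10),(15,1)]) (.leaf [(112,1)])) 
 (.node (.leaf [(24,1)]) (.leaf [(88,10)])))) 
 (.node 
 (.node 
 (.node (.leaf [(11,1),(20,5)]) (.leaf [(48,1)])) 
 (.node (.leaf [(72,1)]) (.leaf [(80,10)]))) 
 (.node 
 (.node (.leaf [(56,1)]) (.leaf [(120,1)])) 
 (.node (.leaf [(32,1)]) (.leaf [(96,10)])))))) 
 (.node 
 (.node 
 (.node 
 (.node 
 (.node 
 (.node (.leaf [(3,1),(15,10),(20,1)]) (.leaf [(102,10)])) (.leaf [(38,1)])) 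
 (.node (.leaf [(62,1)]) (.leaf [(126,1)]))) 
 (.node 
 (.node (.leaf [(10,4),(15,5),(19,1)]) (.leaf [(110,1)])) 
 (.node (.leaf [(22,1)]) (.leaf [(86,10)])))) 
 (.node 
 (.node 
 (.node (.leaf [(10,6),(15,6),(20,5)]) (.leaf [(46,1)])) 
 (.node (.leaf [(70,1)]) (.leaf [(78,10)]))) 
 (.node 
 (.node (.leaf [(54,1)]) (.leaf [(118,1)])) 
 (.node (.leaf [(30,1)]) (.leaf [(94,10)]))))) 
 (.node 
 (.node 
 (.node 
 (.node (.leaf [(7,1),(10,6),(15,5),(20,5)]) (.leaf [(42,1)])) 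
 (.node (.leaf [(66,1)]) (.leaf [(130,1)]))) 
 (.node 
 (.node (.leaf [(50,1)]) (.leaf [(114,1)])) 
 (.node (.leaf [(26,1)]) (.leaf [(90,10)])))) 
 (.node 
 (.node 
 (.node (.leaf [(10,4),(13,1),(15,6),(20,10)]) (.leaf [(106,1)])) 
 (.node (.leaf [(74,1)]) (.leaf [(82,10)]))) 
 (.node 
 (.node (.leaf [(58,1)]) (.leaf [(122,1)])) 
 (.node (.leaf [(34,1)]) (.leaf [(98,10)]))))))) 
 (.node 
 (.node 
 (.node 
 (.node 
 (.node 
 (.node 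
 (.node (.leaf [(0,1),(10,10),(15,1)]) (.leaf [(101,10)])) (.leaf [(37,1)])) 
 (.node (.leaf [(61,1)]) (.leaf [(125,1)]))) 
 (.node 
 (.node (.leaf [(10,5),(15,5),(16,1),(20,6)]) (.leaf [(109,1)])) 
 (.node (.leaf [(21,1)]) (.leaf [(85,10)])))) 
 (.node 
 (.node 
 (.node (.leaf [(8,1),(15,1),(20,4)]) (.leaf [(45,1)])) 
 (.node (.leaf [(69,1)]) (.leaf [(77,10)]))) 
 (.node 
 (.node (.leaf [(53,1)]) (.leaf [(117,1)])) 
 (.node (.leaf [(29,1)]) (.leaf [(93,10)]))))) 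
 (.node 
 (.node 
 (.node 
 (.node (.leaf [(4,1),(10,1),(20,5)]) (.leaf [(41,1)])) 
 (.node (.leaf [(65,1)]) (.leaf [(129,1)]))) 
 (.node 
 (.node (.leaf [(49,1)]) (.leaf [(113,1)])) 
 (.node (.leaf [(25,1)]) (.leaf [(89,10)])))) 
 (.node 
 (.node 
 (.node (.leaf [(10,5),(14,1),(15,7),(20,10)]) (.leaf [(105,1)])) 
 (.node (.leaf [(73,1)]) (.leaf [(81,10)]))) 
 (.node 
 (.node (.leaf [(57,1)]) (.leaf [(121,1)])) 
 (.node (.leaf [(33,1)]) (.leaf [(97,10)])))))) 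
 (.node 
 (.node 
 (.node 
 (.node 
 (.node 
 (.node (.leaf [(2,1),(10,7),(15,5),(20,6)]) (.leaf [(103,10)])) (.leaf [(39,1)])) 
 (.node (.leaf [(63,1)]) (.leaf [(127,1)]))) 
 (.node 
 (.node (.leaf [(10,1),(15,1),(18,1),(20,5)]) (.leaf [(111,1)])) 
 (.node (.leaf [(23,1)]) (.leaf [(87,10)])))) 
 (.node 
 (.node 
 (.node (.leaf [(10,5),(12,1),(15,6)]) (.leaf [(47,1)])) 
 (.node (.leaf [(71,1)]) (.leaf [(79,10)]))) 
 (.node 
 (.node (.leaf [(55,1)]) (.leaf [(119,1)])) 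
 (.node (.leaf [(31,1)]) (.leaf [(95,10)]))))) 
 (.node 
 (.node 
 (.node 
 (.node (.leaf [(6,1),(10,5),(15,6),(20,6)]) (.leaf [(43,1)])) 
 (.node (.leaf [(67,1)]) (.leaf [(131,1)]))) 
 (.node 
 (.node (.leaf [(51,1)]) (.leaf [(115,1)])) 
 (.node (.leaf [(27,1)]) (.leaf [(91,10)])))) 
 (.node 
 (.node 
 (.node (.leaf [(10,6),(15,6),(20,6)]) (.leaf [(107,1)])) 
 (.node (.leaf [(75,1)]) (.leaf [(83,10)]))) 
 (.node 
 (.node (.leaf [(59,1)]) (.leaf [(123,1)])) 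
 (.node (.leaf [(35,1)]) (.leaf [(99,10)]))))))))

def m1 : Rows := 
 (.node 
 (.node 
 (.node 
 (.node 
 (.node 
 (.node 
 (.node 
 (.node (.leaf [(1,1),(20,10)]) (.leaf [(100,1)])) (.leaf [(36,1)])) 
 (.node (.leaf [(60,1)]) (.leaf [(124,10)]))) 
 (.node 
 (.node (.leaf [(10,1),(17,1)]) (.leaf [(108,10)])) 
 (.node (.leaf [(76,1)]) (.leaf [(84,1)])))) 
 (.node 
 (.node 
 (.node (.leaf [(9,1),(10,9),(15,1),(20,5)]) (.leaf [(44,1)])) 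
 (.node (.leaf [(68,1)]) (.leaf [(132,10)]))) 
 (.node 
 (.node (.leaf [(52,1)]) (.leaf [(116,10)])) 
 (.node (.leaf [(28,1)]) (.leaf [(92,1)]))))) 
 (.node 
 (.node 
 (.node 
 (.node 
 (.node (.leaf [(5,1),(10,10),(20,6)]) (.leaf [(104,1)])) (.leaf [(40,1)])) 
 (.node (.leaf [(64,1)]) (.leaf [(128,10)]))) 
 (.node 
 (.node (.leaf [(10,10),(15,1)]) (.leaf [(112,10)])) 
 (.node (.leaf [(24,1)]) (.leaf [(88,1)])))) 
 (.node 
 (.node 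
 (.node (.leaf [(11,1),(20,5)]) (.leaf [(48,1)])) 
 (.node (.leaf [(72,1)]) (.leaf [(80,1)]))) 
 (.node 
 (.node (.leaf [(56,1)]) (.leaf [(120,10)])) 
 (.node (.leaf [(32,1)]) (.leaf [(96,1)])))))) 
 (.node 
 (.node 
 (.node 
 (.node 
 (.node 
 (.node (.leaf [(3,1),(15,10),(20,1)]) (.leaf [(102,1)])) (.leaf [(38,1)])) 
 (.node (.leaf [(62,1)]) (.leaf [(126,10)]))) 
 (.node 
 (.node (.leaf [(10,4),(15,5),(19,1)]) (.leaf [(110,10)])) 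
 (.node (.leaf [(22,1)]) (.leaf [(86,1)])))) 
 (.node 
 (.node 
 (.node (.leaf [(10,6),(15,6),(20,5)]) (.leaf [(46,1)])) 
 (.node (.leaf [(70,1)]) (.leaf [(78,1)]))) 
 (.node 
 (.node (.leaf [(54,1)]) (.leaf [(118,10)])) 
 (.node (.leaf [(30,1)]) (.leaf [(94,1)]))))) 
 (.node 
 (.node 
 (.node 
 (.node (.leaf [(7,1),(10,6),(15,5),(20,5)]) (.leaf [(42,1)])) 
 (.node (.leaf [(66,1)]) (.leaf [(130,10)]))) 
 (.node 
 (.node (.leaf [(50,1)]) (.leaf [(114,10)])) 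
 (.node (.leaf [(26,1)]) (.leaf [(90,1)])))) 
 (.node 
 (.node 
 (.node (.leaf [(10,4),(13,1),(15,6),(20,10)]) (.leaf [(106,10)])) 
 (.node (.leaf [(74,1)]) (.leaf [(82,1)]))) 
 (.node 
 (.node (.leaf [(58,1)]) (.leaf [(122,10)])) 
 (.node (.leaf [(34,1)]) (.leaf [(98,1)]))))))) 
 (.node 
 (.node 
 (.node 
 (.node 
 (.node 
 (.node 
 (.node (.leaf [(0,1),(10,10),(15,1)]) (.leaf [(101,1)])) (.leaf [(37,1)])) 
 (.node (.leaf [(61,1)]) (.leaf [(125,10)]))) 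
 (.node 
 (.node (.leaf [(10,5),(15,5),(16,1),(20,6)]) (.leaf [(109,10)])) 
 (.node (.leaf [(21,1)]) (.leaf [(85,1)])))) 
 (.node 
 (.node 
 (.node (.leaf [(8,1),(15,1),(20,4)]) (.leaf [(45,1)])) 
 (.node (.leaf [(69,1)]) (.leaf [(77,1)]))) 
 (.node 
 (.node (.leaf [(53,1)]) (.leaf [(117,10)])) 
 (.node (.leaf [(29,1)]) (.leaf [(93,1)]))))) 
 (.node 
 (.node 
 (.node 
 (.node (.leaf [(4,1),(10,1),(20,5)]) (.leaf [(41,1)])) 
 (.node (.leaf [(65,1)]) (.leaf [(129,10)]))) 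
 (.node 
 (.node (.leaf [(49,1)]) (.leaf [(113,10)])) 
 (.node (.leaf [(25,1)]) (.leaf [(89,1)])))) 
 (.node 
 (.node 
 (.node (.leaf [(10,5),(14,1),(15,7),(20,10)]) (.leaf [(105,10)])) 
 (.node (.leaf [(73,1)]) (.leaf [(81,1)]))) 
 (.node 
 (.node (.leaf [(57,1)]) (.leaf [(121,10)])) 
 (.node (.leaf [(33,1)]) (.leaf [(97,1)])))))) 
 (.node 
 (.node 
 (.node 
 (.node 
 (.node 
 (.node (.leaf [(2,1),(10,7),(15,5),(20,6)]) (.leaf [(103,1)])) (.leaf [(39,1)])) 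
 (.node (.leaf [(63,1)]) (.leaf [(127,10)]))) 
 (.node 
 (.node (.leaf [(10,1),(15,1),(18,1),(20,5)]) (.leaf [(111,10)])) 
 (.node (.leaf [(23,1)]) (.leaf [(87,1)])))) 
 (.node 
 (.node 
 (.node (.leaf [(10,5),(12,1),(15,6)]) (.leaf [(47,1)])) 
 (.node (.leaf [(71,1)]) (.leaf [(79,1)]))) 
 (.node 
 (.node (.leaf [(55,1)]) (.leaf [(119,10)])) 
 (.node (.leaf [(31,1)]) (.leaf [(95,1)]))))) 
 (.node 
 (.node 
 (.node 
 (.node (.leaf [(6,1),(10,5),(15,6),(20,6)]) (.leaf [(43,1)])) 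
 (.node (.leaf [(67,1)]) (.leaf [(131,10)]))) 
 (.node 
 (.node (.leaf [(51,1)]) (.leaf [(115,10)])) 
 (.node (.leaf [(27,1)]) (.leaf [(91,1)])))) 
 (.node 
 (.node 
 (.node (.leaf [(10,6),(15,6),(20,6)]) (.leaf [(107,10)])) 
 (.node (.leaf [(75,1)]) (.leaf [(83,1)]))) 
 (.node 
 (.node (.leaf [(59,1)]) (.leaf [(123,10)])) 
 (.node (.leaf [(35,1)]) (.leaf [(99,1)]))))))))

def m2 : Rows := 
 (.node 
 (.node 
 (.node 
 (.node 
 (.node 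
 (.node 
 (.node 
 (.node (.leaf [(0,10),(1,1),(3,1),(9,1),(18,1),(20,10)]) (.leaf [(113,8),(119,1),(125,10),(129,7),(132,4)])) (.leaf [(57,7),(71,1),(73,7),(76,4)])) 
 (.node (.leaf [(32,3),(34,1),(44,8),(46,3)]) (.leaf [(88,8),(100,2),(103,1)]))) 
 (.node 
 (.node (.leaf [(0,10),(1,1),(9,1),(12,1),(14,10),(18,1)]) (.leaf [(77,1),(82,10),(88,8),(100,3)])) 
 (.node (.leaf [(44,10),(46,3)]) (.leaf [(113,5),(118,1),(125,10),(129,3),(132,7)])))) 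
 (.node 
 (.node 
 (.node (.leaf [(0,5),(1,6),(3,1),(5,1),(7,6),(9,5),(12,5),(14,1),(18,5),(19,5),(20,10)]) (.leaf [(57,8),(63,1),(69,10),(73,7),(76,4)])) 
 (.node (.leaf [(32,8),(44,2),(47,1)]) (.leaf [(100,10),(102,3)]))) 
 (.node 
 (.node (.leaf [(21,1),(26,10),(32,8),(44,3)]) (.leaf [(88,3),(90,1),(100,8),(102,3)])) 
 (.node (.leaf [(57,5),(62,1),(69,10),(73,3),(76,7)]) (.leaf [(113,7),(127,1),(129,7),(132,4)]))))) 
 (.node 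
 (.node 
 (.node 
 (.node 
 (.node (.leaf [(0,6),(1,5),(7,6),(9,5),(12,5),(18,5),(19,5)]) (.leaf [(113,10),(129,1)])) (.leaf [(57,2),(73,4),(75,1),(76,8)])) 
 (.node (.leaf [(32,4),(36,1),(44,7),(46,7)]) (.leaf [(82,10),(88,4),(99,1),(100,8),(102,4)]))) 
 (.node 
 (.node (.leaf [(20,10)]) (.leaf [(82,10),(88,7),(89,1),(100,5),(102,4)])) 
 (.node (.leaf [(50,1),(57,3),(69,10),(73,4),(76,8)]) (.leaf [(113,8),(124,1),(129,7),(132,3)])))) 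
 (.node 
 (.node 
 (.node (.leaf [(0,4),(1,6),(3,1),(7,6),(9,6),(12,6),(13,1),(18,7),(19,6),(20,10)]) (.leaf [(57,10),(73,1)])) 
 (.node (.leaf [(26,10),(32,4),(43,1),(44,8),(46,4)]) (.leaf [(106,1),(113,3),(125,10),(129,4),(132,8)]))) 
 (.node 
 (.node (.leaf [(26,10),(32,7),(33,1),(44,5),(46,4)]) (.leaf [(88,4),(92,1),(100,7),(102,7)])) 
 (.node (.leaf [(57,8),(68,1),(73,7),(76,3)]) (.leaf [(113,2),(129,4),(131,1),(132,8)])))))) 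
 (.node 
 (.node 
 (.node 
 (.node 
 (.node 
 (.node (.leaf [(0,2),(7,1),(12,10),(14,10)]) (.leaf [(113,10),(132,1)])) (.leaf [(57,4),(61,1),(69,10),(73,4),(76,8)])) 
 (.node (.leaf [(32,7),(41,1),(44,3),(46,10)]) (.leaf [(82,10),(88,4),(100,7),(102,4)]))) 
 (.node 
 (.node (.leaf [(0,6),(3,6),(7,6),(12,4),(17,1),(19,6),(20,10)]) (.leaf [(85,1),(88,4),(100,7)])) 
 (.node (.leaf [(52,1),(57,3),(69,10),(73,4),(76,8)]) (.leaf [(113,3),(122,1),(125,10),(129,4),(132,8)])))) 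
 (.node 
 (.node 
 (.node (.leaf [(0,10),(1,5),(3,5),(7,10),(9,5),(11,1),(14,1),(18,5)]) (.leaf [(57,10),(76,1)])) 
 (.node (.leaf [(26,10),(32,4),(44,7),(46,4)]) (.leaf [(108,1),(113,3),(125,10),(129,4),(132,8)]))) 
 (.node 
 (.node (.leaf [(29,1),(32,4),(44,7)]) (.leaf [(88,7),(97,1),(100,3),(102,10)])) 
 (.node (.leaf [(57,3),(66,1),(69,10),(73,4),(76,8)]) (.leaf [(113,4),(117,1),(125,10),(129,4),(132,8)]))))) 
 (.node 
 (.node 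
 (.node 
 (.node (.leaf [(0,10),(1,6),(3,6),(7,10),(8,1),(9,5),(12,1),(18,6),(19,1)]) (.leaf [(57,7),(69,10),(73,8),(76,4)])) 
 (.node (.leaf [(26,10),(32,8),(40,1),(44,4),(46,3)]) (.leaf [(88,1),(100,10)]))) 
 (.node 
 (.node (.leaf [(24,1),(26,10),(32,8),(44,3),(46,7)]) (.leaf [(82,10),(88,8),(93,1),(100,3),(102,4)])) 
 (.node (.leaf [(57,7),(58,1),(73,7),(76,4)]) (.leaf [(109,1),(113,3),(129,4),(132,7)])))) 
 (.node 
 (.node 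
 (.node (.leaf [(0,5),(1,1),(3,7),(7,6),(9,1),(12,5),(15,1),(18,1),(19,5),(20,9)]) (.leaf [(80,1),(82,10),(88,8),(100,3),(102,7)])) 
 (.node (.leaf [(32,1),(44,10)]) (.leaf [(113,7),(114,1),(129,7),(132,4)]))) 
 (.node 
 (.node (.leaf [(26,10),(32,8),(37,1),(44,3),(46,4)]) (.leaf [(82,10),(88,8),(96,1),(100,4),(102,3)])) 
 (.node (.leaf [(53,1),(57,3),(73,4),(76,7)]) (.leaf [(113,7),(125,10),(129,8),(132,4)]))))))) 
 (.node 
 (.node 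
 (.node 
 (.node 
 (.node 
 (.node 
 (.node (.leaf [(1,1),(2,1),(3,1),(7,1),(9,2),(14,10),(18,1),(20,10)]) (.leaf [(111,1),(113,10),(129,1)])) (.leaf [(69,10),(72,1),(76,1)])) 
 (.node (.leaf [(23,1),(32,8),(44,3)]) (.leaf [(88,4),(100,7),(102,10),(104,1)]))) 
 (.node 
 (.node (.leaf [(1,6),(3,7),(7,1),(9,6),(18,7),(19,1),(20,10)]) (.leaf [(83,1),(88,5),(100,6)])) 
 (.node (.leaf [(51,1),(57,7),(69,10),(73,8),(76,4)]) (.leaf [(120,1),(125,10),(129,1)])))) 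
 (.node 
 (.node 
 (.node (.leaf [(0,4),(1,6),(7,4),(9,5),(10,1),(12,6),(14,1),(18,5),(19,5)]) (.leaf [(55,1),(57,10),(73,1)])) 
 (.node (.leaf [(32,4),(44,7),(46,10),(48,1)]) (.leaf [(107,1),(113,7),(125,10),(129,8),(132,4)]))) 
 (.node 
 (.node (.leaf [(27,1),(32,5),(44,6)]) (.leaf [(79,1),(88,8),(100,3)])) 
 (.node (.leaf [(64,1),(69,10),(73,1)]) (.leaf [(125,10),(128,1),(132,1)]))))) 
 (.node 
 (.node 
 (.node 
 (.node (.leaf [(0,5),(1,5),(3,10),(6,1),(7,5),(9,5),(12,5),(14,1),(18,5),(19,6),(20,1)]) (.leaf [(57,7),(59,1),(73,8),(76,4)])) 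
 (.node (.leaf [(26,10),(30,1),(32,1),(46,4)]) (.leaf [(95,1),(100,10)]))) 
 (.node 
 (.node (.leaf [(22,1),(26,10),(32,4),(44,7),(46,7)]) (.leaf [(82,10),(91,1),(102,3)])) 
 (.node (.leaf [(56,1),(57,6),(73,8),(76,5)]) (.leaf [(105,1),(113,3),(129,3),(132,8)])))) 
 (.node 
 (.node 
 (.node (.leaf [(0,4),(1,1),(3,6),(7,5),(9,1),(12,6),(19,5),(20,10)]) (.leaf [(78,1),(82,10),(88,4),(100,7),(102,7)])) 
 (.node (.leaf [(39,1),(44,10)]) (.leaf [(112,1),(113,6),(129,8),(132,5)]))) 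
 (.node 
 (.node (.leaf [(26,10),(35,1),(46,3)]) (.leaf [(82,10),(86,1),(88,1),(102,4)])) 
 (.node (.leaf [(49,1),(57,3),(73,3),(76,8)]) (.leaf [(113,7),(115,1),(129,8),(132,4)])))))) 
 (.node 
 (.node 
 (.node 
 (.node 
 (.node 
 (.node (.leaf [(1,5),(3,5),(4,1),(7,10),(9,5),(12,1),(18,5),(20,1)]) (.leaf [(113,8),(125,10),(129,8),(132,4)])) (.leaf [(57,8),(69,10),(73,8),(74,1),(76,3)])) 
 (.node (.leaf [(32,1),(42,1),(44,10),(46,7)]) (.leaf [(88,7),(94,1),(100,3),(102,7)]))) 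
 (.node 
 (.node (.leaf [(0,5),(1,5),(3,10),(7,5),(9,6),(12,6),(18,5),(19,5),(20,1)]) (.leaf [(82,10),(87,1),(88,1),(102,4)])) 
 (.node (.leaf [(54,1),(69,10),(76,1)]) (.leaf [(113,3),(123,1),(129,3),(132,8)])))) 
 (.node 
 (.node 
 (.node (.leaf [(0,4),(1,1),(3,6),(7,6),(9,1),(12,6),(18,1),(19,6),(20,10)]) (.leaf [(57,8),(69,10),(73,8),(76,4)])) 
 (.node (.leaf [(32,7),(38,1),(44,3),(46,7)]) (.leaf [(110,1),(125,10),(132,1)]))) 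
 (.node 
 (.node (.leaf [(26,10),(31,1),(32,1),(46,4)]) (.leaf [(88,1),(98,1),(100,10),(102,7)])) 
 (.node (.leaf [(57,3),(67,1),(73,3),(76,8)]) (.leaf [(113,8),(125,10),(129,8),(130,1),(132,3)]))))) 
 (.node 
 (.node 
 (.node 
 (.node (.leaf [(1,6),(3,6),(7,1),(9,6),(18,6),(20,10)]) (.leaf [(57,3),(70,1),(73,4),(76,7)])) 
 (.node (.leaf [(26,10),(32,3),(44,8),(45,1),(46,3)]) (.leaf [(82,10),(88,4),(100,8)]))) 
 (.node 
 (.node (.leaf [(25,1),(26,10),(32,1),(46,7)]) (.leaf [(84,1),(88,8),(100,3),(102,5)])) 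
 (.node (.leaf [(60,1),(69,10),(76,1)]) (.leaf [(113,10),(121,1),(132,1)])))) 
 (.node 
 (.node 
 (.node (.leaf [(1,5),(3,5),(9,6),(16,1),(18,6)]) (.leaf [(81,1),(82,10),(88,1),(102,7)])) 
 (.node (.leaf [(26,10),(32,4),(44,8)]) (.leaf [(116,1),(125,10),(132,1)]))) 
 (.node 
 (.node (.leaf [(28,1),(32,8),(44,3),(46,5)]) (.leaf [(82,10),(88,3),(100,8),(101,1),(102,3)])) 
 (.node (.leaf [(57,10),(65,1),(76,1)]) (.leaf [(113,3),(126,1),(129,4),(132,7)]))))))))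

def m3 : Rows := 
 (.node 
 (.node 
 (.node 
 (.node 
 (.node 
 (.node 
 (.node 
 (.node (.leaf [(4,10),(7,1),(11,10)]) (.leaf [(121,1),(126,3),(130,3),(131,7),(132,8)])) (.leaf [(57,1),(70,3),(74,4),(75,7),(76,7)])) 
 (.node (.leaf [(42,3),(46,1),(47,8),(48,7)]) (.leaf [(94,1),(98,8),(102,7),(103,2),(104,3)]))) 
 (.node 
 (.node (.leaf [(0,10),(13,1),(15,1),(19,10),(20,10)]) (.leaf [(78,1),(98,7),(102,7),(103,3),(104,3)])) 
 (.node (.leaf [(41,1),(42,1),(46,7),(47,10),(48,10)]) (.leaf [(109,1),(126,8),(130,6),(131,3),(132,3)])))) 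
 (.node 
 (.node 
 (.node (.leaf [(0,1),(2,6),(4,6),(6,1),(7,1),(13,5),(16,5),(17,5),(19,1)]) (.leaf [(65,1),(70,3),(74,3),(75,7),(76,8)])) 
 (.node (.leaf [(38,1),(42,8),(46,7),(47,2),(48,3)]) (.leaf [(97,1),(98,1),(102,7),(103,10),(104,10)]))) 
 (.node 
 (.node (.leaf [(22,1),(42,7),(46,7),(47,3),(48,3)]) (.leaf [(98,3),(102,1),(103,8),(104,7)])) 
 (.node (.leaf [(53,1),(70,8),(74,6),(75,3),(76,3)]) (.leaf [(113,1),(126,3),(130,4),(131,7),(132,7)]))))) 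
 (.node 
 (.node 
 (.node 
 (.node 
 (.node (.leaf [(0,1),(2,6),(3,1),(4,6),(11,1),(13,5),(16,5),(17,5)]) (.leaf [(126,10),(130,1),(131,1)])) (.leaf [(60,1),(70,7),(74,8),(75,4),(76,4)])) 
 (.node (.leaf [(36,1),(42,4),(46,7),(47,7),(48,7)]) (.leaf [(98,3),(103,8),(104,7)]))) 
 (.node 
 (.node (.leaf [(20,10)]) (.leaf [(87,1),(98,6),(102,3),(103,5),(104,5)])) 
 (.node (.leaf [(50,1),(70,6),(74,7),(75,4),(76,4)]) (.leaf [(111,1),(126,3),(130,3),(131,7),(132,8)])))) 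
 (.node 
 (.node 
 (.node (.leaf [(0,10),(2,5),(4,5),(7,1),(11,10),(13,6),(16,6),(17,6)]) (.leaf [(70,10),(74,1),(75,1)])) 
 (.node (.leaf [(42,3),(47,8),(48,7)]) (.leaf [(106,1),(126,6),(130,7),(131,4),(132,4)]))) 
 (.node 
 (.node (.leaf [(31,1),(42,6),(46,3),(47,5),(48,5)]) (.leaf [(92,1),(98,4),(102,7),(103,7),(104,7)])) 
 (.node (.leaf [(55,1),(70,3),(74,3),(75,7),(76,8)]) (.leaf [(116,1),(126,7),(130,8),(131,4),(132,4)])))))) 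
 (.node 
 (.node 
 (.node 
 (.node 
 (.node 
 (.node (.leaf [(1,1),(2,10),(13,10),(17,10),(19,10)]) (.leaf [(123,1),(126,10),(130,1)])) (.leaf [(58,1),(70,6),(74,7),(75,4),(76,4)])) 
 (.node (.leaf [(32,1),(42,8),(46,8),(47,3),(48,3)]) (.leaf [(91,1),(98,4),(102,10),(103,7),(104,7)]))) 
 (.node 
 (.node (.leaf [(0,7),(2,5),(7,6),(11,5),(13,4),(16,6),(17,5),(20,6)]) (.leaf [(98,3),(102,4),(103,7),(104,7)])) 
 (.node (.leaf [(52,1),(70,6),(74,7),(75,4),(76,4)]) (.leaf [(110,1),(126,7),(130,7),(131,4),(132,4)])))) 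
 (.node 
 (.node 
 (.node (.leaf [(0,5),(2,1),(4,6),(7,5),(9,1),(11,6),(17,1),(19,1),(20,6)]) (.leaf [(67,1),(70,10),(74,1)])) 
 (.node (.leaf [(35,1),(42,4),(46,10),(47,7),(48,7)]) (.leaf [(108,1),(126,6),(130,7),(131,4),(132,4)]))) 
 (.node 
 (.node (.leaf [(42,3),(46,4),(47,7),(48,7)]) (.leaf [(88,1),(98,8),(102,8),(103,3),(104,3)])) 
 (.node (.leaf [(54,1),(70,7),(74,7),(75,4),(76,4)]) (.leaf [(114,1),(126,6),(130,7),(131,4),(132,4)]))))) 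
 (.node 
 (.node 
 (.node 
 (.node (.leaf [(0,5),(4,6),(5,1),(7,6),(11,4),(13,1),(16,1),(17,1),(20,6)]) (.leaf [(70,3),(71,1),(74,4),(75,8),(76,7)])) 
 (.node (.leaf [(42,7),(43,1),(46,4),(47,4),(48,3)]) (.leaf [(98,1),(103,10),(104,10)]))) 
 (.node 
 (.node (.leaf [(21,1),(42,7),(47,3),(48,3)]) (.leaf [(93,1),(98,7),(102,3),(103,3),(104,4)])) 
 (.node (.leaf [(51,1),(70,3),(74,3),(75,7),(76,8)]) (.leaf [(112,1),(126,6),(130,8),(131,4),(132,5)])))) 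
 (.node 
 (.node 
 (.node (.leaf [(0,6),(2,5),(4,10),(7,7),(11,5),(13,5),(16,5),(17,5),(20,5)]) (.leaf [(77,1),(98,7),(103,3),(104,3)])) 
 (.node (.leaf [(42,1),(47,10),(48,10)]) (.leaf [(107,1),(126,3),(130,3),(131,7),(132,8)]))) 
 (.node 
 (.node (.leaf [(37,1),(42,7),(46,3),(47,3),(48,4)]) (.leaf [(98,7),(99,1),(102,4),(103,4),(104,3)])) 
 (.node (.leaf [(56,1),(70,6),(74,8),(75,4),(76,5)]) (.leaf [(126,3),(127,1),(130,4),(131,8),(132,7)]))))))) 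
 (.node 
 (.node 
 (.node 
 (.node 
 (.node 
 (.node 
 (.node (.leaf [(4,10),(7,1),(17,10),(19,10),(20,10)]) (.leaf [(126,10),(131,1),(132,1)])) (.leaf [(63,1),(74,10)])) 
 (.node (.leaf [(28,1),(42,7),(46,8),(47,3),(48,4)]) (.leaf [(90,1),(98,4),(102,4),(103,7),(104,6)]))) 
 (.node 
 (.node (.leaf [(0,5),(2,10),(4,5),(7,7),(11,4),(16,1),(18,1),(20,5)]) (.leaf [(79,1),(98,4),(102,3),(103,6),(104,7)])) 
 (.node (.leaf [(61,1),(70,3),(74,3),(75,8),(76,8)]) (.leaf [(126,10),(131,1)])))) 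
 (.node 
 (.node 
 (.node (.leaf [(2,6),(4,5),(13,6),(16,5),(17,6),(19,1)]) (.leaf [(70,10),(75,1),(76,1)])) 
 (.node (.leaf [(34,1),(42,4),(46,4),(47,7),(48,6)]) (.leaf [(117,1),(126,3),(130,3),(131,8),(132,8)]))) 
 (.node 
 (.node (.leaf [(23,1),(42,4),(46,3),(47,6),(48,7)]) (.leaf [(84,1),(98,7),(102,8),(103,3),(104,4)])) 
 (.node (.leaf [(70,10),(75,1)]) (.leaf [(119,1),(130,10)]))))) 
 (.node 
 (.node 
 (.node 
 (.node (.leaf [(2,6),(4,5),(7,10),(8,1),(13,5),(16,6),(17,6),(19,1),(20,1)]) (.leaf [(70,2),(74,4),(75,8),(76,8)])) 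
 (.node (.leaf [(30,1),(42,10),(46,7)]) (.leaf [(95,1),(102,1),(103,10),(104,10)]))) 
 (.node 
 (.node (.leaf [(24,1),(42,3),(46,7),(47,7),(48,7)]) (.leaf [(82,1),(102,7)])) 
 (.node (.leaf [(62,1),(70,3),(74,4),(75,8),(76,7)]) (.leaf [(122,1),(126,7),(130,7),(131,3),(132,4)])))) 
 (.node 
 (.node 
 (.node (.leaf [(0,5),(2,6),(4,10),(7,6),(11,5),(12,1),(13,6),(16,5),(17,5),(20,5)]) (.leaf [(80,1),(98,3),(102,7),(103,7),(104,7)])) 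
 (.node (.leaf [(39,1),(46,1),(47,10),(48,10)]) (.leaf [(118,1),(126,3),(130,4),(131,8),(132,7)]))) 
 (.node 
 (.node (.leaf [(26,1),(46,7)]) (.leaf [(86,1),(98,10),(102,7)])) 
 (.node (.leaf [(66,1),(70,7),(74,7),(75,3),(76,4)]) (.leaf [(126,2),(130,4),(131,8),(132,8)])))))) 
 (.node 
 (.node 
 (.node 
 (.node 
 (.node 
 (.node (.leaf [(0,5),(4,6),(7,5),(11,5),(13,1),(17,1),(20,5)]) (.leaf [(124,1),(126,3),(130,3),(131,8),(132,7)])) (.leaf [(59,1),(70,3),(74,3),(75,8),(76,8)])) 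
 (.node (.leaf [(29,1),(46,4),(47,10),(48,10)]) (.leaf [(98,7),(100,1),(103,3),(104,4)]))) 
 (.node 
 (.node (.leaf [(0,10),(2,6),(4,5),(7,10),(11,1),(13,6),(16,5),(17,6)]) (.leaf [(81,1),(102,6)])) 
 (.node (.leaf [(49,1),(70,10)]) (.leaf [(125,1),(126,8),(130,7),(131,3),(132,3)])))) 
 (.node 
 (.node 
 (.node (.leaf [(0,5),(2,6),(7,6),(10,1),(11,5),(13,6),(16,6),(17,6),(20,5)]) (.leaf [(68,1),(70,3),(74,3),(75,8),(76,7)])) 
 (.node (.leaf [(42,7),(44,1),(47,3),(48,4)]) (.leaf [(105,1),(126,10)]))) 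
 (.node 
 (.node (.leaf [(25,1),(46,6)]) (.leaf [(85,1),(102,4),(103,10),(104,10)])) 
 (.node (.leaf [(69,1),(70,8),(74,7),(75,3),(76,3)]) (.leaf [(115,1),(126,3),(130,3),(131,8),(132,8)]))))) 
 (.node 
 (.node 
 (.node 
 (.node (.leaf [(0,5),(4,6),(7,6),(11,6),(20,5)]) (.leaf [(64,1),(70,7),(74,7),(75,4),(76,4)])) 
 (.node (.leaf [(42,3),(45,1),(47,8),(48,7)]) (.leaf [(96,1),(98,3),(102,3),(103,8),(104,7)]))) 
 (.node 
 (.node (.leaf [(33,1),(46,3)]) (.leaf [(83,1),(98,7),(102,3),(103,3),(104,4)])) 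
 (.node (.leaf [(73,1),(76,10)]) (.leaf [(126,10),(128,1),(132,1)])))) 
 (.node 
 (.node 
 (.node (.leaf [(0,4),(4,5),(7,5),(11,6),(14,1),(20,5)]) (.leaf [(89,1),(102,3)])) 
 (.node (.leaf [(40,1),(42,3),(46,3),(47,8),(48,7)]) (.leaf [(129,1),(132,10)]))) 
 (.node 
 (.node (.leaf [(27,1),(42,7),(46,3),(47,3),(48,4)]) (.leaf [(98,3),(101,1),(103,8),(104,7)])) 
 (.node (.leaf [(70,10),(72,1),(76,1)]) (.leaf [(120,1),(126,7),(130,7),(131,4),(132,4)]))))))))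

def m4 : Rows := 
 (.node 
 (.node 
 (.node 
 (.node 
 (.node 
 (.node 
 (.node 
 (.node (.leaf [(0,7),(1,5),(2,5),(3,5),(6,5),(7,5),(16,6),(17,6),(21,4),(23,7),(24,10),(27,1),(28,7),(29,4),(32,4),(33,4),(35,7),(36,7),(38,4),(39,7),(40,7),(45,1),(49,7),(51,7),(52,7),(55,1),(56,7),(57,7),(58,1),(59,10),(60,1),(61,4),(63,4),(64,4),(66,7),(67,10),(68,7),(70,1),(73,4),(74,10)]) (.leaf [(77,8),(78,2),(81,8),(82,1),(83,10),(84,1),(86,9),(87,1),(88,10),(89,4),(91,10),(92,10),(93,10),(94,1),(95,10),(96,1),(97,1),(98,1),(99,9),(101,1),(102,8),(103,3),(104,3),(105,8),(106,1),(107,4),(108,10),(110,1),(119,10),(120,10),(121,10),(122,1),(123,1),(125,2),(127,9),(128,8),(129,10),(131,10)])) (.leaf [(0,2),(1,9),(2,3),(3,8),(4,5),(7,2),(10,6),(13,6),(14,5),(15,5),(17,3),(18,8),(19,8),(21,9),(22,3),(23,3),(25,2),(26,3),(27,3),(28,1),(29,5),(30,3),(31,6),(32,8),(33,3),(35,2),(36,8),(37,3),(39,6),(40,10),(41,5),(43,5),(44,5),(45,3),(46,2),(47,6),(49,2),(50,6),(51,8),(52,3),(54,8),(57,6),(61,8),(63,9),(64,4),(65,8),(67,8),(69,8),(71,6),(72,6),(73,5)]))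 
 (.node (.leaf [(0,9),(1,2),(2,9),(3,8),(4,9),(5,5),(10,5),(12,9),(13,1),(14,10),(16,3),(17,2),(18,6),(19,6),(21,2),(22,3),(23,3),(24,6),(25,2),(26,3),(29,2),(33,9),(35,8),(36,8),(37,10),(38,3),(39,3),(40,2),(41,6),(43,3),(45,6),(47,6),(49,9),(50,5),(51,2),(52,1),(53,9),(54,8),(55,6),(56,7),(57,9),(58,3),(59,5),(60,5),(61,8),(63,3),(64,3),(65,1),(66,8),(67,5),(68,6),(69,8),(70,3),(71,8),(73,8),(74,9),(75,9),(76,2)]) (.leaf [(82,8),(84,3),(85,6),(89,1),(90,3),(91,9),(92,7),(93,10),(94,10),(95,8),(97,5),(100,1),(103,4),(106,6),(107,10),(109,10),(110,3),(112,8),(113,5),(114,2),(115,3),(118,8),(119,2),(120,4),(121,1),(122,1),(124,1),(126,9),(128,10),(129,3),(130,5),(131,2),(132,3)]))) 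
 (.node 
 (.node (.leaf [(3,5),(5,5),(7,5),(10,6),(11,7),(12,7),(16,2),(17,6),(19,6),(20,7),(22,3),(23,7),(24,7),(27,4),(28,7),(30,5),(31,4),(32,8),(35,4),(36,4),(37,4),(39,7),(40,7),(41,4),(42,4),(44,7),(46,3),(48,4),(50,7),(52,3),(53,7),(55,4),(58,4),(59,4),(60,4),(61,4),(63,7),(64,7),(65,7),(68,3),(69,8),(70,4),(72,4),(73,4),(74,4),(75,4),(76,4)]) (.leaf [(77,3),(79,8),(80,3),(81,8),(82,8),(85,9),(89,1),(91,9),(92,10),(93,2),(94,10),(95,8),(97,2),(100,1),(103,1),(105,8),(106,9),(107,10),(109,7),(110,3),(111,3),(112,8),(113,2),(114,10),(115,3),(117,3),(119,2),(120,1),(121,9),(122,1),(124,1),(126,4),(128,10),(129,3),(130,5),(131,2)])) 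
 (.node (.leaf [(2,6),(3,6),(5,2),(6,4),(8,2),(9,9),(10,9),(11,7),(15,10),(16,4),(18,2),(22,5),(23,5),(24,8),(26,1),(29,4),(33,6),(34,2),(35,3),(36,9),(38,8),(39,3),(41,2),(43,3),(44,6),(45,6),(47,3),(48,5),(50,9),(51,5),(53,1),(54,10),(55,6),(56,3),(57,7),(58,2),(59,3),(60,3),(61,6),(62,9),(63,8),(64,2),(66,3),(67,5),(68,9),(69,6),(70,8),(71,8),(72,5),(73,8),(74,2),(75,6)]) (.leaf [(78,4),(79,9),(81,1),(82,9),(83,2),(84,4),(85,6),(86,10),(87,9),(88,2),(89,1),(90,6),(91,8),(92,6),(93,1),(94,8),(95,7),(97,1),(98,3),(99,9),(100,1),(101,9),(103,1),(106,1),(107,1),(108,2),(109,3),(110,9),(113,6),(117,9),(118,6),(119,8),(120,6),(121,1),(122,8),(123,9),(124,8),(125,4),(127,9),(128,1),(129,7)])))) 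
 (.node 
 (.node 
 (.node (.leaf [(2,5),(3,8),(5,3),(6,5),(7,8),(8,7),(9,5),(10,3),(11,2),(12,2),(15,5),(17,8),(18,5),(19,2),(20,2),(22,1),(23,9),(24,5),(26,3),(27,3),(28,9),(29,4),(30,9),(31,3),(32,7),(33,4),(34,7),(35,5),(36,2),(37,9),(39,1),(40,2),(41,2),(42,9),(43,3),(44,10),(45,4),(46,3),(47,4),(48,9),(50,9),(51,7),(52,4),(53,2),(54,8),(56,7),(57,7),(58,3),(59,3),(60,6),(61,2),(62,4),(63,6),(64,9),(65,2),(67,7),(69,10),(70,4),(71,8),(72,1),(73,10),(74,3),(75,9),(76,9)]) (.leaf [(0,2),(1,9),(2,10),(4,5),(10,3),(11,2),(13,8),(14,3),(17,3),(18,8),(19,10),(20,8),(21,9),(22,5),(25,10),(26,8),(27,8),(28,7),(30,5),(31,3),(32,3),(33,10),(35,3),(36,3),(37,3),(38,8),(39,3),(40,6),(41,8),(42,3),(43,6),(44,3),(45,8),(46,2),(48,9),(49,2),(50,3),(51,1),(52,8),(54,3),(63,8),(64,8),(65,8),(66,3),(67,3),(69,6),(71,5),(72,9),(73,8),(75,8)])) 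
 (.node (.leaf [(2,8),(5,8),(6,4),(7,9),(8,2),(9,9),(10,4),(12,2),(13,6),(14,5),(15,10),(16,8),(17,7),(18,5),(19,5),(26,9),(28,2),(29,4),(33,8),(34,2),(35,6),(36,1),(37,3),(38,3),(39,9),(40,7),(41,7),(44,8),(47,10),(50,4),(51,3),(53,3),(54,2),(56,6),(57,7),(58,6),(59,9),(62,9),(63,5),(64,10),(65,8),(66,8),(68,8),(70,5),(72,3),(73,2),(74,4),(75,7),(76,9)]) (.leaf [(78,2),(79,2),(80,1),(82,7),(85,6),(89,9),(90,3),(91,10),(92,8),(94,1),(95,10),(97,3),(99,10),(100,9),(101,9),(103,10),(104,8),(106,8),(107,2),(109,10),(110,4),(111,2),(112,6),(113,5),(114,8),(115,1),(116,10),(117,9),(118,8),(119,1),(120,3),(122,10),(123,2),(124,2),(125,9),(126,10),(127,1),(128,2),(129,1),(130,8),(131,10)]))) 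
 (.node 
 (.node (.leaf [(0,9),(1,2),(2,8),(3,2),(4,2),(5,10),(6,4),(10,6),(13,6),(14,5),(15,10),(16,8),(18,7),(19,5),(21,2),(23,9),(24,9),(25,9),(26,9),(29,6),(33,8),(35,6),(36,3),(37,5),(38,3),(39,9),(41,5),(44,8),(47,8),(49,9),(50,6),(51,3),(53,1),(54,2),(55,9),(56,6),(57,5),(58,8),(59,9),(60,3),(61,2),(63,5),(64,8),(65,6),(66,8),(68,8),(70,1),(72,3),(73,2),(74,4),(75,4)]) (.leaf [(77,3),(78,10),(79,10),(80,9),(81,3),(82,10),(85,3),(88,6),(89,8),(91,1),(92,1),(93,4),(94,10),(95,10),(96,3),(97,9),(99,10),(101,9),(103,9),(105,8),(106,2),(107,3),(108,8),(110,1),(111,2),(112,1),(113,8),(114,1),(115,9),(116,2),(117,1),(119,10),(120,10),(121,7),(122,1),(123,2),(124,1),(125,1),(126,1),(127,1),(129,1),(130,3),(132,8)])) 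
 (.node (.leaf [(2,8),(3,5),(4,6),(5,2),(6,4),(7,7),(8,4),(9,7),(10,3),(13,1),(14,10),(15,10),(16,2),(17,6),(18,3),(19,5),(20,2),(22,10),(23,6),(25,9),(26,6),(27,6),(28,1),(29,4),(30,8),(31,5),(32,5),(33,8),(34,4),(35,9),(36,4),(37,8),(38,9),(39,1),(40,9),(41,8),(42,9),(43,6),(44,8),(45,6),(47,4),(50,3),(51,3),(52,6),(53,9),(54,5),(56,7),(57,7),(61,5),(62,7),(63,2),(64,7),(65,3),(66,2),(67,5),(68,2),(69,1),(71,5),(72,3),(73,10)]) (.leaf [(77,8),(78,10),(79,10),(81,10),(82,10),(83,1),(84,10),(85,2),(86,1),(87,2),(88,1),(89,10),(91,3),(92,2),(93,10),(95,9),(97,2),(99,2),(100,2),(101,10),(102,8),(103,2),(105,8),(106,2),(107,10),(108,1),(110,10),(113,2),(117,10),(119,3),(120,10),(121,10),(123,10),(125,10),(127,2),(128,2),(129,9)]))))) 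
 (.node 
 (.node 
 (.node 
 (.node 
 (.node (.leaf [(3,3),(4,2),(5,3),(7,3),(10,8),(11,2),(12,2),(17,8),(19,8),(20,2),(22,8),(23,2),(24,2),(25,8),(26,7),(27,3),(28,2),(30,9),(31,3),(32,7),(35,9),(36,9),(37,2),(39,5),(40,2),(41,9),(42,9),(43,3),(44,2),(46,3),(48,9),(50,2),(52,4),(53,2),(54,4),(55,10),(58,3),(59,3),(60,9),(61,9),(63,2),(64,2),(65,9),(69,3),(70,3),(71,8),(72,9),(73,6),(74,4),(75,2),(76,9)]) (.leaf [(78,8),(79,2),(81,10),(82,4),(83,2),(84,6),(85,5),(86,8),(87,1),(88,10),(89,9),(90,8),(91,1),(92,3),(94,10),(95,2),(96,2),(97,9),(98,10),(99,1),(100,2),(101,1),(102,8),(103,10),(106,9),(107,9),(108,10),(110,4),(113,5),(117,2),(118,8),(119,1),(120,3),(122,10),(123,1),(125,8),(127,1),(128,2),(129,2),(131,1),(132,3)])) (.leaf [(3,8),(4,8),(6,9),(7,4),(8,9),(9,2),(11,2),(13,5),(14,6),(15,1),(16,7),(17,8),(18,5),(19,5),(20,6),(22,4),(23,3),(25,3),(26,2),(28,6),(29,7),(30,6),(31,9),(34,9),(35,5),(36,10),(37,8),(38,8),(40,8),(42,5),(44,3),(45,2),(46,4),(47,7),(48,9),(54,9),(56,2),(57,4),(61,8),(62,2),(63,6),(64,1),(65,3),(66,3),(67,9),(68,7),(69,7),(72,8),(75,10)]))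 
 (.node (.leaf [(0,9),(1,2),(2,8),(3,3),(5,5),(6,2),(10,3),(13,5),(14,6),(15,6),(16,3),(18,8),(19,8),(21,2),(22,6),(23,8),(24,3),(26,8),(29,6),(33,8),(35,9),(36,4),(37,8),(39,8),(41,8),(43,6),(44,6),(45,5),(49,9),(50,3),(51,3),(53,2),(54,3),(55,3),(56,1),(57,5),(58,3),(59,6),(60,8),(61,3),(63,2),(64,8),(65,3),(67,6),(68,10),(69,5),(71,5),(72,5),(73,3),(74,2),(75,6)]) (.leaf [(77,3),(78,10),(79,7),(80,1),(82,10),(91,1),(92,1),(93,1),(94,10),(95,10),(97,9),(99,2),(100,3),(101,1),(103,1),(105,8),(106,2),(109,8),(110,1),(111,10),(112,1),(114,9),(115,1),(116,10),(117,4),(119,10),(120,10),(121,10),(122,1),(123,10),(124,1),(125,1),(126,1),(127,9),(129,1),(130,8),(131,3),(132,3)]))) 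
 (.node 
 (.node (.leaf [(4,6),(5,6),(6,5),(7,5),(10,6),(15,5),(16,6),(17,6),(18,5),(19,5),(20,2),(22,4),(24,7),(25,4),(26,7),(28,7),(29,4),(32,7),(35,7),(38,4),(39,3),(40,7),(41,4),(42,10),(43,7),(44,4),(45,8),(46,10),(47,8),(50,7),(52,4),(53,4),(54,4),(55,1),(56,7),(57,7),(59,10),(60,4),(63,4),(66,7),(67,3),(68,7),(69,7),(71,4),(72,7),(73,8),(74,10),(75,8)]) (.leaf [(78,10),(79,10),(80,9),(81,8),(82,2),(85,5),(89,2),(90,5),(91,3),(92,5),(93,10),(94,3),(95,2),(96,3),(97,7),(99,2),(100,10),(101,4),(106,4),(107,9),(109,1),(110,9),(111,2),(112,4),(113,6),(114,10),(115,9),(116,2),(117,1),(118,6),(119,8),(120,6),(121,1),(122,8),(123,7),(125,1),(126,3),(127,9),(128,1),(129,9),(131,1)])) 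
 (.node (.leaf [(0,2),(1,9),(2,2),(3,8),(4,10),(5,2),(7,4),(13,5),(14,6),(15,1),(17,8),(18,5),(19,7),(20,10),(21,9),(22,6),(23,3),(25,1),(26,2),(27,9),(28,6),(29,5),(30,8),(31,9),(32,3),(33,2),(35,5),(36,8),(37,6),(38,8),(40,8),(42,1),(44,3),(45,2),(46,4),(47,4),(49,2),(51,9),(52,9),(53,9),(54,9),(57,6),(61,8),(63,6),(64,3),(65,5),(66,3),(67,9),(69,5),(72,8),(75,8)]) (.leaf [(77,8),(78,2),(79,3),(80,8),(82,1),(83,2),(84,1),(85,8),(86,1),(87,9),(88,2),(89,1),(91,10),(92,10),(93,7),(94,1),(95,2),(96,1),(97,1),(98,1),(99,1),(101,1),(102,3),(104,8),(105,8),(106,1),(107,1),(108,2),(109,8),(110,1),(113,8),(116,5),(117,3),(119,10),(120,10),(121,7),(122,1),(123,1),(124,8),(125,2),(127,1),(129,2),(131,2)])))) 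
 (.node 
 (.node 
 (.node (.leaf [(2,5),(3,8),(4,5),(5,8),(6,5),(7,8),(10,3),(11,5),(12,7),(16,6),(17,3),(18,6),(19,3),(20,5),(22,7),(23,9),(24,1),(25,7),(26,4),(27,1),(28,9),(30,6),(32,8),(33,4),(35,9),(36,9),(37,2),(39,9),(40,9),(41,2),(42,6),(44,2),(45,4),(47,7),(48,6),(50,9),(51,7),(52,3),(53,9),(54,7),(55,6),(56,7),(58,1),(60,10),(61,2),(63,2),(64,2),(65,9),(67,7),(68,7),(69,4),(70,1),(72,9),(73,2),(75,9),(76,5)]) (.leaf [(2,6),(3,6),(4,2),(7,4),(8,9),(9,2),(10,5),(12,7),(15,1),(17,4),(19,2),(20,3),(22,9),(23,5),(25,1),(26,10),(27,6),(28,3),(29,7),(30,2),(31,3),(32,3),(33,6),(34,9),(35,8),(36,2),(38,3),(39,5),(40,9),(41,6),(42,8),(43,8),(44,5),(45,8),(46,2),(47,6),(50,5),(51,5),(52,8),(54,1),(57,4),(61,6),(62,2),(63,3),(64,9),(66,8),(67,3),(69,2),(71,3),(72,6),(73,6),(75,3),(76,5)])) 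
 (.node (.leaf [(0,9),(1,2),(3,10),(5,5),(10,5),(12,2),(13,3),(14,8),(16,3),(18,10),(19,8),(21,2),(22,3),(23,1),(24,8),(26,3),(35,8),(36,8),(37,8),(38,3),(39,3),(41,6),(43,5),(44,9),(45,8),(47,8),(49,9),(50,5),(53,10),(54,8),(55,8),(56,7),(58,5),(59,3),(60,3),(61,10),(63,3),(64,3),(65,3),(66,8),(67,3),(68,6),(69,8),(70,3),(71,6),(72,3),(73,8),(74,2),(76,9)]) (.leaf [(77,8),(78,9),(79,10),(81,7),(82,3),(83,3),(84,8),(85,2),(86,10),(87,3),(89,3),(91,2),(92,1),(93,9),(94,1),(96,1),(98,4),(100,10),(101,3),(102,5),(103,2),(105,8),(107,3),(108,8),(109,3),(110,3),(113,2),(117,10),(119,2),(120,1),(121,9),(122,1),(123,3),(125,9),(128,10),(131,10)]))) 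
 (.node 
 (.node (.leaf [(2,5),(3,8),(4,2),(5,6),(6,7),(7,4),(8,7),(9,4),(10,10),(13,10),(14,1),(15,1),(16,6),(17,2),(18,5),(19,3),(22,3),(23,3),(24,6),(25,9),(26,5),(28,7),(29,7),(33,5),(34,7),(35,2),(36,7),(37,3),(38,2),(39,5),(40,2),(41,1),(43,5),(44,3),(45,10),(50,10),(51,6),(53,9),(54,6),(55,6),(56,1),(57,4),(58,8),(59,5),(60,5),(61,8),(62,4),(63,9),(64,4),(65,8),(66,9),(67,1),(68,9),(69,8),(70,9),(71,6),(72,8),(73,6),(75,4)]) (.leaf [(77,3),(78,9),(79,1),(80,10),(82,1),(85,9),(89,1),(91,8),(92,1),(93,1),(95,1),(97,1),(99,9),(100,9),(101,2),(105,8),(106,10),(107,10),(109,10),(110,10),(111,1),(112,10),(113,2),(114,1),(115,2),(116,1),(117,10),(119,3),(120,2),(121,10),(123,9),(125,2),(127,2),(128,2),(129,10),(130,8),(131,2)])) 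
 (.node (.leaf [(0,2),(1,9),(2,8),(3,9),(4,5),(5,9),(10,3),(11,9),(13,10),(14,1),(16,2),(17,3),(18,6),(19,6),(20,8),(21,9),(22,5),(23,2),(24,1),(25,9),(26,8),(27,6),(28,7),(29,9),(30,3),(31,5),(32,5),(33,8),(35,3),(36,3),(37,1),(38,8),(39,5),(40,6),(41,8),(42,3),(43,8),(45,8),(46,9),(47,9),(48,2),(49,2),(50,3),(51,3),(52,6),(53,2),(54,3),(57,2),(61,9),(63,8),(64,8),(65,10),(66,3),(67,3),(68,2),(69,6),(71,3),(73,6),(75,6)]) (.leaf [(78,6),(79,10),(81,10),(82,3),(84,8),(85,5),(86,2),(87,3),(90,8),(91,2),(92,4),(93,1),(94,1),(96,1),(98,9),(100,10),(101,3),(102,5),(103,2),(104,3),(110,3),(112,8),(113,5),(117,10),(118,8),(119,2),(120,4),(121,1),(122,1),(123,3),(125,6),(128,10),(131,7)])))))) 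
 (.node 
 (.node 
 (.node 
 (.node 
 (.node 
 (.node (.leaf [(2,7),(5,6),(7,6),(10,5),(15,6),(17,5),(19,5),(24,1),(26,4),(28,4),(29,7),(31,10),(33,7),(36,4),(37,7),(38,10),(40,4),(41,7),(43,4),(45,7),(47,4),(50,4),(51,4),(53,4),(54,7),(55,10),(57,4),(58,10),(59,1),(60,10),(64,7),(65,4),(66,1),(67,4),(70,10),(71,7)]) (.leaf [(78,8),(81,8),(84,8),(85,3),(86,8),(87,3),(88,8),(90,8),(91,3),(92,3),(94,3),(98,8),(99,3),(101,3),(102,8),(103,3),(108,8),(113,3),(118,8),(119,3),(120,3),(122,3),(123,3),(125,8),(127,3),(130,3),(131,8)])) (.leaf [(0,2),(1,9),(2,10),(3,3),(4,10),(5,2),(7,2),(10,3),(13,5),(14,6),(15,6),(16,2),(17,8),(18,5),(19,7),(20,2),(21,9),(22,8),(23,8),(25,4),(26,8),(27,8),(28,5),(29,8),(30,10),(31,1),(32,3),(33,10),(36,6),(37,6),(38,3),(39,5),(40,1),(41,8),(42,9),(43,6),(44,8),(45,8),(46,2),(47,7),(49,2),(50,3),(51,1),(52,8),(53,9),(54,3),(57,3),(61,3),(64,5),(65,5),(66,9),(67,3),(68,2),(69,3),(71,5),(72,3),(73,6)]))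 
 (.node (.leaf [(0,9),(1,2),(2,6),(5,10),(6,4),(10,6),(12,9),(13,4),(14,7),(15,10),(16,8),(18,5),(19,3),(21,2),(22,9),(24,9),(26,9),(29,6),(33,6),(35,8),(36,3),(37,7),(38,3),(39,9),(41,5),(44,8),(45,9),(47,8),(49,9),(50,6),(51,5),(54,2),(55,9),(56,6),(57,5),(58,6),(59,9),(60,2),(62,1),(63,3),(64,8),(65,4),(66,8),(67,2),(68,8),(69,2),(70,3),(72,3),(73,2),(74,2),(75,5),(76,2)]) (.leaf [(78,2),(79,10),(80,1),(81,8),(82,10),(85,8),(88,8),(91,9),(92,1),(93,1),(94,2),(95,10),(97,1),(98,8),(99,2),(101,1),(103,1),(106,10),(108,3),(110,1),(111,10),(112,9),(113,3),(114,6),(115,1),(116,10),(117,1),(119,2),(120,10),(121,10),(122,9),(123,10),(124,1),(125,9),(126,4),(127,9),(129,1),(130,5),(131,3)]))) 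
 (.node 
 (.node (.leaf [(2,8),(4,6),(5,9),(7,3),(10,8),(11,2),(12,2),(15,3),(17,8),(18,7),(19,2),(20,2),(22,1),(24,9),(25,4),(26,9),(27,9),(28,2),(29,6),(30,3),(31,3),(32,7),(33,2),(35,3),(36,9),(37,5),(38,9),(39,7),(40,2),(41,9),(42,9),(43,5),(44,8),(45,6),(46,9),(47,2),(48,9),(50,2),(51,9),(52,4),(53,6),(54,2),(55,10),(57,5),(58,9),(59,8),(60,2),(63,8),(64,2),(65,6),(66,2),(67,5),(69,10),(70,9),(71,6),(72,3),(73,4),(74,9),(75,7),(76,9)]) (.leaf [(77,3),(79,8),(80,8),(82,3),(85,2),(89,10),(91,10),(92,1),(93,1),(94,9),(95,8),(97,1),(100,2),(103,2),(105,8),(106,10),(107,1),(109,9),(111,3),(113,9),(114,1),(116,3),(117,3),(119,1),(120,10),(121,10),(122,2),(124,2),(126,2),(128,9),(129,3),(130,8),(131,1)])) 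
 (.node (.leaf [(0,2),(1,9),(2,5),(4,10),(5,2),(7,4),(10,6),(13,5),(14,6),(15,9),(17,8),(18,5),(19,7),(20,5),(21,9),(22,6),(25,8),(26,5),(27,3),(28,10),(29,2),(30,8),(31,4),(32,8),(33,5),(35,8),(36,8),(37,6),(38,5),(39,8),(40,4),(41,6),(42,6),(43,3),(45,5),(46,4),(47,1),(49,2),(50,6),(51,6),(52,3),(53,9),(54,6),(57,9),(63,3),(64,3),(65,5),(66,6),(67,6),(69,5),(71,8),(73,3),(75,5)]) (.leaf [(78,1),(79,9),(80,3),(81,9),(82,1),(83,10),(84,9),(85,1),(86,10),(87,1),(88,10),(89,1),(92,1),(93,1),(95,10),(96,3),(97,9),(99,9),(100,9),(101,1),(102,5),(103,1),(106,9),(107,1),(108,10),(109,3),(110,1),(113,1),(114,3),(116,3),(117,9),(120,1),(121,1),(123,1),(125,1),(127,9),(128,9),(129,10),(131,8)])))) 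
 (.node 
 (.node 
 (.node (.leaf [(2,3),(3,3),(4,5),(5,5),(10,2),(15,8),(18,6),(19,6),(22,7),(23,2),(24,7),(25,7),(26,9),(27,5),(29,2),(30,6),(31,1),(33,9),(35,9),(38,2),(39,6),(41,8),(43,9),(44,2),(45,5),(46,6),(47,9),(50,3),(51,2),(53,7),(54,2),(57,9),(58,6),(59,6),(60,4),(61,9),(63,2),(66,9),(67,6),(69,4),(70,6),(71,2),(72,9),(73,5),(74,6),(75,9)]) (.leaf [(4,2),(7,4),(8,9),(9,2),(18,4),(19,2),(20,9),(22,9),(25,9),(28,6),(29,2),(30,2),(31,9),(32,9),(34,9),(35,2),(36,2),(38,2),(42,2),(43,2),(45,2),(46,2),(47,5),(52,2),(57,9),(62,2),(63,9),(64,9),(66,9),(67,9),(69,2),(71,9),(74,5),(75,2)])) 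
 (.node (.leaf [(3,8),(4,2),(5,3),(6,2),(10,3),(13,5),(14,6),(15,4),(16,5),(18,1),(19,8),(20,7),(22,5),(23,3),(24,8),(25,9),(26,3),(29,9),(32,9),(35,6),(36,8),(37,8),(38,5),(39,3),(41,8),(42,5),(43,5),(45,8),(47,8),(50,3),(52,2),(53,1),(54,8),(55,8),(56,5),(57,2),(58,7),(59,3),(60,3),(61,8),(63,5),(64,3),(65,3),(66,6),(67,3),(68,9),(69,6),(70,1),(71,6),(73,8),(74,4),(75,3)]) (.leaf [(77,8),(78,9),(81,8),(82,2),(83,1),(84,7),(85,3),(86,10),(87,5),(88,1),(89,2),(91,1),(92,1),(93,9),(94,2),(95,1),(96,2),(97,10),(98,2),(99,10),(101,2),(102,5),(103,3),(105,8),(106,7),(107,2),(108,1),(109,3),(110,2),(113,3),(119,1),(120,1),(121,9),(122,2),(123,2),(125,9),(127,10),(129,1),(131,9)]))) 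
 (.node 
 (.node (.leaf [(0,9),(1,2),(2,3),(3,2),(5,5),(6,2),(10,3),(13,1),(14,10),(15,5),(16,3),(18,8),(19,8),(21,2),(23,9),(24,9),(26,9),(29,5),(33,3),(35,3),(36,8),(37,8),(38,6),(39,9),(41,8),(44,5),(47,5),(49,9),(50,3),(51,8),(53,6),(54,3),(55,9),(56,8),(57,6),(58,3),(60,2),(61,2),(63,8),(64,3),(65,3),(66,5),(68,2),(70,6),(72,6),(73,2),(74,2),(75,6)]) (.leaf [(77,3),(78,8),(80,8),(82,8),(85,9),(89,9),(90,6),(91,1),(92,10),(93,5),(94,10),(95,8),(97,2),(100,1),(101,8),(103,1),(105,8),(106,9),(107,2),(109,10),(110,3),(111,3),(112,8),(113,2),(114,2),(115,3),(116,3),(118,8),(119,10),(120,1),(121,6),(122,1),(123,3),(124,1),(125,3),(126,1),(128,10),(129,3),(130,8),(131,10),(132,8)])) 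
 (.node (.leaf [(2,8),(3,5),(4,8),(5,2),(7,2),(10,5),(13,5),(14,6),(15,6),(17,10),(18,7),(19,7),(22,8),(23,6),(24,2),(25,7),(26,8),(27,8),(28,5),(29,8),(30,8),(31,3),(32,3),(33,8),(36,8),(37,8),(39,3),(40,3),(41,6),(43,6),(44,6),(45,8),(46,4),(47,7),(50,5),(51,3),(52,8),(53,9),(54,3),(57,3),(58,5),(60,9),(61,5),(64,3),(65,3),(67,3),(69,3),(71,5),(72,5),(73,8),(75,2)]) (.leaf [(77,8),(78,1),(79,1),(81,9),(82,1),(83,10),(84,9),(85,1),(86,7),(87,4),(88,10),(89,4),(92,9),(93,9),(95,2),(97,1),(98,3),(99,9),(100,1),(101,1),(102,8),(103,1),(105,8),(106,1),(107,4),(108,10),(109,3),(110,1),(113,1),(117,1),(120,9),(121,9),(122,8),(123,1),(124,8),(125,1),(127,9),(128,1),(129,2)]))))) 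
 (.node 
 (.node 
 (.node 
 (.node (.leaf [(2,8),(3,8),(4,5),(5,5),(6,2),(11,7),(12,7),(15,3),(18,6),(19,6),(20,7),(22,7),(23,9),(24,7),(25,7),(26,2),(27,9),(29,6),(30,9),(31,5),(33,2),(35,2),(38,6),(39,10),(42,4),(43,2),(44,9),(45,9),(46,10),(47,5),(48,4),(51,9),(53,7),(54,9),(55,3),(56,8),(57,5),(58,10),(59,9),(60,4),(61,2),(63,9),(66,5),(67,2),(69,4),(70,10),(71,9),(72,2),(73,1),(74,10),(75,5),(76,4)]) (.leaf [(2,8),(4,3),(5,2),(7,2),(10,5),(13,6),(14,5),(15,7),(17,5),(18,8),(19,1),(20,10),(22,3),(24,2),(25,1),(26,8),(27,8),(28,5),(29,2),(30,7),(31,3),(32,3),(33,8),(35,5),(36,3),(37,3),(38,6),(39,3),(40,9),(41,6),(42,1),(43,6),(45,8),(46,4),(47,3),(50,5),(51,3),(52,8),(53,9),(54,3),(57,9),(60,9),(63,6),(64,8),(65,8),(66,5),(67,3),(69,8),(70,5),(71,5),(73,8),(75,8)])) 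
 (.node (.leaf [(0,9),(1,2),(2,3),(3,10),(4,2),(5,10),(6,2),(10,8),(13,6),(14,5),(15,5),(16,8),(17,2),(18,7),(19,5),(21,2),(22,3),(23,1),(24,8),(25,9),(26,3),(29,3),(33,3),(36,5),(37,5),(38,9),(39,3),(40,2),(41,3),(43,5),(44,3),(45,6),(49,9),(50,8),(51,8),(53,4),(54,8),(55,8),(56,5),(57,8),(58,10),(59,1),(60,3),(61,10),(64,6),(65,6),(66,3),(67,5),(68,1),(69,8),(70,9),(71,6),(72,8),(73,8),(74,2),(75,7)]) (.leaf [(80,3),(85,8),(90,3),(91,8),(92,8),(94,8),(95,8),(97,3),(99,8),(102,8),(103,3),(106,8),(109,8),(112,8),(113,3),(114,8),(115,3),(116,8),(118,8),(119,3),(120,3),(122,3),(126,8),(127,3),(129,3),(130,8),(131,3)]))) 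
 (.node 
 (.node (.leaf [(0,9),(1,2),(3,5),(4,2),(5,10),(6,4),(10,6),(13,6),(14,5),(15,2),(16,8),(18,7),(19,5),(21,2),(22,6),(23,6),(24,3),(25,9),(26,6),(29,9),(35,3),(36,3),(37,5),(38,6),(39,6),(41,5),(43,8),(45,3),(47,5),(49,9),(50,6),(53,8),(54,5),(55,3),(56,10),(57,2),(58,8),(59,4),(60,8),(61,5),(63,8),(64,8),(65,6),(66,5),(67,8),(68,4),(69,6),(70,6),(71,3),(73,5),(74,4),(75,1)]) (.leaf [(78,2),(79,10),(80,1),(81,8),(82,10),(85,10),(86,8),(88,8),(89,2),(92,10),(93,10),(95,10),(97,10),(99,2),(100,2),(101,1),(103,3),(106,1),(107,9),(108,3),(109,9),(110,1),(111,10),(112,9),(113,1),(114,10),(115,1),(116,10),(117,1),(120,1),(121,1),(123,10),(124,3),(125,9),(127,9),(128,9),(129,1),(130,5),(131,1)])) 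
 (.node (.leaf [(0,2),(1,9),(2,2),(3,3),(4,5),(7,2),(13,10),(14,1),(15,6),(17,3),(18,8),(19,8),(20,5),(21,9),(22,3),(23,8),(25,6),(26,3),(27,9),(28,8),(29,6),(30,3),(32,2),(33,2),(35,8),(36,3),(37,3),(38,5),(40,2),(42,6),(44,6),(45,2),(46,2),(47,6),(49,2),(51,9),(52,9),(54,9),(57,5),(61,3),(63,3),(64,8),(65,8),(66,6),(67,9),(69,8),(72,5),(75,5)]) (.leaf [(77,8),(78,9),(79,2),(81,10),(82,3),(83,3),(84,8),(85,2),(86,2),(87,3),(88,3),(90,8),(91,10),(92,1),(93,6),(94,1),(95,3),(96,1),(97,3),(98,1),(100,10),(101,3),(102,8),(103,10),(104,8),(105,8),(106,3),(108,3),(110,3),(113,2),(117,2),(118,5),(119,10),(120,1),(121,6),(122,1),(123,3),(125,9),(128,10),(129,3),(131,10)])))) 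
 (.node 
 (.node 
 (.node (.leaf [(2,2),(3,5),(5,3),(6,10),(7,2),(10,3),(11,2),(12,2),(13,5),(14,7),(15,8),(16,6),(17,3),(18,5),(19,2),(20,2),(22,8),(23,7),(24,1),(26,9),(27,10),(28,5),(29,2),(30,4),(31,3),(32,4),(33,6),(35,3),(36,9),(37,9),(38,2),(39,10),(40,9),(41,2),(42,9),(43,5),(44,4),(45,3),(46,8),(47,2),(48,9),(50,9),(51,5),(52,7),(53,2),(54,2),(56,3),(57,9),(58,9),(59,8),(60,10),(61,4),(63,8),(64,2),(65,2),(66,9),(67,8),(68,7),(69,3),(70,10),(71,6),(72,7),(73,1),(74,8),(75,4),(76,9)]) (.leaf [(77,3),(78,4),(79,9),(80,10),(81,8),(82,9),(85,8),(91,10),(92,10),(93,2),(94,9),(95,9),(97,2),(99,1),(101,10),(103,2),(105,8),(106,9),(109,8),(110,2),(111,1),(112,7),(113,3),(114,10),(115,5),(116,1),(117,2),(119,1),(120,1),(121,9),(122,2),(123,1),(124,2),(125,10),(126,2),(127,10),(129,2),(130,5),(131,3)])) 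
 (.node (.leaf [(5,2),(6,4),(8,2),(9,9),(10,9),(18,2),(19,4),(24,2),(29,9),(34,2),(35,9),(36,9),(38,9),(39,9),(41,2),(43,9),(46,5),(47,2),(50,9),(53,9),(56,6),(57,2),(58,2),(59,9),(60,9),(62,9),(63,2),(64,2),(66,2),(70,2),(71,2),(73,2),(74,2),(75,5)]) (.leaf [(77,8),(78,10),(79,1),(81,9),(83,3),(85,9),(86,1),(88,3),(89,3),(91,1),(92,10),(93,10),(94,2),(96,2),(98,2),(100,9),(101,3),(102,8),(103,1),(105,8),(107,3),(108,3),(110,8),(113,9),(117,1),(119,1),(120,10),(121,10),(122,2),(123,3),(125,10),(128,9),(131,9)]))) 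
 (.node 
 (.node (.leaf [(2,5),(3,8),(4,2),(5,8),(6,2),(10,8),(13,6),(14,5),(15,5),(16,10),(18,7),(19,7),(22,5),(23,3),(24,8),(25,9),(26,3),(29,3),(30,5),(32,9),(33,5),(36,3),(37,3),(39,3),(41,3),(43,5),(44,5),(45,8),(47,2),(50,8),(51,6),(52,2),(53,7),(54,8),(55,8),(56,5),(57,8),(58,8),(59,3),(60,3),(61,8),(64,8),(65,8),(67,3),(68,3),(69,6),(71,6),(72,6),(73,8),(74,4),(75,7)]) (.leaf [(77,3),(78,10),(79,7),(80,1),(81,8),(82,10),(85,10),(89,10),(92,2),(93,2),(94,3),(95,10),(96,3),(97,10),(99,2),(100,10),(101,9),(105,8),(106,1),(107,1),(109,9),(110,1),(111,10),(112,9),(113,1),(114,7),(115,4),(116,10),(117,4),(120,9),(121,9),(123,2),(125,1),(126,3),(127,9),(128,1),(129,1),(130,8),(131,1)])) 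
 (.node (.leaf [(0,2),(1,9),(3,6),(4,10),(7,4),(10,9),(11,9),(13,7),(14,4),(15,1),(17,8),(18,3),(19,5),(20,8),(21,9),(22,6),(23,5),(26,2),(27,9),(28,6),(29,5),(30,6),(31,9),(32,2),(34,1),(35,3),(36,8),(37,4),(38,8),(39,2),(40,8),(41,2),(42,3),(44,3),(45,2),(46,2),(47,5),(48,2),(49,2),(50,9),(52,9),(54,9),(57,6),(61,6),(63,8),(64,3),(65,7),(66,3),(67,9),(69,5),(72,8),(73,9),(75,8)]) (.leaf [(78,10),(80,3),(82,1),(83,10),(84,9),(85,3),(86,6),(87,1),(88,10),(89,1),(91,2),(92,10),(93,10),(94,9),(95,10),(96,1),(97,9),(98,4),(99,9),(101,1),(102,5),(103,3),(106,9),(107,1),(108,10),(109,3),(110,1),(113,3),(116,3),(119,2),(120,10),(121,10),(122,9),(123,1),(125,10),(126,3),(127,9),(129,10),(131,10)]))))))) 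
 (.node 
 (.node 
 (.node 
 (.node 
 (.node 
 (.node 
 (.node (.leaf [(0,5),(1,7),(2,5),(3,5),(4,6),(5,6),(6,10),(7,10),(10,6),(15,5),(16,1),(17,1),(18,5),(19,5),(21,7),(22,4),(23,7),(24,3),(25,4),(26,7),(27,1),(28,3),(30,1),(31,10),(32,8),(33,4),(36,4),(39,2),(40,3),(41,4),(43,7),(44,4),(45,1),(46,9),(47,8),(49,4),(50,7),(51,7),(52,3),(53,4),(54,4),(55,2),(56,3),(59,10),(60,8),(61,4),(64,7),(67,10),(68,3),(69,7),(71,4),(72,7),(73,9),(74,10),(75,8)]) (.leaf [(78,8),(79,3),(81,8),(82,3),(84,8),(85,3),(87,3),(90,8),(93,8),(94,3),(95,3),(96,3),(100,8),(101,3),(104,8),(110,3),(112,8),(113,3),(117,3),(118,8),(121,8),(122,3),(123,3),(125,8),(128,8)])) (.leaf [(2,10),(3,8),(5,2),(10,5),(11,2),(15,3),(18,2),(19,2),(20,5),(23,3),(25,4),(26,8),(27,8),(28,7),(29,3),(30,2),(31,3),(32,3),(33,10),(35,8),(36,9),(37,3),(38,5),(39,3),(40,3),(41,6),(42,6),(43,6),(44,3),(45,8),(46,2),(47,2),(48,9),(50,5),(51,1),(52,8),(53,9),(54,3),(57,8),(61,8),(63,3),(64,2),(65,9),(66,6),(67,3),(71,5),(72,8),(73,8),(75,5)]))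 
 (.node (.leaf [(0,9),(1,2),(2,6),(5,8),(6,2),(10,6),(13,6),(14,5),(15,6),(16,6),(18,3),(19,5),(21,2),(22,9),(29,8),(33,6),(35,6),(36,3),(37,3),(38,1),(41,5),(44,8),(47,10),(49,9),(50,6),(51,6),(53,3),(56,8),(57,3),(58,6),(59,9),(63,5),(64,8),(65,8),(66,10),(68,5),(69,2),(70,5),(72,3),(74,2),(75,4)]) (.leaf [(77,3),(79,8),(82,8),(84,3),(85,7),(89,10),(90,3),(91,10),(92,9),(93,4),(94,9),(95,8),(97,7),(100,10),(101,8),(103,10),(105,8),(106,7),(107,1),(109,9),(110,3),(112,8),(113,4),(114,9),(115,3),(117,3),(118,8),(119,1),(120,2),(121,7),(122,2),(123,3),(124,2),(126,2),(128,1),(129,3),(130,8),(131,1)]))) 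
 (.node 
 (.node (.leaf [(2,2),(3,8),(5,6),(6,5),(11,7),(12,7),(15,3),(16,6),(17,2),(19,5),(20,7),(23,9),(24,7),(26,2),(27,10),(29,9),(30,9),(31,3),(32,4),(33,6),(35,9),(36,7),(37,7),(38,9),(39,5),(40,3),(42,4),(43,2),(44,2),(45,10),(46,9),(47,6),(48,4),(51,5),(52,7),(53,4),(54,9),(55,4),(56,7),(57,2),(58,10),(59,9),(60,4),(61,2),(63,2),(64,4),(65,4),(66,2),(67,1),(68,7),(70,9),(71,9),(72,9),(73,6),(74,8),(75,2),(76,4)]) (.leaf [(85,7),(89,2),(91,7),(92,9),(93,9),(94,9),(97,4),(100,2),(103,2),(106,7),(107,9),(109,9),(112,8),(113,4),(114,9),(115,6),(119,4),(120,2),(121,2),(122,2),(124,2),(126,2),(128,9),(130,5),(131,1)])) 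
 (.node (.leaf [(2,5),(3,8),(4,5),(5,2),(7,2),(10,8),(13,8),(14,3),(15,1),(17,5),(18,8),(19,10),(20,2),(21,1),(22,3),(23,3),(25,2),(26,5),(27,3),(28,1),(29,5),(30,5),(31,6),(32,8),(33,5),(36,3),(37,3),(39,8),(40,1),(41,3),(42,9),(43,3),(44,3),(45,5),(46,2),(47,3),(50,8),(51,6),(52,3),(53,9),(54,6),(57,6),(61,8),(64,8),(65,8),(67,6),(69,8),(71,8),(72,8),(73,3)]) (.leaf [(79,10),(81,10),(82,1),(83,10),(84,9),(85,2),(86,8),(87,4),(88,10),(89,1),(91,9),(93,8),(94,10),(95,2),(96,2),(97,1),(98,2),(99,9),(100,2),(101,1),(102,8),(103,2),(106,1),(107,1),(108,10),(109,3),(110,1),(113,10),(117,10),(119,9),(121,8),(122,10),(123,1),(127,9),(128,2),(129,2),(131,1)])))) 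
 (.node 
 (.node 
 (.node (.leaf [(3,8),(4,5),(5,2),(7,8),(8,5),(9,7),(10,3),(11,2),(12,2),(15,5),(16,5),(17,8),(19,3),(20,2),(23,9),(24,5),(25,7),(27,4),(28,9),(29,4),(30,9),(31,5),(34,4),(35,9),(36,9),(37,2),(38,8),(39,6),(40,2),(41,2),(42,9),(44,9),(46,4),(47,3),(48,9),(50,9),(53,5),(55,9),(57,7),(58,4),(59,3),(60,6),(61,2),(62,7),(63,2),(64,2),(65,9),(66,3),(68,4),(70,5),(72,2),(73,5),(74,4),(75,9),(76,9)]) (.leaf [(3,9),(4,2),(6,9),(7,4),(8,9),(9,2),(11,9),(13,4),(14,7),(15,7),(17,2),(22,9),(23,2),(25,9),(26,2),(28,6),(29,2),(31,9),(34,9),(37,9),(38,2),(39,5),(40,2),(44,9),(45,2),(48,2),(54,9),(56,2),(57,9),(61,9),(62,2),(65,2),(66,9),(67,9),(69,2),(72,2),(73,7)])) 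
 (.node (.leaf [(0,9),(1,2),(2,3),(3,2),(5,7),(6,4),(7,9),(8,2),(9,9),(10,3),(13,1),(14,10),(15,7),(16,5),(18,10),(19,8),(21,2),(23,9),(26,9),(28,2),(29,1),(33,3),(34,2),(35,3),(36,6),(37,10),(38,6),(39,9),(41,8),(44,3),(45,9),(47,3),(49,9),(50,4),(51,8),(53,3),(54,2),(56,6),(57,10),(58,5),(59,9),(61,2),(62,9),(63,8),(64,5),(65,1),(66,5),(67,2),(68,5),(70,6),(72,8),(73,2),(74,2),(75,9)]) (.leaf [(77,8),(78,10),(79,10),(81,10),(82,2),(83,1),(84,10),(85,2),(86,9),(87,2),(88,1),(89,2),(92,10),(93,10),(95,1),(96,3),(97,10),(98,3),(99,10),(100,10),(101,2),(102,8),(103,2),(105,5),(106,10),(107,2),(108,1),(109,3),(110,2),(113,2),(117,10),(120,10),(121,10),(123,2),(125,10),(127,10),(128,10),(129,1)]))) 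
 (.node 
 (.node (.leaf [(2,5),(4,4),(5,5),(6,4),(10,1),(13,5),(14,6),(15,5),(16,5),(18,10),(19,10),(25,7),(29,1),(33,5),(35,1),(36,6),(37,6),(38,6),(41,10),(44,5),(47,5),(50,1),(51,6),(53,6),(56,6),(57,10),(58,5),(59,7),(63,10),(64,5),(65,5),(66,5),(68,5),(70,6),(72,6),(74,4),(75,9)]) (.leaf [(77,3),(78,8),(85,1),(89,4),(91,9),(92,10),(93,10),(94,7),(97,2),(100,1),(103,4),(105,8),(106,9),(107,10),(109,10),(113,10),(114,2),(115,3),(119,2),(120,1),(121,1),(122,4),(124,1),(125,3),(126,9),(128,10),(130,8),(131,2)])) 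
 (.node (.leaf [(2,8),(3,8),(4,2),(5,2),(7,2),(10,3),(15,1),(17,2),(19,4),(20,5),(23,3),(25,1),(26,8),(27,8),(28,5),(29,8),(30,2),(31,1),(32,3),(33,8),(35,6),(37,9),(38,3),(39,5),(40,6),(41,8),(42,6),(43,6),(44,5),(45,8),(46,2),(47,5),(50,3),(51,3),(52,8),(53,9),(54,3),(57,4),(61,8),(63,5),(65,2),(66,8),(67,3),(71,5),(72,6),(73,6),(75,3)]) (.leaf [(79,10),(81,10),(82,1),(83,10),(84,1),(85,10),(86,8),(87,1),(88,10),(89,4),(91,1),(92,8),(94,2),(95,10),(96,2),(97,9),(98,2),(99,9),(100,10),(101,1),(102,8),(103,2),(104,3),(106,9),(107,4),(108,10),(109,3),(110,1),(113,10),(117,10),(119,1),(120,8),(121,8),(122,2),(123,1),(127,9),(128,10),(129,10),(131,9)]))))) 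
 (.node 
 (.node 
 (.node 
 (.node (.leaf [(2,6),(3,3),(4,5),(5,4),(6,6),(7,3),(10,8),(11,2),(12,2),(16,5),(17,8),(18,6),(19,9),(20,2),(22,7),(23,2),(24,2),(25,7),(26,4),(27,4),(28,2),(30,9),(31,4),(33,7),(35,2),(36,2),(37,9),(39,10),(40,2),(41,9),(42,9),(43,8),(44,9),(45,7),(46,5),(47,7),(48,9),(50,2),(51,4),(53,2),(54,7),(55,8),(56,4),(58,4),(59,4),(60,9),(61,9),(63,9),(64,9),(65,2),(67,4),(68,4),(69,4),(70,4),(71,3),(72,2),(73,1),(74,4),(75,5),(76,9)]) (.leaf [(0,2),(1,9),(2,2),(3,3),(4,7),(6,9),(7,4),(8,9),(9,2),(13,10),(14,1),(15,4),(17,5),(18,8),(19,10),(20,5),(21,9),(22,4),(23,8),(25,3),(26,2),(28,6),(29,10),(30,5),(31,9),(33,2),(34,9),(35,8),(36,5),(37,1),(38,5),(39,2),(40,5),(42,6),(44,8),(45,2),(46,2),(47,9),(49,2),(51,9),(54,9),(56,2),(57,1),(61,3),(62,2),(63,3),(64,6),(65,10),(66,6),(67,9),(69,8),(72,3),(73,9),(75,3)])) 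
 (.node (.leaf [(2,8),(3,10),(4,2),(12,2),(15,8),(18,2),(19,2),(22,5),(23,1),(24,8),(25,9),(26,3),(29,8),(33,8),(35,3),(36,2),(37,9),(38,6),(39,3),(43,5),(44,8),(45,8),(47,5),(51,3),(53,4),(54,8),(55,8),(56,7),(57,3),(58,2),(59,3),(60,3),(61,10),(63,8),(64,9),(65,3),(66,5),(67,3),(68,3),(69,6),(70,6),(71,6),(72,3),(73,8),(74,2),(75,2),(76,9)]) (.leaf [(82,8),(84,3),(85,8),(89,8),(90,3),(93,3),(94,8),(95,8),(97,3),(100,3),(106,8),(107,3),(109,8),(110,3),(112,8),(113,3),(115,3),(118,8),(121,8),(122,3),(123,3),(124,3),(128,8),(129,3),(132,8)]))) 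
 (.node 
 (.node (.leaf [(2,8),(3,5),(4,2),(5,5),(6,2),(10,3),(13,3),(14,8),(15,10),(16,5),(18,10),(19,8),(22,8),(23,6),(24,3),(25,9),(26,6),(29,6),(33,8),(36,8),(37,8),(39,6),(41,8),(43,8),(44,8),(45,3),(49,1),(50,3),(51,3),(53,2),(54,5),(55,3),(56,1),(57,5),(58,5),(59,6),(60,8),(61,5),(64,3),(65,3),(67,8),(68,1),(69,3),(70,9),(71,3),(72,3),(73,5),(74,2),(75,3)]) (.leaf [(78,10),(79,10),(80,1),(81,8),(82,10),(85,1),(89,1),(91,2),(93,3),(94,1),(95,10),(99,2),(100,9),(101,9),(103,10),(107,10),(109,10),(110,1),(111,10),(112,9),(113,2),(114,8),(115,4),(116,10),(117,1),(119,9),(121,8),(122,10),(123,2),(124,2),(125,1),(126,2),(127,9),(128,2),(129,1),(130,8),(131,2)])) 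
 (.node (.leaf [(3,5),(4,5),(5,4),(7,4),(13,6),(14,5),(15,6),(17,5),(18,10),(19,10),(20,5),(22,1),(23,6),(25,6),(28,6),(29,10),(30,5),(31,7),(35,10),(36,5),(37,5),(38,5),(40,5),(42,6),(44,6),(46,4),(47,9),(53,7),(57,1),(61,5),(63,1),(64,6),(65,6),(66,6),(69,10),(72,5),(75,5)]) (.leaf [(77,8),(78,9),(79,10),(81,10),(85,10),(86,2),(87,3),(91,2),(92,1),(93,1),(94,4),(96,1),(97,3),(98,9),(100,10),(102,8),(103,2),(105,8),(106,3),(113,10),(117,7),(119,2),(120,1),(121,1),(122,4),(125,9),(128,10),(131,7)])))) 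
 (.node 
 (.node 
 (.node (.leaf [(2,8),(3,5),(5,8),(6,10),(7,7),(10,9),(11,2),(12,2),(13,7),(14,5),(15,2),(16,6),(17,9),(18,5),(19,8),(20,2),(23,7),(24,8),(26,5),(27,10),(28,1),(29,6),(30,4),(31,4),(32,4),(33,2),(36,2),(37,2),(38,6),(39,10),(40,5),(41,6),(42,9),(43,9),(44,4),(45,10),(46,8),(47,6),(48,9),(50,5),(51,9),(52,7),(53,9),(54,6),(56,3),(57,5),(58,10),(59,8),(60,3),(61,4),(64,9),(65,9),(66,5),(67,1),(68,7),(70,10),(71,2),(72,7),(73,1),(74,8),(75,4),(76,9)]) (.leaf [(77,6),(78,1),(79,9),(80,10),(81,8),(82,9),(85,9),(89,1),(92,1),(93,1),(95,9),(97,1),(99,1),(100,1),(101,10),(105,8),(106,10),(107,10),(109,10),(110,2),(111,1),(112,10),(113,2),(114,9),(115,2),(116,1),(117,2),(120,10),(121,10),(123,1),(124,3),(125,10),(126,3),(127,10),(128,10),(129,2),(130,8),(131,2)])) 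
 (.node (.leaf [(2,9),(5,2),(6,4),(7,9),(8,2),(9,9),(10,9),(12,9),(13,7),(14,4),(15,4),(16,2),(26,9),(28,2),(29,9),(33,9),(34,2),(37,2),(38,9),(39,9),(41,2),(44,2),(45,7),(50,9),(51,2),(53,9),(54,2),(56,6),(57,2),(59,9),(62,9),(65,9),(66,2),(67,5),(68,2),(72,9),(73,2),(76,2)]) (.leaf [(78,7),(79,9),(81,9),(84,8),(85,4),(86,9),(87,6),(91,4),(92,2),(93,2),(94,2),(96,2),(98,2),(100,9),(102,5),(103,1),(113,4),(117,9),(119,4),(120,2),(121,2),(122,2),(125,7),(128,9),(131,9)]))) 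
 (.node 
 (.node (.leaf [(2,8),(3,8),(4,2),(5,2),(6,2),(15,10),(16,2),(18,4),(22,3),(23,3),(24,8),(25,9),(26,3),(29,4),(33,8),(35,5),(37,2),(38,8),(39,3),(43,5),(44,6),(45,6),(47,3),(51,3),(53,1),(54,8),(55,8),(56,5),(57,8),(58,2),(59,1),(60,3),(61,8),(63,6),(65,9),(66,3),(67,5),(68,6),(69,8),(70,6),(71,6),(72,5),(73,8),(74,2),(75,5)]) (.leaf [(78,2),(79,7),(80,1),(81,8),(82,10),(85,1),(89,1),(91,10),(92,3),(93,3),(94,9),(95,10),(99,2),(100,1),(101,1),(103,2),(107,10),(109,10),(110,1),(111,10),(112,1),(113,10),(114,8),(115,1),(116,10),(117,4),(119,1),(120,8),(122,2),(123,10),(124,2),(125,9),(126,2),(127,9),(128,10),(129,1),(130,8),(131,2),(132,3)])) 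
 (.node (.leaf [(0,2),(1,9),(3,6),(4,8),(7,2),(10,9),(13,5),(14,6),(15,5),(17,6),(18,5),(19,3),(20,6),(21,9),(22,6),(23,6),(25,3),(28,8),(29,3),(30,6),(31,9),(35,5),(36,8),(37,8),(38,10),(40,5),(41,2),(42,5),(44,3),(46,2),(47,4),(49,2),(50,9),(57,8),(61,6),(63,6),(64,3),(65,3),(66,1),(69,5),(72,8),(75,10)]) (.leaf [(77,8),(78,7),(79,1),(81,9),(82,3),(84,8),(85,4),(86,9),(87,3),(89,3),(90,8),(91,1),(92,2),(93,7),(94,2),(95,3),(96,2),(98,2),(100,1),(101,3),(102,8),(103,1),(105,8),(107,3),(110,3),(112,8),(113,4),(117,1),(118,8),(119,1),(120,2),(121,7),(122,2),(123,3),(125,4),(128,1),(129,3),(131,1)])))))) 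
 (.node 
 (.node 
 (.node 
 (.node 
 (.node 
 (.node (.leaf [(2,3),(3,10),(5,5),(6,6),(15,3),(16,5),(19,6),(22,3),(23,6),(24,4),(26,2),(27,5),(29,9),(30,5),(31,1),(32,7),(33,9),(35,6),(36,7),(37,4),(38,6),(39,10),(43,2),(44,5),(45,5),(46,6),(47,9),(51,2),(52,4),(53,7),(54,9),(55,10),(56,4),(57,2),(58,6),(59,6),(60,7),(61,5),(63,5),(64,4),(65,7),(66,5),(67,6),(68,4),(69,8),(70,5),(71,9),(72,6),(73,1),(74,6),(75,2)]) (.leaf [(78,2),(79,9),(81,9),(85,1),(86,6),(89,3),(91,1),(92,10),(93,10),(94,10),(96,2),(97,8),(98,5),(100,1),(103,1),(106,8),(107,3),(109,3),(113,1),(117,9),(119,1),(120,10),(121,10),(122,10),(124,8),(125,2),(128,1),(131,9)])) (.leaf [(2,10),(4,5),(10,5),(13,10),(14,1),(15,7),(17,5),(18,6),(19,10),(20,10),(22,5),(25,9),(26,10),(27,6),(28,8),(30,5),(31,5),(32,5),(33,10),(35,1),(36,1),(37,1),(38,6),(39,5),(40,9),(41,6),(42,1),(43,6),(47,9),(50,5),(51,1),(52,6),(54,1),(63,10),(64,10),(65,10),(66,5),(67,1),(69,6),(71,5),(73,6),(75,6)]))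 
 (.node (.leaf [(0,9),(1,2),(2,3),(3,5),(5,2),(6,4),(7,9),(8,2),(9,9),(10,9),(13,9),(14,2),(15,5),(19,2),(21,2),(22,8),(23,6),(24,3),(26,6),(28,2),(29,3),(33,3),(34,2),(35,4),(36,9),(38,1),(39,6),(41,2),(43,6),(44,5),(45,3),(47,8),(49,9),(50,9),(51,8),(53,5),(54,5),(55,3),(56,10),(57,8),(59,6),(60,8),(61,5),(62,9),(63,8),(64,2),(66,10),(67,8),(68,7),(69,3),(70,3),(71,5),(72,6),(73,5),(74,2),(75,8)]) (.leaf [(78,1),(79,1),(80,7),(82,9),(91,10),(92,10),(93,2),(94,1),(95,9),(97,2),(99,4),(100,3),(101,10),(103,10),(106,9),(110,2),(111,4),(112,10),(114,2),(115,10),(116,4),(117,10),(119,1),(120,1),(121,9),(122,10),(123,1),(124,2),(125,10),(126,2),(127,10),(128,8),(129,2),(132,8)]))) 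
 (.node 
 (.node (.leaf [(2,6),(3,3),(5,8),(7,8),(10,3),(11,2),(12,2),(15,5),(17,3),(19,5),(20,2),(22,3),(23,2),(24,9),(27,4),(28,9),(29,7),(30,10),(31,4),(32,4),(33,7),(35,6),(36,2),(37,6),(38,4),(39,2),(40,9),(41,2),(42,9),(43,4),(44,5),(45,7),(46,4),(47,7),(48,9),(50,9),(51,4),(52,7),(53,9),(55,9),(57,4),(58,4),(59,4),(60,2),(61,9),(63,5),(64,9),(65,5),(66,7),(67,4),(69,8),(70,4),(71,7),(72,6),(73,9),(74,4),(75,2),(76,9)]) (.leaf [(78,2),(79,10),(80,4),(81,8),(82,10),(83,8),(85,9),(88,8),(89,4),(90,8),(91,10),(93,8),(94,1),(95,2),(99,10),(100,9),(101,1),(103,2),(107,7),(108,3),(109,10),(110,1),(111,10),(112,1),(113,2),(114,5),(115,4),(116,7),(117,1),(118,3),(119,1),(121,3),(122,10),(123,10),(124,10),(125,9),(126,10),(127,1),(128,2),(129,9),(130,8),(131,2),(132,6)])) 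
 (.node (.leaf [(0,2),(1,9),(2,7),(3,5),(4,2),(5,2),(7,2),(10,8),(11,2),(15,6),(18,2),(19,4),(20,10),(21,9),(23,6),(25,5),(26,5),(27,3),(28,1),(29,8),(30,2),(31,6),(32,8),(33,8),(35,5),(38,8),(39,6),(40,7),(41,3),(42,1),(43,3),(44,8),(45,5),(46,4),(47,8),(48,9),(49,2),(50,8),(51,4),(52,3),(53,9),(54,6),(57,3),(61,5),(63,6),(66,3),(67,6),(71,8),(72,3),(73,5),(75,8)]) (.leaf [(78,1),(79,9),(81,1),(82,9),(83,2),(84,1),(85,1),(86,10),(87,1),(88,10),(89,9),(90,3),(91,3),(92,1),(93,4),(94,3),(95,7),(97,9),(98,8),(99,1),(100,9),(101,1),(102,8),(103,1),(106,9),(107,9),(108,10),(110,9),(113,1),(115,3),(117,9),(118,3),(119,3),(120,1),(121,4),(122,3),(123,1),(125,1),(127,1),(128,9),(129,7),(131,8)])))) 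
 (.node 
 (.node 
 (.node (.leaf [(2,8),(3,5),(5,8),(6,5),(7,2),(10,9),(11,7),(12,5),(15,8),(16,6),(17,9),(19,3),(20,5),(23,7),(24,1),(26,5),(27,6),(28,5),(29,2),(30,1),(32,8),(33,2),(36,2),(37,9),(38,2),(39,3),(40,5),(41,6),(42,6),(43,9),(45,6),(46,5),(47,2),(48,5),(50,5),(51,9),(52,3),(53,9),(54,6),(55,7),(56,7),(57,9),(58,6),(59,5),(60,10),(61,4),(64,9),(65,2),(66,9),(67,5),(68,7),(70,6),(71,2),(73,8),(74,5),(76,6)]) (.leaf [(2,2),(3,5),(4,5),(5,2),(10,2),(13,6),(14,5),(15,6),(16,2),(17,5),(18,8),(19,10),(20,7),(22,5),(23,6),(25,6),(29,8),(30,7),(33,2),(35,8),(36,3),(37,3),(38,3),(40,5),(41,9),(42,4),(44,8),(47,6),(50,2),(51,9),(53,9),(57,3),(61,5),(63,3),(64,8),(65,8),(66,8),(68,2),(69,6),(72,3),(75,1)])) 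
 (.node (.leaf [(3,3),(5,8),(6,2),(10,6),(12,9),(13,6),(14,5),(15,2),(16,8),(18,3),(19,3),(22,8),(23,8),(24,1),(26,6),(35,3),(36,3),(37,5),(38,8),(39,6),(41,5),(43,6),(44,2),(45,3),(47,3),(50,6),(53,10),(54,5),(55,1),(56,1),(58,6),(59,8),(60,10),(61,3),(63,8),(64,8),(65,6),(66,3),(67,8),(68,4),(69,3),(70,6),(71,6),(72,9),(73,5),(75,10),(76,2)]) (.leaf [(77,8),(79,9),(81,9),(82,2),(83,1),(84,10),(85,1),(86,8),(87,2),(88,1),(89,2),(91,2),(94,1),(95,9),(96,1),(97,10),(98,4),(99,10),(100,1),(101,2),(102,5),(103,1),(104,3),(105,8),(106,10),(107,10),(108,1),(109,3),(110,2),(113,1),(117,9),(119,2),(122,1),(123,2),(127,10),(128,1),(129,9),(131,10)]))) 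
 (.node 
 (.node (.leaf [(2,10),(3,8),(4,2),(6,9),(8,9),(9,2),(12,4),(13,4),(14,7),(15,6),(18,4),(19,2),(22,5),(23,3),(24,10),(25,9),(26,3),(27,5),(29,6),(32,9),(33,10),(34,9),(35,3),(37,9),(38,8),(39,5),(43,3),(44,6),(45,8),(47,5),(51,1),(52,2),(53,4),(54,8),(55,8),(56,10),(57,5),(58,4),(59,1),(60,1),(61,8),(62,2),(63,8),(65,2),(66,3),(67,3),(68,4),(69,6),(70,8),(71,8),(72,5),(73,6),(74,2),(75,5),(76,7)]) (.leaf [(77,3),(78,1),(79,9),(80,10),(82,9),(84,3),(85,10),(89,10),(90,3),(91,1),(92,8),(94,7),(95,9),(97,3),(99,9),(100,2),(101,10),(103,1),(105,8),(106,8),(107,1),(109,9),(110,2),(111,1),(112,7),(113,1),(115,2),(116,1),(117,2),(118,8),(119,2),(120,3),(122,4),(123,1),(124,1),(125,10),(126,1),(127,2),(128,9),(129,2),(130,8),(131,1)])) 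
 (.node (.leaf [(2,6),(3,5),(4,4),(8,2),(9,9),(10,5),(13,1),(14,10),(15,10),(17,6),(18,5),(19,3),(20,9),(22,8),(23,6),(25,1),(26,6),(27,6),(28,7),(29,8),(30,8),(31,3),(32,3),(33,6),(34,2),(35,2),(36,8),(37,10),(38,2),(39,1),(40,9),(41,6),(42,2),(43,8),(44,6),(45,8),(46,2),(47,7),(50,5),(51,5),(52,8),(54,5),(57,3),(59,5),(61,5),(62,9),(63,9),(64,3),(65,1),(66,9),(67,3),(69,3),(71,3),(72,5),(73,10),(75,2)]) (.leaf [(78,2),(82,4),(83,2),(84,9),(86,9),(87,9),(88,2),(89,4),(91,7),(92,7),(93,7),(94,9),(95,2),(96,1),(97,9),(98,4),(99,9),(101,1),(106,9),(107,4),(108,2),(110,4),(119,7),(120,7),(121,7),(122,9),(123,9),(125,2),(127,9),(129,2),(131,2)]))))) 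
 (.node 
 (.node 
 (.node 
 (.node (.leaf [(2,8),(3,8),(6,5),(7,7),(10,6),(11,7),(12,7),(15,8),(16,6),(17,6),(20,7),(23,9),(26,9),(27,9),(28,4),(29,5),(30,10),(31,3),(32,4),(33,2),(35,9),(38,5),(39,5),(40,7),(41,4),(42,4),(43,9),(44,2),(45,9),(46,9),(47,2),(48,4),(50,7),(51,9),(52,7),(54,2),(55,4),(56,7),(57,6),(58,9),(59,10),(61,2),(63,2),(66,6),(67,2),(68,7),(70,9),(71,2),(72,9),(73,6),(74,9),(75,2),(76,4)]) (.leaf [(2,3),(4,8),(7,2),(10,8),(11,9),(13,5),(14,6),(15,9),(17,8),(18,3),(19,3),(20,5),(22,6),(25,10),(26,5),(27,1),(28,1),(30,6),(31,8),(32,10),(33,3),(35,8),(36,8),(37,6),(38,3),(39,8),(40,4),(41,3),(42,6),(43,6),(44,9),(45,5),(47,10),(48,2),(50,8),(51,8),(52,1),(54,6),(63,3),(64,3),(65,5),(66,8),(67,6),(69,5),(71,6),(72,2),(73,3),(75,3)])) 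
 (.node (.leaf [(3,10),(5,5),(10,5),(13,1),(14,10),(15,4),(16,5),(18,10),(19,6),(22,5),(23,1),(24,6),(26,1),(35,10),(36,10),(37,10),(38,5),(39,1),(41,6),(43,5),(45,6),(47,6),(50,5),(53,9),(54,10),(55,6),(56,8),(58,5),(59,5),(60,5),(61,10),(63,1),(64,1),(65,1),(66,6),(67,5),(68,9),(69,6),(70,1),(71,6),(75,9)]) (.leaf [(78,3),(79,8),(81,8),(85,10),(89,2),(91,10),(92,1),(93,1),(94,1),(96,3),(97,9),(100,10),(103,2),(106,2),(107,9),(109,9),(113,1),(114,6),(117,3),(119,1),(120,10),(121,10),(122,10),(124,2),(125,8),(126,5),(128,1),(131,1)]))) 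
 (.node 
 (.node (.leaf [(0,9),(1,2),(2,5),(3,7),(4,2),(5,2),(6,2),(12,2),(15,5),(18,4),(19,2),(21,2),(22,8),(23,4),(24,3),(25,9),(26,6),(29,3),(33,5),(35,6),(38,3),(39,6),(43,8),(44,3),(45,5),(47,8),(49,9),(51,6),(53,5),(54,5),(55,3),(56,1),(57,8),(58,2),(59,6),(60,8),(61,8),(63,5),(66,8),(67,6),(68,7),(69,3),(70,1),(71,3),(72,8),(73,5),(74,4),(75,8),(76,9)]) (.leaf [(78,2),(79,2),(80,1),(82,2),(85,10),(87,8),(89,2),(90,8),(91,8),(92,10),(93,7),(94,8),(95,10),(97,10),(99,10),(100,2),(101,4),(103,3),(106,1),(107,9),(109,1),(110,9),(111,2),(112,1),(113,1),(114,10),(115,1),(116,10),(117,9),(118,3),(119,3),(120,1),(121,4),(122,3),(123,7),(125,9),(126,8),(127,1),(128,9),(129,1),(130,8),(131,1)])) 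
 (.node (.leaf [(2,8),(3,10),(5,2),(7,9),(8,2),(9,9),(10,5),(11,4),(13,7),(14,4),(15,5),(18,2),(19,4),(20,3),(23,1),(24,2),(25,4),(26,8),(27,8),(28,10),(29,5),(30,4),(31,1),(32,1),(33,8),(34,2),(35,8),(37,2),(38,3),(39,3),(40,4),(41,6),(42,8),(43,8),(44,5),(45,6),(46,2),(47,5),(48,7),(50,5),(51,3),(52,10),(53,9),(54,3),(55,5),(57,6),(60,9),(61,10),(62,9),(63,3),(65,9),(66,8),(67,5),(71,3),(72,6),(73,8),(75,5)]) (.leaf [(77,8),(78,8),(79,1),(81,9),(82,2),(83,1),(84,7),(85,1),(87,2),(88,1),(89,2),(90,8),(91,2),(92,3),(94,4),(95,1),(96,1),(97,10),(98,1),(99,2),(100,9),(101,2),(102,8),(103,1),(105,8),(106,10),(107,2),(108,1),(110,2),(112,8),(113,1),(117,1),(118,8),(119,10),(120,3),(122,4),(123,2),(125,8),(127,2),(128,9),(129,1),(131,10)])))) 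
 (.node 
 (.node 
 (.node (.leaf [(2,3),(3,3),(6,5),(7,5),(10,6),(15,4),(16,6),(17,6),(22,3),(23,2),(26,2),(27,6),(28,7),(29,9),(30,6),(32,4),(33,9),(35,2),(38,9),(39,9),(40,7),(41,4),(43,2),(44,9),(45,2),(46,5),(47,6),(50,7),(51,2),(52,7),(54,9),(56,7),(57,2),(58,6),(59,6),(61,9),(63,9),(66,2),(67,9),(68,7),(69,8),(70,5),(71,9),(72,2),(73,2),(74,5),(75,6)]) (.leaf [(77,3),(78,1),(79,1),(80,10),(81,8),(82,9),(85,10),(89,2),(91,9),(94,10),(95,9),(99,1),(100,10),(101,2),(103,1),(105,8),(107,9),(109,9),(110,2),(111,1),(112,10),(113,1),(114,8),(115,2),(116,1),(117,2),(119,2),(122,1),(123,9),(124,1),(125,10),(126,4),(127,10),(128,1),(129,2),(130,5),(131,1),(132,3)])) 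
 (.node (.leaf [(2,5),(3,2),(4,2),(5,5),(10,5),(13,5),(14,6),(15,5),(16,5),(17,2),(18,10),(19,8),(22,2),(23,9),(25,9),(29,3),(33,5),(35,3),(36,8),(37,8),(38,8),(40,2),(41,6),(44,3),(47,1),(50,5),(51,6),(53,6),(57,8),(58,7),(61,2),(63,8),(64,3),(65,3),(66,3),(68,5),(69,9),(70,4),(72,8),(75,6)]) (.leaf [(79,7),(80,3),(81,10),(82,1),(83,10),(84,1),(85,2),(86,5),(87,4),(88,7),(89,1),(90,3),(91,1),(93,3),(94,10),(95,10),(96,10),(97,9),(98,10),(99,1),(100,2),(101,9),(102,8),(103,2),(104,6),(106,9),(107,1),(108,7),(109,3),(110,1),(111,3),(113,2),(116,3),(117,7),(118,3),(119,1),(121,3),(122,10),(123,9),(127,1),(128,2),(129,10),(131,9)]))) 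
 (.node 
 (.node (.leaf [(2,5),(3,6),(5,4),(8,9),(9,2),(10,8),(13,10),(14,1),(15,1),(16,6),(18,3),(19,5),(22,5),(23,5),(24,8),(26,5),(29,3),(31,5),(33,5),(34,9),(35,9),(36,3),(37,1),(38,9),(39,3),(41,3),(43,3),(44,5),(45,10),(47,2),(50,8),(51,6),(53,1),(54,6),(55,6),(56,7),(57,8),(58,8),(59,3),(60,3),(61,6),(62,2),(63,2),(64,8),(65,10),(66,2),(67,1),(68,9),(69,6),(70,2),(71,8),(72,6),(73,8),(74,2),(75,7)]) (.leaf [(78,2),(79,7),(80,9),(82,7),(91,4),(92,4),(93,4),(94,2),(95,2),(97,9),(99,2),(101,9),(103,9),(106,2),(110,4),(111,2),(112,9),(114,9),(115,9),(116,2),(117,4),(119,7),(120,7),(121,7),(122,9),(123,2),(124,1),(125,9),(126,4),(127,9),(129,1)])) 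
 (.node (.leaf [(0,2),(1,9),(2,5),(3,3),(4,2),(6,9),(7,4),(8,9),(9,2),(10,8),(13,2),(14,9),(15,6),(18,2),(20,8),(21,9),(22,9),(23,8),(25,5),(26,5),(27,3),(28,10),(29,8),(31,6),(32,8),(33,5),(34,9),(35,8),(36,2),(38,10),(39,8),(40,7),(41,3),(42,3),(43,5),(44,6),(45,5),(46,2),(47,8),(49,2),(50,8),(51,6),(52,3),(54,6),(56,2),(57,3),(61,3),(62,2),(63,4),(64,9),(66,1),(67,6),(69,2),(71,6),(72,5),(73,3),(75,8)]) (.leaf [(78,9),(82,2),(83,4),(84,10),(86,2),(87,10),(88,4),(89,10),(91,1),(92,1),(93,9),(94,10),(95,1),(96,2),(97,10),(98,2),(99,10),(100,8),(101,2),(104,8),(106,10),(107,10),(108,4),(110,2),(119,1),(120,1),(121,9),(122,10),(123,2),(125,9),(127,7),(128,8),(129,1),(131,1)]))))))))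

def m5 : Rows := 
 (.node 
 (.node 
 (.node 
 (.node 
 (.node 
 (.node 
 (.node 
 (.node (.leaf [(0,7),(1,5),(2,5),(3,5),(6,5),(7,5),(16,6),(17,6),(21,4),(23,7),(24,10),(27,1),(28,7),(29,4),(32,4),(33,4),(35,7),(36,7),(38,4),(39,7),(40,7),(45,1),(49,7),(51,7),(52,7),(55,1),(56,7),(57,7),(58,1),(59,10),(60,1),(61,4),(63,4),(64,4),(66,7),(67,10),(68,7),(70,1),(73,4),(74,10)]) (.leaf [(77,8),(78,2),(81,8),(82,1),(83,10),(84,1),(86,9),(87,1),(88,10),(89,4),(91,10),(92,10),(93,10),(94,1),(95,10),(96,1),(97,1),(98,1),(99,9),(101,1),(102,8),(103,3),(104,3),(105,8),(106,1),(107,4),(108,10),(110,1),(119,10),(120,10),(121,10),(122,1),(123,1),(125,2),(127,9),(128,8),(129,10),(131,10)])) (.leaf [(0,2),(1,9),(2,3),(3,8),(4,5),(7,2),(10,6),(13,6),(14,5),(15,5),(17,3),(18,8),(19,8),(21,9),(22,3),(23,3),(25,2),(26,3),(27,3),(28,1),(29,5),(30,3),(31,6),(32,8),(33,3),(35,2),(36,8),(37,3),(39,6),(40,10),(41,5),(43,5),(44,5),(45,3),(46,2),(47,6),(49,2),(50,6),(51,8),(52,3),(54,8),(57,6),(61,8),(63,9),(64,4),(65,8),(67,8),(69,8),(71,6),(72,6),(73,5)]))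 
 (.node (.leaf [(0,9),(1,2),(2,9),(3,8),(4,9),(5,5),(10,5),(12,9),(13,1),(14,10),(16,3),(17,2),(18,6),(19,6),(21,2),(22,3),(23,3),(24,6),(25,2),(26,3),(29,2),(33,9),(35,8),(36,8),(37,10),(38,3),(39,3),(40,2),(41,6),(43,3),(45,6),(47,6),(49,9),(50,5),(51,2),(52,1),(53,9),(54,8),(55,6),(56,7),(57,9),(58,3),(59,5),(60,5),(61,8),(63,3),(64,3),(65,1),(66,8),(67,5),(68,6),(69,8),(70,3),(71,8),(73,8),(74,9),(75,9),(76,2)]) (.leaf [(82,8),(84,3),(85,6),(89,1),(90,3),(91,9),(92,7),(93,10),(94,10),(95,8),(97,5),(100,1),(103,4),(106,6),(107,10),(109,10),(110,3),(112,8),(113,5),(114,2),(115,3),(118,8),(119,2),(120,4),(121,1),(122,1),(124,1),(126,9),(128,10),(129,3),(130,5),(131,2),(132,3)]))) 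
 (.node 
 (.node (.leaf [(3,5),(5,5),(7,5),(10,6),(11,7),(12,7),(16,2),(17,6),(19,6),(20,7),(22,3),(23,7),(24,7),(27,4),(28,7),(30,5),(31,4),(32,8),(35,4),(36,4),(37,4),(39,7),(40,7),(41,4),(42,4),(44,7),(46,3),(48,4),(50,7),(52,3),(53,7),(55,4),(58,4),(59,4),(60,4),(61,4),(63,7),(64,7),(65,7),(68,3),(69,8),(70,4),(72,4),(73,4),(74,4),(75,4),(76,4)]) (.leaf [(77,3),(79,8),(80,3),(81,8),(82,8),(85,9),(89,1),(91,9),(92,10),(93,2),(94,10),(95,8),(97,2),(100,1),(103,1),(105,8),(106,9),(107,10),(109,7),(110,3),(111,3),(112,8),(113,2),(114,10),(115,3),(117,3),(119,2),(120,1),(121,9),(122,1),(124,1),(126,4),(128,10),(129,3),(130,5),(131,2)])) 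
 (.node (.leaf [(2,6),(3,6),(5,2),(6,4),(8,2),(9,9),(10,9),(11,7),(15,10),(16,4),(18,2),(22,5),(23,5),(24,8),(26,1),(29,4),(33,6),(34,2),(35,3),(36,9),(38,8),(39,3),(41,2),(43,3),(44,6),(45,6),(47,3),(48,5),(50,9),(51,5),(53,1),(54,10),(55,6),(56,3),(57,7),(58,2),(59,3),(60,3),(61,6),(62,9),(63,8),(64,2),(66,3),(67,5),(68,9),(69,6),(70,8),(71,8),(72,5),(73,8),(74,2),(75,6)]) (.leaf [(78,4),(79,9),(81,1),(82,9),(83,2),(84,4),(85,6),(86,10),(87,9),(88,2),(89,1),(90,6),(91,8),(92,6),(93,1),(94,8),(95,7),(97,1),(98,3),(99,9),(100,1),(101,9),(103,1),(106,1),(107,1),(108,2),(109,3),(110,9),(113,6),(117,9),(118,6),(119,8),(120,6),(121,1),(122,8),(123,9),(124,8),(125,4),(127,9),(128,1),(129,7)])))) 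
 (.node 
 (.node 
 (.node (.leaf [(2,5),(3,8),(5,3),(6,5),(7,8),(8,7),(9,5),(10,3),(11,2),(12,2),(15,5),(17,8),(18,5),(19,2),(20,2),(22,1),(23,9),(24,5),(26,3),(27,3),(28,9),(29,4),(30,9),(31,3),(32,7),(33,4),(34,7),(35,5),(36,2),(37,9),(39,1),(40,2),(41,2),(42,9),(43,3),(44,10),(45,4),(46,3),(47,4),(48,9),(50,9),(51,7),(52,4),(53,2),(54,8),(56,7),(57,7),(58,3),(59,3),(60,6),(61,2),(62,4),(63,6),(64,9),(65,2),(67,7),(69,10),(70,4),(71,8),(72,1),(73,10),(74,3),(75,9),(76,9)]) (.leaf [(0,2),(1,9),(2,10),(4,5),(10,3),(11,2),(13,8),(14,3),(17,3),(18,8),(19,10),(20,8),(21,9),(22,5),(25,10),(26,8),(27,8),(28,7),(30,5),(31,3),(32,3),(33,10),(35,3),(36,3),(37,3),(38,8),(39,3),(40,6),(41,8),(42,3),(43,6),(44,3),(45,8),(46,2),(48,9),(49,2),(50,3),(51,1),(52,8),(54,3),(63,8),(64,8),(65,8),(66,3),(67,3),(69,6),(71,5),(72,9),(73,8),(75,8)])) 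
 (.node (.leaf [(2,8),(5,8),(6,4),(7,9),(8,2),(9,9),(10,4),(12,2),(13,6),(14,5),(15,10),(16,8),(17,7),(18,5),(19,5),(26,9),(28,2),(29,4),(33,8),(34,2),(35,6),(36,1),(37,3),(38,3),(39,9),(40,7),(41,7),(44,8),(47,10),(50,4),(51,3),(53,3),(54,2),(56,6),(57,7),(58,6),(59,9),(62,9),(63,5),(64,10),(65,8),(66,8),(68,8),(70,5),(72,3),(73,2),(74,4),(75,7),(76,9)]) (.leaf [(78,2),(79,2),(80,1),(82,7),(85,6),(89,9),(90,3),(91,10),(92,8),(94,1),(95,10),(97,3),(99,10),(100,9),(101,9),(103,10),(104,8),(106,8),(107,2),(109,10),(110,4),(111,2),(112,6),(113,5),(114,8),(115,1),(116,10),(117,9),(118,8),(119,1),(120,3),(122,10),(123,2),(124,2),(125,9),(126,10),(127,1),(128,2),(129,1),(130,8),(131,10)]))) 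
 (.node 
 (.node (.leaf [(0,9),(1,2),(2,8),(3,2),(4,2),(5,10),(6,4),(10,6),(13,6),(14,5),(15,10),(16,8),(18,7),(19,5),(21,2),(23,9),(24,9),(25,9),(26,9),(29,6),(33,8),(35,6),(36,3),(37,5),(38,3),(39,9),(41,5),(44,8),(47,8),(49,9),(50,6),(51,3),(53,1),(54,2),(55,9),(56,6),(57,5),(58,8),(59,9),(60,3),(61,2),(63,5),(64,8),(65,6),(66,8),(68,8),(70,1),(72,3),(73,2),(74,4),(75,4)]) (.leaf [(77,3),(78,10),(79,10),(80,9),(81,3),(82,10),(85,3),(88,6),(89,8),(91,1),(92,1),(93,4),(94,10),(95,10),(96,3),(97,9),(99,10),(101,9),(103,9),(105,8),(106,2),(107,3),(108,8),(110,1),(111,2),(112,1),(113,8),(114,1),(115,9),(116,2),(117,1),(119,10),(120,10),(121,7),(122,1),(123,2),(124,1),(125,1),(126,1),(127,1),(129,1),(130,3),(132,8)])) 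
 (.node (.leaf [(2,8),(3,5),(4,6),(5,2),(6,4),(7,7),(8,4),(9,7),(10,3),(13,1),(14,10),(15,10),(16,2),(17,6),(18,3),(19,5),(20,2),(22,10),(23,6),(25,9),(26,6),(27,6),(28,1),(29,4),(30,8),(31,5),(32,5),(33,8),(34,4),(35,9),(36,4),(37,8),(38,9),(39,1),(40,9),(41,8),(42,9),(43,6),(44,8),(45,6),(47,4),(50,3),(51,3),(52,6),(53,9),(54,5),(56,7),(57,7),(61,5),(62,7),(63,2),(64,7),(65,3),(66,2),(67,5),(68,2),(69,1),(71,5),(72,3),(73,10)]) (.leaf [(77,8),(78,10),(79,10),(81,10),(82,10),(83,1),(84,10),(85,2),(86,1),(87,2),(88,1),(89,10),(91,3),(92,2),(93,10),(95,9),(97,2),(99,2),(100,2),(101,10),(102,8),(103,2),(105,8),(106,2),(107,10),(108,1),(110,10),(113,2),(117,10),(119,3),(120,10),(121,10),(123,10),(125,10),(127,2),(128,2),(129,9)]))))) 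
 (.node 
 (.node 
 (.node 
 (.node 
 (.node (.leaf [(3,3),(4,2),(5,3),(7,3),(10,8),(11,2),(12,2),(17,8),(19,8),(20,2),(22,8),(23,2),(24,2),(25,8),(26,7),(27,3),(28,2),(30,9),(31,3),(32,7),(35,9),(36,9),(37,2),(39,5),(40,2),(41,9),(42,9),(43,3),(44,2),(46,3),(48,9),(50,2),(52,4),(53,2),(54,4),(55,10),(58,3),(59,3),(60,9),(61,9),(63,2),(64,2),(65,9),(69,3),(70,3),(71,8),(72,9),(73,6),(74,4),(75,2),(76,9)]) (.leaf [(78,8),(79,2),(81,10),(82,4),(83,2),(84,6),(85,5),(86,8),(87,1),(88,10),(89,9),(90,8),(91,1),(92,3),(94,10),(95,2),(96,2),(97,9),(98,10),(99,1),(100,2),(101,1),(102,8),(103,10),(106,9),(107,9),(108,10),(110,4),(113,5),(117,2),(118,8),(119,1),(120,3),(122,10),(123,1),(125,8),(127,1),(128,2),(129,2),(131,1),(132,3)])) (.leaf [(3,8),(4,8),(6,9),(7,4),(8,9),(9,2),(11,2),(13,5),(14,6),(15,1),(16,7),(17,8),(18,5),(19,5),(20,6),(22,4),(23,3),(25,3),(26,2),(28,6),(29,7),(30,6),(31,9),(34,9),(35,5),(36,10),(37,8),(38,8),(40,8),(42,5),(44,3),(45,2),(46,4),(47,7),(48,9),(54,9),(56,2),(57,4),(61,8),(62,2),(63,6),(64,1),(65,3),(66,3),(67,9),(68,7),(69,7),(72,8),(75,10)]))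 
 (.node (.leaf [(0,9),(1,2),(2,8),(3,3),(5,5),(6,2),(10,3),(13,5),(14,6),(15,6),(16,3),(18,8),(19,8),(21,2),(22,6),(23,8),(24,3),(26,8),(29,6),(33,8),(35,9),(36,4),(37,8),(39,8),(41,8),(43,6),(44,6),(45,5),(49,9),(50,3),(51,3),(53,2),(54,3),(55,3),(56,1),(57,5),(58,3),(59,6),(60,8),(61,3),(63,2),(64,8),(65,3),(67,6),(68,10),(69,5),(71,5),(72,5),(73,3),(74,2),(75,6)]) (.leaf [(77,3),(78,10),(79,7),(80,1),(82,10),(91,1),(92,1),(93,1),(94,10),(95,10),(97,9),(99,2),(100,3),(101,1),(103,1),(105,8),(106,2),(109,8),(110,1),(111,10),(112,1),(114,9),(115,1),(116,10),(117,4),(119,10),(120,10),(121,10),(122,1),(123,10),(124,1),(125,1),(126,1),(127,9),(129,1),(130,8),(131,3),(132,3)]))) 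
 (.node 
 (.node (.leaf [(4,6),(5,6),(6,5),(7,5),(10,6),(15,5),(16,6),(17,6),(18,5),(19,5),(20,2),(22,4),(24,7),(25,4),(26,7),(28,7),(29,4),(32,7),(35,7),(38,4),(39,3),(40,7),(41,4),(42,10),(43,7),(44,4),(45,8),(46,10),(47,8),(50,7),(52,4),(53,4),(54,4),(55,1),(56,7),(57,7),(59,10),(60,4),(63,4),(66,7),(67,3),(68,7),(69,7),(71,4),(72,7),(73,8),(74,10),(75,8)]) (.leaf [(78,10),(79,10),(80,9),(81,8),(82,2),(85,5),(89,2),(90,5),(91,3),(92,5),(93,10),(94,3),(95,2),(96,3),(97,7),(99,2),(100,10),(101,4),(106,4),(107,9),(109,1),(110,9),(111,2),(112,4),(113,6),(114,10),(115,9),(116,2),(117,1),(118,6),(119,8),(120,6),(121,1),(122,8),(123,7),(125,1),(126,3),(127,9),(128,1),(129,9),(131,1)])) 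
 (.node (.leaf [(0,2),(1,9),(2,2),(3,8),(4,10),(5,2),(7,4),(13,5),(14,6),(15,1),(17,8),(18,5),(19,7),(20,10),(21,9),(22,6),(23,3),(25,1),(26,2),(27,9),(28,6),(29,5),(30,8),(31,9),(32,3),(33,2),(35,5),(36,8),(37,6),(38,8),(40,8),(42,1),(44,3),(45,2),(46,4),(47,4),(49,2),(51,9),(52,9),(53,9),(54,9),(57,6),(61,8),(63,6),(64,3),(65,5),(66,3),(67,9),(69,5),(72,8),(75,8)]) (.leaf [(77,8),(78,2),(79,3),(80,8),(82,1),(83,2),(84,1),(85,8),(86,1),(87,9),(88,2),(89,1),(91,10),(92,10),(93,7),(94,1),(95,2),(96,1),(97,1),(98,1),(99,1),(101,1),(102,3),(104,8),(105,8),(106,1),(107,1),(108,2),(109,8),(110,1),(113,8),(116,5),(117,3),(119,10),(120,10),(121,7),(122,1),(123,1),(124,8),(125,2),(127,1),(129,2),(131,2)])))) 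
 (.node 
 (.node 
 (.node (.leaf [(2,5),(3,8),(4,5),(5,8),(6,5),(7,8),(10,3),(11,5),(12,7),(16,6),(17,3),(18,6),(19,3),(20,5),(22,7),(23,9),(24,1),(25,7),(26,4),(27,1),(28,9),(30,6),(32,8),(33,4),(35,9),(36,9),(37,2),(39,9),(40,9),(41,2),(42,6),(44,2),(45,4),(47,7),(48,6),(50,9),(51,7),(52,3),(53,9),(54,7),(55,6),(56,7),(58,1),(60,10),(61,2),(63,2),(64,2),(65,9),(67,7),(68,7),(69,4),(70,1),(72,9),(73,2),(75,9),(76,5)]) (.leaf [(2,6),(3,6),(4,2),(7,4),(8,9),(9,2),(10,5),(12,7),(15,1),(17,4),(19,2),(20,3),(22,9),(23,5),(25,1),(26,10),(27,6),(28,3),(29,7),(30,2),(31,3),(32,3),(33,6),(34,9),(35,8),(36,2),(38,3),(39,5),(40,9),(41,6),(42,8),(43,8),(44,5),(45,8),(46,2),(47,6),(50,5),(51,5),(52,8),(54,1),(57,4),(61,6),(62,2),(63,3),(64,9),(66,8),(67,3),(69,2),(71,3),(72,6),(73,6),(75,3),(76,5)])) 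
 (.node (.leaf [(0,9),(1,2),(3,10),(5,5),(10,5),(12,2),(13,3),(14,8),(16,3),(18,10),(19,8),(21,2),(22,3),(23,1),(24,8),(26,3),(35,8),(36,8),(37,8),(38,3),(39,3),(41,6),(43,5),(44,9),(45,8),(47,8),(49,9),(50,5),(53,10),(54,8),(55,8),(56,7),(58,5),(59,3),(60,3),(61,10),(63,3),(64,3),(65,3),(66,8),(67,3),(68,6),(69,8),(70,3),(71,6),(72,3),(73,8),(74,2),(76,9)]) (.leaf [(77,8),(78,9),(79,10),(81,7),(82,3),(83,3),(84,8),(85,2),(86,10),(87,3),(89,3),(91,2),(92,1),(93,9),(94,1),(96,1),(98,4),(100,10),(101,3),(102,5),(103,2),(105,8),(107,3),(108,8),(109,3),(110,3),(113,2),(117,10),(119,2),(120,1),(121,9),(122,1),(123,3),(125,9),(128,10),(131,10)]))) 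
 (.node 
 (.node (.leaf [(2,5),(3,8),(4,2),(5,6),(6,7),(7,4),(8,7),(9,4),(10,10),(13,10),(14,1),(15,1),(16,6),(17,2),(18,5),(19,3),(22,3),(23,3),(24,6),(25,9),(26,5),(28,7),(29,7),(33,5),(34,7),(35,2),(36,7),(37,3),(38,2),(39,5),(40,2),(41,1),(43,5),(44,3),(45,10),(50,10),(51,6),(53,9),(54,6),(55,6),(56,1),(57,4),(58,8),(59,5),(60,5),(61,8),(62,4),(63,9),(64,4),(65,8),(66,9),(67,1),(68,9),(69,8),(70,9),(71,6),(72,8),(73,6),(75,4)]) (.leaf [(77,3),(78,9),(79,1),(80,10),(82,1),(85,9),(89,1),(91,8),(92,1),(93,1),(95,1),(97,1),(99,9),(100,9),(101,2),(105,8),(106,10),(107,10),(109,10),(110,10),(111,1),(112,10),(113,2),(114,1),(115,2),(116,1),(117,10),(119,3),(120,2),(121,10),(123,9),(125,2),(127,2),(128,2),(129,10),(130,8),(131,2)])) 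
 (.node (.leaf [(0,2),(1,9),(2,8),(3,9),(4,5),(5,9),(10,3),(11,9),(13,10),(14,1),(16,2),(17,3),(18,6),(19,6),(20,8),(21,9),(22,5),(23,2),(24,1),(25,9),(26,8),(27,6),(28,7),(29,9),(30,3),(31,5),(32,5),(33,8),(35,3),(36,3),(37,1),(38,8),(39,5),(40,6),(41,8),(42,3),(43,8),(45,8),(46,9),(47,9),(48,2),(49,2),(50,3),(51,3),(52,6),(53,2),(54,3),(57,2),(61,9),(63,8),(64,8),(65,10),(66,3),(67,3),(68,2),(69,6),(71,3),(73,6),(75,6)]) (.leaf [(78,6),(79,10),(81,10),(82,3),(84,8),(85,5),(86,2),(87,3),(90,8),(91,2),(92,4),(93,1),(94,1),(96,1),(98,9),(100,10),(101,3),(102,5),(103,2),(104,3),(110,3),(112,8),(113,5),(117,10),(118,8),(119,2),(120,4),(121,1),(122,1),(123,3),(125,6),(128,10),(131,7)])))))) 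
 (.node 
 (.node 
 (.node 
 (.node 
 (.node 
 (.node (.leaf [(2,7),(5,6),(7,6),(10,5),(15,6),(17,5),(19,5),(24,1),(26,4),(28,4),(29,7),(31,10),(33,7),(36,4),(37,7),(38,10),(40,4),(41,7),(43,4),(45,7),(47,4),(50,4),(51,4),(53,4),(54,7),(55,10),(57,4),(58,10),(59,1),(60,10),(64,7),(65,4),(66,1),(67,4),(70,10),(71,7)]) (.leaf [(78,8),(81,8),(84,8),(85,3),(86,8),(87,3),(88,8),(90,8),(91,3),(92,3),(94,3),(98,8),(99,3),(101,3),(102,8),(103,3),(108,8),(113,3),(118,8),(119,3),(120,3),(122,3),(123,3),(125,8),(127,3),(130,3),(131,8)])) (.leaf [(0,2),(1,9),(2,10),(3,3),(4,10),(5,2),(7,2),(10,3),(13,5),(14,6),(15,6),(16,2),(17,8),(18,5),(19,7),(20,2),(21,9),(22,8),(23,8),(25,4),(26,8),(27,8),(28,5),(29,8),(30,10),(31,1),(32,3),(33,10),(36,6),(37,6),(38,3),(39,5),(40,1),(41,8),(42,9),(43,6),(44,8),(45,8),(46,2),(47,7),(49,2),(50,3),(51,1),(52,8),(53,9),(54,3),(57,3),(61,3),(64,5),(65,5),(66,9),(67,3),(68,2),(69,3),(71,5),(72,3),(73,6)]))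 
 (.node (.leaf [(0,9),(1,2),(2,6),(5,10),(6,4),(10,6),(12,9),(13,4),(14,7),(15,10),(16,8),(18,5),(19,3),(21,2),(22,9),(24,9),(26,9),(29,6),(33,6),(35,8),(36,3),(37,7),(38,3),(39,9),(41,5),(44,8),(45,9),(47,8),(49,9),(50,6),(51,5),(54,2),(55,9),(56,6),(57,5),(58,6),(59,9),(60,2),(62,1),(63,3),(64,8),(65,4),(66,8),(67,2),(68,8),(69,2),(70,3),(72,3),(73,2),(74,2),(75,5),(76,2)]) (.leaf [(78,2),(79,10),(80,1),(81,8),(82,10),(85,8),(88,8),(91,9),(92,1),(93,1),(94,2),(95,10),(97,1),(98,8),(99,2),(101,1),(103,1),(106,10),(108,3),(110,1),(111,10),(112,9),(113,3),(114,6),(115,1),(116,10),(117,1),(119,2),(120,10),(121,10),(122,9),(123,10),(124,1),(125,9),(126,4),(127,9),(129,1),(130,5),(131,3)]))) 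
 (.node 
 (.node (.leaf [(2,8),(4,6),(5,9),(7,3),(10,8),(11,2),(12,2),(15,3),(17,8),(18,7),(19,2),(20,2),(22,1),(24,9),(25,4),(26,9),(27,9),(28,2),(29,6),(30,3),(31,3),(32,7),(33,2),(35,3),(36,9),(37,5),(38,9),(39,7),(40,2),(41,9),(42,9),(43,5),(44,8),(45,6),(46,9),(47,2),(48,9),(50,2),(51,9),(52,4),(53,6),(54,2),(55,10),(57,5),(58,9),(59,8),(60,2),(63,8),(64,2),(65,6),(66,2),(67,5),(69,10),(70,9),(71,6),(72,3),(73,4),(74,9),(75,7),(76,9)]) (.leaf [(77,3),(79,8),(80,8),(82,3),(85,2),(89,10),(91,10),(92,1),(93,1),(94,9),(95,8),(97,1),(100,2),(103,2),(105,8),(106,10),(107,1),(109,9),(111,3),(113,9),(114,1),(116,3),(117,3),(119,1),(120,10),(121,10),(122,2),(124,2),(126,2),(128,9),(129,3),(130,8),(131,1)])) 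
 (.node (.leaf [(0,2),(1,9),(2,5),(4,10),(5,2),(7,4),(10,6),(13,5),(14,6),(15,9),(17,8),(18,5),(19,7),(20,5),(21,9),(22,6),(25,8),(26,5),(27,3),(28,10),(29,2),(30,8),(31,4),(32,8),(33,5),(35,8),(36,8),(37,6),(38,5),(39,8),(40,4),(41,6),(42,6),(43,3),(45,5),(46,4),(47,1),(49,2),(50,6),(51,6),(52,3),(53,9),(54,6),(57,9),(63,3),(64,3),(65,5),(66,6),(67,6),(69,5),(71,8),(73,3),(75,5)]) (.leaf [(78,1),(79,9),(80,3),(81,9),(82,1),(83,10),(84,9),(85,1),(86,10),(87,1),(88,10),(89,1),(92,1),(93,1),(95,10),(96,3),(97,9),(99,9),(100,9),(101,1),(102,5),(103,1),(106,9),(107,1),(108,10),(109,3),(110,1),(113,1),(114,3),(116,3),(117,9),(120,1),(121,1),(123,1),(125,1),(127,9),(128,9),(129,10),(131,8)])))) 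
 (.node 
 (.node 
 (.node (.leaf [(2,3),(3,3),(4,5),(5,5),(10,2),(15,8),(18,6),(19,6),(22,7),(23,2),(24,7),(25,7),(26,9),(27,5),(29,2),(30,6),(31,1),(33,9),(35,9),(38,2),(39,6),(41,8),(43,9),(44,2),(45,5),(46,6),(47,9),(50,3),(51,2),(53,7),(54,2),(57,9),(58,6),(59,6),(60,4),(61,9),(63,2),(66,9),(67,6),(69,4),(70,6),(71,2),(72,9),(73,5),(74,6),(75,9)]) (.leaf [(4,2),(7,4),(8,9),(9,2),(18,4),(19,2),(20,9),(22,9),(25,9),(28,6),(29,2),(30,2),(31,9),(32,9),(34,9),(35,2),(36,2),(38,2),(42,2),(43,2),(45,2),(46,2),(47,5),(52,2),(57,9),(62,2),(63,9),(64,9),(66,9),(67,9),(69,2),(71,9),(74,5),(75,2)])) 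
 (.node (.leaf [(3,8),(4,2),(5,3),(6,2),(10,3),(13,5),(14,6),(15,4),(16,5),(18,1),(19,8),(20,7),(22,5),(23,3),(24,8),(25,9),(26,3),(29,9),(32,9),(35,6),(36,8),(37,8),(38,5),(39,3),(41,8),(42,5),(43,5),(45,8),(47,8),(50,3),(52,2),(53,1),(54,8),(55,8),(56,5),(57,2),(58,7),(59,3),(60,3),(61,8),(63,5),(64,3),(65,3),(66,6),(67,3),(68,9),(69,6),(70,1),(71,6),(73,8),(74,4),(75,3)]) (.leaf [(77,8),(78,9),(81,8),(82,2),(83,1),(84,7),(85,3),(86,10),(87,5),(88,1),(89,2),(91,1),(92,1),(93,9),(94,2),(95,1),(96,2),(97,10),(98,2),(99,10),(101,2),(102,5),(103,3),(105,8),(106,7),(107,2),(108,1),(109,3),(110,2),(113,3),(119,1),(120,1),(121,9),(122,2),(123,2),(125,9),(127,10),(129,1),(131,9)]))) 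
 (.node 
 (.node (.leaf [(0,9),(1,2),(2,3),(3,2),(5,5),(6,2),(10,3),(13,1),(14,10),(15,5),(16,3),(18,8),(19,8),(21,2),(23,9),(24,9),(26,9),(29,5),(33,3),(35,3),(36,8),(37,8),(38,6),(39,9),(41,8),(44,5),(47,5),(49,9),(50,3),(51,8),(53,6),(54,3),(55,9),(56,8),(57,6),(58,3),(60,2),(61,2),(63,8),(64,3),(65,3),(66,5),(68,2),(70,6),(72,6),(73,2),(74,2),(75,6)]) (.leaf [(77,3),(78,8),(80,8),(82,8),(85,9),(89,9),(90,6),(91,1),(92,10),(93,5),(94,10),(95,8),(97,2),(100,1),(101,8),(103,1),(105,8),(106,9),(107,2),(109,10),(110,3),(111,3),(112,8),(113,2),(114,2),(115,3),(116,3),(118,8),(119,10),(120,1),(121,6),(122,1),(123,3),(124,1),(125,3),(126,1),(128,10),(129,3),(130,8),(131,10),(132,8)])) 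
 (.node (.leaf [(2,8),(3,5),(4,8),(5,2),(7,2),(10,5),(13,5),(14,6),(15,6),(17,10),(18,7),(19,7),(22,8),(23,6),(24,2),(25,7),(26,8),(27,8),(28,5),(29,8),(30,8),(31,3),(32,3),(33,8),(36,8),(37,8),(39,3),(40,3),(41,6),(43,6),(44,6),(45,8),(46,4),(47,7),(50,5),(51,3),(52,8),(53,9),(54,3),(57,3),(58,5),(60,9),(61,5),(64,3),(65,3),(67,3),(69,3),(71,5),(72,5),(73,8),(75,2)]) (.leaf [(77,8),(78,1),(79,1),(81,9),(82,1),(83,10),(84,9),(85,1),(86,7),(87,4),(88,10),(89,4),(92,9),(93,9),(95,2),(97,1),(98,3),(99,9),(100,1),(101,1),(102,8),(103,1),(105,8),(106,1),(107,4),(108,10),(109,3),(110,1),(113,1),(117,1),(120,9),(121,9),(122,8),(123,1),(124,8),(125,1),(127,9),(128,1),(129,2)]))))) 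
 (.node 
 (.node 
 (.node 
 (.node (.leaf [(2,8),(3,8),(4,5),(5,5),(6,2),(11,7),(12,7),(15,3),(18,6),(19,6),(20,7),(22,7),(23,9),(24,7),(25,7),(26,2),(27,9),(29,6),(30,9),(31,5),(33,2),(35,2),(38,6),(39,10),(42,4),(43,2),(44,9),(45,9),(46,10),(47,5),(48,4),(51,9),(53,7),(54,9),(55,3),(56,8),(57,5),(58,10),(59,9),(60,4),(61,2),(63,9),(66,5),(67,2),(69,4),(70,10),(71,9),(72,2),(73,1),(74,10),(75,5),(76,4)]) (.leaf [(2,8),(4,3),(5,2),(7,2),(10,5),(13,6),(14,5),(15,7),(17,5),(18,8),(19,1),(20,10),(22,3),(24,2),(25,1),(26,8),(27,8),(28,5),(29,2),(30,7),(31,3),(32,3),(33,8),(35,5),(36,3),(37,3),(38,6),(39,3),(40,9),(41,6),(42,1),(43,6),(45,8),(46,4),(47,3),(50,5),(51,3),(52,8),(53,9),(54,3),(57,9),(60,9),(63,6),(64,8),(65,8),(66,5),(67,3),(69,8),(70,5),(71,5),(73,8),(75,8)])) 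
 (.node (.leaf [(0,9),(1,2),(2,3),(3,10),(4,2),(5,10),(6,2),(10,8),(13,6),(14,5),(15,5),(16,8),(17,2),(18,7),(19,5),(21,2),(22,3),(23,1),(24,8),(25,9),(26,3),(29,3),(33,3),(36,5),(37,5),(38,9),(39,3),(40,2),(41,3),(43,5),(44,3),(45,6),(49,9),(50,8),(51,8),(53,4),(54,8),(55,8),(56,5),(57,8),(58,10),(59,1),(60,3),(61,10),(64,6),(65,6),(66,3),(67,5),(68,1),(69,8),(70,9),(71,6),(72,8),(73,8),(74,2),(75,7)]) (.leaf [(80,3),(85,8),(90,3),(91,8),(92,8),(94,8),(95,8),(97,3),(99,8),(102,8),(103,3),(106,8),(109,8),(112,8),(113,3),(114,8),(115,3),(116,8),(118,8),(119,3),(120,3),(122,3),(126,8),(127,3),(129,3),(130,8),(131,3)]))) 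
 (.node 
 (.node (.leaf [(0,9),(1,2),(3,5),(4,2),(5,10),(6,4),(10,6),(13,6),(14,5),(15,2),(16,8),(18,7),(19,5),(21,2),(22,6),(23,6),(24,3),(25,9),(26,6),(29,9),(35,3),(36,3),(37,5),(38,6),(39,6),(41,5),(43,8),(45,3),(47,5),(49,9),(50,6),(53,8),(54,5),(55,3),(56,10),(57,2),(58,8),(59,4),(60,8),(61,5),(63,8),(64,8),(65,6),(66,5),(67,8),(68,4),(69,6),(70,6),(71,3),(73,5),(74,4),(75,1)]) (.leaf [(78,2),(79,10),(80,1),(81,8),(82,10),(85,10),(86,8),(88,8),(89,2),(92,10),(93,10),(95,10),(97,10),(99,2),(100,2),(101,1),(103,3),(106,1),(107,9),(108,3),(109,9),(110,1),(111,10),(112,9),(113,1),(114,10),(115,1),(116,10),(117,1),(120,1),(121,1),(123,10),(124,3),(125,9),(127,9),(128,9),(129,1),(130,5),(131,1)])) 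
 (.node (.leaf [(0,2),(1,9),(2,2),(3,3),(4,5),(7,2),(13,10),(14,1),(15,6),(17,3),(18,8),(19,8),(20,5),(21,9),(22,3),(23,8),(25,6),(26,3),(27,9),(28,8),(29,6),(30,3),(32,2),(33,2),(35,8),(36,3),(37,3),(38,5),(40,2),(42,6),(44,6),(45,2),(46,2),(47,6),(49,2),(51,9),(52,9),(54,9),(57,5),(61,3),(63,3),(64,8),(65,8),(66,6),(67,9),(69,8),(72,5),(75,5)]) (.leaf [(77,8),(78,9),(79,2),(81,10),(82,3),(83,3),(84,8),(85,2),(86,2),(87,3),(88,3),(90,8),(91,10),(92,1),(93,6),(94,1),(95,3),(96,1),(97,3),(98,1),(100,10),(101,3),(102,8),(103,10),(104,8),(105,8),(106,3),(108,3),(110,3),(113,2),(117,2),(118,5),(119,10),(120,1),(121,6),(122,1),(123,3),(125,9),(128,10),(129,3),(131,10)])))) 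
 (.node 
 (.node 
 (.node (.leaf [(2,2),(3,5),(5,3),(6,10),(7,2),(10,3),(11,2),(12,2),(13,5),(14,7),(15,8),(16,6),(17,3),(18,5),(19,2),(20,2),(22,8),(23,7),(24,1),(26,9),(27,10),(28,5),(29,2),(30,4),(31,3),(32,4),(33,6),(35,3),(36,9),(37,9),(38,2),(39,10),(40,9),(41,2),(42,9),(43,5),(44,4),(45,3),(46,8),(47,2),(48,9),(50,9),(51,5),(52,7),(53,2),(54,2),(56,3),(57,9),(58,9),(59,8),(60,10),(61,4),(63,8),(64,2),(65,2),(66,9),(67,8),(68,7),(69,3),(70,10),(71,6),(72,7),(73,1),(74,8),(75,4),(76,9)]) (.leaf [(77,3),(78,4),(79,9),(80,10),(81,8),(82,9),(85,8),(91,10),(92,10),(93,2),(94,9),(95,9),(97,2),(99,1),(101,10),(103,2),(105,8),(106,9),(109,8),(110,2),(111,1),(112,7),(113,3),(114,10),(115,5),(116,1),(117,2),(119,1),(120,1),(121,9),(122,2),(123,1),(124,2),(125,10),(126,2),(127,10),(129,2),(130,5),(131,3)])) 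
 (.node (.leaf [(5,2),(6,4),(8,2),(9,9),(10,9),(18,2),(19,4),(24,2),(29,9),(34,2),(35,9),(36,9),(38,9),(39,9),(41,2),(43,9),(46,5),(47,2),(50,9),(53,9),(56,6),(57,2),(58,2),(59,9),(60,9),(62,9),(63,2),(64,2),(66,2),(70,2),(71,2),(73,2),(74,2),(75,5)]) (.leaf [(77,8),(78,10),(79,1),(81,9),(83,3),(85,9),(86,1),(88,3),(89,3),(91,1),(92,10),(93,10),(94,2),(96,2),(98,2),(100,9),(101,3),(102,8),(103,1),(105,8),(107,3),(108,3),(110,8),(113,9),(117,1),(119,1),(120,10),(121,10),(122,2),(123,3),(125,10),(128,9),(131,9)]))) 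
 (.node 
 (.node (.leaf [(2,5),(3,8),(4,2),(5,8),(6,2),(10,8),(13,6),(14,5),(15,5),(16,10),(18,7),(19,7),(22,5),(23,3),(24,8),(25,9),(26,3),(29,3),(30,5),(32,9),(33,5),(36,3),(37,3),(39,3),(41,3),(43,5),(44,5),(45,8),(47,2),(50,8),(51,6),(52,2),(53,7),(54,8),(55,8),(56,5),(57,8),(58,8),(59,3),(60,3),(61,8),(64,8),(65,8),(67,3),(68,3),(69,6),(71,6),(72,6),(73,8),(74,4),(75,7)]) (.leaf [(77,3),(78,10),(79,7),(80,1),(81,8),(82,10),(85,10),(89,10),(92,2),(93,2),(94,3),(95,10),(96,3),(97,10),(99,2),(100,10),(101,9),(105,8),(106,1),(107,1),(109,9),(110,1),(111,10),(112,9),(113,1),(114,7),(115,4),(116,10),(117,4),(120,9),(121,9),(123,2),(125,1),(126,3),(127,9),(128,1),(129,1),(130,8),(131,1)])) 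
 (.node (.leaf [(0,2),(1,9),(3,6),(4,10),(7,4),(10,9),(11,9),(13,7),(14,4),(15,1),(17,8),(18,3),(19,5),(20,8),(21,9),(22,6),(23,5),(26,2),(27,9),(28,6),(29,5),(30,6),(31,9),(32,2),(34,1),(35,3),(36,8),(37,4),(38,8),(39,2),(40,8),(41,2),(42,3),(44,3),(45,2),(46,2),(47,5),(48,2),(49,2),(50,9),(52,9),(54,9),(57,6),(61,6),(63,8),(64,3),(65,7),(66,3),(67,9),(69,5),(72,8),(73,9),(75,8)]) (.leaf [(78,10),(80,3),(82,1),(83,10),(84,9),(85,3),(86,6),(87,1),(88,10),(89,1),(91,2),(92,10),(93,10),(94,9),(95,10),(96,1),(97,9),(98,4),(99,9),(101,1),(102,5),(103,3),(106,9),(107,1),(108,10),(109,3),(110,1),(113,3),(116,3),(119,2),(120,10),(121,10),(122,9),(123,1),(125,10),(126,3),(127,9),(129,10),(131,10)]))))))) 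
 (.node 
 (.node 
 (.node 
 (.node 
 (.node 
 (.node 
 (.node (.leaf [(0,5),(1,7),(2,5),(3,5),(4,6),(5,6),(6,10),(7,10),(10,6),(15,5),(16,1),(17,1),(18,5),(19,5),(21,7),(22,4),(23,7),(24,3),(25,4),(26,7),(27,1),(28,3),(30,1),(31,10),(32,8),(33,4),(36,4),(39,2),(40,3),(41,4),(43,7),(44,4),(45,1),(46,9),(47,8),(49,4),(50,7),(51,7),(52,3),(53,4),(54,4),(55,2),(56,3),(59,10),(60,8),(61,4),(64,7),(67,10),(68,3),(69,7),(71,4),(72,7),(73,9),(74,10),(75,8)]) (.leaf [(78,8),(79,3),(81,8),(82,3),(84,8),(85,3),(87,3),(90,8),(93,8),(94,3),(95,3),(96,3),(100,8),(101,3),(104,8),(110,3),(112,8),(113,3),(117,3),(118,8),(121,8),(122,3),(123,3),(125,8),(128,8)])) (.leaf [(2,10),(3,8),(5,2),(10,5),(11,2),(15,3),(18,2),(19,2),(20,5),(23,3),(25,4),(26,8),(27,8),(28,7),(29,3),(30,2),(31,3),(32,3),(33,10),(35,8),(36,9),(37,3),(38,5),(39,3),(40,3),(41,6),(42,6),(43,6),(44,3),(45,8),(46,2),(47,2),(48,9),(50,5),(51,1),(52,8),(53,9),(54,3),(57,8),(61,8),(63,3),(64,2),(65,9),(66,6),(67,3),(71,5),(72,8),(73,8),(75,5)]))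 
 (.node (.leaf [(0,9),(1,2),(2,6),(5,8),(6,2),(10,6),(13,6),(14,5),(15,6),(16,6),(18,3),(19,5),(21,2),(22,9),(29,8),(33,6),(35,6),(36,3),(37,3),(38,1),(41,5),(44,8),(47,10),(49,9),(50,6),(51,6),(53,3),(56,8),(57,3),(58,6),(59,9),(63,5),(64,8),(65,8),(66,10),(68,5),(69,2),(70,5),(72,3),(74,2),(75,4)]) (.leaf [(77,3),(79,8),(82,8),(84,3),(85,7),(89,10),(90,3),(91,10),(92,9),(93,4),(94,9),(95,8),(97,7),(100,10),(101,8),(103,10),(105,8),(106,7),(107,1),(109,9),(110,3),(112,8),(113,4),(114,9),(115,3),(117,3),(118,8),(119,1),(120,2),(121,7),(122,2),(123,3),(124,2),(126,2),(128,1),(129,3),(130,8),(131,1)]))) 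
 (.node 
 (.node (.leaf [(2,2),(3,8),(5,6),(6,5),(11,7),(12,7),(15,3),(16,6),(17,2),(19,5),(20,7),(23,9),(24,7),(26,2),(27,10),(29,9),(30,9),(31,3),(32,4),(33,6),(35,9),(36,7),(37,7),(38,9),(39,5),(40,3),(42,4),(43,2),(44,2),(45,10),(46,9),(47,6),(48,4),(51,5),(52,7),(53,4),(54,9),(55,4),(56,7),(57,2),(58,10),(59,9),(60,4),(61,2),(63,2),(64,4),(65,4),(66,2),(67,1),(68,7),(70,9),(71,9),(72,9),(73,6),(74,8),(75,2),(76,4)]) (.leaf [(85,7),(89,2),(91,7),(92,9),(93,9),(94,9),(97,4),(100,2),(103,2),(106,7),(107,9),(109,9),(112,8),(113,4),(114,9),(115,6),(119,4),(120,2),(121,2),(122,2),(124,2),(126,2),(128,9),(130,5),(131,1)])) 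
 (.node (.leaf [(2,5),(3,8),(4,5),(5,2),(7,2),(10,8),(13,8),(14,3),(15,1),(17,5),(18,8),(19,10),(20,2),(21,1),(22,3),(23,3),(25,2),(26,5),(27,3),(28,1),(29,5),(30,5),(31,6),(32,8),(33,5),(36,3),(37,3),(39,8),(40,1),(41,3),(42,9),(43,3),(44,3),(45,5),(46,2),(47,3),(50,8),(51,6),(52,3),(53,9),(54,6),(57,6),(61,8),(64,8),(65,8),(67,6),(69,8),(71,8),(72,8),(73,3)]) (.leaf [(79,10),(81,10),(82,1),(83,10),(84,9),(85,2),(86,8),(87,4),(88,10),(89,1),(91,9),(93,8),(94,10),(95,2),(96,2),(97,1),(98,2),(99,9),(100,2),(101,1),(102,8),(103,2),(106,1),(107,1),(108,10),(109,3),(110,1),(113,10),(117,10),(119,9),(121,8),(122,10),(123,1),(127,9),(128,2),(129,2),(131,1)])))) 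
 (.node 
 (.node 
 (.node (.leaf [(3,8),(4,5),(5,2),(7,8),(8,5),(9,7),(10,3),(11,2),(12,2),(15,5),(16,5),(17,8),(19,3),(20,2),(23,9),(24,5),(25,7),(27,4),(28,9),(29,4),(30,9),(31,5),(34,4),(35,9),(36,9),(37,2),(38,8),(39,6),(40,2),(41,2),(42,9),(44,9),(46,4),(47,3),(48,9),(50,9),(53,5),(55,9),(57,7),(58,4),(59,3),(60,6),(61,2),(62,7),(63,2),(64,2),(65,9),(66,3),(68,4),(70,5),(72,2),(73,5),(74,4),(75,9),(76,9)]) (.leaf [(3,9),(4,2),(6,9),(7,4),(8,9),(9,2),(11,9),(13,4),(14,7),(15,7),(17,2),(22,9),(23,2),(25,9),(26,2),(28,6),(29,2),(31,9),(34,9),(37,9),(38,2),(39,5),(40,2),(44,9),(45,2),(48,2),(54,9),(56,2),(57,9),(61,9),(62,2),(65,2),(66,9),(67,9),(69,2),(72,2),(73,7)])) 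
 (.node (.leaf [(0,9),(1,2),(2,3),(3,2),(5,7),(6,4),(7,9),(8,2),(9,9),(10,3),(13,1),(14,10),(15,7),(16,5),(18,10),(19,8),(21,2),(23,9),(26,9),(28,2),(29,1),(33,3),(34,2),(35,3),(36,6),(37,10),(38,6),(39,9),(41,8),(44,3),(45,9),(47,3),(49,9),(50,4),(51,8),(53,3),(54,2),(56,6),(57,10),(58,5),(59,9),(61,2),(62,9),(63,8),(64,5),(65,1),(66,5),(67,2),(68,5),(70,6),(72,8),(73,2),(74,2),(75,9)]) (.leaf [(77,8),(78,10),(79,10),(81,10),(82,2),(83,1),(84,10),(85,2),(86,9),(87,2),(88,1),(89,2),(92,10),(93,10),(95,1),(96,3),(97,10),(98,3),(99,10),(100,10),(101,2),(102,8),(103,2),(105,5),(106,10),(107,2),(108,1),(109,3),(110,2),(113,2),(117,10),(120,10),(121,10),(123,2),(125,10),(127,10),(128,10),(129,1)]))) 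
 (.node 
 (.node (.leaf [(2,5),(4,4),(5,5),(6,4),(10,1),(13,5),(14,6),(15,5),(16,5),(18,10),(19,10),(25,7),(29,1),(33,5),(35,1),(36,6),(37,6),(38,6),(41,10),(44,5),(47,5),(50,1),(51,6),(53,6),(56,6),(57,10),(58,5),(59,7),(63,10),(64,5),(65,5),(66,5),(68,5),(70,6),(72,6),(74,4),(75,9)]) (.leaf [(77,3),(78,8),(85,1),(89,4),(91,9),(92,10),(93,10),(94,7),(97,2),(100,1),(103,4),(105,8),(106,9),(107,10),(109,10),(113,10),(114,2),(115,3),(119,2),(120,1),(121,1),(122,4),(124,1),(125,3),(126,9),(128,10),(130,8),(131,2)])) 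
 (.node (.leaf [(2,8),(3,8),(4,2),(5,2),(7,2),(10,3),(15,1),(17,2),(19,4),(20,5),(23,3),(25,1),(26,8),(27,8),(28,5),(29,8),(30,2),(31,1),(32,3),(33,8),(35,6),(37,9),(38,3),(39,5),(40,6),(41,8),(42,6),(43,6),(44,5),(45,8),(46,2),(47,5),(50,3),(51,3),(52,8),(53,9),(54,3),(57,4),(61,8),(63,5),(65,2),(66,8),(67,3),(71,5),(72,6),(73,6),(75,3)]) (.leaf [(79,10),(81,10),(82,1),(83,10),(84,1),(85,10),(86,8),(87,1),(88,10),(89,4),(91,1),(92,8),(94,2),(95,10),(96,2),(97,9),(98,2),(99,9),(100,10),(101,1),(102,8),(103,2),(104,3),(106,9),(107,4),(108,10),(109,3),(110,1),(113,10),(117,10),(119,1),(120,8),(121,8),(122,2),(123,1),(127,9),(128,10),(129,10),(131,9)]))))) 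
 (.node 
 (.node 
 (.node 
 (.node (.leaf [(2,6),(3,3),(4,5),(5,4),(6,6),(7,3),(10,8),(11,2),(12,2),(16,5),(17,8),(18,6),(19,9),(20,2),(22,7),(23,2),(24,2),(25,7),(26,4),(27,4),(28,2),(30,9),(31,4),(33,7),(35,2),(36,2),(37,9),(39,10),(40,2),(41,9),(42,9),(43,8),(44,9),(45,7),(46,5),(47,7),(48,9),(50,2),(51,4),(53,2),(54,7),(55,8),(56,4),(58,4),(59,4),(60,9),(61,9),(63,9),(64,9),(65,2),(67,4),(68,4),(69,4),(70,4),(71,3),(72,2),(73,1),(74,4),(75,5),(76,9)]) (.leaf [(0,2),(1,9),(2,2),(3,3),(4,7),(6,9),(7,4),(8,9),(9,2),(13,10),(14,1),(15,4),(17,5),(18,8),(19,10),(20,5),(21,9),(22,4),(23,8),(25,3),(26,2),(28,6),(29,10),(30,5),(31,9),(33,2),(34,9),(35,8),(36,5),(37,1),(38,5),(39,2),(40,5),(42,6),(44,8),(45,2),(46,2),(47,9),(49,2),(51,9),(54,9),(56,2),(57,1),(61,3),(62,2),(63,3),(64,6),(65,10),(66,6),(67,9),(69,8),(72,3),(73,9),(75,3)])) 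
 (.node (.leaf [(2,8),(3,10),(4,2),(12,2),(15,8),(18,2),(19,2),(22,5),(23,1),(24,8),(25,9),(26,3),(29,8),(33,8),(35,3),(36,2),(37,9),(38,6),(39,3),(43,5),(44,8),(45,8),(47,5),(51,3),(53,4),(54,8),(55,8),(56,7),(57,3),(58,2),(59,3),(60,3),(61,10),(63,8),(64,9),(65,3),(66,5),(67,3),(68,3),(69,6),(70,6),(71,6),(72,3),(73,8),(74,2),(75,2),(76,9)]) (.leaf [(82,8),(84,3),(85,8),(89,8),(90,3),(93,3),(94,8),(95,8),(97,3),(100,3),(106,8),(107,3),(109,8),(110,3),(112,8),(113,3),(115,3),(118,8),(121,8),(122,3),(123,3),(124,3),(128,8),(129,3),(132,8)]))) 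
 (.node 
 (.node (.leaf [(2,8),(3,5),(4,2),(5,5),(6,2),(10,3),(13,3),(14,8),(15,10),(16,5),(18,10),(19,8),(22,8),(23,6),(24,3),(25,9),(26,6),(29,6),(33,8),(36,8),(37,8),(39,6),(41,8),(43,8),(44,8),(45,3),(49,1),(50,3),(51,3),(53,2),(54,5),(55,3),(56,1),(57,5),(58,5),(59,6),(60,8),(61,5),(64,3),(65,3),(67,8),(68,1),(69,3),(70,9),(71,3),(72,3),(73,5),(74,2),(75,3)]) (.leaf [(78,10),(79,10),(80,1),(81,8),(82,10),(85,1),(89,1),(91,2),(93,3),(94,1),(95,10),(99,2),(100,9),(101,9),(103,10),(107,10),(109,10),(110,1),(111,10),(112,9),(113,2),(114,8),(115,4),(116,10),(117,1),(119,9),(121,8),(122,10),(123,2),(124,2),(125,1),(126,2),(127,9),(128,2),(129,1),(130,8),(131,2)])) 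
 (.node (.leaf [(3,5),(4,5),(5,4),(7,4),(13,6),(14,5),(15,6),(17,5),(18,10),(19,10),(20,5),(22,1),(23,6),(25,6),(28,6),(29,10),(30,5),(31,7),(35,10),(36,5),(37,5),(38,5),(40,5),(42,6),(44,6),(46,4),(47,9),(53,7),(57,1),(61,5),(63,1),(64,6),(65,6),(66,6),(69,10),(72,5),(75,5)]) (.leaf [(77,8),(78,9),(79,10),(81,10),(85,10),(86,2),(87,3),(91,2),(92,1),(93,1),(94,4),(96,1),(97,3),(98,9),(100,10),(102,8),(103,2),(105,8),(106,3),(113,10),(117,7),(119,2),(120,1),(121,1),(122,4),(125,9),(128,10),(131,7)])))) 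
 (.node 
 (.node 
 (.node (.leaf [(2,8),(3,5),(5,8),(6,10),(7,7),(10,9),(11,2),(12,2),(13,7),(14,5),(15,2),(16,6),(17,9),(18,5),(19,8),(20,2),(23,7),(24,8),(26,5),(27,10),(28,1),(29,6),(30,4),(31,4),(32,4),(33,2),(36,2),(37,2),(38,6),(39,10),(40,5),(41,6),(42,9),(43,9),(44,4),(45,10),(46,8),(47,6),(48,9),(50,5),(51,9),(52,7),(53,9),(54,6),(56,3),(57,5),(58,10),(59,8),(60,3),(61,4),(64,9),(65,9),(66,5),(67,1),(68,7),(70,10),(71,2),(72,7),(73,1),(74,8),(75,4),(76,9)]) (.leaf [(77,6),(78,1),(79,9),(80,10),(81,8),(82,9),(85,9),(89,1),(92,1),(93,1),(95,9),(97,1),(99,1),(100,1),(101,10),(105,8),(106,10),(107,10),(109,10),(110,2),(111,1),(112,10),(113,2),(114,9),(115,2),(116,1),(117,2),(120,10),(121,10),(123,1),(124,3),(125,10),(126,3),(127,10),(128,10),(129,2),(130,8),(131,2)])) 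
 (.node (.leaf [(2,9),(5,2),(6,4),(7,9),(8,2),(9,9),(10,9),(12,9),(13,7),(14,4),(15,4),(16,2),(26,9),(28,2),(29,9),(33,9),(34,2),(37,2),(38,9),(39,9),(41,2),(44,2),(45,7),(50,9),(51,2),(53,9),(54,2),(56,6),(57,2),(59,9),(62,9),(65,9),(66,2),(67,5),(68,2),(72,9),(73,2),(76,2)]) (.leaf [(78,7),(79,9),(81,9),(84,8),(85,4),(86,9),(87,6),(91,4),(92,2),(93,2),(94,2),(96,2),(98,2),(100,9),(102,5),(103,1),(113,4),(117,9),(119,4),(120,2),(121,2),(122,2),(125,7),(128,9),(131,9)]))) 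
 (.node 
 (.node (.leaf [(2,8),(3,8),(4,2),(5,2),(6,2),(15,10),(16,2),(18,4),(22,3),(23,3),(24,8),(25,9),(26,3),(29,4),(33,8),(35,5),(37,2),(38,8),(39,3),(43,5),(44,6),(45,6),(47,3),(51,3),(53,1),(54,8),(55,8),(56,5),(57,8),(58,2),(59,1),(60,3),(61,8),(63,6),(65,9),(66,3),(67,5),(68,6),(69,8),(70,6),(71,6),(72,5),(73,8),(74,2),(75,5)]) (.leaf [(78,2),(79,7),(80,1),(81,8),(82,10),(85,1),(89,1),(91,10),(92,3),(93,3),(94,9),(95,10),(99,2),(100,1),(101,1),(103,2),(107,10),(109,10),(110,1),(111,10),(112,1),(113,10),(114,8),(115,1),(116,10),(117,4),(119,1),(120,8),(122,2),(123,10),(124,2),(125,9),(126,2),(127,9),(128,10),(129,1),(130,8),(131,2),(132,3)])) 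
 (.node (.leaf [(0,2),(1,9),(3,6),(4,8),(7,2),(10,9),(13,5),(14,6),(15,5),(17,6),(18,5),(19,3),(20,6),(21,9),(22,6),(23,6),(25,3),(28,8),(29,3),(30,6),(31,9),(35,5),(36,8),(37,8),(38,10),(40,5),(41,2),(42,5),(44,3),(46,2),(47,4),(49,2),(50,9),(57,8),(61,6),(63,6),(64,3),(65,3),(66,1),(69,5),(72,8),(75,10)]) (.leaf [(77,8),(78,7),(79,1),(81,9),(82,3),(84,8),(85,4),(86,9),(87,3),(89,3),(90,8),(91,1),(92,2),(93,7),(94,2),(95,3),(96,2),(98,2),(100,1),(101,3),(102,8),(103,1),(105,8),(107,3),(110,3),(112,8),(113,4),(117,1),(118,8),(119,1),(120,2),(121,7),(122,2),(123,3),(125,4),(128,1),(129,3),(131,1)])))))) 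
 (.node 
 (.node 
 (.node 
 (.node 
 (.node 
 (.node (.leaf [(2,3),(3,10),(5,5),(6,6),(15,3),(16,5),(19,6),(22,3),(23,6),(24,4),(26,2),(27,5),(29,9),(30,5),(31,1),(32,7),(33,9),(35,6),(36,7),(37,4),(38,6),(39,10),(43,2),(44,5),(45,5),(46,6),(47,9),(51,2),(52,4),(53,7),(54,9),(55,10),(56,4),(57,2),(58,6),(59,6),(60,7),(61,5),(63,5),(64,4),(65,7),(66,5),(67,6),(68,4),(69,8),(70,5),(71,9),(72,6),(73,1),(74,6),(75,2)]) (.leaf [(78,2),(79,9),(81,9),(85,1),(86,6),(89,3),(91,1),(92,10),(93,10),(94,10),(96,2),(97,8),(98,5),(100,1),(103,1),(106,8),(107,3),(109,3),(113,1),(117,9),(119,1),(120,10),(121,10),(122,10),(124,8),(125,2),(128,1),(131,9)])) (.leaf [(2,10),(4,5),(10,5),(13,10),(14,1),(15,7),(17,5),(18,6),(19,10),(20,10),(22,5),(25,9),(26,10),(27,6),(28,8),(30,5),(31,5),(32,5),(33,10),(35,1),(36,1),(37,1),(38,6),(39,5),(40,9),(41,6),(42,1),(43,6),(47,9),(50,5),(51,1),(52,6),(54,1),(63,10),(64,10),(65,10),(66,5),(67,1),(69,6),(71,5),(73,6),(75,6)]))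 
 (.node (.leaf [(0,9),(1,2),(2,3),(3,5),(5,2),(6,4),(7,9),(8,2),(9,9),(10,9),(13,9),(14,2),(15,5),(19,2),(21,2),(22,8),(23,6),(24,3),(26,6),(28,2),(29,3),(33,3),(34,2),(35,4),(36,9),(38,1),(39,6),(41,2),(43,6),(44,5),(45,3),(47,8),(49,9),(50,9),(51,8),(53,5),(54,5),(55,3),(56,10),(57,8),(59,6),(60,8),(61,5),(62,9),(63,8),(64,2),(66,10),(67,8),(68,7),(69,3),(70,3),(71,5),(72,6),(73,5),(74,2),(75,8)]) (.leaf [(78,1),(79,1),(80,7),(82,9),(91,10),(92,10),(93,2),(94,1),(95,9),(97,2),(99,4),(100,3),(101,10),(103,10),(106,9),(110,2),(111,4),(112,10),(114,2),(115,10),(116,4),(117,10),(119,1),(120,1),(121,9),(122,10),(123,1),(124,2),(125,10),(126,2),(127,10),(128,8),(129,2),(132,8)]))) 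
 (.node 
 (.node (.leaf [(2,6),(3,3),(5,8),(7,8),(10,3),(11,2),(12,2),(15,5),(17,3),(19,5),(20,2),(22,3),(23,2),(24,9),(27,4),(28,9),(29,7),(30,10),(31,4),(32,4),(33,7),(35,6),(36,2),(37,6),(38,4),(39,2),(40,9),(41,2),(42,9),(43,4),(44,5),(45,7),(46,4),(47,7),(48,9),(50,9),(51,4),(52,7),(53,9),(55,9),(57,4),(58,4),(59,4),(60,2),(61,9),(63,5),(64,9),(65,5),(66,7),(67,4),(69,8),(70,4),(71,7),(72,6),(73,9),(74,4),(75,2),(76,9)]) (.leaf [(78,2),(79,10),(80,4),(81,8),(82,10),(83,8),(85,9),(88,8),(89,4),(90,8),(91,10),(93,8),(94,1),(95,2),(99,10),(100,9),(101,1),(103,2),(107,7),(108,3),(109,10),(110,1),(111,10),(112,1),(113,2),(114,5),(115,4),(116,7),(117,1),(118,3),(119,1),(121,3),(122,10),(123,10),(124,10),(125,9),(126,10),(127,1),(128,2),(129,9),(130,8),(131,2),(132,6)])) 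
 (.node (.leaf [(0,2),(1,9),(2,7),(3,5),(4,2),(5,2),(7,2),(10,8),(11,2),(15,6),(18,2),(19,4),(20,10),(21,9),(23,6),(25,5),(26,5),(27,3),(28,1),(29,8),(30,2),(31,6),(32,8),(33,8),(35,5),(38,8),(39,6),(40,7),(41,3),(42,1),(43,3),(44,8),(45,5),(46,4),(47,8),(48,9),(49,2),(50,8),(51,4),(52,3),(53,9),(54,6),(57,3),(61,5),(63,6),(66,3),(67,6),(71,8),(72,3),(73,5),(75,8)]) (.leaf [(78,1),(79,9),(81,1),(82,9),(83,2),(84,1),(85,1),(86,10),(87,1),(88,10),(89,9),(90,3),(91,3),(92,1),(93,4),(94,3),(95,7),(97,9),(98,8),(99,1),(100,9),(101,1),(102,8),(103,1),(106,9),(107,9),(108,10),(110,9),(113,1),(115,3),(117,9),(118,3),(119,3),(120,1),(121,4),(122,3),(123,1),(125,1),(127,1),(128,9),(129,7),(131,8)])))) 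
 (.node 
 (.node 
 (.node (.leaf [(2,8),(3,5),(5,8),(6,5),(7,2),(10,9),(11,7),(12,5),(15,8),(16,6),(17,9),(19,3),(20,5),(23,7),(24,1),(26,5),(27,6),(28,5),(29,2),(30,1),(32,8),(33,2),(36,2),(37,9),(38,2),(39,3),(40,5),(41,6),(42,6),(43,9),(45,6),(46,5),(47,2),(48,5),(50,5),(51,9),(52,3),(53,9),(54,6),(55,7),(56,7),(57,9),(58,6),(59,5),(60,10),(61,4),(64,9),(65,2),(66,9),(67,5),(68,7),(70,6),(71,2),(73,8),(74,5),(76,6)]) (.leaf [(2,2),(3,5),(4,5),(5,2),(10,2),(13,6),(14,5),(15,6),(16,2),(17,5),(18,8),(19,10),(20,7),(22,5),(23,6),(25,6),(29,8),(30,7),(33,2),(35,8),(36,3),(37,3),(38,3),(40,5),(41,9),(42,4),(44,8),(47,6),(50,2),(51,9),(53,9),(57,3),(61,5),(63,3),(64,8),(65,8),(66,8),(68,2),(69,6),(72,3),(75,1)])) 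
 (.node (.leaf [(3,3),(5,8),(6,2),(10,6),(12,9),(13,6),(14,5),(15,2),(16,8),(18,3),(19,3),(22,8),(23,8),(24,1),(26,6),(35,3),(36,3),(37,5),(38,8),(39,6),(41,5),(43,6),(44,2),(45,3),(47,3),(50,6),(53,10),(54,5),(55,1),(56,1),(58,6),(59,8),(60,10),(61,3),(63,8),(64,8),(65,6),(66,3),(67,8),(68,4),(69,3),(70,6),(71,6),(72,9),(73,5),(75,10),(76,2)]) (.leaf [(77,8),(79,9),(81,9),(82,2),(83,1),(84,10),(85,1),(86,8),(87,2),(88,1),(89,2),(91,2),(94,1),(95,9),(96,1),(97,10),(98,4),(99,10),(100,1),(101,2),(102,5),(103,1),(104,3),(105,8),(106,10),(107,10),(108,1),(109,3),(110,2),(113,1),(117,9),(119,2),(122,1),(123,2),(127,10),(128,1),(129,9),(131,10)]))) 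
 (.node 
 (.node (.leaf [(2,10),(3,8),(4,2),(6,9),(8,9),(9,2),(12,4),(13,4),(14,7),(15,6),(18,4),(19,2),(22,5),(23,3),(24,10),(25,9),(26,3),(27,5),(29,6),(32,9),(33,10),(34,9),(35,3),(37,9),(38,8),(39,5),(43,3),(44,6),(45,8),(47,5),(51,1),(52,2),(53,4),(54,8),(55,8),(56,10),(57,5),(58,4),(59,1),(60,1),(61,8),(62,2),(63,8),(65,2),(66,3),(67,3),(68,4),(69,6),(70,8),(71,8),(72,5),(73,6),(74,2),(75,5),(76,7)]) (.leaf [(77,3),(78,1),(79,9),(80,10),(82,9),(84,3),(85,10),(89,10),(90,3),(91,1),(92,8),(94,7),(95,9),(97,3),(99,9),(100,2),(101,10),(103,1),(105,8),(106,8),(107,1),(109,9),(110,2),(111,1),(112,7),(113,1),(115,2),(116,1),(117,2),(118,8),(119,2),(120,3),(122,4),(123,1),(124,1),(125,10),(126,1),(127,2),(128,9),(129,2),(130,8),(131,1)])) 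
 (.node (.leaf [(2,6),(3,5),(4,4),(8,2),(9,9),(10,5),(13,1),(14,10),(15,10),(17,6),(18,5),(19,3),(20,9),(22,8),(23,6),(25,1),(26,6),(27,6),(28,7),(29,8),(30,8),(31,3),(32,3),(33,6),(34,2),(35,2),(36,8),(37,10),(38,2),(39,1),(40,9),(41,6),(42,2),(43,8),(44,6),(45,8),(46,2),(47,7),(50,5),(51,5),(52,8),(54,5),(57,3),(59,5),(61,5),(62,9),(63,9),(64,3),(65,1),(66,9),(67,3),(69,3),(71,3),(72,5),(73,10),(75,2)]) (.leaf [(78,2),(82,4),(83,2),(84,9),(86,9),(87,9),(88,2),(89,4),(91,7),(92,7),(93,7),(94,9),(95,2),(96,1),(97,9),(98,4),(99,9),(101,1),(106,9),(107,4),(108,2),(110,4),(119,7),(120,7),(121,7),(122,9),(123,9),(125,2),(127,9),(129,2),(131,2)]))))) 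
 (.node 
 (.node 
 (.node 
 (.node (.leaf [(2,8),(3,8),(6,5),(7,7),(10,6),(11,7),(12,7),(15,8),(16,6),(17,6),(20,7),(23,9),(26,9),(27,9),(28,4),(29,5),(30,10),(31,3),(32,4),(33,2),(35,9),(38,5),(39,5),(40,7),(41,4),(42,4),(43,9),(44,2),(45,9),(46,9),(47,2),(48,4),(50,7),(51,9),(52,7),(54,2),(55,4),(56,7),(57,6),(58,9),(59,10),(61,2),(63,2),(66,6),(67,2),(68,7),(70,9),(71,2),(72,9),(73,6),(74,9),(75,2),(76,4)]) (.leaf [(2,3),(4,8),(7,2),(10,8),(11,9),(13,5),(14,6),(15,9),(17,8),(18,3),(19,3),(20,5),(22,6),(25,10),(26,5),(27,1),(28,1),(30,6),(31,8),(32,10),(33,3),(35,8),(36,8),(37,6),(38,3),(39,8),(40,4),(41,3),(42,6),(43,6),(44,9),(45,5),(47,10),(48,2),(50,8),(51,8),(52,1),(54,6),(63,3),(64,3),(65,5),(66,8),(67,6),(69,5),(71,6),(72,2),(73,3),(75,3)])) 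
 (.node (.leaf [(3,10),(5,5),(10,5),(13,1),(14,10),(15,4),(16,5),(18,10),(19,6),(22,5),(23,1),(24,6),(26,1),(35,10),(36,10),(37,10),(38,5),(39,1),(41,6),(43,5),(45,6),(47,6),(50,5),(53,9),(54,10),(55,6),(56,8),(58,5),(59,5),(60,5),(61,10),(63,1),(64,1),(65,1),(66,6),(67,5),(68,9),(69,6),(70,1),(71,6),(75,9)]) (.leaf [(78,3),(79,8),(81,8),(85,10),(89,2),(91,10),(92,1),(93,1),(94,1),(96,3),(97,9),(100,10),(103,2),(106,2),(107,9),(109,9),(113,1),(114,6),(117,3),(119,1),(120,10),(121,10),(122,10),(124,2),(125,8),(126,5),(128,1),(131,1)]))) 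
 (.node 
 (.node (.leaf [(0,9),(1,2),(2,5),(3,7),(4,2),(5,2),(6,2),(12,2),(15,5),(18,4),(19,2),(21,2),(22,8),(23,4),(24,3),(25,9),(26,6),(29,3),(33,5),(35,6),(38,3),(39,6),(43,8),(44,3),(45,5),(47,8),(49,9),(51,6),(53,5),(54,5),(55,3),(56,1),(57,8),(58,2),(59,6),(60,8),(61,8),(63,5),(66,8),(67,6),(68,7),(69,3),(70,1),(71,3),(72,8),(73,5),(74,4),(75,8),(76,9)]) (.leaf [(78,2),(79,2),(80,1),(82,2),(85,10),(87,8),(89,2),(90,8),(91,8),(92,10),(93,7),(94,8),(95,10),(97,10),(99,10),(100,2),(101,4),(103,3),(106,1),(107,9),(109,1),(110,9),(111,2),(112,1),(113,1),(114,10),(115,1),(116,10),(117,9),(118,3),(119,3),(120,1),(121,4),(122,3),(123,7),(125,9),(126,8),(127,1),(128,9),(129,1),(130,8),(131,1)])) 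
 (.node (.leaf [(2,8),(3,10),(5,2),(7,9),(8,2),(9,9),(10,5),(11,4),(13,7),(14,4),(15,5),(18,2),(19,4),(20,3),(23,1),(24,2),(25,4),(26,8),(27,8),(28,10),(29,5),(30,4),(31,1),(32,1),(33,8),(34,2),(35,8),(37,2),(38,3),(39,3),(40,4),(41,6),(42,8),(43,8),(44,5),(45,6),(46,2),(47,5),(48,7),(50,5),(51,3),(52,10),(53,9),(54,3),(55,5),(57,6),(60,9),(61,10),(62,9),(63,3),(65,9),(66,8),(67,5),(71,3),(72,6),(73,8),(75,5)]) (.leaf [(77,8),(78,8),(79,1),(81,9),(82,2),(83,1),(84,7),(85,1),(87,2),(88,1),(89,2),(90,8),(91,2),(92,3),(94,4),(95,1),(96,1),(97,10),(98,1),(99,2),(100,9),(101,2),(102,8),(103,1),(105,8),(106,10),(107,2),(108,1),(110,2),(112,8),(113,1),(117,1),(118,8),(119,10),(120,3),(122,4),(123,2),(125,8),(127,2),(128,9),(129,1),(131,10)])))) 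
 (.node 
 (.node 
 (.node (.leaf [(2,3),(3,3),(6,5),(7,5),(10,6),(15,4),(16,6),(17,6),(22,3),(23,2),(26,2),(27,6),(28,7),(29,9),(30,6),(32,4),(33,9),(35,2),(38,9),(39,9),(40,7),(41,4),(43,2),(44,9),(45,2),(46,5),(47,6),(50,7),(51,2),(52,7),(54,9),(56,7),(57,2),(58,6),(59,6),(61,9),(63,9),(66,2),(67,9),(68,7),(69,8),(70,5),(71,9),(72,2),(73,2),(74,5),(75,6)]) (.leaf [(77,3),(78,1),(79,1),(80,10),(81,8),(82,9),(85,10),(89,2),(91,9),(94,10),(95,9),(99,1),(100,10),(101,2),(103,1),(105,8),(107,9),(109,9),(110,2),(111,1),(112,10),(113,1),(114,8),(115,2),(116,1),(117,2),(119,2),(122,1),(123,9),(124,1),(125,10),(126,4),(127,10),(128,1),(129,2),(130,5),(131,1),(132,3)])) 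
 (.node (.leaf [(2,5),(3,2),(4,2),(5,5),(10,5),(13,5),(14,6),(15,5),(16,5),(17,2),(18,10),(19,8),(22,2),(23,9),(25,9),(29,3),(33,5),(35,3),(36,8),(37,8),(38,8),(40,2),(41,6),(44,3),(47,1),(50,5),(51,6),(53,6),(57,8),(58,7),(61,2),(63,8),(64,3),(65,3),(66,3),(68,5),(69,9),(70,4),(72,8),(75,6)]) (.leaf [(79,7),(80,3),(81,10),(82,1),(83,10),(84,1),(85,2),(86,5),(87,4),(88,7),(89,1),(90,3),(91,1),(93,3),(94,10),(95,10),(96,10),(97,9),(98,10),(99,1),(100,2),(101,9),(102,8),(103,2),(104,6),(106,9),(107,1),(108,7),(109,3),(110,1),(111,3),(113,2),(116,3),(117,7),(118,3),(119,1),(121,3),(122,10),(123,9),(127,1),(128,2),(129,10),(131,9)]))) 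
 (.node 
 (.node (.leaf [(2,5),(3,6),(5,4),(8,9),(9,2),(10,8),(13,10),(14,1),(15,1),(16,6),(18,3),(19,5),(22,5),(23,5),(24,8),(26,5),(29,3),(31,5),(33,5),(34,9),(35,9),(36,3),(37,1),(38,9),(39,3),(41,3),(43,3),(44,5),(45,10),(47,2),(50,8),(51,6),(53,1),(54,6),(55,6),(56,7),(57,8),(58,8),(59,3),(60,3),(61,6),(62,2),(63,2),(64,8),(65,10),(66,2),(67,1),(68,9),(69,6),(70,2),(71,8),(72,6),(73,8),(74,2),(75,7)]) (.leaf [(78,2),(79,7),(80,9),(82,7),(91,4),(92,4),(93,4),(94,2),(95,2),(97,9),(99,2),(101,9),(103,9),(106,2),(110,4),(111,2),(112,9),(114,9),(115,9),(116,2),(117,4),(119,7),(120,7),(121,7),(122,9),(123,2),(124,1),(125,9),(126,4),(127,9),(129,1)])) 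
 (.node (.leaf [(0,2),(1,9),(2,5),(3,3),(4,2),(6,9),(7,4),(8,9),(9,2),(10,8),(13,2),(14,9),(15,6),(18,2),(20,8),(21,9),(22,9),(23,8),(25,5),(26,5),(27,3),(28,10),(29,8),(31,6),(32,8),(33,5),(34,9),(35,8),(36,2),(38,10),(39,8),(40,7),(41,3),(42,3),(43,5),(44,6),(45,5),(46,2),(47,8),(49,2),(50,8),(51,6),(52,3),(54,6),(56,2),(57,3),(61,3),(62,2),(63,4),(64,9),(66,1),(67,6),(69,2),(71,6),(72,5),(73,3),(75,8)]) (.leaf [(78,9),(82,2),(83,4),(84,10),(86,2),(87,10),(88,4),(89,10),(91,1),(92,1),(93,9),(94,10),(95,1),(96,2),(97,10),(98,2),(99,10),(100,8),(101,2),(104,8),(106,10),(107,10),(108,4),(110,2),(119,1),(120,1),(121,9),(122,10),(123,2),(125,9),(127,7),(128,8),(129,1),(131,1)]))))))))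

def m6 : Rows := 
 (.node 
 (.node 
 (.node 
 (.node 
 (.node 
 (.node 
 (.node 
 (.node (.leaf [(0,1)]) (.leaf [(72,10),(128,7)])) (.leaf [(64,7),(120,7)])) 
 (.node (.leaf [(32,9),(88,1)]) (.leaf [(40,3),(96,9)]))) 
 (.node 
 (.node (.leaf [(16,1)]) (.leaf [(24,3),(80,9)])) 
 (.node (.leaf [(48,9),(104,1)]) (.leaf [(56,10),(112,7)])))) 
 (.node 
 (.node 
 (.node (.leaf [(8,1)]) (.leaf [(72,7),(128,7)])) 
 (.node (.leaf [(40,9),(96,1)]) (.leaf [(48,3),(104,9)]))) 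
 (.node 
 (.node (.leaf [(24,9),(80,1)]) (.leaf [(32,3),(88,9)])) 
 (.node (.leaf [(56,7),(112,7)]) (.leaf [(64,10),(120,7)]))))) 
 (.node 
 (.node 
 (.node 
 (.node 
 (.node (.leaf [(4,1)]) (.leaf [(76,10),(132,7)])) (.leaf [(68,7),(124,7)])) 
 (.node (.leaf [(36,9),(92,1)]) (.leaf [(44,3),(100,9)]))) 
 (.node 
 (.node (.leaf [(20,1)]) (.leaf [(28,3),(84,9)])) 
 (.node (.leaf [(52,7),(108,7)]) (.leaf [(60,10),(116,7)])))) 
 (.node 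
 (.node 
 (.node (.leaf [(12,1)]) (.leaf [(76,7),(132,7)])) 
 (.node (.leaf [(44,9),(100,1)]) (.leaf [(52,10),(108,7)]))) 
 (.node 
 (.node (.leaf [(28,9),(84,1)]) (.leaf [(36,3),(92,9)])) 
 (.node (.leaf [(60,7),(116,7)]) (.leaf [(68,10),(124,7)])))))) 
 (.node 
 (.node 
 (.node 
 (.node 
 (.node 
 (.node (.leaf [(2,1)]) (.leaf [(74,10),(130,7)])) (.leaf [(66,7),(122,7)])) 
 (.node (.leaf [(34,9),(90,1)]) (.leaf [(42,3),(98,9)]))) 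
 (.node 
 (.node (.leaf [(18,1)]) (.leaf [(26,3),(82,9)])) 
 (.node (.leaf [(50,7),(106,7)]) (.leaf [(58,10),(114,7)])))) 
 (.node 
 (.node 
 (.node (.leaf [(10,1)]) (.leaf [(74,7),(130,7)])) 
 (.node (.leaf [(42,9),(98,1)]) (.leaf [(50,10),(106,7)]))) 
 (.node 
 (.node (.leaf [(26,9),(82,1)]) (.leaf [(34,3),(90,9)])) 
 (.node (.leaf [(58,7),(114,7)]) (.leaf [(66,10),(122,7)]))))) 
 (.node 
 (.node 
 (.node 
 (.node (.leaf [(6,1)]) (.leaf [(70,7),(126,7)])) 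
 (.node (.leaf [(38,9),(94,1)]) (.leaf [(46,3),(102,9)]))) 
 (.node 
 (.node (.leaf [(22,9),(78,1)]) (.leaf [(30,3),(86,9)])) 
 (.node (.leaf [(54,7),(110,7)]) (.leaf [(62,10),(118,7)])))) 
 (.node 
 (.node 
 (.node (.leaf [(14,1)]) (.leaf [(22,3),(78,9)])) 
 (.node (.leaf [(46,9),(102,1)]) (.leaf [(54,10),(110,7)]))) 
 (.node 
 (.node (.leaf [(30,9),(86,1)]) (.leaf [(38,3),(94,9)])) 
 (.node (.leaf [(62,7),(118,7)]) (.leaf [(70,10),(126,7)]))))))) 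
 (.node 
 (.node 
 (.node 
 (.node 
 (.node 
 (.node 
 (.node (.leaf [(1,1)]) (.leaf [(73,10),(129,7)])) (.leaf [(65,7),(121,7)])) 
 (.node (.leaf [(33,9),(89,1)]) (.leaf [(41,3),(97,9)]))) 
 (.node 
 (.node (.leaf [(17,1)]) (.leaf [(25,3),(81,9)])) 
 (.node (.leaf [(49,7),(105,7)]) (.leaf [(57,10),(113,7)])))) 
 (.node 
 (.node 
 (.node (.leaf [(9,1)]) (.leaf [(73,7),(129,7)])) 
 (.node (.leaf [(41,9),(97,1)]) (.leaf [(49,10),(105,7)]))) 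
 (.node 
 (.node (.leaf [(25,9),(81,1)]) (.leaf [(33,3),(89,9)])) 
 (.node (.leaf [(57,7),(113,7)]) (.leaf [(65,10),(121,7)]))))) 
 (.node 
 (.node 
 (.node 
 (.node (.leaf [(5,1)]) (.leaf [(69,7),(125,7)])) 
 (.node (.leaf [(37,9),(93,1)]) (.leaf [(45,3),(101,9)]))) 
 (.node 
 (.node (.leaf [(21,9),(77,1)]) (.leaf [(29,3),(85,9)])) 
 (.node (.leaf [(53,7),(109,7)]) (.leaf [(61,10),(117,7)])))) 
 (.node 
 (.node 
 (.node (.leaf [(13,1)]) (.leaf [(21,3),(77,9)])) 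
 (.node (.leaf [(45,9),(101,1)]) (.leaf [(53,10),(109,7)]))) 
 (.node 
 (.node (.leaf [(29,9),(85,1)]) (.leaf [(37,3),(93,9)])) 
 (.node (.leaf [(61,7),(117,7)]) (.leaf [(69,10),(125,7)])))))) 
 (.node 
 (.node 
 (.node 
 (.node 
 (.node 
 (.node (.leaf [(3,1)]) (.leaf [(75,10),(131,7)])) (.leaf [(67,7),(123,7)])) 
 (.node (.leaf [(35,9),(91,1)]) (.leaf [(43,3),(99,9)]))) 
 (.node 
 (.node (.leaf [(19,1)]) (.leaf [(27,3),(83,9)])) 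
 (.node (.leaf [(51,7),(107,7)]) (.leaf [(59,10),(115,7)])))) 
 (.node 
 (.node 
 (.node (.leaf [(11,1)]) (.leaf [(75,7),(131,7)])) 
 (.node (.leaf [(43,9),(99,1)]) (.leaf [(51,10),(107,7)]))) 
 (.node 
 (.node (.leaf [(27,9),(83,1)]) (.leaf [(35,3),(91,9)])) 
 (.node (.leaf [(59,7),(115,7)]) (.leaf [(67,10),(123,7)]))))) 
 (.node 
 (.node 
 (.node 
 (.node (.leaf [(7,1)]) (.leaf [(71,7),(127,7)])) 
 (.node (.leaf [(39,9),(95,1)]) (.leaf [(47,3),(103,9)]))) 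
 (.node 
 (.node (.leaf [(23,9),(79,1)]) (.leaf [(31,3),(87,9)])) 
 (.node (.leaf [(55,7),(111,7)]) (.leaf [(63,10),(119,7)])))) 
 (.node 
 (.node 
 (.node (.leaf [(15,1)]) (.leaf [(23,3),(79,9)])) 
 (.node (.leaf [(47,9),(103,1)]) (.leaf [(55,10),(111,7)]))) 
 (.node 
 (.node (.leaf [(31,9),(87,1)]) (.leaf [(39,3),(95,9)])) 
 (.node (.leaf [(63,7),(119,7)]) (.leaf [(71,10),(127,7)]))))))))

def m7 : Rows := 
 (.node 
 (.node 
 (.node 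
 (.node 
 (.node 
 (.node 
 (.node 
 (.node (.leaf [(0,1)]) (.leaf [(72,1),(128,7)])) (.leaf [(64,7),(120,4)])) 
 (.node (.leaf [(32,9),(88,10)]) (.leaf [(40,8),(96,9)]))) 
 (.node 
 (.node (.leaf [(16,1)]) (.leaf [(24,8),(80,9)])) 
 (.node (.leaf [(48,9),(104,10)]) (.leaf [(56,1),(112,7)])))) 
 (.node 
 (.node 
 (.node (.leaf [(8,1)]) (.leaf [(72,7),(128,4)])) 
 (.node (.leaf [(40,9),(96,10)]) (.leaf [(48,8),(104,9)]))) 
 (.node 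
 (.node (.leaf [(24,9),(80,10)]) (.leaf [(32,8),(88,9)])) 
 (.node (.leaf [(56,7),(112,4)]) (.leaf [(64,1),(120,7)]))))) 
 (.node 
 (.node 
 (.node 
 (.node 
 (.node (.leaf [(4,1)]) (.leaf [(76,1),(132,7)])) (.leaf [(68,7),(124,4)])) 
 (.node (.leaf [(36,9),(92,10)]) (.leaf [(44,8),(100,9)]))) 
 (.node 
 (.node (.leaf [(20,1)]) (.leaf [(28,8),(84,9)])) 
 (.node (.leaf [(52,7),(108,4)]) (.leaf [(60,1),(116,7)])))) 
 (.node 
 (.node 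
 (.node (.leaf [(12,1)]) (.leaf [(76,7),(132,4)])) 
 (.node (.leaf [(44,9),(100,10)]) (.leaf [(52,1),(108,7)]))) 
 (.node 
 (.node (.leaf [(28,9),(84,10)]) (.leaf [(36,8),(92,9)])) 
 (.node (.leaf [(60,7),(116,4)]) (.leaf [(68,1),(124,7)])))))) 
 (.node 
 (.node 
 (.node 
 (.node 
 (.node 
 (.node (.leaf [(2,1)]) (.leaf [(74,1),(130,7)])) (.leaf [(66,7),(122,4)])) 
 (.node (.leaf [(34,9),(90,10)]) (.leaf [(42,8),(98,9)]))) 
 (.node 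
 (.node (.leaf [(18,1)]) (.leaf [(26,8),(82,9)])) 
 (.node (.leaf [(50,7),(106,4)]) (.leaf [(58,1),(114,7)])))) 
 (.node 
 (.node 
 (.node (.leaf [(10,1)]) (.leaf [(74,7),(130,4)])) 
 (.node (.leaf [(42,9),(98,10)]) (.leaf [(50,1),(106,7)]))) 
 (.node 
 (.node (.leaf [(26,9),(82,10)]) (.leaf [(34,8),(90,9)])) 
 (.node (.leaf [(58,7),(114,4)]) (.leaf [(66,1),(122,7)]))))) 
 (.node 
 (.node 
 (.node 
 (.node (.leaf [(6,1)]) (.leaf [(70,7),(126,4)])) 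
 (.node (.leaf [(38,9),(94,10)]) (.leaf [(46,8),(102,9)]))) 
 (.node 
 (.node (.leaf [(22,9),(78,10)]) (.leaf [(30,8),(86,9)])) 
 (.node (.leaf [(54,7),(110,4)]) (.leaf [(62,1),(118,7)])))) 
 (.node 
 (.node 
 (.node (.leaf [(14,1)]) (.leaf [(22,8),(78,9)])) 
 (.node (.leaf [(46,9),(102,10)]) (.leaf [(54,1),(110,7)]))) 
 (.node 
 (.node (.leaf [(30,9),(86,10)]) (.leaf [(38,8),(94,9)])) 
 (.node (.leaf [(62,7),(118,4)]) (.leaf [(70,1),(126,7)]))))))) 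
 (.node 
 (.node 
 (.node 
 (.node 
 (.node 
 (.node 
 (.node (.leaf [(1,1)]) (.leaf [(73,1),(129,7)])) (.leaf [(65,7),(121,4)])) 
 (.node (.leaf [(33,9),(89,10)]) (.leaf [(41,8),(97,9)]))) 
 (.node 
 (.node (.leaf [(17,1)]) (.leaf [(25,8),(81,9)])) 
 (.node (.leaf [(49,7),(105,4)]) (.leaf [(57,1),(113,7)])))) 
 (.node 
 (.node 
 (.node (.leaf [(9,1)]) (.leaf [(73,7),(129,4)])) 
 (.node (.leaf [(41,9),(97,10)]) (.leaf [(49,1),(105,7)]))) 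
 (.node 
 (.node (.leaf [(25,9),(81,10)]) (.leaf [(33,8),(89,9)])) 
 (.node (.leaf [(57,7),(113,4)]) (.leaf [(65,1),(121,7)]))))) 
 (.node 
 (.node 
 (.node 
 (.node (.leaf [(5,1)]) (.leaf [(69,7),(125,4)])) 
 (.node (.leaf [(37,9),(93,10)]) (.leaf [(45,8),(101,9)]))) 
 (.node 
 (.node (.leaf [(21,9),(77,10)]) (.leaf [(29,8),(85,9)])) 
 (.node (.leaf [(53,7),(109,4)]) (.leaf [(61,1),(117,7)])))) 
 (.node 
 (.node 
 (.node (.leaf [(13,1)]) (.leaf [(21,8),(77,9)])) 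
 (.node (.leaf [(45,9),(101,10)]) (.leaf [(53,1),(109,7)]))) 
 (.node 
 (.node (.leaf [(29,9),(85,10)]) (.leaf [(37,8),(93,9)])) 
 (.node (.leaf [(61,7),(117,4)]) (.leaf [(69,1),(125,7)])))))) 
 (.node 
 (.node 
 (.node 
 (.node 
 (.node 
 (.node (.leaf [(3,1)]) (.leaf [(75,1),(131,7)])) (.leaf [(67,7),(123,4)])) 
 (.node (.leaf [(35,9),(91,10)]) (.leaf [(43,8),(99,9)]))) 
 (.node 
 (.node (.leaf [(19,1)]) (.leaf [(27,8),(83,9)])) 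
 (.node (.leaf [(51,7),(107,4)]) (.leaf [(59,1),(115,7)])))) 
 (.node 
 (.node 
 (.node (.leaf [(11,1)]) (.leaf [(75,7),(131,4)])) 
 (.node (.leaf [(43,9),(99,10)]) (.leaf [(51,1),(107,7)]))) 
 (.node 
 (.node (.leaf [(27,9),(83,10)]) (.leaf [(35,8),(91,9)])) 
 (.node (.leaf [(59,7),(115,4)]) (.leaf [(67,1),(123,7)]))))) 
 (.node 
 (.node 
 (.node 
 (.node (.leaf [(7,1)]) (.leaf [(71,7),(127,4)])) 
 (.node (.leaf [(39,9),(95,10)]) (.leaf [(47,8),(103,9)]))) 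
 (.node 
 (.node (.leaf [(23,9),(79,10)]) (.leaf [(31,8),(87,9)])) 
 (.node (.leaf [(55,7),(111,4)]) (.leaf [(63,1),(119,7)])))) 
 (.node 
 (.node 
 (.node (.leaf [(15,1)]) (.leaf [(23,8),(79,9)])) 
 (.node (.leaf [(47,9),(103,10)]) (.leaf [(55,1),(111,7)]))) 
 (.node 
 (.node (.leaf [(31,9),(87,10)]) (.leaf [(39,8),(95,9)])) 
 (.node (.leaf [(63,7),(119,4)]) (.leaf [(71,1),(127,7)]))))))))

def gens : List Rows := [m0, m1, m2, m3, m4, m5, m6, m7]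

end CfsgLib.Presented.HNMat
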