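import Cfsg.Agent.Lib.Presented.MatCheck

/-! Generated data: matrices of elements generating an alternating group of degree twelve. -/
set_option autoImplicit false
set_option maxRecDepth 100000
set_option maxHeartbeats 1000000

namespace CfsgLib.Presented.HNMatA12

open MatCheck

def m4 : Rows := 
 (.node 
 (.node 
 (.node 
 (.node 
 (.node 
 (.node 
 (.node 
 (.node (.leaf [(0,7),(1,5),(2,5),(3,5),(6,5),(7,5),(16,6),(17,6),(21,6),(23,5),(24,4),(27,7),(28,5),(29,6),(32,6),(33,6),(35,5),(36,5),(38,6),(39,5),(40,5),(45,7),(49,8),(51,8),(52,8),(55,9),(56,8),(57,8),(58,9),(59,2),(60,9),(61,3),(63,3),(64,3),(66,8),(67,2),(68,8),(70,9),(73,3),(74,2),(77,5),(79,6),(80,7),(83,4),(84,6),(85,5),(88,5),(89,5),(91,6),(92,6),(94,5),(95,6),(96,6),(101,4),(105,7),(107,7),(108,7),(111,1),(112,7),(113,7),(114,1),(115,10),(116,1),(117,4),(119,4),(120,4),(122,7),(123,10),(124,7),(126,1),(129,4),(130,10)])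 (.leaf [(0,5),(1,6),(2,3),(4,7),(10,2),(11,5),(13,9),(14,2),(17,2),(18,9),(19,3),(20,9),(21,4),(22,1),(25,5),(26,6),(27,10),(28,5),(30,9),(31,1),(32,5),(33,2),(35,5),(36,5),(37,5),(38,6),(39,5),(40,4),(41,6),(42,1),(43,10),(44,3),(45,6),(46,8),(47,5),(48,3),(49,8),(50,1),(51,4),(52,10),(54,1),(63,10),(64,10),(65,10),(66,1),(67,1),(69,2),(71,9),(72,6),(73,10),(75,10),(81,10),(83,6),(84,1),(86,1),(87,5),(96,2),(98,5),(100,8),(102,7),(103,2),(104,4),(105,4),(106,6),(107,2),(108,5),(110,6),(119,5),(120,5),(121,5),(122,6),(123,6),(125,1),(127,10),(128,5),(129,5),(131,5)])) (.leaf [(0,7),(1,4),(2,5),(3,6),(4,1),(7,7),(10,10),(13,10),(14,1),(15,1),(17,5),(18,6),(19,6),(21,9),(22,3),(23,3),(25,6),(26,3),(27,1),(28,9),(29,5),(30,1),(31,2),(32,8),(33,3),(35,2),(36,7),(37,3),(39,6),(40,3),(41,5),(43,5),(44,5),(45,3),(46,8),(47,2),(49,6),(50,7),(51,2),(52,9),(54,2),(57,7),(61,2),(63,5),(64,8),(65,2),(67,2),(69,2),(71,7),(72,7),(73,4),(77,4),(78,5),(79,5),(81,2),(82,5),(83,2),(84,10),(85,1),(86,2),(87,4),(88,6),(89,5),(91,7),(92,10),(93,5),(95,10),(96,8),(97,1),(99,1),(100,1),(101,5),(102,5),(103,4),(105,1),(106,3),(107,4),(108,7),(110,4),(113,3),(117,4),(119,10),(120,1),(121,4),(123,4),(125,4),(127,3),(128,3),(129,8)]))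 
 (.node (.leaf [(0,8),(1,3),(2,8),(3,1),(4,8),(5,2),(10,2),(12,8),(13,7),(14,4),(16,10),(17,3),(18,9),(19,9),(21,9),(22,8),(23,8),(24,5),(25,9),(26,8),(29,9),(32,9),(33,2),(35,3),(36,3),(37,1),(38,8),(39,8),(40,9),(41,5),(43,8),(45,5),(47,5),(49,9),(50,5),(51,2),(53,6),(54,8),(55,2),(57,9),(58,1),(59,9),(60,5),(61,8),(63,3),(64,3),(65,1),(66,8),(67,5),(68,3),(69,8),(70,1),(71,8),(73,8),(74,3),(75,6),(76,8),(77,5),(78,2),(79,2),(80,4),(81,5),(82,2),(85,5),(88,8),(89,6),(91,9),(92,9),(93,3),(94,2),(95,2),(96,5),(97,4),(99,2),(101,4),(103,4),(105,6),(106,7),(107,5),(108,5),(109,8),(110,9),(111,3),(112,2),(113,6),(114,7),(115,8),(116,7),(117,9),(119,2),(120,2),(121,8),(122,9),(123,7),(124,6),(125,9),(126,7),(127,9),(129,9),(130,10),(131,8),(132,1)]) (.leaf [(2,3),(5,3),(6,7),(7,2),(8,9),(9,2),(10,7),(12,9),(13,5),(14,6),(15,1),(16,3),(17,4),(18,6),(19,6),(26,4),(28,7),(29,3),(33,6),(34,7),(35,10),(36,9),(37,5),(38,5),(39,4),(40,6),(41,8),(44,6),(47,2),(50,2),(51,7),(53,7),(54,1),(56,4),(57,9),(58,10),(59,4),(62,10),(63,8),(64,5),(65,4),(66,4),(68,4),(70,1),(72,7),(73,1),(74,3),(75,1),(76,4),(82,4),(84,7),(85,3),(89,6),(90,7),(91,10),(92,9),(93,5),(94,5),(95,4),(96,5),(97,8),(100,6),(103,2),(112,3),(114,10),(115,4),(126,1),(130,3),(131,9),(132,4)])))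 
 (.node 
 (.node (.leaf [(3,5),(5,5),(7,5),(10,6),(11,7),(12,7),(16,2),(17,6),(19,6),(20,7),(22,10),(23,5),(24,5),(27,6),(28,5),(30,2),(31,6),(32,1),(35,6),(36,6),(37,6),(39,5),(40,5),(41,6),(42,6),(44,5),(46,10),(48,6),(50,8),(52,5),(53,8),(55,3),(58,3),(59,3),(60,3),(61,3),(63,8),(64,8),(65,8),(68,5),(69,6),(70,3),(72,3),(73,3),(74,3),(75,3),(76,3),(78,1),(79,6),(80,6),(83,5),(84,6),(86,9),(87,5),(88,10),(91,5),(92,5),(93,5),(95,6),(96,6),(97,5),(98,5),(100,6),(102,1),(104,5),(106,7),(108,3),(109,7),(111,4),(114,4),(115,4),(116,4),(117,4),(119,7),(120,7),(121,7),(124,3),(125,8),(126,4),(128,4),(129,4),(130,4),(131,4),(132,4)]) (.leaf [(0,2),(1,9),(2,3),(3,9),(4,9),(5,1),(6,7),(10,5),(13,5),(14,6),(15,1),(16,3),(18,4),(19,6),(21,7),(23,4),(24,2),(25,4),(26,4),(29,10),(33,6),(35,10),(36,5),(37,1),(38,5),(39,4),(41,1),(44,6),(47,6),(49,10),(50,3),(51,7),(53,6),(54,1),(55,4),(56,4),(57,8),(58,6),(59,4),(60,6),(61,1),(63,8),(64,4),(65,3),(66,4),(68,4),(70,9),(72,7),(73,1),(74,3),(75,6),(77,7),(79,4),(80,1),(81,4),(82,4),(85,10),(89,6),(91,10),(92,5),(93,1),(94,5),(95,4),(97,1),(100,6),(103,6),(111,4),(112,3),(114,6),(115,4),(116,8),(126,9),(130,3),(131,1)]))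 
 (.node (.leaf [(2,9),(3,9),(5,3),(6,6),(8,3),(9,8),(10,8),(11,5),(15,4),(16,6),(18,3),(22,6),(23,6),(24,3),(26,10),(29,7),(33,5),(34,9),(35,8),(36,2),(38,3),(39,8),(41,9),(43,8),(44,5),(45,5),(47,8),(48,4),(50,9),(51,5),(53,9),(54,10),(55,2),(56,7),(57,7),(58,8),(59,1),(60,3),(61,6),(62,9),(63,8),(64,2),(66,3),(67,5),(68,4),(69,6),(70,10),(71,8),(72,5),(73,8),(74,8),(75,5),(78,7),(79,7),(80,9),(82,8),(85,10),(89,4),(90,5),(91,2),(92,6),(94,9),(95,2),(97,5),(99,2),(100,4),(101,4),(103,2),(104,4),(106,6),(107,7),(109,10),(110,3),(111,3),(112,3),(113,1),(114,1),(115,7),(116,2),(117,4),(118,6),(119,9),(120,5),(122,2),(123,7),(124,2),(125,4),(126,4),(127,9),(128,7),(129,9),(130,1),(131,1)]) (.leaf [(2,9),(3,7),(4,4),(5,5),(6,10),(7,1),(8,10),(9,1),(10,2),(13,8),(14,3),(15,3),(16,5),(17,4),(18,2),(19,7),(20,5),(22,2),(23,10),(25,7),(26,10),(27,2),(28,4),(29,3),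(30,10),(31,9),(32,1),(33,6),(34,3),(35,4),(36,3),(37,6),(38,4),(39,9),(40,9),(41,6),(42,3),(43,10),(44,6),(45,10),(47,2),(50,1),(51,1),(52,2),(53,3),(54,9),(56,9),(57,6),(61,9),(62,6),(63,8),(64,6),(65,1),(66,8),(67,9),(68,8),(69,4),(71,9),(72,1),(73,7),(81,10),(83,10),(84,9),(86,6),(87,1),(96,2),(98,4),(103,4),(106,6),(107,6),(108,1),(109,7),(110,10),(112,1),(113,3),(117,10),(118,3),(119,4),(120,3),(121,6),(122,4),(123,10),(124,4),(125,2),(127,10),(128,6),(129,9)])))) 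
 (.node 
 (.node 
 (.node (.leaf [(2,5),(3,8),(5,3),(6,5),(7,8),(8,7),(9,5),(10,3),(11,2),(12,2),(15,5),(17,8),(18,5),(19,2),(20,2),(22,7),(23,8),(24,2),(26,10),(27,10),(28,8),(29,6),(30,8),(31,10),(32,5),(33,6),(34,5),(35,2),(36,3),(37,8),(39,7),(40,3),(41,3),(42,8),(43,10),(44,4),(45,6),(46,10),(47,6),(48,8),(50,4),(51,8),(52,3),(53,7),(54,6),(56,8),(57,8),(58,5),(59,5),(60,10),(61,7),(62,3),(63,10),(64,4),(65,7),(67,8),(69,2),(70,3),(71,6),(72,9),(73,2),(74,5),(75,4),(76,4),(78,4),(79,3),(80,9),(82,1),(83,1),(84,3),(85,5),(86,3),(87,1),(88,6),(89,5),(90,6),(91,9),(92,8),(93,3),(95,4),(96,8),(97,8),(98,3),(99,1),(100,7),(101,5),(102,1),(103,5),(104,3),(106,9),(107,7),(108,4),(109,2),(110,8),(112,7),(113,7),(114,3),(115,3),(116,6),(117,2),(118,4),(119,6),(120,9),(121,2),(123,7),(125,10),(126,4),(127,8),(128,1),(129,10),(130,3),(131,9),(132,9)]) (.leaf [(0,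7),(1,4),(2,2),(4,1),(10,5),(11,7),(13,6),(14,5),(17,5),(18,6),(19,2),(20,6),(21,9),(22,5),(25,6),(26,8),(27,10),(30,9),(31,1),(32,3),(33,10),(35,3),(36,3),(37,3),(38,8),(39,3),(40,3),(41,8),(42,1),(43,6),(44,2),(45,8),(46,8),(47,8),(48,3),(49,6),(50,9),(51,3),(52,2),(54,9),(63,2),(64,2),(65,2),(66,9),(67,9),(69,7),(71,4),(72,1),(73,2),(75,2),(77,4),(78,1),(81,7),(82,6),(83,9),(84,3),(86,7),(87,2),(88,5),(89,2),(91,5),(92,5),(93,5),(94,6),(95,5),(97,6),(98,2),(99,10),(100,9),(101,6),(102,5),(103,1),(104,6),(105,1),(106,7),(107,6),(108,4),(110,7),(119,4),(120,4),(121,4),(122,7),(123,7),(125,3),(127,8),(128,9),(129,4),(131,4)])) 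
 (.node (.leaf [(2,1),(5,1),(6,6),(7,8),(8,3),(9,8),(10,6),(12,3),(13,9),(14,2),(15,4),(16,1),(17,5),(18,2),(19,2),(26,2),(28,9),(29,7),(33,3),(34,9),(35,5),(36,10),(37,8),(38,8),(39,2),(40,2),(41,4),(44,3),(47,1),(50,4),(51,3),(53,3),(54,2),(56,7),(57,7),(58,2),(59,3),(62,9),(63,5),(64,10),(65,8),(66,8),(68,8),(70,9),(72,3),(73,2),(74,5),(75,10),(76,3),(82,6),(84,5),(85,10),(89,9),(90,5),(91,4),(92,8),(93,2),(94,2),(95,6),(96,9),(97,1),(100,9),(103,3),(106,10),(107,2),(109,2),(110,5),(112,7),(113,1),(114,3),(115,10),(118,6),(119,7),(120,3),(121,9),(122,9),(124,9),(126,8),(128,2),(129,5),(130,2),(131,10),(132,10)]) (.leaf [(2,5),(3,5),(5,9),(6,7),(8,9),(9,2),(10,2),(11,4),(15,1),(16,7),(18,9),(22,1),(23,1),(24,6),(26,9),(29,3),(33,10),(34,7),(35,5),(36,4),(38,6),(39,5),(41,7),(43,5),(44,10),(45,10),(47,5),(48,10),(50,10),(51,8),(53,3),(54,5),(55,10),(57,9),(58,7),(59,5),(60,7),(61,3),(62,10),(63,4),(64,1),(66,7),(67,8),(68,5),(69,3),(70,6),(71,4),(72,8),(73,4),(74,7),(75,2),(78,1),(79,1),(80,6),(82,9),(85,3),(89,10),(90,7),(91,5),(92,4),(94,6),(95,5),(97,7),(99,5),(100,10),(101,10),(103,5),(104,9),(109,2),(111,10),(112,1),(114,7),(115,5),(124,7),(126,6),(130,7),(131,8)])))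 
 (.node 
 (.node (.leaf [(0,8),(1,3),(2,1),(3,3),(4,3),(5,4),(6,6),(10,9),(13,9),(14,2),(15,4),(16,1),(18,5),(19,2),(21,9),(23,2),(25,2),(26,2),(29,5),(33,3),(35,5),(36,8),(37,6),(38,8),(39,2),(41,6),(44,3),(47,3),(49,9),(50,6),(51,3),(53,1),(54,2),(55,3),(56,7),(57,5),(58,10),(59,3),(60,2),(61,2),(63,5),(64,8),(65,6),(66,8),(68,8),(70,4),(72,3),(73,2),(74,5),(75,8),(77,5),(79,6),(80,3),(81,6),(82,6),(85,4),(89,9),(91,4),(92,2),(93,7),(94,2),(95,6),(97,7),(100,9),(103,9),(105,6),(106,4),(107,2),(109,8),(110,5),(111,10),(112,7),(113,7),(114,4),(115,10),(116,10),(117,5),(119,7),(120,9),(121,4),(122,9),(124,9),(126,6),(128,2),(129,5),(130,2)]) (.leaf [(0,2),(1,9),(2,2),(3,3),(4,2),(5,6),(10,6),(12,2),(13,10),(14,1),(16,8),(17,9),(18,5),(19,5),(21,7),(22,5),(23,5),(24,10),(25,7),(26,5),(29,7),(32,9),(33,4),(35,6),(36,6),(37,2),(38,5),(39,5),(40,7),(41,10),(43,5),(45,10),(47,10),(49,10),(50,8),(51,1),(52,5),(53,7),(54,4),(55,10),(56,2),(57,10),(58,5),(59,1),(60,8),(61,4),(63,7),(64,7),(65,6),(66,4),(67,8),(69,4),(70,5),(71,4),(73,4),(74,4),(75,7),(76,7),(77,7),(78,5),(79,5),(80,10),(81,7),(82,5),(85,7),(88,8),(89,4),(91,6),(92,6),(93,2),(94,5),(95,5),(96,7),(97,10),(99,5),(101,10),(103,10),(108,8),(109,2),(111,10),(112,1),(114,5),(115,1),(124,2),(126,5),(130,4),(131,2),(132,7)]))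 
 (.node (.leaf [(2,6),(3,1),(4,10),(5,7),(6,3),(7,8),(8,3),(9,8),(10,5),(13,9),(14,2),(15,2),(16,7),(17,10),(18,5),(19,1),(20,7),(22,10),(23,6),(25,5),(26,6),(27,2),(28,4),(29,4),(30,10),(31,9),(32,5),(33,8),(34,4),(35,9),(36,4),(37,8),(38,9),(39,1),(40,6),(41,8),(42,3),(43,6),(44,8),(45,6),(47,9),(50,9),(51,9),(52,7),(53,5),(54,4),(56,6),(57,10),(61,4),(62,10),(63,6),(64,10),(65,9),(66,6),(67,4),(68,6),(69,3),(71,4),(72,9),(73,8),(78,2),(79,10),(81,9),(82,10),(83,4),(84,8),(85,3),(86,9),(87,7),(88,1),(89,6),(90,3),(91,4),(92,3),(93,6),(94,4),(95,9),(96,5),(97,6),(98,6),(99,10),(100,6),(101,10),(103,5),(106,7),(107,7),(108,3),(109,10),(110,8),(112,8),(113,9),(117,8),(118,9),(119,1),(120,9),(121,7),(122,1),(123,8),(124,1),(125,6),(127,8),(128,7),(129,5)]) (.leaf [(0,5),(1,6),(2,2),(3,9),(4,7),(7,5),(10,4),(13,4),(14,7),(15,7),(17,2),(18,9),(19,9),(21,4),(22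,5),(23,5),(25,4),(26,5),(27,1),(28,3),(29,1),(30,1),(31,2),(32,6),(33,5),(35,7),(36,4),(37,5),(39,10),(40,10),(41,1),(43,1),(44,1),(45,5),(46,8),(47,2),(49,8),(50,2),(51,10),(52,1),(54,10),(57,2),(61,10),(63,3),(64,8),(65,10),(67,10),(69,10),(71,2),(72,2),(73,9),(81,1),(83,5),(84,2),(86,5),(87,10),(92,8),(96,1),(102,7),(103,10),(105,4),(106,1),(107,5),(108,6),(110,5),(113,1),(117,5),(119,7),(120,6),(121,5),(123,5),(125,5),(127,1),(128,1),(129,10)]))))) 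
 (.node 
 (.node 
 (.node 
 (.node 
 (.node (.leaf [(3,3),(4,2),(5,3),(7,3),(10,8),(11,2),(12,2),(17,8),(19,8),(20,2),(22,1),(23,3),(24,3),(25,1),(26,5),(27,10),(28,3),(30,8),(31,10),(32,5),(35,8),(36,8),(37,3),(39,2),(40,3),(41,8),(42,8),(43,10),(44,3),(46,10),(48,8),(50,7),(52,3),(53,7),(54,3),(55,2),(58,5),(59,5),(60,4),(61,4),(63,7),(64,7),(65,4),(69,5),(70,5),(71,6),(72,4),(73,10),(74,3),(75,7),(76,4),(78,10),(79,8),(80,8),(81,10),(82,6),(83,1),(84,8),(86,3),(87,1),(88,6),(91,3),(92,3),(93,8),(95,9),(96,8),(97,3),(98,3),(99,1),(100,8),(102,1),(104,3),(106,2),(108,4),(109,2),(110,4),(111,10),(114,3),(115,3),(116,9),(117,9),(119,2),(120,2),(121,9),(125,3),(126,3),(127,8),(128,9),(129,6),(130,4),(131,2),(132,9)]) (.leaf [(2,4),(3,4),(4,5),(7,10),(8,6),(9,5),(10,7),(12,1),(15,8),(17,10),(19,5),(20,2),(22,4),(23,1),(25,3),(26,2),(27,2),(28,2),(29,8),(30,8),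(31,1),(32,5),(33,10),(34,4),(35,6),(36,7),(38,5),(39,1),(40,5),(41,10),(42,10),(43,6),(44,1),(45,6),(46,8),(47,8),(50,9),(51,9),(52,10),(54,4),(57,5),(61,2),(62,8),(63,1),(64,3),(66,10),(67,1),(69,8),(71,1),(72,2),(73,2),(75,1),(76,1),(81,2),(83,10),(84,1),(86,7),(87,5),(96,7),(98,6),(102,7),(103,8),(106,10),(107,10),(108,5),(110,2),(113,8),(117,1),(118,4),(119,6),(120,7),(122,5),(123,6),(125,4),(127,6),(128,1),(129,1),(131,6),(132,8)])) (.leaf [(3,6),(4,6),(6,4),(7,3),(8,4),(9,7),(11,7),(13,1),(14,10),(15,9),(16,8),(17,6),(18,1),(19,1),(20,10),(22,4),(23,3),(25,3),(26,2),(28,7),(29,7),(30,2),(31,3),(34,9),(35,5),(36,10),(37,8),(38,8),(40,8),(42,9),(44,3),(45,2),(46,5),(47,10),(48,3),(54,5),(56,6),(57,1),(61,2),(62,6),(63,7),(64,3),(65,9),(66,9),(67,5),(68,6),(69,10),(72,2),(75,8),(78,3),(79,5),(81,5),(82,7),(84,6),(85,8),(86,4),(87,6),(90,4),(91,1),(92,2),(93,6),(94,6),(96,6),(98,7),(100,5),(101,7),(102,10),(103,7),(104,6),(110,10),(112,1),(113,2),(117,4),(118,1),(119,3),(120,6),(121,7),(122,7),(123,10),(124,8),(125,9),(128,4),(131,5)]))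 
 (.node (.leaf [(0,8),(1,3),(2,1),(3,10),(5,2),(6,3),(10,10),(13,2),(14,9),(15,9),(16,10),(18,1),(19,1),(21,9),(22,5),(23,3),(24,8),(26,3),(29,5),(33,3),(35,2),(36,5),(37,3),(39,3),(41,3),(43,5),(44,5),(45,6),(49,9),(50,3),(51,3),(53,6),(54,3),(55,1),(56,9),(57,5),(58,1),(59,2),(60,8),(61,3),(63,2),(64,7),(65,3),(67,6),(68,3),(69,5),(71,5),(72,5),(73,3),(74,8),(75,2),(77,5),(78,4),(79,9),(80,2),(82,9),(85,4),(89,9),(91,6),(92,7),(93,9),(95,9),(97,9),(99,4),(100,4),(101,7),(105,6),(106,2),(107,2),(109,6),(110,2),(111,7),(112,10),(113,7),(114,7),(115,3),(116,9),(117,2),(119,5),(120,6),(121,2),(123,4),(124,4),(125,7),(127,7),(128,7),(129,2),(130,1),(131,3)]) (.leaf [(0,2),(1,9),(3,1),(5,6),(10,6),(12,9),(13,8),(14,3),(16,8),(18,1),(19,3),(21,7),(22,5),(23,9),(24,6),(26,5),(35,6),(36,6),(37,6),(38,5),(39,5),(41,10),(43,1),(44,2),(45,6),(47,6),(49,10),(50,8),(53,1),(54,4),(55,6),(56,2),(58,1),(59,5),(60,7),(61,5),(63,7),(64,7),(65,7),(66,4),(67,7),(69,4),(70,5),(71,3),(72,6),(73,4),(74,7),(75,8),(76,4),(77,7),(78,5),(79,9),(80,6),(82,5),(91,6),(92,6),(93,6),(94,5),(95,5),(97,10),(99,1),(100,1),(101,6),(103,6),(109,10),(111,6),(112,1),(114,1),(115,5),(124,2),(126,5),(128,8),(130,7),(131,2),(132,4)])))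 
 (.node 
 (.node (.leaf [(4,6),(5,6),(6,5),(7,5),(10,6),(15,5),(16,6),(17,6),(18,5),(19,5),(20,2),(22,6),(24,5),(25,6),(26,5),(28,5),(29,6),(32,5),(35,5),(38,6),(39,10),(40,5),(41,6),(42,4),(43,5),(44,6),(45,1),(46,4),(47,1),(50,8),(52,3),(53,3),(54,3),(55,9),(56,8),(57,8),(59,2),(60,3),(63,3),(66,8),(67,5),(68,8),(69,8),(71,3),(72,8),(73,6),(74,2),(75,6),(78,5),(80,6),(81,5),(82,6),(84,6),(85,5),(88,6),(91,6),(94,5),(95,1),(96,6),(97,5),(98,7),(99,6),(100,5),(101,10),(102,7),(103,10),(106,7),(108,4),(109,4),(110,4),(111,1),(112,7),(113,7),(115,10),(116,4),(119,4),(122,7),(123,3),(124,7),(125,7),(127,4),(128,7),(129,8),(130,10),(131,8)]) (.leaf [(2,6),(3,3),(4,9),(5,5),(6,4),(7,7),(8,4),(9,7),(10,1),(13,1),(14,10),(15,10),(16,5),(17,9),(18,6),(19,8),(22,5),(23,5),(24,10),(25,4),(26,1),(28,6),(29,8),(33,1),(34,8),(35,7),(36,8),(37,5),(38,7),(39,1),(40,7),(41,9),(43,1),(44,5),(45,2),(50,5),(51,3),(53,6),(54,3),(55,10),(56,9),(57,2),(58,6),(59,1),(60,8),(61,4),(62,2),(63,10),(64,2),(65,4),(66,10),(67,6),(68,7),(69,4),(70,4),(71,3),(72,4),(73,3),(75,7),(78,5),(79,5),(80,10),(81,4),(82,1),(84,5),(85,8),(89,1),(90,8),(91,7),(92,8),(93,5),(94,7),(95,1),(96,7),(97,9),(99,1),(100,5),(101,2),(109,10),(111,10),(112,9),(114,6),(115,1),(124,2),(126,4),(131,4)]))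 
 (.node (.leaf [(0,7),(1,4),(2,7),(3,6),(4,2),(5,7),(7,3),(13,1),(14,10),(15,9),(17,6),(18,1),(19,8),(20,2),(21,9),(22,6),(23,3),(25,1),(26,2),(27,3),(28,7),(29,5),(30,10),(31,3),(32,2),(33,2),(35,5),(36,8),(37,6),(38,8),(40,8),(42,4),(44,3),(45,2),(46,5),(47,8),(49,6),(51,5),(52,1),(53,5),(54,5),(57,7),(61,2),(63,7),(64,9),(65,4),(66,9),(67,5),(69,4),(72,2),(75,2),(77,4),(78,10),(79,5),(81,9),(82,7),(83,6),(84,6),(85,1),(86,9),(87,6),(88,9),(89,7),(91,1),(92,6),(93,10),(94,6),(96,6),(98,8),(100,5),(101,7),(102,10),(103,9),(105,1),(107,10),(108,9),(109,10),(110,10),(113,3),(117,4),(119,3),(120,7),(121,8),(122,7),(123,10),(125,8),(128,4),(131,4)]) (.leaf [(0,5),(1,6),(2,9),(3,6),(4,7),(5,6),(10,2),(11,6),(13,3),(14,8),(16,5),(17,2),(18,4),(19,4),(20,9),(21,4),(22,1),(23,7),(24,7),(25,9),(26,6),(27,2),(28,5),(29,4),(30,1),(31,9),(32,1),(33,6),(35,5),(36,5),(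37,9),(38,6),(39,1),(40,4),(41,6),(42,1),(43,6),(45,6),(46,3),(47,9),(48,8),(49,8),(50,1),(51,1),(52,2),(53,8),(54,1),(57,8),(60,3),(61,3),(63,10),(64,10),(65,7),(66,1),(67,1),(68,8),(69,2),(71,1),(73,2),(75,2),(80,8),(81,2),(83,10),(84,1),(86,5),(87,1),(96,2),(98,5),(102,4),(103,2),(104,7),(105,4),(106,6),(107,6),(108,1),(109,4),(110,6),(113,4),(116,9),(117,7),(119,5),(120,5),(121,9),(122,6),(123,6),(124,4),(125,1),(127,6),(129,1),(131,1)])))) 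
 (.node 
 (.node 
 (.node (.leaf [(2,5),(3,8),(4,5),(5,8),(6,5),(7,8),(10,3),(11,5),(12,7),(16,6),(17,3),(18,6),(19,3),(20,5),(22,5),(23,8),(24,7),(25,5),(26,6),(27,7),(28,8),(30,9),(32,1),(33,6),(35,8),(36,8),(37,3),(39,8),(40,8),(41,3),(42,9),(44,3),(45,6),(47,5),(48,9),(50,4),(51,8),(52,5),(53,4),(54,8),(55,10),(56,8),(58,9),(60,2),(61,7),(63,7),(64,7),(65,4),(67,8),(68,8),(69,3),(70,9),(72,4),(73,7),(75,4),(76,1),(78,6),(79,3),(80,4),(81,6),(82,5),(83,4),(84,3),(86,2),(88,10),(89,5),(91,3),(92,3),(93,8),(95,3),(96,3),(97,8),(98,2),(100,8),(101,5),(103,6),(104,2),(106,9),(107,7),(108,3),(109,9),(110,7),(111,6),(112,7),(114,1),(116,10),(117,2),(119,2),(120,2),(121,9),(123,7),(124,7),(125,4),(126,1),(128,9),(129,2),(131,9),(132,5)]) (.leaf [(2,10),(3,10),(4,7),(7,3),(8,4),(9,7),(10,1),(12,8),(15,9),(17,3),(19,7),(20,5),(22,9),(23,5),(25,9),(26,10),(27,2),(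28,7),(29,7),(30,8),(31,1),(32,3),(33,6),(34,9),(35,8),(36,2),(38,3),(39,5),(40,4),(41,6),(42,10),(43,8),(44,5),(45,8),(46,8),(47,5),(50,4),(51,4),(52,2),(54,3),(57,1),(61,7),(62,6),(63,9),(64,5),(66,2),(67,9),(69,6),(71,9),(72,7),(73,7),(75,9),(78,4),(79,1),(81,10),(82,2),(83,4),(85,8),(86,5),(87,2),(88,5),(89,10),(90,4),(91,6),(92,7),(94,5),(95,1),(96,2),(97,10),(98,9),(99,6),(100,1),(101,6),(102,5),(103,3),(106,8),(107,8),(108,4),(110,6),(113,2),(117,3),(118,1),(119,7),(120,10),(122,4),(123,7),(125,1),(127,7),(128,3),(129,3),(131,7),(132,7)])) 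
 (.node (.leaf [(0,8),(1,3),(3,4),(5,2),(10,2),(12,3),(13,10),(14,1),(16,10),(18,4),(19,1),(21,9),(22,8),(23,10),(24,3),(26,8),(35,3),(36,3),(37,3),(38,8),(39,8),(41,5),(43,6),(45,3),(47,3),(49,9),(50,5),(53,6),(54,8),(55,10),(58,9),(59,1),(60,3),(61,10),(63,3),(64,3),(65,3),(66,8),(67,3),(68,3),(69,8),(70,1),(71,6),(72,2),(73,8),(74,8),(75,8),(76,3),(77,5),(78,2),(79,8),(80,9),(82,2),(91,9),(92,9),(93,9),(94,2),(95,2),(97,4),(99,7),(100,3),(101,9),(103,9),(105,6),(106,7),(109,2),(110,9),(111,4),(112,2),(114,8),(115,7),(116,2),(117,3),(119,2),(120,2),(121,2),(122,9),(123,2),(124,6),(125,9),(126,7),(127,4),(128,10),(129,9),(130,1),(131,2),(132,10)]) (.leaf [(0,5),(1,6),(2,5),(3,9),(4,3),(5,5),(7,10),(13,7),(14,4),(15,8),(17,9),(18,7),(19,1),(20,3),(21,4),(22,10),(23,5),(25,9),(26,7),(27,3),(28,1),(29,1),(30,10),(31,3),(32,3),(33,7),(35,1),(36,6),(37,10),(38,6),(40,6),(42,4),(44,5),(45,7),(46,5),(49,8),(51,3),(52,6),(53,3),(54,3),(57,2),(61,10),(63,2),(64,1),(65,9),(66,1),(67,3),(69,9),(72,10),(75,10),(83,4),(84,3),(86,6),(87,4),(88,8),(98,9),(102,3),(103,1),(105,4),(107,7),(108,5),(109,7),(110,7),(113,1),(117,5),(119,1),(120,6),(121,10),(122,6),(123,7),(125,10),(128,5),(131,5)])))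 
 (.node 
 (.node (.leaf [(2,2),(3,1),(4,3),(5,9),(6,5),(7,6),(8,5),(9,6),(10,4),(13,4),(14,7),(15,7),(16,9),(17,3),(18,2),(19,10),(22,8),(23,8),(24,5),(25,2),(26,6),(28,2),(29,4),(33,6),(34,4),(35,9),(36,4),(37,8),(38,9),(39,6),(40,9),(41,10),(43,6),(44,8),(45,1),(50,10),(51,6),(53,5),(54,6),(55,2),(56,4),(57,4),(58,10),(59,9),(60,5),(61,8),(62,4),(63,9),(64,4),(65,8),(66,9),(67,1),(68,6),(69,8),(70,3),(71,6),(72,8),(73,6),(75,9),(78,2),(79,2),(80,4),(81,6),(82,7),(84,9),(85,1),(89,7),(90,1),(91,5),(92,1),(93,2),(94,5),(95,7),(96,5),(97,8),(99,7),(100,2),(101,3),(106,3),(107,4),(109,5),(110,4),(111,3),(112,6),(113,10),(114,4),(115,8),(116,7),(117,9),(118,10),(119,6),(120,10),(121,9),(122,6),(123,8),(124,8),(125,9),(126,10),(127,4),(128,9),(129,4),(131,3)]) (.leaf [(0,2),(1,9),(2,3),(3,8),(5,6),(6,9),(10,8),(13,6),(14,5),(15,5),(16,8),(18,3),(19,3),(21,7),(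22,10),(23,6),(24,5),(26,6),(29,10),(33,6),(35,4),(36,1),(37,6),(39,6),(41,6),(43,10),(44,10),(45,1),(49,10),(50,7),(51,7),(53,5),(54,7),(55,5),(56,3),(57,8),(58,5),(59,10),(60,4),(61,7),(63,1),(64,3),(65,7),(67,3),(68,9),(69,8),(71,8),(72,8),(73,7),(74,7),(75,10),(77,7),(78,10),(79,6),(80,5),(82,6),(85,10),(89,6),(91,4),(93,6),(95,6),(97,6),(99,10),(100,10),(101,1),(109,1),(111,5),(112,2),(114,5),(115,10),(120,8),(124,1),(130,7),(131,10)])) 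
 (.node (.leaf [(0,7),(1,4),(2,6),(3,4),(4,1),(5,4),(10,5),(11,4),(13,2),(14,9),(16,7),(17,5),(18,10),(19,10),(20,6),(21,9),(22,5),(23,2),(25,6),(26,8),(27,2),(29,9),(30,1),(31,9),(32,5),(33,8),(35,3),(36,3),(37,1),(38,8),(39,5),(40,3),(41,8),(42,1),(43,8),(45,8),(46,3),(47,6),(48,8),(49,6),(50,9),(51,9),(52,7),(53,6),(54,9),(57,6),(60,7),(61,5),(63,2),(64,2),(65,8),(66,9),(67,9),(68,6),(69,7),(71,9),(73,7),(75,7),(77,4),(78,1),(79,7),(80,2),(81,5),(82,6),(83,4),(84,3),(85,4),(86,2),(87,7),(88,1),(89,6),(91,5),(92,5),(93,9),(94,6),(95,1),(97,6),(98,2),(99,6),(101,6),(102,6),(103,5),(104,5),(105,1),(106,7),(107,7),(108,3),(109,1),(110,7),(113,1),(116,10),(117,10),(119,4),(120,4),(121,5),(122,7),(123,7),(124,1),(125,3),(127,7),(129,3),(131,3)]) (.leaf [(3,9),(4,9),(6,6),(7,10),(8,6),(9,5),(11,5),(13,7),(14,4),(15,8),(16,1),(17,9),(18,7),(19,7),(20,4),(22,3),(23,5),(25,5),(26,7),(28,1),(29,8),(30,2),(31,3),(34,4),(35,1),(36,2),(37,6),(38,6),(40,6),(42,9),(44,5),(45,7),(46,5),(47,3),(48,3),(54,3),(56,8),(57,5),(61,10),(62,8),(63,2),(64,4),(65,1),(66,1),(67,3),(68,9),(69,6),(72,10),(75,7),(84,3),(86,10),(87,4),(98,1),(102,3),(103,9),(104,4),(110,7),(112,4),(113,8),(117,5),(118,4),(119,1),(120,2),(121,6),(122,6),(123,7),(124,1),(125,3),(128,5),(131,9)]))))))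 
 (.node 
 (.node 
 (.node 
 (.node 
 (.node 
 (.node (.leaf [(2,7),(5,6),(7,6),(10,5),(15,6),(17,5),(19,5),(24,7),(26,6),(28,6),(29,5),(31,4),(33,5),(36,6),(37,5),(38,4),(40,6),(41,5),(43,6),(45,5),(47,6),(50,3),(51,3),(53,3),(54,8),(55,2),(57,3),(58,2),(59,9),(60,2),(64,8),(65,3),(66,9),(67,3),(70,2),(71,8),(80,4),(82,5),(84,5),(85,6),(87,7),(89,6),(92,5),(93,6),(94,7),(96,5),(97,6),(99,5),(101,6),(103,5),(106,4),(107,4),(109,4),(110,7),(111,10),(113,4),(114,10),(115,1),(116,10),(120,7),(121,4),(122,1),(123,4),(126,10),(127,7)]) (.leaf [(4,5),(7,10),(8,6),(9,5),(18,10),(19,5),(20,6),(22,4),(25,4),(28,1),(29,7),(30,8),(31,3),(32,4),(34,4),(35,7),(36,7),(38,7),(42,8),(43,7),(45,7),(46,8),(47,10),(52,8),(57,3),(62,8),(63,3),(64,3),(66,3),(67,3),(69,8),(71,3),(74,1),(75,8),(84,3),(86,7),(87,4),(98,7),(102,7),(103,8),(108,4),(113,7),(118,4),(119,7),(120,7),(122,7),(123,7),(125,4),(127,7),(130,8),(131,4)]))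 (.leaf [(0,7),(1,4),(2,2),(3,5),(4,2),(5,7),(7,7),(10,5),(13,1),(14,10),(15,10),(16,7),(17,6),(18,1),(19,8),(20,7),(21,9),(22,8),(23,8),(25,1),(26,8),(27,10),(28,9),(29,8),(30,7),(31,4),(32,3),(33,10),(36,6),(37,6),(38,2),(39,5),(40,8),(41,8),(42,3),(43,6),(44,8),(45,8),(46,8),(49,6),(50,9),(51,3),(52,2),(53,5),(54,9),(57,9),(61,9),(64,4),(65,4),(66,1),(67,9),(68,6),(69,9),(71,4),(72,9),(73,7),(77,4),(78,6),(79,6),(81,4),(82,6),(83,9),(84,7),(85,6),(86,3),(87,8),(88,5),(89,2),(92,10),(93,10),(94,9),(95,1),(96,3),(97,6),(98,6),(99,10),(100,6),(101,6),(102,5),(103,3),(105,1),(106,7),(107,6),(108,4),(109,10),(110,7),(113,7),(117,7),(120,8),(121,8),(122,9),(123,7),(124,1),(125,7),(127,8),(128,7),(129,3)])) 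
 (.node (.leaf [(0,8),(1,3),(2,9),(5,4),(6,6),(10,9),(12,8),(13,6),(14,5),(15,4),(16,1),(18,2),(19,10),(21,9),(22,2),(24,2),(26,2),(29,5),(33,5),(34,9),(35,3),(36,8),(37,4),(38,8),(39,2),(41,6),(44,3),(45,2),(47,3),(49,9),(50,6),(51,5),(53,1),(54,2),(55,3),(56,7),(57,5),(58,2),(59,3),(60,2),(63,3),(64,8),(65,4),(66,8),(67,2),(68,8),(69,2),(70,1),(72,3),(73,2),(74,8),(75,8),(76,8),(77,5),(78,6),(80,6),(82,6),(85,4),(89,4),(90,8),(91,9),(92,2),(93,1),(94,2),(95,6),(97,7),(100,9),(101,6),(103,9),(105,6),(106,4),(107,7),(109,3),(110,5),(111,10),(112,7),(113,7),(114,3),(115,10),(116,5),(118,5),(119,2),(120,9),(121,10),(122,9),(123,5),(124,9),(125,5),(126,7),(128,2),(129,5),(130,1),(131,5),(132,1)]) (.leaf [(3,3),(4,9),(5,8),(6,9),(10,8),(13,6),(14,5),(15,7),(16,6),(18,10),(19,3),(20,4),(22,1),(23,5),(24,6),(25,4),(26,5),(29,4),(32,4),(35,10),(36,6),(37,6),(38,1),(39,5),(41,6),(42,10),(43,1),(45,6),(47,6),(50,7),(52,1),(53,2),(54,4),(55,6),(56,1),(57,1),(58,8),(59,5),(60,7),(61,4),(63,8),(64,7),(65,7),(66,3),(67,7),(68,6),(69,3),(70,9),(71,3),(73,4),(74,3),(75,3),(78,1),(79,5),(80,6),(81,4),(82,5),(85,4),(88,4),(91,10),(92,6),(93,6),(94,1),(95,5),(97,6),(98,9),(99,1),(101,6),(103,6),(109,10),(111,6),(112,1),(114,8),(115,5),(124,10),(126,9),(130,3),(131,10)])))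 
 (.node 
 (.node (.leaf [(2,8),(4,6),(5,9),(7,3),(10,8),(11,2),(12,2),(15,3),(17,8),(18,7),(19,2),(20,2),(22,7),(24,8),(25,6),(26,8),(27,8),(28,3),(29,9),(30,10),(31,10),(32,5),(33,3),(35,10),(36,8),(37,2),(38,8),(39,5),(40,3),(41,8),(42,8),(43,2),(44,1),(45,9),(46,8),(47,3),(48,8),(50,7),(51,4),(52,3),(53,10),(54,7),(55,2),(57,1),(58,4),(59,6),(60,7),(63,6),(64,7),(65,10),(66,7),(67,1),(69,2),(70,4),(71,10),(72,5),(73,3),(74,4),(75,8),(76,4),(78,4),(80,3),(81,5),(82,3),(83,3),(84,8),(85,2),(86,1),(87,1),(88,6),(89,8),(91,1),(92,3),(93,9),(94,3),(95,6),(96,8),(97,3),(98,3),(99,9),(100,10),(101,2),(102,3),(103,8),(104,3),(106,2),(107,9),(108,4),(109,6),(110,2),(111,10),(113,5),(114,9),(115,8),(116,2),(119,8),(120,2),(121,6),(122,2),(123,5),(125,10),(126,9),(127,6),(128,3),(129,4),(130,9),(131,7),(132,9)]) (.leaf [(0,2),(1,9),(2,8),(3,9),(5,6),(6,9),(10,8),(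13,10),(14,1),(15,6),(16,8),(18,3),(19,3),(21,7),(23,4),(24,4),(26,2),(29,1),(33,5),(35,5),(36,6),(37,6),(38,10),(39,4),(41,6),(44,1),(47,1),(49,10),(50,7),(51,4),(53,3),(54,6),(55,4),(56,5),(57,3),(58,5),(60,1),(61,1),(63,4),(64,7),(65,7),(66,8),(68,2),(70,10),(72,3),(73,1),(74,7),(77,7),(79,4),(80,4),(82,1),(85,1),(89,5),(91,5),(92,6),(93,6),(94,10),(95,4),(97,6),(100,1),(103,1),(110,8),(111,4),(112,3),(114,5),(124,3),(126,10),(130,7),(131,2)])) 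
 (.node (.leaf [(0,7),(1,4),(2,1),(4,2),(5,7),(7,3),(10,10),(13,1),(14,10),(15,4),(17,6),(18,1),(19,8),(20,1),(21,9),(22,6),(25,1),(26,5),(27,1),(28,7),(29,2),(30,10),(31,5),(32,8),(33,5),(35,8),(36,8),(37,6),(38,5),(39,8),(40,8),(41,5),(42,2),(43,3),(45,5),(46,5),(47,5),(49,6),(50,3),(51,7),(52,9),(53,5),(54,7),(57,5),(63,9),(64,9),(65,4),(66,7),(67,7),(69,4),(71,2),(73,9),(75,4),(77,4),(78,10),(81,1),(82,1),(83,2),(84,3),(85,7),(86,9),(87,10),(88,6),(89,1),(91,6),(92,6),(93,10),(94,1),(95,6),(96,9),(97,3),(98,4),(99,5),(101,1),(102,10),(103,4),(105,1),(106,2),(107,3),(108,7),(109,10),(110,3),(113,10),(119,7),(120,7),(121,8),(122,3),(123,3),(125,8),(127,4),(129,7),(131,8)]) (.leaf [(2,9),(3,7),(4,9),(5,5),(7,5),(10,7),(13,7),(14,4),(15,4),(17,3),(18,1),(19,1),(22,6),(23,10),(24,7),(26,6),(27,10),(28,9),(29,6),(30,10),(31,1),(32,5),(33,6),(36,6),(37,6),(39,5),(40,8),(41,10),(43,10),(44,10),(45,6),(46,5),(47,5),(50,9),(51,1),(52,10),(53,3),(54,1),(57,1),(58,1),(60,3),(61,9),(64,1),(65,1),(67,1),(69,1),(71,9),(72,9),(73,10),(75,8),(81,10),(83,6),(84,1),(86,6),(87,5),(96,10),(102,3),(103,1),(106,10),(107,6),(108,5),(109,7),(110,6),(113,6),(114,8),(116,7),(117,10),(120,6),(121,6),(123,6),(125,6),(127,10),(128,10),(129,5),(131,4)]))))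 
 (.node 
 (.node 
 (.node (.leaf [(2,3),(3,3),(4,5),(5,5),(10,2),(15,8),(18,6),(19,6),(22,5),(23,3),(24,5),(25,5),(26,8),(27,2),(29,3),(30,9),(31,7),(33,8),(35,8),(38,3),(39,9),(41,1),(43,8),(44,3),(45,2),(46,9),(47,8),(50,5),(51,7),(53,8),(54,7),(57,4),(58,10),(59,10),(60,3),(61,4),(63,7),(66,4),(67,10),(69,3),(70,10),(71,7),(72,4),(73,1),(74,10),(75,4),(78,6),(79,8),(80,6),(81,6),(82,3),(83,9),(85,8),(86,2),(87,4),(89,3),(91,3),(94,8),(95,2),(97,10),(99,3),(100,8),(101,9),(102,2),(103,3),(106,3),(107,2),(109,7),(110,2),(113,9),(114,6),(115,6),(116,4),(117,9),(119,2),(122,9),(123,6),(125,4),(126,6),(127,2),(128,9),(129,5),(130,6),(131,9)]) (.leaf [(4,7),(7,3),(8,4),(9,7),(18,3),(19,7),(20,4),(22,9),(25,9),(28,7),(29,2),(30,8),(31,3),(32,9),(34,9),(35,2),(36,2),(38,2),(42,8),(43,2),(45,2),(46,8),(47,4),(52,6),(57,5),(62,6),(63,5),(64,5),(66,5),(67,5),(69,6),(71,5),(75,6),(78,4),(81,4),(84,6),(85,7),(86,5),(87,6),(88,4),(90,4),(91,7),(92,7),(94,7),(98,5),(99,7),(101,7),(102,5),(103,5),(108,1),(113,10),(118,1),(119,10),(120,10),(122,10),(123,10),(125,1),(127,10),(130,7),(131,1)]))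 
 (.node (.leaf [(3,1),(4,3),(5,10),(6,3),(10,10),(13,2),(14,9),(15,6),(16,2),(18,7),(19,1),(20,5),(22,6),(23,8),(24,3),(25,2),(26,8),(29,2),(32,2),(35,5),(36,3),(37,3),(38,6),(39,8),(41,3),(42,4),(43,6),(45,3),(47,3),(50,3),(52,2),(53,8),(54,8),(55,10),(56,9),(57,2),(58,6),(59,1),(60,3),(61,8),(63,5),(64,3),(65,3),(66,6),(67,3),(68,5),(69,6),(70,4),(71,6),(73,8),(74,5),(75,10),(78,7),(79,2),(80,9),(81,6),(82,2),(85,6),(88,6),(91,4),(92,9),(93,9),(94,7),(95,2),(97,9),(98,4),(99,7),(101,9),(103,9),(106,2),(108,5),(109,7),(110,9),(111,4),(112,8),(113,5),(114,9),(115,7),(116,2),(117,9),(119,7),(120,2),(121,2),(122,4),(123,2),(124,5),(125,4),(126,6),(127,4),(129,9),(130,2),(131,1)]) (.leaf [(0,5),(1,6),(2,7),(4,3),(5,5),(7,10),(10,4),(13,7),(14,4),(15,6),(17,9),(18,7),(19,1),(20,7),(21,4),(22,10),(25,3),(26,1),(27,1),(28,7),(29,7),(30,10),(31,5),(32,6),(33,1),(35,6),(36,6),(37,10),(38,1),(39,6),(41,8),(42,2),(43,5),(45,1),(46,5),(47,6),(49,8),(50,5),(51,2),(52,1),(53,3),(54,2),(57,3),(63,1),(64,1),(65,9),(66,2),(67,2),(69,9),(71,10),(73,1),(75,9),(81,1),(83,5),(84,2),(86,6),(87,3),(96,1),(97,8),(98,10),(102,3),(103,1),(105,4),(106,10),(107,1),(108,6),(109,7),(110,1),(113,7),(119,6),(120,6),(121,10),(122,1),(123,1),(125,10),(127,5),(129,6),(131,10)])))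 
 (.node 
 (.node (.leaf [(0,8),(1,3),(2,10),(3,3),(5,2),(6,3),(10,10),(13,7),(14,4),(15,2),(16,10),(18,1),(19,1),(21,9),(23,2),(24,2),(29,6),(33,8),(35,8),(36,3),(37,3),(38,5),(39,2),(41,3),(44,6),(47,6),(49,9),(50,3),(51,8),(53,6),(54,2),(55,3),(56,9),(57,6),(58,1),(60,2),(61,2),(63,8),(64,3),(65,3),(66,5),(68,3),(70,2),(72,6),(73,2),(74,8),(75,3),(77,5),(79,6),(80,6),(82,3),(85,7),(89,2),(91,2),(92,9),(93,9),(94,4),(95,6),(97,9),(100,7),(103,7),(105,6),(106,2),(107,9),(109,4),(110,10),(111,10),(112,1),(113,4),(114,7),(116,5),(117,5),(119,9),(120,2),(121,2),(122,7),(124,8),(126,3),(128,4),(129,5),(130,1),(131,6)]) (.leaf [(0,2),(1,9),(2,5),(5,1),(6,7),(10,5),(12,2),(13,7),(14,4),(15,1),(16,3),(18,6),(19,8),(21,7),(22,4),(24,4),(26,4),(29,10),(33,10),(34,9),(35,6),(36,5),(37,8),(38,5),(39,4),(41,1),(44,6),(45,4),(47,6),(49,10),(50,3),(51,8),(53,1),(54,1),(55,4),(56,4),(57,8),(58,10),(59,4),(60,1),(62,5),(63,7),(64,4),(65,2),(66,4),(67,1),(68,4),(69,1),(70,5),(72,7),(73,1),(74,7),(76,7),(77,7),(78,4),(80,4),(82,4),(85,10),(89,10),(90,8),(91,6),(92,5),(93,8),(94,5),(95,4),(97,1),(100,6),(101,4),(103,6),(109,3),(111,4),(112,3),(114,10),(115,4),(118,8),(126,5),(130,7),(131,9),(132,7)]))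 
 (.node (.leaf [(2,6),(3,1),(4,6),(5,7),(7,7),(10,1),(13,1),(14,10),(15,10),(17,2),(18,8),(19,8),(22,8),(23,6),(24,2),(25,3),(26,8),(27,10),(28,9),(29,8),(30,10),(31,1),(32,3),(33,8),(36,8),(37,8),(39,3),(40,10),(41,6),(43,6),(44,6),(45,8),(46,5),(50,4),(51,9),(52,2),(53,5),(54,9),(57,9),(60,5),(61,4),(64,9),(65,9),(67,9),(69,9),(71,4),(72,4),(73,2),(75,6),(78,6),(79,10),(80,7),(81,2),(82,6),(83,9),(84,7),(85,6),(86,9),(87,2),(88,5),(89,6),(92,6),(93,6),(95,5),(96,10),(97,10),(99,10),(100,10),(101,6),(102,10),(103,3),(106,8),(107,7),(108,4),(109,10),(110,7),(113,7),(114,7),(116,10),(117,8),(120,7),(121,7),(123,7),(125,7),(127,8),(128,8),(129,4),(131,1)]) (.leaf [(0,5),(1,6),(2,3),(3,2),(4,3),(5,5),(7,5),(10,2),(13,7),(14,4),(15,4),(16,5),(17,9),(18,7),(19,1),(20,5),(21,4),(22,6),(23,6),(25,8),(26,6),(27,10),(28,9),(29,6),(30,7),(31,4),(32,5),(33,2),(36,10),(37,10),(38,3),(39,1),(40,1),(41,6),(42,3),(43,10),(44,6),(45,6),(46,8),(47,5),(49,8),(50,1),(51,4),(52,10),(53,3),(54,1),(57,1),(61,1),(64,9),(65,9),(66,6),(67,1),(68,8),(69,1),(71,9),(72,1),(73,2),(81,2),(83,6),(84,1),(86,2),(87,9),(94,8),(96,10),(98,4),(102,7),(103,1),(105,4),(106,6),(107,2),(108,5),(109,7),(110,6),(113,6),(117,6),(120,10),(121,10),(122,5),(123,6),(124,4),(125,6),(127,10),(128,6),(129,1)])))))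 
 (.node 
 (.node 
 (.node 
 (.node (.leaf [(2,8),(3,8),(4,5),(5,5),(6,2),(11,7),(12,7),(15,3),(18,6),(19,6),(20,7),(22,5),(23,8),(24,5),(25,5),(26,3),(27,8),(29,9),(30,8),(31,2),(33,3),(35,3),(38,9),(39,4),(42,6),(43,3),(44,8),(45,8),(46,4),(47,2),(48,6),(51,4),(53,8),(54,4),(55,5),(56,6),(57,1),(58,2),(59,4),(60,3),(61,7),(63,4),(66,1),(67,7),(69,3),(70,2),(71,4),(72,7),(73,9),(74,2),(75,1),(76,3),(78,6),(79,3),(80,6),(81,6),(82,8),(83,3),(85,2),(86,3),(87,9),(89,8),(91,8),(94,2),(95,7),(98,5),(99,8),(100,3),(101,3),(102,7),(103,9),(104,5),(107,9),(109,7),(110,9),(111,3),(112,8),(113,5),(114,10),(115,9),(116,4),(117,2),(119,9),(122,5),(123,2),(125,4),(126,10),(127,9),(128,2),(129,1),(130,10),(131,5),(132,4)]) (.leaf [(2,6),(4,5),(5,7),(7,7),(10,1),(13,10),(14,1),(15,8),(17,1),(18,6),(19,9),(20,2),(22,3),(24,2),(25,8),(26,8),(27,10),(28,9),(29,2),(30,6),(3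1,1),(32,3),(33,8),(35,5),(36,3),(37,3),(38,6),(39,3),(40,5),(41,6),(42,4),(43,6),(45,8),(46,5),(47,10),(50,4),(51,9),(52,2),(53,5),(54,9),(57,5),(60,5),(63,7),(64,2),(65,2),(66,4),(67,9),(69,2),(71,4),(73,2),(75,2),(78,5),(80,7),(81,3),(82,6),(83,9),(84,7),(85,7),(86,1),(87,2),(88,5),(89,6),(91,1),(92,5),(93,5),(94,10),(95,5),(96,9),(97,10),(98,8),(99,10),(101,6),(102,10),(103,10),(106,8),(107,7),(108,4),(109,10),(110,7),(113,10),(116,10),(119,3),(120,4),(121,4),(122,8),(123,7),(125,4),(126,7),(127,8),(129,4),(131,4)])) 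
 (.node (.leaf [(0,8),(1,3),(2,10),(3,4),(4,3),(5,4),(6,3),(10,1),(13,9),(14,2),(15,2),(16,1),(17,3),(18,5),(19,2),(21,9),(22,8),(23,10),(24,3),(25,2),(26,8),(29,8),(33,8),(36,6),(37,6),(39,8),(40,9),(41,8),(43,6),(44,8),(45,5),(49,9),(50,8),(51,8),(53,1),(54,8),(55,10),(56,9),(57,8),(58,7),(59,4),(60,3),(61,10),(64,6),(65,6),(66,2),(67,5),(68,8),(69,8),(70,3),(71,6),(72,8),(73,8),(74,8),(77,5),(78,2),(79,8),(80,9),(81,6),(82,2),(85,2),(89,2),(92,7),(93,7),(94,3),(95,2),(96,5),(97,2),(99,7),(100,2),(101,4),(105,6),(106,9),(107,9),(109,1),(110,9),(111,4),(112,8),(113,9),(114,5),(115,6),(116,2),(117,3),(120,4),(121,4),(122,10),(123,7),(124,7),(125,9),(126,10),(127,4),(128,9),(129,9),(130,1),(131,2)]) (.leaf [(5,9),(6,7),(8,9),(9,2),(10,2),(18,9),(19,7),(24,7),(29,4),(34,7),(35,4),(36,4),(38,4),(39,4),(41,7),(43,4),(46,10),(47,7),(50,10),(53,10),(56,4),(57,1),(58,7),(59,4),(60,10),(62,10),(63,1),(64,1),(66,1),(70,7),(71,1),(73,1),(74,7),(75,7),(80,7),(85,4),(90,7),(91,4),(92,4),(94,4),(95,4),(97,7),(99,4),(102,9),(103,7),(112,3),(114,7),(115,4),(126,7),(130,7),(131,8)])))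 
 (.node 
 (.node (.leaf [(0,8),(1,3),(3,2),(4,3),(5,4),(6,6),(10,9),(13,9),(14,2),(15,3),(16,1),(18,5),(19,2),(21,9),(22,3),(23,5),(24,8),(25,2),(26,5),(29,2),(35,8),(36,8),(37,6),(38,5),(39,5),(41,6),(43,3),(45,8),(47,6),(49,9),(50,6),(53,1),(54,5),(55,1),(56,7),(57,2),(58,10),(59,5),(60,8),(61,5),(63,8),(64,8),(65,6),(66,5),(67,8),(68,8),(69,5),(70,2),(71,3),(73,5),(74,5),(75,5),(77,5),(78,1),(79,4),(80,2),(81,6),(82,4),(85,6),(91,2),(92,2),(93,7),(94,4),(95,4),(97,7),(99,9),(101,2),(103,7),(105,6),(106,4),(109,10),(110,7),(111,7),(112,5),(113,5),(114,4),(115,2),(116,9),(117,7),(119,9),(120,9),(121,4),(122,7),(123,9),(125,1),(126,3),(127,2),(129,7),(130,2),(131,9)]) (.leaf [(2,6),(3,3),(4,9),(5,3),(6,9),(10,3),(13,5),(14,6),(15,6),(16,1),(18,4),(19,4),(22,1),(23,5),(24,6),(25,4),(26,5),(29,5),(30,10),(32,4),(33,1),(36,5),(37,5),(39,5),(41,5),(43,1),(44,1),(45,6),(47,7),(50,4),(51,3),(52,1),(53,5),(54,4),(55,6),(56,1),(57,4),(58,6),(59,5),(60,7),(61,4),(64,4),(65,4),(67,7),(68,3),(69,3),(71,3),(72,3),(73,4),(74,3),(75,2),(78,1),(79,5),(80,6),(81,4),(82,5),(85,5),(86,9),(88,4),(89,1),(92,5),(93,5),(95,5),(97,5),(99,1),(100,1),(101,6),(103,7),(109,10),(111,6),(112,1),(114,6),(115,5),(124,10),(130,3),(131,1)]))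 
 (.node (.leaf [(0,7),(1,4),(2,7),(3,5),(4,1),(7,7),(13,2),(14,9),(15,10),(17,5),(18,6),(19,6),(20,1),(21,9),(22,3),(23,8),(25,6),(26,2),(27,3),(28,9),(29,6),(30,1),(32,2),(33,2),(35,8),(36,3),(37,3),(38,5),(40,3),(42,2),(44,6),(45,2),(46,8),(47,3),(49,6),(51,5),(52,5),(54,1),(57,4),(61,9),(63,9),(64,2),(65,2),(66,7),(67,5),(69,2),(72,4),(75,4),(77,4),(78,5),(79,6),(81,10),(82,9),(83,6),(84,2),(85,10),(86,2),(88,7),(89,7),(91,6),(92,5),(93,5),(94,1),(96,3),(98,4),(100,10),(101,7),(102,5),(105,1),(107,10),(108,10),(110,9),(113,8),(117,7),(119,7),(120,4),(121,4),(122,3),(123,10),(125,4),(128,8),(131,8)]) (.leaf [(0,5),(1,6),(3,4),(4,3),(7,10),(10,6),(11,6),(13,1),(14,10),(15,8),(17,9),(18,2),(19,7),(20,9),(21,4),(22,10),(23,1),(25,2),(26,7),(27,3),(28,1),(29,1),(30,2),(31,3),(32,7),(34,7),(35,5),(36,6),(37,3),(38,6),(39,7),(40,6),(41,7),(42,1),(44,5),(45,7),(46,8),(47,7),(48,8),(49,8),(50,3),(52,3),(54,3),(57,2),(61,2),(62,3),(63,10),(64,1),(65,6),(66,1),(67,3),(69,9),(72,10),(73,3),(75,10),(81,3),(83,4),(84,3),(86,10),(87,4),(90,8),(98,5),(102,7),(103,9),(104,7),(105,4),(106,7),(108,7),(110,7),(113,1),(117,1),(118,9),(119,5),(120,6),(121,3),(122,6),(123,7),(125,10),(128,5),(129,7),(131,5)]))))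 
 (.node 
 (.node 
 (.node (.leaf [(2,2),(3,5),(5,3),(6,10),(7,2),(10,3),(11,2),(12,2),(13,5),(14,7),(15,8),(16,6),(17,3),(18,5),(19,2),(20,2),(22,1),(23,5),(24,7),(26,8),(27,4),(28,2),(29,3),(30,6),(31,10),(32,6),(33,9),(35,10),(36,8),(37,8),(38,3),(39,4),(40,8),(41,3),(42,8),(43,2),(44,6),(45,10),(46,1),(47,3),(48,8),(50,4),(51,1),(52,8),(53,7),(54,7),(56,5),(57,4),(58,4),(59,6),(60,2),(61,3),(63,6),(64,7),(65,7),(66,4),(67,6),(68,8),(69,5),(70,2),(71,10),(72,8),(73,9),(74,6),(75,3),(76,4),(78,10),(79,6),(80,4),(82,3),(83,7),(84,9),(85,8),(86,5),(87,1),(88,5),(89,2),(91,1),(92,3),(93,3),(94,8),(95,7),(96,3),(97,8),(98,3),(99,9),(100,5),(101,1),(102,10),(103,8),(104,3),(106,9),(107,5),(108,7),(109,2),(110,2),(112,3),(113,9),(114,9),(115,8),(116,10),(117,4),(119,8),(120,2),(121,2),(122,9),(123,8),(124,7),(125,3),(126,10),(127,6),(128,7),(129,1),(130,8),(131,4),(132,9)])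 (.leaf [(0,2),(1,9),(3,6),(4,9),(5,1),(6,7),(10,5),(13,5),(14,6),(15,9),(16,3),(18,4),(19,6),(21,7),(22,8),(23,10),(24,5),(25,4),(26,10),(29,4),(35,5),(36,5),(37,1),(38,10),(39,10),(41,1),(43,6),(45,5),(47,1),(49,10),(50,3),(53,8),(54,8),(55,5),(56,2),(57,1),(58,6),(59,3),(60,4),(61,8),(63,4),(64,4),(65,3),(66,8),(67,4),(68,6),(69,2),(70,10),(71,7),(73,8),(74,3),(75,10),(77,7),(78,7),(79,10),(80,5),(81,4),(82,10),(85,4),(91,5),(92,5),(93,1),(94,10),(95,10),(97,1),(99,6),(101,5),(103,1),(109,1),(111,5),(112,2),(114,6),(115,3),(124,1),(125,8),(126,10),(130,3),(131,1)])) 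
 (.node (.leaf [(5,3),(6,6),(8,3),(9,8),(10,8),(18,3),(19,6),(24,9),(29,2),(34,9),(35,2),(36,2),(38,2),(39,2),(41,9),(43,2),(46,4),(47,9),(50,9),(53,9),(56,7),(57,2),(58,8),(59,3),(60,9),(62,9),(63,2),(64,2),(66,2),(70,8),(71,2),(73,2),(74,8),(75,4),(80,5),(85,6),(90,5),(91,6),(92,6),(94,6),(95,6),(97,5),(99,6),(102,4),(103,5),(106,6),(109,6),(112,7),(113,5),(114,1),(115,10),(116,6),(118,6),(119,5),(120,5),(122,5),(126,1),(127,5),(129,5),(130,1),(131,4)]) (.leaf [(0,5),(1,6),(2,5),(3,2),(4,7),(7,5),(13,3),(14,8),(15,4),(17,2),(18,9),(19,9),(20,7),(21,4),(22,5),(23,6),(25,10),(26,3),(27,3),(28,8),(29,10),(30,1),(32,7),(33,7),(35,6),(36,5),(37,5),(38,1),(40,9),(42,2),(44,10),(45,7),(46,8),(47,4),(49,8),(51,3),(52,3),(54,6),(57,9),(61,1),(63,1),(64,10),(65,10),(66,2),(67,3),(69,10),(72,9),(75,9),(82,8),(83,4),(84,3),(86,5),(96,3),(98,10),(102,7),(103,2),(105,4),(107,7),(108,7),(110,5),(113,10),(117,6),(119,6),(120,5),(121,5),(122,1),(123,7),(125,5),(128,10),(131,10)])))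 
 (.node 
 (.node (.leaf [(2,2),(3,1),(4,3),(5,1),(6,3),(10,1),(13,9),(14,2),(15,2),(16,4),(18,5),(19,5),(22,6),(23,8),(24,3),(25,2),(26,8),(29,8),(30,4),(32,2),(33,6),(36,8),(37,8),(39,8),(41,8),(43,6),(44,6),(45,3),(47,9),(50,8),(51,6),(52,2),(53,3),(54,8),(55,10),(56,9),(57,8),(58,10),(59,1),(60,3),(61,8),(64,8),(65,8),(67,3),(68,10),(69,6),(71,6),(72,6),(73,8),(74,5),(78,7),(79,2),(80,9),(81,6),(82,2),(85,2),(86,4),(88,6),(89,7),(92,2),(93,2),(95,2),(97,2),(99,7),(100,7),(101,9),(103,5),(106,9),(107,4),(108,5),(110,9),(111,4),(112,8),(113,9),(114,4),(115,7),(116,2),(117,9),(120,9),(121,9),(123,2),(124,1),(125,4),(127,4),(128,4),(129,9),(130,2),(131,2)]) (.leaf [(0,2),(1,9),(2,8),(3,1),(4,9),(5,1),(6,9),(10,3),(13,5),(14,6),(15,6),(16,3),(17,9),(18,4),(19,6),(21,7),(22,5),(23,9),(24,6),(25,4),(26,5),(29,5),(33,5),(36,1),(37,1),(38,2),(39,5),(40,7),(41,5),(43,1),(44,5),(45,10),(49,10),(50,4),(51,4),(53,10),(54,4),(55,6),(56,1),(57,4),(58,2),(59,9),(60,7),(61,5),(64,3),(65,3),(66,6),(67,8),(68,2),(69,4),(70,4),(71,3),(72,4),(73,4),(74,7),(75,2),(77,7),(78,5),(79,9),(80,6),(81,4),(82,5),(85,5),(89,5),(92,1),(93,1),(94,1),(95,5),(96,7),(97,5),(99,1),(100,5),(101,10),(109,2),(111,6),(112,1),(114,2),(115,9),(122,8),(124,10),(126,4),(130,7),(131,1)]))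 
 (.node (.leaf [(0,7),(1,4),(3,10),(4,2),(7,3),(10,4),(11,4),(13,8),(14,3),(15,9),(17,6),(18,5),(19,1),(20,6),(21,9),(22,6),(23,5),(25,1),(26,2),(27,3),(28,7),(29,5),(30,2),(31,3),(32,2),(35,3),(36,8),(37,4),(38,8),(39,2),(40,8),(41,2),(42,1),(44,3),(45,2),(46,8),(47,8),(48,8),(49,6),(50,5),(52,5),(54,5),(57,7),(61,7),(62,7),(63,2),(64,9),(65,10),(66,9),(67,5),(69,4),(72,2),(73,5),(75,2),(77,4),(78,10),(79,1),(81,7),(82,7),(83,6),(84,6),(85,1),(86,4),(87,6),(88,7),(90,2),(91,5),(92,6),(93,3),(94,6),(95,7),(96,6),(97,7),(98,2),(100,5),(101,7),(102,5),(104,5),(105,1),(106,10),(108,10),(110,10),(113,3),(117,3),(118,10),(119,4),(120,7),(121,9),(122,7),(123,10),(125,8),(128,4),(129,10),(131,4)]) (.leaf [(2,9),(4,2),(5,5),(7,5),(10,7),(13,4),(14,7),(15,1),(17,7),(18,9),(19,8),(20,3),(22,5),(24,7),(25,1),(26,6),(27,10),(28,9),(29,7),(30,6),(31,1),(32,5),(33,6),(35,1),(36,5),(37,5),(38,10),(39,5),(40,7),(41,10),(42,4),(43,10),(45,6),(46,5),(47,8),(50,9),(51,1),(52,10),(53,3),(54,1),(57,3),(60,3),(63,2),(64,10),(65,10),(66,9),(67,1),(69,10),(70,1),(71,9),(73,10),(75,10),(81,10),(83,6),(84,1),(86,8),(87,5),(96,10),(98,9),(102,3),(103,10),(106,10),(107,6),(108,5),(109,7),(110,6),(113,7),(116,7),(119,1),(120,5),(121,5),(122,10),(123,6),(125,5),(126,8),(127,10),(129,5),(131,5)])))))))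 
 (.node 
 (.node 
 (.node 
 (.node 
 (.node 
 (.node 
 (.node (.leaf [(0,5),(1,7),(2,5),(3,5),(4,6),(5,6),(6,10),(7,10),(10,6),(15,5),(16,1),(17,1),(18,5),(19,5),(21,5),(22,6),(23,5),(24,10),(25,6),(26,5),(27,7),(28,10),(30,7),(31,4),(32,1),(33,6),(36,6),(39,3),(40,10),(41,6),(43,5),(44,6),(45,7),(46,8),(47,1),(49,3),(50,8),(51,8),(52,5),(53,3),(54,3),(55,7),(56,5),(59,2),(60,6),(61,3),(64,8),(67,2),(68,5),(69,8),(71,3),(72,8),(73,4),(74,2),(75,6),(77,6),(78,5),(79,6),(80,1),(81,5),(82,6),(83,4),(84,1),(86,4),(87,7),(88,10),(89,5),(92,5),(95,8),(96,1),(97,5),(99,6),(100,5),(101,4),(102,3),(103,10),(105,4),(106,7),(107,7),(108,3),(109,4),(110,4),(111,2),(112,3),(115,10),(116,8),(117,4),(120,7),(123,10),(124,3),(125,7),(127,4),(128,7),(129,9),(130,10),(131,8)]) (.leaf [(3,6),(4,5),(6,6),(7,10),(8,6),(9,5),(11,6),(13,10),(14,1),(15,1),(17,5),(22,4),(23,7),(25,4),(26,7),(28,1),(29,7),(31,3),(34,4),(37,4),(38,7),(39,10),(40,7),(44,4),(45,7),(48,8),(54,3),(56,8),(57,3),(61,3),(62,8),(65,8),(66,3),(67,3),(69,8),(72,8),(73,9),(84,3),(87,4),(95,8),(104,7),(110,7),(112,4),(113,7),(117,7),(118,4),(121,4),(122,7),(123,7),(125,4),(128,4),(129,1)]))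 (.leaf [(2,2),(3,6),(5,7),(10,1),(11,7),(15,5),(18,7),(19,7),(20,1),(23,3),(26,8),(27,10),(29,3),(30,8),(31,1),(32,3),(33,10),(35,8),(36,9),(37,2),(38,5),(39,3),(41,6),(42,2),(43,6),(44,3),(45,8),(46,8),(47,3),(48,3),(50,4),(51,3),(52,2),(53,5),(54,9),(57,2),(61,2),(63,9),(64,6),(65,1),(66,7),(67,9),(71,4),(72,2),(73,2),(75,4),(79,5),(81,8),(82,6),(83,9),(84,3),(85,5),(86,5),(87,2),(88,5),(89,2),(91,6),(92,4),(93,9),(94,1),(95,5),(96,6),(97,10),(98,4),(99,10),(100,5),(101,6),(102,5),(103,3),(104,6),(106,8),(107,6),(108,4),(109,10),(110,7),(113,4),(117,4),(119,7),(120,1),(121,9),(122,3),(123,7),(127,8),(128,4),(129,4),(131,8)])) 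
 (.node (.leaf [(0,8),(1,3),(2,9),(5,1),(6,3),(10,9),(13,9),(14,2),(15,9),(16,9),(18,10),(19,2),(21,9),(22,2),(29,3),(33,3),(35,5),(36,8),(37,8),(38,10),(41,6),(44,3),(47,1),(49,9),(50,6),(51,5),(53,3),(56,9),(57,3),(58,2),(59,3),(63,5),(64,8),(65,8),(66,10),(68,6),(69,2),(70,9),(72,3),(74,8),(75,8),(77,5),(78,6),(85,9),(89,1),(91,4),(92,2),(93,2),(94,8),(97,7),(100,9),(103,3),(105,6),(106,4),(107,1),(109,2),(112,1),(113,2),(114,3),(115,10),(119,7),(120,9),(121,9),(122,3),(124,10),(125,5),(126,8),(128,2),(130,1)]) (.leaf [(0,2),(1,9),(2,8),(3,9),(5,4),(6,7),(7,2),(8,9),(9,2),(10,8),(13,10),(14,1),(15,4),(16,6),(18,1),(19,3),(21,7),(23,4),(26,4),(28,7),(29,9),(33,5),(34,7),(35,5),(36,10),(37,2),(38,10),(39,4),(41,4),(44,5),(45,4),(47,5),(49,10),(50,1),(51,4),(53,8),(54,1),(56,4),(57,5),(58,1),(59,4),(61,1),(62,10),(63,4),(64,8),(65,6),(66,8),(67,1),(68,8),(70,10),(72,4),(73,1),(74,7),(75,6),(77,7),(79,4),(82,4),(84,7),(85,9),(89,5),(90,7),(91,5),(92,10),(93,2),(94,10),(95,4),(97,3),(100,5),(101,4),(103,5),(106,8),(109,3),(112,3),(114,1),(115,4),(126,10),(130,7),(131,10)])))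 
 (.node 
 (.node (.leaf [(2,2),(3,8),(5,6),(6,5),(11,7),(12,7),(15,3),(16,6),(17,2),(19,5),(20,7),(23,8),(24,5),(26,3),(27,4),(29,8),(30,8),(31,10),(32,6),(33,9),(35,8),(36,5),(37,5),(38,8),(39,2),(40,10),(42,6),(43,3),(44,3),(45,4),(46,8),(47,9),(48,6),(51,1),(52,8),(53,3),(54,4),(55,3),(56,8),(57,7),(58,2),(59,4),(60,3),(61,7),(63,7),(64,3),(65,3),(66,7),(67,9),(68,8),(70,4),(71,4),(72,4),(73,10),(74,6),(75,7),(76,3),(79,3),(80,6),(82,8),(83,7),(85,3),(86,3),(87,1),(88,5),(89,2),(91,3),(92,6),(93,6),(94,3),(95,9),(96,1),(98,5),(99,8),(100,8),(101,7),(102,3),(103,2),(104,5),(107,5),(108,7),(109,4),(110,9),(111,4),(112,7),(113,2),(114,10),(115,9),(116,4),(117,2),(119,2),(120,4),(121,4),(122,2),(123,1),(124,7),(126,9),(127,9),(128,9),(129,6),(130,8),(131,2),(132,4)]) (.leaf [(2,6),(4,7),(5,6),(6,7),(10,10),(13,6),(14,5),(15,6),(16,6),(18,1),(19,1),(25,6),(29,9),(33,1),(35,9),(36,10),(37,10),(38,10),(41,2),(44,1),(47,1),(50,6),(51,3),(53,3),(56,4),(57,5),(58,1),(59,8),(63,5),(64,8),(65,8),(66,8),(68,8),(70,10),(72,3),(74,3),(75,6),(81,5),(85,9),(89,1),(91,9),(92,10),(93,10),(94,10),(97,2),(100,1),(103,1),(112,3),(114,1),(115,8),(126,10),(130,3),(131,10)]))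 
 (.node (.leaf [(2,1),(3,6),(4,1),(5,7),(7,7),(10,6),(13,6),(14,5),(15,9),(17,1),(18,6),(19,2),(20,7),(22,3),(23,3),(25,6),(26,5),(27,1),(28,9),(29,5),(30,9),(31,2),(32,8),(33,5),(36,3),(37,3),(39,8),(40,5),(41,3),(42,3),(43,3),(44,3),(45,5),(46,8),(49,7),(50,2),(51,7),(52,9),(53,5),(54,7),(57,7),(61,2),(64,2),(65,2),(67,7),(69,2),(71,2),(72,2),(73,9),(77,2),(78,5),(79,5),(81,2),(82,1),(83,2),(84,10),(85,1),(86,7),(87,4),(88,6),(89,1),(92,5),(93,5),(95,6),(96,4),(97,5),(98,6),(99,5),(100,5),(101,1),(102,5),(103,6),(105,10),(106,4),(107,3),(108,7),(109,10),(110,3),(113,3),(117,4),(120,4),(121,4),(123,3),(125,4),(127,4),(128,4),(129,7)]) (.leaf [(2,9),(3,9),(4,5),(5,5),(7,5),(10,2),(15,8),(17,5),(19,10),(20,7),(23,5),(25,3),(26,6),(27,10),(28,9),(29,4),(30,8),(31,4),(32,5),(33,6),(35,10),(37,4),(38,5),(39,1),(40,2),(41,6),(42,2),(43,10),(44,1),(45,6),(46,8),(47,1),(50,1),(51,1),(52,10),(53,3),(54,1),(57,8),(61,10),(63,9),(65,8),(66,10),(67,1),(71,9),(72,2),(73,2),(75,1),(81,2),(83,6),(84,1),(85,8),(86,7),(87,9),(96,10),(98,10),(102,7),(106,6),(107,6),(108,5),(109,7),(110,6),(113,6),(117,5),(119,10),(121,4),(122,5),(123,6),(127,10),(128,1),(129,1),(131,6)]))))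 
 (.node 
 (.node 
 (.node (.leaf [(3,8),(4,5),(5,2),(7,8),(8,5),(9,7),(10,3),(11,2),(12,2),(15,5),(16,5),(17,8),(19,3),(20,2),(23,8),(24,2),(25,5),(27,6),(28,8),(29,6),(30,8),(31,2),(34,6),(35,8),(36,8),(37,3),(38,1),(39,9),(40,3),(41,3),(42,8),(44,8),(46,6),(47,10),(48,8),(50,4),(53,1),(55,4),(57,8),(58,3),(59,5),(60,10),(61,7),(62,8),(63,7),(64,7),(65,4),(66,5),(68,3),(70,1),(72,7),(73,1),(74,3),(75,4),(76,4),(79,3),(80,9),(81,6),(83,5),(84,3),(85,5),(86,3),(87,9),(90,5),(91,3),(92,3),(93,8),(94,10),(95,2),(96,8),(97,8),(98,3),(100,3),(102,5),(103,1),(104,3),(106,9),(109,5),(111,9),(113,7),(114,4),(115,3),(116,6),(117,2),(118,7),(119,2),(120,2),(121,9),(122,3),(124,4),(126,5),(128,2),(129,5),(130,4),(131,9),(132,9)]) (.leaf [(3,4),(4,7),(6,4),(7,3),(8,4),(9,7),(11,4),(13,3),(14,8),(15,8),(17,7),(22,9),(23,2),(25,9),(26,2),(28,7),(29,2),(31,3),(34,9),(37,9),(38,2),(39,4),(40,2),(44,9),(45,2),(48,8),(54,5),(56,6),(57,5),(61,5),(62,6),(65,6),(66,5),(67,5),(69,6),(72,6),(73,6),(78,4),(79,7),(81,4),(82,7),(84,6),(85,7),(87,6),(90,4),(93,4),(94,7),(95,5),(96,7),(100,4),(101,7),(104,5),(110,10),(112,1),(113,10),(117,10),(118,1),(121,1),(122,10),(123,10),(125,1),(128,1),(129,8)]))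 
 (.node (.leaf [(0,8),(1,3),(2,10),(3,3),(5,5),(6,6),(7,8),(8,3),(9,8),(10,10),(13,7),(14,4),(15,5),(16,2),(18,4),(19,1),(21,9),(23,2),(26,2),(28,9),(29,10),(33,8),(34,9),(35,8),(36,5),(37,1),(38,5),(39,2),(41,1),(44,8),(45,2),(47,8),(49,9),(50,3),(51,8),(53,4),(54,2),(56,7),(57,10),(58,9),(59,3),(61,2),(62,9),(63,8),(64,5),(65,1),(66,5),(67,2),(68,5),(70,2),(72,8),(73,2),(74,8),(75,5),(77,5),(79,6),(82,6),(84,5),(85,8),(89,2),(90,5),(91,2),(92,4),(93,3),(94,4),(95,6),(97,6),(100,2),(101,6),(103,2),(105,6),(106,7),(107,9),(109,5),(110,5),(112,7),(113,3),(114,8),(115,10),(117,5),(118,6),(119,9),(120,7),(121,8),(122,7),(123,5),(124,7),(126,3),(128,9),(129,5),(130,1),(131,5)]) (.leaf [(2,7),(3,9),(4,7),(5,5),(7,5),(10,9),(13,9),(14,2),(15,8),(17,7),(18,9),(19,3),(20,5),(21,7),(22,5),(23,5),(25,4),(26,1),(27,1),(28,3),(29,1),(30,9),(31,2),(32,6),(33,1),(36,5),(37,5),(39,6),(40,6),(41,5),(42,3),(43,5),(44,5),(45,1),(46,8),(47,10),(49,3),(50,10),(51,2),(52,1),(53,3),(54,2),(57,2),(61,10),(64,10),(65,10),(67,2),(69,10),(71,10),(72,10),(73,1),(77,8),(81,1),(83,5),(84,2),(86,1),(87,10),(96,1),(98,4),(102,7),(103,2),(105,9),(106,5),(107,1),(108,6),(109,7),(110,1),(113,1),(117,5),(120,5),(121,5),(123,1),(125,5),(127,5),(128,5),(129,6)])))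 
 (.node 
 (.node (.leaf [(2,2),(4,6),(5,2),(6,6),(10,7),(13,2),(14,9),(15,2),(16,2),(18,4),(19,4),(25,2),(29,10),(33,6),(35,10),(36,5),(37,5),(38,5),(41,1),(44,6),(47,6),(50,1),(51,6),(53,6),(56,7),(57,10),(58,9),(59,6),(63,10),(64,5),(65,5),(66,5),(68,5),(70,2),(72,6),(74,5),(75,5),(81,9),(85,8),(89,7),(91,8),(92,4),(93,4),(94,4),(97,3),(100,7),(103,7),(106,8),(107,4),(109,4),(112,7),(113,3),(114,8),(115,9),(119,3),(120,7),(121,7),(122,7),(124,7),(126,3),(128,4),(130,2),(131,5)]) (.leaf [(0,2),(1,9),(2,5),(5,3),(6,9),(10,5),(13,5),(14,6),(15,5),(16,5),(18,8),(19,6),(21,7),(22,4),(29,6),(33,8),(35,10),(36,5),(37,5),(38,9),(41,1),(44,6),(47,2),(49,10),(50,3),(51,2),(53,7),(56,5),(57,7),(58,10),(59,4),(63,8),(64,4),(65,4),(66,5),(68,9),(69,1),(70,1),(72,7),(74,7),(75,6),(77,7),(78,4),(85,6),(89,7),(91,10),(92,5),(93,5),(94,9),(97,1),(100,6),(103,2),(107,8),(112,3),(114,10),(115,4),(124,3),(126,1),(130,7),(131,1)]))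 
 (.node (.leaf [(2,6),(3,6),(4,7),(5,7),(7,7),(10,5),(15,9),(17,7),(19,3),(20,1),(23,3),(25,9),(26,8),(27,10),(28,9),(29,7),(30,8),(31,4),(32,3),(33,8),(35,6),(37,9),(38,3),(39,5),(40,2),(41,8),(42,2),(43,6),(44,5),(45,8),(46,8),(47,5),(50,9),(51,9),(52,2),(53,5),(54,9),(57,8),(61,2),(63,4),(65,6),(66,2),(67,9),(71,4),(72,7),(73,7),(75,9),(79,5),(81,10),(82,6),(83,9),(84,7),(85,10),(86,5),(87,8),(88,5),(89,6),(91,10),(93,4),(94,5),(95,1),(96,4),(97,6),(98,4),(99,10),(100,1),(101,6),(102,5),(103,1),(106,7),(107,7),(108,4),(109,10),(110,7),(113,1),(117,4),(119,8),(121,1),(122,4),(123,7),(127,8),(128,3),(129,3),(131,7)]) (.leaf [(2,3),(3,9),(5,5),(10,7),(11,5),(15,2),(18,5),(19,5),(20,7),(23,5),(25,6),(26,6),(27,10),(28,5),(29,5),(30,8),(31,1),(32,5),(33,2),(35,6),(36,4),(37,3),(38,1),(39,5),(40,10),(41,10),(42,2),(43,10),(44,5),(45,6),(46,8),(47,9),(48,3),(50,9),(51,4),(52,10),(53,3),(54,1),(57,10),(61,10),(63,1),(64,8),(65,6),(66,2),(67,1),(71,9),(72,10),(73,10),(75,9),(81,10),(83,6),(84,1),(86,7),(87,5),(93,8),(96,2),(98,10),(102,7),(103,3),(104,4),(106,10),(107,2),(108,5),(109,7),(110,6),(113,5),(117,5),(119,6),(120,4),(121,5),(122,1),(123,6),(127,10),(128,5),(129,5),(131,10)])))))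 
 (.node 
 (.node 
 (.node 
 (.node (.leaf [(2,6),(3,3),(4,5),(5,4),(6,6),(7,3),(10,8),(11,2),(12,2),(16,5),(17,8),(18,6),(19,9),(20,2),(22,5),(23,3),(24,3),(25,5),(26,6),(27,6),(28,3),(30,8),(31,6),(33,5),(35,3),(36,3),(37,8),(39,4),(40,3),(41,8),(42,8),(43,1),(44,8),(45,5),(46,2),(47,5),(48,8),(50,7),(51,3),(53,7),(54,8),(55,6),(56,3),(58,3),(59,3),(60,4),(61,4),(63,4),(64,4),(65,7),(67,3),(68,3),(69,3),(70,3),(71,5),(72,7),(73,9),(74,3),(75,1),(76,4),(78,6),(79,8),(80,8),(81,6),(82,5),(83,5),(84,8),(86,3),(87,5),(89,6),(91,8),(92,8),(93,3),(95,7),(96,8),(97,3),(98,3),(99,10),(100,3),(101,6),(102,9),(103,6),(104,3),(106,2),(107,4),(109,2),(110,7),(111,8),(112,4),(114,4),(115,4),(116,9),(117,9),(119,9),(120,9),(121,2),(123,4),(124,4),(125,4),(126,4),(127,3),(128,2),(129,1),(130,4),(131,5),(132,9)]) (.leaf [(0,7),(1,4),(2,7),(3,5),(4,8),(6,4),(7,3),(8,4),(9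,7),(13,2),(14,9),(15,3),(17,1),(18,6),(19,2),(20,1),(21,9),(22,3),(23,8),(25,4),(26,2),(28,7),(29,10),(30,9),(31,3),(33,2),(34,9),(35,8),(36,5),(37,1),(38,5),(39,2),(40,5),(42,2),(44,8),(45,2),(46,8),(47,5),(49,6),(51,5),(54,5),(56,6),(57,3),(61,9),(62,6),(63,9),(64,7),(65,8),(66,7),(67,5),(69,9),(72,9),(73,5),(75,9),(77,4),(78,7),(79,6),(81,1),(82,7),(84,6),(85,2),(86,7),(87,6),(89,7),(90,4),(91,6),(92,1),(93,9),(94,1),(95,7),(96,1),(98,4),(100,6),(101,7),(102,5),(103,9),(105,1),(107,10),(110,10),(112,1),(113,6),(117,7),(118,1),(119,7),(120,3),(121,5),(122,3),(123,10),(125,3),(128,7),(129,10),(131,7)])) 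
 (.node (.leaf [(2,1),(3,4),(4,3),(12,3),(15,1),(18,3),(19,3),(22,6),(23,10),(24,3),(25,2),(26,8),(29,3),(33,3),(35,8),(36,9),(38,5),(39,8),(43,6),(44,3),(45,3),(47,6),(51,3),(54,8),(55,10),(57,3),(58,8),(59,1),(60,3),(61,10),(63,8),(64,9),(65,2),(66,5),(67,3),(69,6),(70,2),(71,6),(72,3),(73,8),(74,8),(75,3),(76,3),(78,7),(79,8),(80,9),(81,6),(82,2),(85,9),(89,9),(91,2),(92,5),(93,3),(94,4),(95,2),(99,7),(100,9),(101,9),(103,7),(107,2),(109,9),(110,9),(111,4),(112,2),(113,2),(114,1),(115,7),(116,2),(117,3),(119,9),(120,6),(121,10),(122,7),(123,2),(124,4),(125,4),(126,3),(127,4),(128,2),(129,9),(130,1),(131,8),(132,10)]) (.leaf [(2,2),(5,9),(6,7),(7,2),(8,9),(9,2),(10,2),(12,2),(13,4),(14,7),(15,7),(16,9),(26,4),(28,7),(29,4),(33,4),(34,7),(37,7),(38,4),(39,4),(41,7),(44,7),(45,6),(50,10),(51,1),(53,10),(54,1),(56,4),(57,1),(59,4),(62,10),(65,10),(66,1),(67,7),(68,1),(72,10),(73,1),(76,7),(82,4),(84,7),(85,4),(89,4),(90,7),(93,7),(94,4),(95,4),(97,7),(100,7),(101,5),(112,3),(115,4),(123,8),(132,7)])))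 
 (.node 
 (.node (.leaf [(2,1),(3,2),(4,3),(5,2),(6,3),(10,10),(13,10),(14,1),(15,4),(16,2),(18,4),(19,1),(21,9),(22,3),(23,5),(24,8),(25,2),(26,5),(29,5),(33,3),(36,3),(37,3),(39,5),(41,3),(43,3),(44,3),(45,8),(50,3),(51,3),(53,6),(54,5),(55,1),(56,9),(57,5),(58,9),(59,2),(60,8),(61,5),(64,3),(65,3),(67,8),(68,5),(69,3),(70,3),(71,3),(72,3),(73,5),(74,8),(77,8),(78,9),(79,4),(80,2),(81,6),(82,4),(85,4),(89,9),(92,9),(93,9),(95,4),(97,9),(99,9),(100,9),(101,2),(105,5),(106,2),(107,2),(109,6),(110,7),(111,7),(112,10),(113,7),(114,8),(115,3),(116,9),(117,7),(120,2),(121,2),(123,9),(124,9),(125,2),(126,10),(127,2),(128,2),(129,7),(130,1),(131,4)]) (.leaf [(2,3),(3,3),(4,9),(5,9),(6,9),(15,1),(16,9),(18,7),(22,5),(23,5),(24,6),(25,4),(26,5),(29,1),(33,6),(35,1),(37,7),(38,6),(39,5),(43,1),(44,10),(45,10),(47,5),(51,7),(53,3),(54,4),(55,6),(56,1),(57,3),(58,7),(59,9),(60,7),(61,4),(63,3),(65,10),(66,7),(67,8),(68,10),(69,4),(70,10),(71,3),(72,8),(73,4),(74,7),(75,8),(78,5),(79,5),(80,6),(81,4),(82,5),(89,6),(91,1),(93,7),(94,6),(95,5),(99,1),(100,10),(101,10),(103,5),(109,2),(111,6),(112,1),(113,8),(114,7),(115,9),(124,10),(126,10),(130,7)]))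 
 (.node (.leaf [(3,1),(4,1),(5,3),(7,3),(13,10),(14,1),(15,10),(17,1),(18,2),(19,2),(20,1),(22,1),(23,6),(25,6),(28,7),(29,10),(30,9),(31,6),(35,10),(36,5),(37,5),(38,5),(40,5),(42,2),(44,6),(46,5),(47,5),(53,6),(57,3),(61,4),(63,3),(64,7),(65,7),(66,7),(69,8),(72,4),(75,4),(78,9),(79,10),(81,10),(84,6),(85,2),(86,7),(87,1),(91,2),(92,1),(93,1),(94,1),(96,1),(98,4),(100,10),(102,10),(103,9),(109,8),(113,6),(117,8),(119,6),(120,3),(121,3),(122,3),(125,5),(128,8),(131,8)]) (.leaf [(0,5),(1,6),(3,4),(4,9),(7,5),(10,6),(13,7),(14,4),(15,7),(17,4),(18,7),(19,2),(20,4),(21,4),(22,10),(23,8),(25,5),(28,8),(29,5),(30,2),(31,3),(35,1),(36,6),(37,6),(38,2),(40,3),(41,7),(42,9),(44,5),(46,8),(49,8),(50,3),(57,10),(61,5),(63,2),(64,1),(65,1),(66,4),(69,9),(72,10),(75,7),(79,8),(84,3),(86,10),(87,4),(96,3),(98,1),(102,7),(103,1),(105,4),(106,7),(113,5),(117,10),(119,1),(120,6),(121,6),(122,2),(125,10),(128,5),(131,9)]))))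 
 (.node 
 (.node 
 (.node (.leaf [(2,8),(3,5),(5,8),(6,10),(7,7),(10,9),(11,2),(12,2),(13,7),(14,5),(15,2),(16,6),(17,9),(18,5),(19,8),(20,2),(23,5),(24,1),(26,2),(27,4),(28,7),(29,9),(30,6),(31,6),(32,6),(33,3),(36,3),(37,3),(38,9),(39,4),(40,2),(41,9),(42,8),(43,8),(44,6),(45,4),(46,1),(47,9),(48,8),(50,1),(51,4),(52,8),(53,4),(54,10),(56,5),(57,1),(58,2),(59,6),(60,5),(61,3),(64,4),(65,4),(66,1),(67,9),(68,8),(70,2),(71,7),(72,8),(73,9),(74,6),(75,3),(76,4),(79,6),(80,10),(82,9),(83,7),(84,4),(85,2),(86,5),(87,5),(88,5),(89,8),(92,8),(93,8),(94,2),(95,7),(96,9),(97,2),(98,3),(99,3),(100,5),(101,7),(102,10),(103,2),(104,3),(106,5),(107,9),(108,7),(109,9),(110,6),(112,3),(113,5),(114,10),(115,8),(116,3),(117,4),(120,9),(121,9),(122,5),(123,1),(124,7),(126,10),(127,2),(128,7),(129,1),(130,8),(131,4),(132,9)]) (.leaf [(2,3),(3,6),(4,9),(5,6),(6,9),(10,8),(1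3,8),(14,3),(15,1),(16,6),(18,1),(19,3),(21,9),(22,6),(23,10),(24,5),(25,4),(26,10),(29,10),(33,6),(36,6),(37,6),(39,10),(41,6),(43,6),(44,6),(45,5),(49,5),(50,7),(51,7),(53,5),(54,8),(55,5),(56,3),(57,8),(58,1),(59,10),(60,4),(61,8),(64,7),(65,7),(67,4),(68,10),(69,7),(70,4),(71,7),(72,7),(73,8),(74,7),(75,4),(77,8),(78,6),(79,10),(80,5),(81,4),(82,10),(85,10),(89,6),(92,6),(93,6),(95,10),(97,6),(99,6),(100,6),(101,5),(105,8),(109,1),(111,5),(112,2),(114,1),(115,10),(124,1),(126,4),(130,7),(131,2)])) 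
 (.node (.leaf [(2,8),(5,3),(6,6),(7,8),(8,3),(9,8),(10,8),(12,8),(13,5),(14,6),(15,6),(16,3),(26,2),(28,9),(29,2),(33,2),(34,9),(37,9),(38,2),(39,2),(41,9),(44,9),(45,2),(50,9),(51,2),(53,9),(54,2),(56,7),(57,2),(59,3),(62,9),(65,9),(66,2),(67,4),(68,2),(72,9),(73,2),(76,8),(82,6),(84,5),(85,6),(89,6),(90,5),(93,5),(94,6),(95,6),(97,5),(100,5),(101,9),(106,6),(107,5),(109,6),(110,5),(112,7),(113,5),(115,10),(118,6),(121,6),(122,5),(123,4),(124,5),(128,6),(129,5),(132,1)]) (.leaf [(3,7),(4,7),(5,10),(7,10),(13,4),(14,7),(15,4),(17,7),(18,3),(19,3),(20,7),(22,9),(23,10),(25,10),(28,1),(29,2),(30,9),(31,6),(35,2),(36,1),(37,1),(38,1),(40,1),(42,2),(44,10),(46,5),(47,7),(53,9),(57,4),(61,9),(63,4),(64,2),(65,2),(66,2),(69,7),(72,9),(75,9),(84,3),(86,1),(87,8),(98,10),(102,3),(103,10),(109,1),(113,2),(117,10),(119,2),(120,1),(121,1),(122,1),(125,9),(128,10),(131,10)])))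 
 (.node 
 (.node (.leaf [(2,1),(3,1),(4,3),(5,3),(6,3),(15,4),(16,3),(18,6),(22,8),(23,8),(24,3),(25,2),(26,8),(29,5),(33,3),(35,6),(37,9),(38,3),(39,8),(43,6),(44,5),(45,5),(47,8),(51,3),(53,9),(54,8),(55,10),(56,9),(57,7),(58,8),(59,4),(60,3),(61,8),(63,6),(65,9),(66,3),(67,5),(68,2),(69,8),(70,2),(71,6),(72,5),(73,8),(74,8),(75,5),(78,2),(79,2),(80,9),(81,6),(82,2),(85,7),(89,9),(91,7),(93,5),(94,9),(95,2),(99,7),(100,4),(101,4),(103,2),(107,2),(109,10),(110,9),(111,4),(112,8),(113,6),(114,1),(115,6),(116,2),(117,9),(119,4),(121,6),(122,2),(123,7),(124,3),(125,9),(126,3),(127,4),(128,7),(129,9),(130,1),(131,7)]) (.leaf [(2,3),(3,1),(4,9),(12,9),(15,3),(18,9),(19,9),(22,1),(23,9),(24,6),(25,4),(26,5),(29,6),(33,6),(35,5),(36,7),(37,2),(38,10),(39,5),(43,1),(44,6),(45,6),(47,1),(51,7),(53,9),(54,4),(55,6),(56,2),(57,7),(58,7),(59,5),(60,7),(61,5),(63,4),(64,10),(65,6),(66,8),(67,7),(68,4),(69,3),(70,10),(71,3),(72,7),(73,4),(74,7),(75,2),(76,4),(78,1),(79,9),(80,6),(81,4),(82,5),(85,6),(89,6),(91,5),(92,7),(93,1),(94,10),(95,5),(99,1),(100,6),(101,6),(103,1),(109,10),(111,6),(112,1),(114,7),(115,5),(121,8),(124,2),(126,10),(130,7),(131,3),(132,4)]))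 
 (.node (.leaf [(0,7),(1,4),(3,10),(4,6),(7,7),(10,4),(13,1),(14,10),(15,1),(17,10),(18,1),(19,5),(20,10),(21,9),(22,6),(23,5),(25,3),(28,9),(29,3),(30,2),(31,3),(35,5),(36,8),(37,8),(38,10),(40,6),(41,2),(42,9),(44,3),(46,8),(47,8),(49,6),(50,5),(57,2),(61,3),(63,7),(64,9),(65,9),(66,3),(69,4),(72,2),(75,8),(77,4),(78,10),(79,3),(81,5),(84,2),(85,5),(86,4),(87,6),(91,1),(92,6),(93,6),(94,2),(96,8),(97,7),(98,7),(100,5),(102,5),(103,9),(105,1),(106,10),(113,4),(117,2),(119,3),(120,7),(121,7),(122,6),(125,8),(128,4),(131,5)]) (.leaf [(0,5),(1,6),(2,5),(3,2),(4,1),(6,6),(7,10),(8,6),(9,5),(13,3),(14,8),(15,10),(17,7),(18,9),(19,3),(20,7),(21,4),(22,1),(23,6),(25,7),(26,7),(28,1),(29,2),(30,9),(31,3),(33,7),(34,4),(35,6),(36,1),(37,9),(38,1),(39,7),(40,1),(42,2),(44,6),(45,7),(46,8),(47,7),(49,8),(51,3),(54,3),(56,8),(57,4),(61,1),(62,8),(63,1),(64,2),(65,7),(66,2),(67,3),(69,2),(72,1),(73,3),(75,1),(78,8),(81,3),(84,3),(86,1),(87,4),(98,10),(102,7),(103,10),(105,4),(107,7),(110,7),(112,4),(113,2),(117,6),(118,4),(119,6),(120,1),(121,9),(122,1),(123,7),(125,3),(128,6),(129,7),(131,6)]))))))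 
 (.node 
 (.node 
 (.node 
 (.node 
 (.node 
 (.node (.leaf [(2,3),(3,10),(5,5),(6,6),(15,3),(16,5),(19,6),(22,10),(23,9),(24,6),(26,3),(27,2),(29,8),(30,2),(31,7),(32,5),(33,8),(35,9),(36,5),(37,6),(38,9),(39,4),(43,3),(44,2),(45,2),(46,9),(47,8),(51,7),(52,3),(53,8),(54,4),(55,2),(56,3),(57,7),(58,10),(59,10),(60,8),(61,1),(63,1),(64,3),(65,8),(66,1),(67,10),(68,3),(69,6),(70,1),(71,4),(72,10),(73,9),(74,10),(75,7),(78,1),(79,2),(80,5),(82,8),(83,9),(85,3),(86,9),(87,4),(88,6),(89,3),(91,2),(92,6),(93,5),(94,2),(95,7),(99,8),(100,9),(101,9),(102,2),(103,3),(107,2),(108,4),(109,7),(110,9),(111,10),(112,4),(113,2),(114,6),(115,6),(116,7),(117,5),(119,5),(120,4),(121,7),(122,5),(123,6),(124,4),(125,8),(126,5),(127,9),(128,6),(129,1),(130,6),(131,2)]) (.leaf [(2,5),(3,7),(4,7),(5,5),(10,5),(13,4),(14,7),(15,4),(16,5),(17,7),(18,9),(19,3),(20,1),(22,1),(23,10),(25,10),(29,6),(30,6),(33,7),(35,6),(36,5),(37,5),(38,5),(40,1),(41,4),(42,5),(44,6),(47,4),(50,8),(51,3),(53,3),(57,1),(61,9),(63,1),(64,10),(65,10),(66,10),(68,8),(69,2),(72,1),(75,7),(86,8),(98,3),(103,2),(106,4),(107,7),(109,7),(113,6),(117,10),(119,6),(120,5),(121,5),(122,5),(124,4),(125,1),(128,6)]))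 (.leaf [(2,2),(4,1),(10,1),(13,2),(14,9),(15,8),(17,1),(18,10),(19,2),(20,2),(22,5),(25,6),(26,10),(27,2),(30,9),(31,9),(32,5),(33,10),(35,1),(36,1),(37,1),(38,6),(39,5),(40,5),(41,6),(42,4),(43,6),(45,10),(47,6),(50,4),(51,3),(52,7),(54,3),(63,8),(64,8),(65,8),(66,4),(67,10),(69,7),(71,4),(73,7),(75,7),(78,1),(81,5),(82,2),(83,4),(84,5),(86,7),(87,7),(88,1),(89,2),(91,9),(92,9),(93,9),(94,10),(95,1),(96,9),(97,10),(98,8),(99,10),(101,4),(103,5),(106,8),(107,6),(108,3),(110,6),(119,5),(120,5),(121,5),(122,8),(123,5),(125,3),(127,8),(129,3),(131,3)])) 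
 (.node (.leaf [(0,8),(1,3),(2,10),(3,2),(5,3),(6,6),(7,8),(8,3),(9,8),(10,8),(13,8),(14,3),(15,2),(19,3),(21,9),(22,3),(23,5),(24,8),(26,5),(28,9),(29,8),(33,8),(34,9),(35,5),(36,2),(38,10),(39,5),(41,9),(43,5),(44,6),(45,8),(47,3),(49,9),(50,9),(51,8),(53,9),(54,5),(55,1),(56,7),(57,8),(59,2),(60,8),(61,5),(62,9),(63,7),(64,2),(66,10),(67,8),(69,3),(70,1),(71,5),(72,6),(73,5),(74,8),(75,8),(77,5),(78,9),(79,4),(80,2),(82,4),(84,5),(85,2),(89,2),(90,5),(91,7),(92,6),(94,8),(95,4),(97,5),(99,4),(100,7),(101,2),(103,9),(105,6),(106,6),(107,9),(109,8),(110,7),(111,7),(112,5),(113,9),(115,3),(116,9),(117,7),(118,6),(119,6),(120,5),(122,3),(123,9),(124,2),(125,2),(126,7),(127,7),(128,4),(129,7),(130,1),(131,9)]) (.leaf [(3,8),(5,3),(6,9),(10,5),(12,2),(13,5),(14,6),(15,9),(16,3),(18,8),(19,8),(22,6),(23,6),(24,9),(26,10),(35,5),(36,5),(37,1),(38,6),(39,10),(41,1),(43,8),(44,7),(45,5),(47,5),(50,3),(53,9),(54,8),(55,9),(56,3),(58,10),(59,6),(60,5),(61,7),(63,4),(64,4),(65,3),(66,7),(67,4),(68,6),(69,7),(70,10),(71,2),(72,10),(73,8),(75,9),(76,7),(78,6),(79,6),(80,9),(82,10),(91,5),(92,5),(93,1),(94,6),(95,10),(97,1),(99,7),(100,7),(101,5),(103,5),(109,1),(111,9),(112,2),(114,10),(115,6),(124,1),(126,10),(127,8),(131,1),(132,7)])))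 
 (.node 
 (.node (.leaf [(2,6),(3,3),(5,8),(7,8),(10,3),(11,2),(12,2),(15,5),(17,3),(19,5),(20,2),(22,10),(23,3),(24,8),(27,6),(28,8),(29,5),(30,4),(31,6),(32,6),(33,5),(35,9),(36,3),(37,9),(38,6),(39,3),(40,8),(41,3),(42,8),(43,6),(44,2),(45,5),(46,6),(47,5),(48,8),(50,4),(51,3),(52,8),(53,4),(55,4),(57,3),(58,3),(59,3),(60,7),(61,4),(63,1),(64,4),(65,1),(66,8),(67,3),(69,6),(70,3),(71,8),(72,10),(73,4),(74,3),(75,7),(76,4),(78,1),(79,8),(80,3),(83,5),(84,3),(85,6),(86,7),(87,5),(88,5),(89,6),(91,2),(92,8),(93,2),(94,5),(95,8),(96,3),(97,8),(98,3),(99,5),(100,9),(101,6),(102,5),(103,6),(104,3),(106,9),(107,4),(108,7),(109,9),(111,9),(113,4),(114,4),(115,4),(116,2),(117,9),(119,5),(120,9),(121,5),(122,7),(123,4),(125,8),(126,4),(127,7),(128,6),(129,9),(130,4),(131,2),(132,9)]) (.leaf [(2,1),(3,3),(4,9),(6,2),(8,2),(9,9),(12,7),(13,7),(14,4),(15,5),(18,7),(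19,9),(22,1),(23,5),(24,2),(25,4),(26,5),(27,10),(29,10),(32,4),(33,2),(34,4),(35,5),(37,4),(38,6),(39,1),(43,5),(44,10),(45,6),(47,1),(51,6),(52,1),(53,9),(54,4),(55,6),(56,8),(57,8),(58,3),(59,9),(60,6),(61,4),(62,1),(63,4),(65,1),(66,7),(67,7),(68,9),(69,3),(70,6),(71,4),(72,8),(73,3),(74,7),(75,8),(76,8),(78,1),(79,5),(80,2),(81,4),(82,5),(83,9),(85,10),(88,4),(89,2),(90,4),(91,5),(93,4),(94,6),(95,1),(99,5),(100,10),(101,6),(103,1),(109,10),(111,6),(112,9),(114,3),(115,9),(124,10),(126,6),(130,7),(132,8)])) 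
 (.node (.leaf [(0,7),(1,4),(2,8),(3,1),(4,7),(5,7),(7,7),(10,6),(11,7),(15,10),(18,7),(19,3),(20,2),(21,9),(23,6),(25,9),(26,5),(27,1),(28,9),(29,8),(30,8),(31,2),(32,8),(33,7),(35,5),(38,8),(39,6),(41,3),(42,4),(43,3),(44,8),(45,5),(46,5),(47,8),(48,3),(49,6),(50,2),(51,8),(52,9),(53,5),(54,7),(57,9),(61,4),(63,7),(66,9),(67,7),(71,2),(72,9),(73,4),(75,2),(77,4),(79,10),(81,7),(82,1),(83,2),(84,10),(85,6),(86,5),(87,4),(88,6),(89,10),(91,1),(94,6),(95,10),(96,3),(97,5),(98,8),(99,5),(100,6),(101,1),(102,10),(103,6),(104,6),(105,1),(106,4),(107,1),(108,7),(109,10),(110,3),(113,7),(117,8),(119,3),(122,7),(123,3),(127,4),(128,7),(129,8),(131,4)]) (.leaf [(2,4),(3,7),(4,10),(8,5),(9,6),(10,7),(13,8),(14,3),(15,3),(17,4),(18,7),(19,2),(20,6),(22,6),(23,10),(25,10),(26,10),(27,2),(28,5),(29,6),(30,10),(31,1),(32,5),(33,10),(34,7),(35,7),(36,6),(37,2),(38,7),(39,9),(40,9),(41,10),(42,8),(43,6),(44,10),(45,6),(46,8),(47,5),(50,9),(51,9),(52,10),(54,9),(57,1),(59,1),(61,9),(62,3),(63,3),(64,1),(65,4),(66,3),(67,1),(69,1),(71,1),(72,9),(73,7),(75,8),(81,7),(83,10),(84,1),(86,6),(87,5),(96,2),(98,7),(102,7),(103,1),(106,10),(107,10),(108,5),(110,10),(113,6),(115,8),(117,10),(118,7),(119,7),(120,6),(121,2),(122,7),(123,6),(125,6),(127,6),(128,10),(129,9),(131,4)]))))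 
 (.node 
 (.node 
 (.node (.leaf [(2,8),(3,5),(5,8),(6,5),(7,2),(10,9),(11,7),(12,5),(15,8),(16,6),(17,9),(19,3),(20,5),(23,5),(24,7),(26,2),(27,9),(28,2),(29,3),(30,7),(32,1),(33,3),(36,3),(37,8),(38,3),(39,10),(40,2),(41,9),(42,9),(43,8),(45,9),(46,2),(47,3),(48,2),(50,1),(51,4),(52,5),(53,4),(54,10),(55,8),(56,8),(57,4),(58,10),(59,1),(60,2),(61,3),(64,4),(65,7),(66,4),(67,1),(68,8),(70,10),(71,7),(73,6),(74,1),(76,10),(79,6),(80,4),(82,9),(83,2),(84,9),(85,8),(86,4),(88,10),(89,8),(92,8),(93,3),(94,8),(95,1),(96,9),(97,2),(98,2),(99,3),(101,2),(102,9),(103,8),(104,9),(106,5),(107,9),(108,3),(109,9),(110,6),(111,7),(112,7),(113,9),(114,6),(115,5),(116,10),(117,4),(120,9),(121,2),(122,9),(123,5),(124,7),(126,6),(127,2),(129,8),(130,5),(132,6)]) (.leaf [(2,7),(3,1),(4,1),(5,7),(10,7),(13,10),(14,1),(15,10),(16,7),(17,1),(18,6),(19,2),(20,8),(22,5),(23,6),(25,6),(29,8),(30,6),(33,2),(35,8),(36,3),(37,3),(38,3),(40,5),(41,9),(42,5),(44,8),(47,3),(50,6),(51,5),(53,5),(57,9),(61,4),(63,9),(64,2),(65,2),(66,2),(68,6),(69,7),(72,9),(75,10),(78,1),(79,10),(81,10),(85,6),(86,1),(89,7),(91,6),(92,5),(93,5),(94,5),(96,1),(97,4),(98,10),(100,6),(106,1),(107,10),(109,10),(113,7),(117,8),(119,7),(120,4),(121,4),(122,4),(124,1),(125,3),(128,7),(131,5)]))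 
 (.node (.leaf [(3,10),(5,1),(6,3),(10,9),(12,8),(13,9),(14,2),(15,3),(16,1),(18,10),(19,10),(22,3),(23,3),(24,10),(26,5),(35,8),(36,8),(37,6),(38,3),(39,5),(41,6),(43,3),(44,9),(45,8),(47,8),(50,6),(53,3),(54,5),(55,4),(56,9),(58,2),(59,10),(60,10),(61,3),(63,8),(64,8),(65,6),(66,3),(67,8),(68,8),(69,3),(70,2),(71,5),(72,9),(73,5),(75,3),(76,8),(78,9),(79,9),(80,8),(82,4),(91,2),(92,2),(93,7),(94,9),(95,4),(97,7),(99,1),(100,5),(101,2),(103,2),(106,4),(109,4),(110,7),(111,6),(112,10),(114,3),(115,4),(116,3),(117,2),(119,9),(120,9),(121,4),(122,2),(123,9),(125,2),(126,3),(127,1),(128,6),(129,7),(131,4),(132,1)]) (.leaf [(0,5),(1,6),(2,1),(3,7),(4,5),(5,5),(7,5),(10,9),(11,5),(15,4),(18,5),(19,10),(20,3),(21,4),(23,10),(25,9),(26,1),(27,1),(28,3),(29,6),(30,8),(31,2),(32,6),(33,4),(35,1),(38,6),(39,10),(40,5),(41,5),(42,4),(43,5),(44,6),(45,1),(46,5),(47,6),(48,3),(49,8),(50,10),(51,8),(52,1),(53,3),(54,2),(57,1),(61,9),(63,2),(66,1),(67,2),(71,10),(72,1),(73,9),(75,10),(81,1),(83,5),(84,2),(86,7),(87,10),(89,8),(96,1),(98,9),(102,3),(104,4),(105,4),(106,5),(107,6),(108,6),(109,7),(110,1),(113,6),(117,10),(119,1),(122,6),(123,1),(127,5),(128,6),(129,10),(131,5)])))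 
 (.node 
 (.node (.leaf [(2,4),(3,1),(4,3),(6,8),(8,8),(9,3),(12,6),(13,6),(14,5),(15,9),(18,6),(19,3),(22,6),(23,8),(24,1),(25,2),(26,8),(27,4),(29,5),(32,2),(33,1),(34,2),(35,8),(37,2),(38,3),(39,6),(43,8),(44,5),(45,3),(47,6),(51,1),(52,2),(54,8),(55,10),(56,2),(57,5),(58,5),(59,4),(60,1),(61,8),(62,2),(63,8),(65,2),(66,3),(67,3),(69,6),(70,10),(71,8),(72,5),(73,6),(74,8),(75,5),(76,6),(78,7),(79,2),(80,3),(81,6),(82,2),(83,4),(85,4),(88,6),(89,3),(90,6),(91,2),(93,6),(94,9),(95,7),(99,2),(100,4),(101,9),(103,7),(107,8),(108,5),(109,9),(110,9),(111,4),(112,1),(113,7),(114,2),(115,6),(116,8),(117,9),(118,5),(119,9),(121,5),(122,2),(123,2),(124,9),(125,4),(126,4),(127,9),(128,7),(129,4),(130,1),(131,7),(132,9)]) (.leaf [(0,2),(1,9),(2,8),(3,6),(5,9),(6,7),(7,2),(8,9),(9,2),(10,2),(13,2),(14,9),(15,6),(19,9),(21,7),(22,6),(23,10),(24,5),(26,10),(28,7),(29,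5),(33,5),(34,7),(35,1),(36,4),(38,9),(39,10),(41,7),(43,10),(44,1),(45,5),(47,6),(49,10),(50,10),(51,4),(53,1),(54,8),(55,5),(56,2),(57,4),(59,10),(60,4),(61,8),(62,10),(63,3),(64,1),(66,5),(67,4),(68,2),(69,7),(70,5),(71,8),(72,3),(73,8),(74,7),(75,4),(77,7),(78,6),(79,10),(80,5),(82,10),(84,7),(85,5),(89,5),(90,7),(92,4),(94,9),(95,10),(97,7),(99,10),(100,1),(101,5),(103,6),(109,1),(111,5),(112,2),(115,10),(119,8),(124,1),(126,5),(130,7)])) 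
 (.node (.leaf [(2,10),(3,1),(4,3),(8,7),(9,4),(10,1),(13,9),(14,2),(15,2),(17,10),(18,1),(19,5),(20,4),(22,8),(23,6),(25,7),(26,6),(27,2),(29,8),(30,10),(31,1),(32,3),(33,6),(34,2),(35,2),(36,8),(37,10),(38,2),(39,1),(40,6),(41,6),(42,8),(43,8),(44,6),(45,8),(46,8),(50,4),(51,4),(52,2),(54,4),(57,9),(61,4),(62,5),(63,5),(64,9),(65,3),(66,5),(67,9),(69,9),(71,9),(72,4),(73,8),(75,6),(78,6),(79,10),(81,7),(82,10),(83,4),(84,3),(85,6),(86,9),(87,2),(88,5),(89,10),(90,7),(91,7),(92,6),(93,2),(94,7),(95,9),(96,5),(97,10),(98,5),(99,6),(100,10),(101,6),(102,5),(103,3),(106,8),(107,8),(108,4),(110,8),(113,7),(115,7),(117,8),(118,10),(119,10),(120,7),(121,6),(122,10),(123,7),(125,7),(127,7),(128,8),(129,5),(131,1)]) (.leaf [(2,3),(4,7),(10,7),(13,3),(14,8),(15,1),(17,7),(18,4),(19,3),(20,3),(22,1),(25,9),(26,2),(27,2),(28,1),(30,9),(31,9),(32,1),(33,2),(35,9),(36,9),(37,9),(38,10),(39,1),(40,7),(41,10),(42,4),(43,10),(45,9),(47,9),(50,9),(51,4),(52,2),(54,4),(63,7),(64,7),(65,7),(66,9),(67,7),(69,2),(71,9),(73,2),(75,2),(81,2),(83,10),(84,9),(86,1),(87,1),(96,10),(98,9),(101,8),(103,2),(106,10),(107,2),(108,1),(110,2),(119,9),(120,9),(121,9),(122,10),(125,1),(127,10),(129,1),(131,1)])))))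 
 (.node 
 (.node 
 (.node 
 (.node (.leaf [(2,8),(3,8),(6,5),(7,7),(10,6),(11,7),(12,7),(15,8),(16,6),(17,6),(20,7),(23,8),(26,8),(27,8),(28,6),(29,2),(30,4),(31,10),(32,6),(33,3),(35,8),(38,2),(39,2),(40,5),(41,6),(42,6),(43,8),(44,3),(45,8),(46,8),(47,3),(48,6),(50,8),(51,4),(52,8),(54,7),(55,3),(56,8),(57,10),(58,4),(59,2),(61,7),(63,7),(66,10),(67,7),(68,8),(70,4),(71,7),(72,4),(73,10),(74,4),(75,7),(76,3),(79,3),(82,3),(83,3),(84,5),(85,9),(86,7),(87,1),(88,5),(89,8),(91,3),(94,9),(95,9),(96,6),(97,5),(98,5),(99,3),(100,8),(101,3),(102,3),(103,8),(104,5),(106,7),(107,9),(108,7),(110,2),(111,4),(112,7),(113,6),(114,9),(115,10),(117,2),(119,2),(122,6),(123,2),(124,7),(126,9),(127,2),(128,9),(129,6),(130,9),(131,2),(132,4)]) (.leaf [(2,5),(4,6),(7,7),(10,6),(11,4),(13,1),(14,10),(15,4),(17,6),(18,5),(19,5),(20,1),(22,6),(25,3),(26,5),(27,4),(28,9),(30,2)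,(31,10),(32,10),(33,3),(35,8),(36,8),(37,6),(38,3),(39,8),(40,8),(41,3),(42,2),(43,5),(44,9),(45,5),(47,3),(48,8),(50,2),(51,2),(52,3),(54,7),(63,9),(64,9),(65,4),(66,2),(67,7),(69,4),(71,3),(72,6),(73,9),(75,9),(78,10),(81,8),(82,1),(83,8),(84,10),(86,4),(87,9),(88,2),(89,5),(91,6),(92,6),(93,10),(94,5),(95,6),(96,9),(97,5),(98,4),(99,3),(100,4),(101,1),(103,8),(104,5),(106,4),(107,4),(108,6),(110,3),(119,7),(120,7),(121,8),(122,4),(123,3),(125,8),(127,2),(128,1),(129,7),(131,7)])) 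
 (.node (.leaf [(3,4),(5,2),(10,2),(13,7),(14,4),(15,6),(16,2),(18,4),(19,9),(22,6),(23,10),(24,5),(26,10),(35,1),(36,1),(37,1),(38,6),(39,8),(41,5),(43,6),(45,5),(47,5),(50,5),(53,6),(54,10),(55,2),(58,9),(59,9),(60,5),(61,10),(63,1),(64,1),(65,1),(66,6),(67,5),(68,5),(69,6),(70,4),(71,6),(73,10),(75,6),(78,7),(79,8),(80,4),(82,8),(91,3),(92,3),(93,3),(94,7),(95,5),(97,4),(99,7),(101,4),(103,4),(106,7),(109,8),(110,3),(111,3),(112,7),(114,8),(115,8),(116,7),(117,3),(119,8),(120,8),(121,8),(122,4),(123,7),(124,5),(125,4),(126,6),(127,4),(129,8),(131,8)]) (.leaf [(2,6),(3,9),(4,9),(5,6),(10,6),(13,6),(14,5),(15,6),(16,6),(17,9),(18,1),(19,3),(22,7),(23,4),(25,4),(29,5),(33,1),(35,5),(36,6),(37,6),(38,6),(40,7),(41,10),(44,5),(47,7),(50,8),(51,3),(53,3),(57,4),(58,8),(61,1),(63,4),(64,7),(65,7),(66,7),(68,8),(69,10),(70,3),(72,4),(78,7),(79,4),(81,4),(85,5),(89,1),(91,5),(92,6),(93,6),(94,6),(96,7),(97,10),(100,5),(103,6),(114,8),(126,3),(131,2)])))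 
 (.node 
 (.node (.leaf [(0,8),(1,3),(2,2),(3,5),(4,3),(5,3),(6,3),(12,3),(15,2),(18,6),(19,3),(21,9),(22,3),(23,5),(24,8),(25,2),(26,5),(29,8),(33,6),(35,5),(38,8),(39,5),(43,3),(44,8),(45,6),(47,3),(49,9),(51,6),(53,9),(54,5),(55,1),(56,9),(57,8),(58,8),(59,2),(60,8),(61,7),(63,5),(66,8),(67,6),(69,3),(70,4),(71,3),(72,8),(73,5),(74,5),(75,8),(76,3),(77,5),(78,9),(79,7),(80,2),(81,6),(82,4),(85,2),(89,7),(91,4),(94,2),(95,4),(99,9),(100,2),(101,7),(103,9),(105,6),(107,4),(109,8),(110,7),(111,7),(112,10),(113,9),(114,1),(115,3),(116,9),(117,6),(119,7),(122,9),(123,4),(124,2),(125,2),(126,6),(127,2),(128,9),(129,7),(130,2),(131,9),(132,10)]) (.leaf [(2,6),(3,5),(5,7),(8,2),(9,9),(10,3),(13,1),(14,10),(15,10),(16,5),(18,8),(19,6),(22,1),(23,1),(24,6),(26,1),(29,5),(31,10),(33,1),(34,4),(35,4),(36,5),(37,9),(38,4),(39,5),(41,5),(43,5),(44,1),(45,2),(47,7),(50,4),(51,3),(53,1),(54,3),(55,10),(56,2),(57,4),(58,6),(59,5),(60,7),(61,3),(62,1),(63,1),(64,4),(65,5),(66,1),(67,6),(68,7),(69,3),(70,7),(71,4),(72,3),(73,4),(74,7),(75,2),(78,1),(79,1),(80,6),(82,1),(85,5),(87,9),(89,1),(90,4),(91,4),(92,5),(93,9),(94,4),(95,5),(97,5),(99,5),(100,1),(101,2),(103,7),(109,7),(111,10),(112,1),(114,6),(115,5),(124,2),(126,7),(130,7),(131,1)]))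 
 (.node (.leaf [(2,6),(3,2),(5,7),(7,4),(8,7),(9,4),(10,1),(11,3),(13,8),(14,3),(15,1),(18,7),(19,3),(20,5),(23,1),(24,2),(26,8),(27,10),(28,2),(29,5),(30,5),(31,4),(32,1),(33,8),(34,2),(35,8),(37,2),(38,3),(39,3),(41,6),(42,10),(43,8),(44,5),(45,6),(46,8),(47,5),(48,6),(50,4),(51,9),(52,8),(53,5),(54,9),(57,7),(60,5),(61,8),(62,5),(63,9),(65,5),(66,2),(67,4),(71,9),(72,7),(73,2),(75,4),(79,9),(80,7),(81,8),(82,6),(83,9),(84,1),(85,1),(86,10),(87,8),(88,9),(89,6),(90,7),(91,6),(93,7),(94,5),(95,5),(96,8),(97,10),(98,9),(99,6),(100,1),(101,10),(102,5),(103,1),(104,1),(106,8),(107,7),(108,5),(109,10),(110,7),(111,7),(113,3),(116,10),(117,5),(118,10),(119,7),(121,10),(122,4),(123,8),(127,7),(128,3),(129,4),(131,8)]) (.leaf [(0,5),(1,6),(2,7),(3,2),(4,5),(6,6),(7,10),(8,6),(9,5),(10,9),(13,5),(14,6),(15,4),(18,5),(20,9),(21,4),(22,4),(23,6),(25,9),(26,1),(27,1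),(28,7),(29,6),(31,2),(32,6),(33,1),(34,4),(35,4),(36,7),(38,2),(39,6),(40,5),(41,5),(42,1),(43,1),(44,10),(45,1),(46,8),(47,6),(49,8),(50,10),(51,2),(52,1),(54,2),(56,8),(57,1),(61,1),(62,8),(63,8),(64,3),(66,4),(67,2),(69,8),(71,2),(72,9),(73,1),(75,10),(81,1),(83,5),(84,2),(87,10),(91,8),(96,1),(98,5),(102,7),(105,4),(106,5),(107,1),(108,6),(110,1),(112,4),(113,6),(117,6),(118,4),(119,6),(120,7),(122,2),(123,1),(125,4),(127,1),(128,10),(129,6),(131,5)])))) 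
 (.node 
 (.node 
 (.node (.leaf [(2,3),(3,3),(6,5),(7,5),(10,6),(15,4),(16,6),(17,6),(22,10),(23,3),(26,3),(27,9),(28,5),(29,8),(30,9),(32,6),(33,8),(35,3),(38,8),(39,8),(40,5),(41,6),(43,3),(44,8),(45,3),(46,2),(47,9),(50,8),(51,7),(52,8),(54,4),(56,8),(57,7),(58,10),(59,10),(61,4),(63,4),(66,7),(67,4),(68,8),(69,6),(70,1),(71,4),(72,7),(73,7),(74,1),(75,10),(78,1),(79,8),(82,8),(83,2),(84,6),(85,3),(86,2),(88,5),(89,3),(91,8),(94,3),(95,3),(96,6),(97,5),(99,8),(100,3),(101,8),(102,9),(103,2),(106,7),(107,2),(108,7),(110,9),(112,7),(113,2),(114,6),(115,6),(117,9),(119,9),(122,2),(123,9),(124,7),(125,8),(126,5),(127,9),(128,2),(129,2),(130,5),(131,6)]) (.leaf [(0,2),(1,9),(2,6),(3,4),(4,9),(5,9),(6,9),(12,9),(15,6),(18,7),(19,9),(21,7),(22,6),(23,1),(24,5),(25,4),(26,10),(29,5),(33,1),(35,10),(38,5),(39,10),(43,6),(44,5),(45,1),(47,6),(49,10),(51,3),(53,1),(54,8),(55,5),(56,3),(57,4),(58,7),(59,10),(60,4),(61,3),(63,8),(66,4),(67,3),(68,2),(69,7),(70,9),(71,7),(72,4),(73,8),(74,3),(75,4),(76,4),(77,7),(78,6),(80,5),(81,4),(82,10),(85,5),(89,1),(91,10),(94,5),(95,10),(99,6),(100,5),(101,1),(103,6),(109,1),(111,5),(112,2),(114,7),(115,10),(117,8),(124,1),(126,9),(130,3),(132,4)]))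 
 (.node (.leaf [(2,2),(3,3),(4,3),(5,2),(10,2),(13,2),(14,9),(15,2),(16,2),(17,3),(18,4),(19,1),(22,9),(23,2),(25,2),(29,8),(33,6),(35,8),(36,3),(37,3),(38,3),(40,9),(41,5),(44,8),(47,8),(50,5),(51,6),(53,6),(57,8),(58,6),(61,2),(63,8),(64,3),(65,3),(66,3),(68,5),(69,9),(70,5),(72,8),(75,3),(78,5),(79,6),(81,6),(85,2),(89,7),(91,2),(92,9),(93,9),(94,9),(96,5),(97,4),(100,2),(103,5),(106,7),(107,4),(109,4),(113,9),(114,9),(117,5),(119,9),(120,2),(121,2),(122,2),(124,7),(125,6),(126,2),(128,9),(131,6)]) (.leaf [(2,9),(3,3),(5,5),(7,6),(8,5),(9,6),(10,7),(11,10),(13,1),(14,10),(15,7),(18,5),(19,10),(20,2),(23,9),(24,7),(25,6),(26,6),(27,10),(28,8),(29,1),(30,5),(31,4),(32,9),(33,6),(34,7),(35,6),(37,7),(38,5),(39,5),(40,6),(41,10),(42,10),(43,6),(44,1),(45,10),(46,8),(47,1),(48,6),(50,9),(51,1),(52,7),(53,3),(54,1),(55,1),(57,2),(60,3),(61,7),(62,3),(63,1),(65,3),(66,10),(67,9),(71,1),(72,2),(73,10),(75,9),(81,10),(83,6),(84,9),(86,3),(87,9),(96,10),(98,6),(102,7),(104,8),(106,10),(107,6),(108,9),(109,7),(110,6),(111,8),(113,1),(116,7),(117,9),(118,7),(119,6),(121,7),(122,5),(123,10),(127,6),(128,1),(129,5),(131,10)])))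 
 (.node 
 (.node (.leaf [(2,2),(3,9),(5,6),(8,8),(9,3),(10,1),(13,4),(14,7),(15,7),(16,9),(18,10),(19,2),(22,6),(23,6),(24,3),(26,6),(29,8),(31,4),(33,6),(34,2),(35,2),(36,8),(37,10),(38,2),(39,8),(41,8),(43,8),(44,6),(45,1),(47,9),(50,8),(51,6),(53,7),(54,6),(55,2),(57,8),(58,10),(59,1),(60,3),(61,6),(62,2),(63,2),(64,8),(65,10),(66,2),(67,1),(68,6),(69,6),(70,8),(71,8),(72,6),(73,8),(74,8),(78,7),(79,7),(80,9),(82,7),(85,2),(87,4),(89,7),(90,6),(91,6),(92,2),(93,8),(94,6),(95,2),(97,2),(99,2),(100,7),(101,3),(103,5),(106,9),(107,4),(109,4),(110,4),(111,3),(112,2),(113,9),(114,4),(115,7),(116,2),(117,4),(118,5),(119,5),(120,9),(121,3),(122,5),(123,8),(124,8),(125,4),(126,1),(127,9),(128,4),(129,9),(130,1),(131,2)]) (.leaf [(3,1),(5,6),(10,6),(13,10),(14,1),(15,7),(16,6),(18,1),(19,5),(22,1),(23,9),(24,10),(26,9),(35,2),(36,2),(37,2),(38,1),(39,7),(41,10),(43,1),(45,10),(47,10),(50,8),(53,7),(54,5),(55,10),(56,7),(58,1),(59,1),(60,8),(61,5),(63,6),(64,6),(65,6),(66,3),(67,8),(68,6),(69,3),(70,9),(71,3),(73,10),(75,7),(78,1),(79,9),(80,10),(82,9),(91,2),(92,2),(93,2),(94,1),(95,6),(97,10),(99,1),(101,10),(103,10),(109,2),(111,10),(112,9),(114,1),(115,1),(124,10),(126,9),(129,8),(131,2)]))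 
 (.node (.leaf [(0,7),(1,4),(2,1),(3,5),(4,7),(6,4),(7,3),(8,4),(9,7),(10,6),(13,7),(14,4),(15,10),(18,7),(20,6),(21,9),(22,9),(23,8),(25,9),(26,5),(27,1),(28,7),(29,8),(31,2),(32,8),(33,5),(34,9),(35,7),(36,2),(38,10),(39,8),(41,3),(42,1),(43,5),(44,6),(45,5),(46,8),(47,8),(49,6),(50,2),(51,7),(52,9),(54,7),(56,6),(57,9),(61,9),(62,6),(63,8),(64,5),(66,3),(67,7),(69,6),(71,7),(72,4),(73,9),(75,2),(77,4),(78,4),(79,6),(81,7),(82,1),(83,2),(84,3),(85,6),(87,4),(88,6),(89,1),(90,4),(91,10),(92,7),(94,2),(95,6),(96,3),(97,5),(98,2),(99,1),(100,10),(101,1),(102,5),(103,6),(105,1),(106,4),(107,3),(108,7),(110,3),(112,1),(113,7),(117,7),(118,1),(119,1),(120,10),(122,6),(123,3),(125,1),(127,3),(128,8),(129,7),(131,4)]) (.leaf [(2,2),(4,9),(7,5),(10,9),(11,6),(13,7),(14,4),(15,6),(17,9),(18,2),(19,2),(20,7),(22,10),(25,10),(26,1),(27,4),(28,3),(30,2),(31,10),(32,2),(33,5),(35,6),(36,6),(37,10),(38,5),(39,6),(41,5),(42,2),(43,8),(44,4),(45,1),(47,10),(48,8),(50,10),(51,10),(52,4),(54,2),(63,1),(64,1),(65,9),(66,10),(67,2),(69,9),(71,5),(72,8),(73,1),(75,1),(81,1),(83,9),(84,2),(86,10),(87,6),(96,1),(98,10),(99,8),(103,1),(104,7),(106,5),(107,5),(108,2),(110,1),(119,6),(120,6),(121,10),(122,5),(123,1),(125,10),(127,10),(128,4),(129,6),(131,6)]))))))))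

def m5 : Rows := 
 (.node 
 (.node 
 (.node 
 (.node 
 (.node 
 (.node 
 (.node 
 (.node (.leaf [(0,2),(3,2),(7,2),(16,9),(21,7),(23,2),(24,9),(27,9),(28,2),(30,8),(33,7),(35,4),(36,3),(38,7),(40,4),(45,2),(46,3),(49,2),(51,2),(52,4),(55,1),(56,2),(57,4),(58,1),(59,10),(60,8),(63,9),(64,9),(66,2),(67,3),(70,1),(73,7),(74,10),(77,4),(79,7),(80,1),(83,5),(84,7),(85,3),(86,5),(88,3),(89,4),(91,7),(92,7),(94,4),(95,8),(96,7),(101,10),(102,6),(105,6),(107,6),(108,5),(111,4),(112,6),(113,5),(115,7),(116,9),(117,10),(119,5),(120,3),(122,6),(123,2),(124,1),(126,4),(129,6)]) (.leaf [(0,3),(1,2),(2,6),(4,4),(5,7),(6,6),(7,7),(8,6),(9,8),(10,6),(11,5),(12,9),(13,1),(14,2),(15,3),(16,1),(17,5),(18,3),(19,5),(20,6),(21,3),(22,8),(24,9),(25,8),(26,2),(28,4),(29,8),(30,9),(31,5),(32,10),(33,10),(34,3),(35,9),(36,6),(37,7),(38,8),(39,9),(40,10),(41,2),(42,2),(43,2),(44,10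),(45,5),(46,1),(48,5),(50,3),(51,3),(52,7),(53,4),(54,5),(55,10),(56,2),(57,5),(58,1),(59,9),(60,9),(62,2),(63,8),(64,6),(65,1),(66,1),(67,5),(68,9),(69,9),(70,8),(72,3),(73,5),(74,9),(75,8),(76,10),(77,10),(78,6),(80,1),(81,10),(82,9),(83,9),(84,3),(85,3),(86,7),(87,10),(88,5),(89,9),(90,9),(91,3),(92,5),(93,8),(94,1),(95,6),(96,2),(97,8),(98,8),(99,6),(100,5),(101,6),(103,10),(104,4),(105,10),(106,4),(107,5),(108,10),(109,9),(110,2),(111,6),(112,1),(113,3),(115,4),(118,1),(119,7),(120,6),(121,2),(122,1),(123,5),(124,1),(125,7),(126,2),(127,5),(128,2),(130,4),(131,7),(132,6)])) (.leaf [(0,7),(1,5),(2,4),(4,5),(5,1),(6,2),(7,4),(10,5),(11,3),(12,10),(13,10),(14,2),(15,5),(17,6),(19,1),(20,1),(21,6),(24,9),(25,4),(26,1),(27,6),(28,1),(30,7),(31,4),(33,6),(35,9),(36,9),(38,5),(40,4),(41,4),(42,1),(44,4),(45,7),(46,10),(47,5),(49,10),(50,4),(51,5),(54,3),(55,6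),(56,3),(58,5),(59,2),(60,1),(63,10),(64,3),(66,2),(70,2),(72,4),(74,1),(76,3),(77,3),(78,5),(79,5),(80,4),(81,5),(82,4),(83,4),(84,5),(85,1),(86,6),(87,6),(88,6),(89,4),(92,9),(93,5),(95,10),(96,2),(97,4),(98,7),(99,1),(100,4),(101,3),(102,7),(103,1),(104,4),(105,8),(106,8),(107,2),(108,1),(109,10),(110,9),(111,2),(113,2),(114,2),(115,7),(116,4),(117,7),(119,6),(120,4),(121,10),(122,4),(123,8),(124,2),(125,10),(126,2),(127,4),(128,8),(129,10),(130,1),(132,2)])) 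
 (.node (.leaf [(0,10),(2,1),(3,6),(4,10),(5,2),(6,6),(7,5),(8,4),(9,9),(10,8),(11,3),(12,3),(13,9),(14,7),(15,4),(16,7),(17,1),(19,4),(20,10),(21,4),(22,4),(23,4),(24,4),(25,1),(26,2),(27,3),(28,7),(29,9),(30,5),(31,1),(34,6),(35,9),(36,8),(37,9),(38,1),(40,3),(41,3),(42,4),(43,4),(44,5),(45,1),(46,3),(47,7),(48,5),(49,7),(50,6),(51,7),(52,4),(53,1),(54,2),(55,3),(58,6),(59,8),(60,4),(62,10),(63,9),(66,4),(67,10),(68,1),(70,6),(72,1),(74,9),(75,8),(76,1),(77,3),(78,8),(79,8),(80,5),(81,10),(83,5),(84,8),(87,8),(89,10),(90,7),(91,5),(92,7),(93,6),(94,4),(95,5),(96,10),(97,8),(98,8),(99,8),(101,8),(102,3),(103,7),(104,1),(105,2),(107,2),(108,6),(111,4),(112,9),(113,6),(114,8),(115,8),(116,9),(117,9),(119,9),(120,7),(121,8),(122,6),(123,2),(124,9),(125,9),(126,3),(127,9),(128,6),(129,9),(130,2),(131,3),(132,6)]) (.leaf [(4,9),(6,6),(7,9),(8,8),(9,1),(10,4),(1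1,8),(12,4),(13,6),(14,7),(15,10),(16,10),(17,4),(18,3),(19,5),(20,10),(24,4),(25,3),(26,5),(27,4),(28,2),(29,4),(30,2),(31,1),(33,3),(34,2),(35,7),(36,6),(37,2),(38,3),(39,2),(40,8),(41,10),(42,5),(43,7),(44,4),(45,10),(47,7),(48,3),(50,7),(51,8),(54,9),(56,4),(57,2),(58,4),(59,6),(62,2),(63,6),(64,1),(65,4),(66,3),(67,5),(68,1),(70,6),(71,10),(72,8),(74,4),(75,9),(76,2),(80,3),(81,2),(84,8),(85,5),(86,2),(87,3),(89,9),(90,8),(92,5),(93,2),(94,1),(95,10),(96,8),(98,9),(99,4),(100,7),(101,3),(103,10),(104,9),(106,5),(107,10),(109,8),(110,8),(112,8),(113,3),(114,5),(115,6),(116,3),(119,9),(120,1),(121,1),(123,10),(124,8),(126,8),(127,6),(128,8),(129,9),(130,9),(131,7),(132,2)]))) 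
 (.node 
 (.node (.leaf [(0,2),(1,4),(2,4),(3,2),(4,4),(5,2),(6,4),(7,2),(8,2),(9,4),(10,2),(11,9),(12,7),(15,2),(16,9),(17,2),(19,2),(20,9),(21,9),(22,2),(23,2),(24,5),(25,5),(26,9),(27,1),(28,2),(30,10),(31,4),(32,9),(33,9),(34,5),(35,10),(36,5),(37,9),(38,5),(40,9),(41,10),(42,1),(44,9),(45,3),(46,6),(48,1),(49,8),(50,9),(51,8),(52,4),(53,4),(54,8),(55,4),(56,8),(58,4),(59,4),(60,8),(62,9),(63,9),(64,10),(66,9),(67,7),(68,4),(69,7),(70,4),(72,7),(73,7),(74,4),(75,7),(76,4),(77,9),(78,4),(79,7),(80,10),(81,6),(82,9),(83,5),(84,7),(86,10),(88,7),(89,9),(90,6),(91,5),(92,2),(93,4),(94,6),(95,8),(96,2),(97,5),(98,5),(100,2),(101,1),(102,6),(104,5),(105,7),(106,1),(107,7),(108,6),(109,5),(110,7),(111,4),(112,7),(114,4),(115,4),(116,7),(117,10),(118,10),(119,1),(120,2),(121,1),(122,10),(123,6),(124,6),(125,5),(126,4),(128,4),(129,6),(131,4)]) (.leaf [(0,10),(1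,6),(3,8),(4,10),(5,4),(6,6),(7,6),(8,9),(9,5),(10,5),(11,8),(12,2),(13,5),(14,3),(15,5),(16,10),(17,7),(18,3),(19,5),(20,5),(21,1),(23,3),(24,10),(25,2),(26,5),(27,2),(28,5),(29,8),(30,2),(31,8),(32,7),(33,3),(34,7),(35,7),(36,7),(37,10),(38,7),(39,2),(40,8),(41,9),(42,7),(44,6),(45,8),(46,2),(47,3),(48,3),(49,2),(50,5),(51,8),(52,10),(53,7),(54,9),(55,9),(56,4),(57,9),(58,6),(60,5),(61,3),(62,1),(63,6),(64,3),(65,1),(66,3),(67,4),(68,1),(70,8),(72,9),(74,4),(75,4),(76,4),(77,10),(79,9),(80,4),(81,3),(83,5),(84,6),(86,2),(87,2),(88,4),(89,9),(90,6),(92,4),(93,4),(94,4),(95,10),(96,9),(97,1),(98,3),(100,1),(101,9),(102,6),(103,4),(104,9),(105,2),(106,3),(107,10),(108,6),(109,1),(110,8),(111,1),(112,8),(113,7),(114,7),(116,8),(117,2),(118,3),(119,9),(120,3),(121,10),(122,3),(123,8),(124,8),(126,2),(128,10),(129,9),(130,1),(131,10),(132,1)])) 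
 (.node (.leaf [(0,6),(1,4),(2,7),(3,10),(4,4),(5,2),(6,8),(7,6),(8,9),(10,5),(11,7),(12,6),(14,2),(16,2),(17,7),(19,2),(20,5),(21,9),(22,3),(23,3),(24,6),(25,4),(27,1),(28,4),(29,1),(30,6),(31,6),(33,6),(34,1),(36,3),(37,1),(38,4),(39,3),(40,9),(41,10),(42,4),(43,4),(44,3),(45,9),(46,3),(47,4),(48,5),(49,4),(50,6),(53,1),(54,2),(55,3),(56,7),(58,2),(59,6),(60,4),(62,2),(63,6),(64,1),(66,8),(67,5),(68,9),(70,4),(72,6),(75,8),(76,1),(77,4),(78,6),(79,6),(80,3),(82,3),(83,3),(84,3),(85,1),(86,3),(87,2),(89,2),(90,5),(91,2),(92,1),(93,9),(94,7),(95,10),(97,3),(98,5),(99,8),(100,8),(101,8),(102,3),(103,8),(104,10),(105,7),(106,7),(107,6),(109,2),(110,9),(111,4),(112,5),(113,1),(114,9),(115,3),(116,4),(117,4),(118,2),(119,10),(120,7),(123,5),(124,7),(125,4),(126,5),(127,9),(129,9),(130,1),(131,7),(132,9)]) (.leaf [(0,2),(1,3),(2,2),(3,8),(4,10),(5,10),(6,10),(7,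5),(8,4),(9,3),(10,8),(11,4),(12,9),(13,10),(14,6),(16,2),(17,10),(18,9),(19,8),(20,1),(21,4),(22,5),(23,3),(24,9),(25,10),(26,1),(27,1),(28,6),(29,2),(30,2),(31,5),(32,8),(33,5),(34,1),(35,10),(36,7),(37,4),(38,3),(39,10),(40,9),(41,6),(42,7),(43,2),(46,7),(47,8),(48,5),(49,4),(50,7),(51,6),(52,9),(53,1),(54,3),(55,4),(56,1),(57,5),(59,10),(60,9),(61,2),(62,7),(63,7),(65,10),(66,2),(67,4),(68,1),(69,7),(70,4),(72,1),(73,1),(74,5),(75,10),(76,10),(77,9),(78,1),(79,5),(80,1),(81,3),(83,8),(85,7),(86,8),(87,3),(88,6),(89,1),(90,4),(91,1),(93,3),(95,6),(96,8),(97,6),(98,8),(99,6),(100,9),(101,7),(102,2),(103,10),(104,7),(106,4),(107,4),(108,7),(109,3),(110,10),(111,3),(112,2),(113,10),(114,5),(115,6),(117,4),(118,2),(119,10),(120,4),(121,9),(122,8),(123,8),(124,7),(125,3),(127,5),(128,4),(129,4),(130,9),(131,5),(132,6)])))) 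
 (.node 
 (.node 
 (.node (.leaf [(1,8),(3,1),(4,7),(5,10),(6,9),(7,1),(9,10),(10,10),(11,1),(12,3),(15,10),(17,10),(18,2),(19,2),(20,2),(21,10),(22,7),(23,1),(24,4),(25,7),(26,6),(27,2),(28,1),(30,5),(31,6),(32,1),(33,1),(35,10),(36,3),(38,3),(39,2),(40,1),(41,7),(42,9),(43,2),(44,2),(45,9),(46,5),(47,9),(48,5),(49,2),(50,2),(51,8),(52,9),(53,9),(54,5),(56,9),(57,4),(58,3),(59,3),(60,10),(62,6),(63,10),(64,7),(65,9),(66,1),(67,2),(69,4),(70,4),(71,7),(72,4),(73,5),(74,3),(75,2),(76,9),(77,5),(79,9),(80,10),(82,9),(83,9),(84,9),(85,3),(86,3),(87,6),(88,2),(89,8),(90,5),(91,10),(92,6),(93,4),(94,8),(95,8),(96,10),(97,10),(99,4),(100,2),(101,4),(102,4),(103,4),(104,3),(105,9),(106,10),(107,5),(108,8),(109,3),(110,6),(111,10),(112,8),(113,5),(114,3),(115,3),(116,9),(117,5),(118,8),(119,10),(120,2),(121,3),(122,6),(123,10),(125,7),(126,7),(127,5),(128,6),(129,8),(131,10),(132,2)])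 (.leaf [(1,2),(2,2),(4,10),(5,2),(6,3),(7,2),(8,3),(9,7),(10,6),(11,5),(13,3),(14,7),(15,4),(17,2),(18,1),(19,7),(20,5),(21,4),(24,2),(25,5),(27,5),(28,6),(30,9),(31,8),(33,10),(34,4),(35,8),(36,4),(38,9),(40,7),(41,3),(42,8),(44,6),(45,7),(47,1),(50,7),(51,7),(54,1),(55,9),(56,10),(58,4),(59,8),(60,10),(62,10),(63,4),(64,5),(66,1),(67,6),(70,7),(72,7),(74,8),(75,4),(76,9),(77,7),(78,1),(80,7),(81,9),(82,4),(83,7),(84,6),(86,8),(87,2),(88,5),(89,4),(90,4),(92,7),(93,5),(94,7),(95,5),(99,10),(100,6),(101,4),(102,3),(103,7),(104,1),(105,1),(106,2),(107,1),(108,7),(109,9),(110,3),(111,4),(113,3),(114,9),(115,9),(116,7),(119,9),(120,9),(121,10),(122,10),(123,2),(124,1),(125,2),(126,3),(127,10),(128,7),(129,8),(130,9),(131,9),(132,4)])) 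
 (.node (.leaf [(2,6),(4,9),(6,10),(7,9),(8,1),(9,5),(10,8),(11,7),(12,3),(13,10),(14,6),(15,7),(16,6),(17,2),(19,9),(20,10),(24,3),(25,9),(26,9),(27,4),(28,6),(29,1),(30,1),(31,5),(33,6),(34,10),(35,6),(36,6),(37,1),(38,4),(39,4),(40,5),(41,7),(42,6),(43,1),(44,4),(45,8),(47,6),(48,4),(51,4),(56,6),(58,5),(59,9),(60,5),(62,6),(64,1),(66,9),(67,6),(70,9),(72,8),(74,2),(75,10),(80,5),(82,3),(83,10),(84,6),(85,1),(86,3),(87,5),(89,3),(90,3),(91,2),(92,5),(93,3),(94,10),(95,7),(96,1),(97,6),(98,9),(99,9),(100,7),(103,1),(104,4),(106,7),(107,4),(109,2),(110,9),(112,6),(113,1),(114,6),(115,6),(116,6),(118,7),(119,6),(121,9),(122,5),(123,3),(124,9),(126,2),(129,5),(130,10),(131,3),(132,3)]) (.leaf [(0,2),(1,2),(2,4),(3,2),(4,4),(5,4),(6,5),(7,5),(8,3),(9,5),(10,1),(11,3),(12,1),(13,5),(14,9),(15,3),(16,7),(17,4),(18,7),(19,6),(21,1),(22,9),(23,9),(24,3),(25,5),(2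6,5),(27,2),(28,6),(29,4),(30,4),(31,2),(33,7),(34,9),(35,2),(36,4),(37,7),(38,4),(39,5),(40,3),(41,2),(42,5),(43,1),(44,3),(45,5),(46,5),(47,1),(48,5),(50,2),(51,6),(53,7),(54,9),(55,6),(56,9),(57,2),(59,7),(60,8),(61,9),(62,8),(63,9),(64,6),(65,10),(66,8),(67,7),(68,10),(69,9),(70,2),(71,1),(72,6),(73,2),(74,4),(75,2),(77,9),(78,5),(79,5),(80,9),(81,7),(82,2),(83,2),(84,5),(85,5),(86,7),(87,3),(90,4),(91,2),(92,8),(93,4),(94,7),(95,10),(96,2),(97,8),(98,2),(99,3),(100,8),(101,2),(102,4),(103,3),(104,5),(105,9),(107,9),(109,10),(110,7),(111,8),(112,8),(113,3),(114,8),(115,7),(116,10),(117,6),(119,5),(120,3),(121,6),(122,8),(123,8),(124,1),(125,6),(126,4),(127,8),(128,6),(129,2),(130,1),(131,5),(132,10)]))) 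
 (.node 
 (.node (.leaf [(0,10),(1,8),(2,6),(3,7),(4,10),(6,10),(7,5),(8,10),(9,3),(10,9),(11,7),(12,2),(13,10),(14,10),(15,2),(16,6),(17,4),(18,3),(19,9),(20,4),(21,1),(23,1),(24,9),(25,8),(26,9),(27,5),(28,7),(29,1),(30,1),(31,7),(32,1),(33,6),(34,7),(35,6),(36,7),(38,7),(39,4),(40,2),(41,6),(44,10),(45,2),(46,10),(47,6),(48,4),(49,2),(50,9),(51,4),(55,10),(56,6),(58,3),(59,1),(62,8),(64,3),(66,3),(67,7),(70,7),(72,7),(74,10),(75,10),(76,1),(77,10),(79,2),(81,1),(82,3),(84,8),(85,8),(86,3),(87,7),(88,9),(89,3),(90,9),(91,2),(92,4),(93,1),(94,4),(95,7),(97,7),(98,9),(100,7),(102,10),(103,5),(104,4),(106,7),(107,4),(109,8),(110,9),(111,6),(112,6),(113,7),(114,6),(115,7),(116,7),(117,5),(118,7),(119,6),(121,4),(123,9),(124,9),(126,7),(128,5),(129,5),(130,5),(131,7),(132,8)]) (.leaf [(0,6),(1,9),(2,4),(3,10),(4,10),(5,5),(6,1),(7,6),(8,1),(9,2),(10,8),(11,9),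(12,8),(13,5),(14,8),(15,4),(16,4),(17,2),(18,1),(19,1),(20,9),(22,1),(23,1),(24,3),(25,1),(27,9),(28,5),(29,1),(30,2),(31,1),(32,2),(33,4),(34,4),(35,3),(36,9),(37,6),(38,5),(39,6),(40,9),(41,3),(43,1),(44,9),(45,6),(46,5),(47,6),(48,4),(49,1),(50,6),(51,9),(52,8),(53,6),(55,6),(56,8),(57,9),(58,9),(59,1),(60,5),(61,1),(62,8),(63,5),(64,5),(65,4),(66,2),(67,2),(68,7),(69,1),(70,7),(71,1),(72,10),(73,5),(75,7),(76,9),(77,3),(78,3),(79,3),(80,10),(81,10),(82,2),(83,1),(84,6),(85,9),(86,5),(88,7),(89,2),(90,9),(91,4),(92,3),(94,10),(95,9),(96,8),(97,8),(98,3),(99,3),(100,6),(101,10),(102,4),(103,2),(104,9),(105,9),(106,6),(107,10),(108,9),(109,8),(110,10),(111,8),(112,10),(113,3),(114,8),(115,1),(117,8),(118,7),(119,3),(120,2),(121,8),(122,1),(123,9),(124,5),(125,8),(126,7),(127,8),(128,9),(129,6),(130,3),(131,8),(132,8)])) 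
 (.node (.leaf [(0,8),(1,5),(2,5),(4,7),(5,5),(6,3),(7,7),(8,2),(9,3),(10,3),(11,8),(13,9),(14,4),(15,9),(17,10),(18,5),(19,7),(20,2),(21,7),(24,2),(25,6),(26,5),(27,4),(28,10),(30,4),(31,10),(34,7),(35,8),(36,4),(38,1),(40,9),(41,10),(42,9),(44,5),(45,3),(46,2),(47,2),(49,2),(50,9),(51,3),(54,4),(55,6),(56,8),(58,9),(59,9),(60,10),(62,9),(63,9),(64,7),(66,5),(67,3),(70,5),(72,6),(74,1),(75,6),(76,9),(77,8),(78,2),(79,10),(80,7),(81,5),(82,7),(83,8),(84,2),(85,3),(87,10),(88,1),(89,6),(91,10),(92,8),(93,6),(95,9),(96,5),(97,8),(98,4),(99,10),(100,7),(101,9),(102,3),(103,6),(104,7),(105,8),(106,10),(107,8),(108,2),(109,1),(110,8),(111,4),(112,6),(113,6),(114,9),(115,4),(116,7),(117,9),(118,1),(119,4),(120,1),(121,1),(122,2),(123,7),(124,9),(125,4),(126,3),(127,10),(128,9),(129,3),(130,4),(132,4)]) (.leaf [(0,2),(1,6),(2,10),(3,1),(4,10),(5,9),(6,4),(7,2),(10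,2),(11,7),(12,1),(13,5),(14,3),(15,10),(16,2),(17,7),(18,3),(19,2),(20,10),(21,1),(22,7),(23,10),(24,2),(25,3),(26,1),(28,9),(29,8),(30,7),(31,9),(32,4),(35,6),(36,7),(37,7),(38,10),(39,2),(41,6),(42,9),(43,6),(44,6),(45,6),(46,3),(47,7),(48,6),(49,9),(50,8),(51,10),(52,10),(53,2),(54,10),(55,8),(56,5),(57,9),(58,6),(59,1),(60,2),(61,7),(63,9),(64,5),(65,1),(67,4),(68,7),(69,1),(71,5),(72,8),(76,2),(78,8),(79,5),(80,10),(81,3),(82,1),(83,2),(84,6),(85,6),(86,9),(87,6),(88,3),(89,2),(91,2),(92,4),(93,8),(94,1),(95,6),(96,7),(97,4),(98,1),(99,8),(100,4),(101,4),(102,10),(103,7),(104,4),(105,10),(106,8),(107,7),(108,9),(109,10),(110,8),(111,10),(112,8),(113,7),(114,9),(115,5),(117,10),(119,1),(120,7),(121,2),(122,10),(123,8),(124,2),(125,2),(126,6),(127,9),(128,8),(129,5),(130,3),(132,7)]))))) 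
 (.node 
 (.node 
 (.node 
 (.node 
 (.node (.leaf [(1,8),(3,10),(4,9),(5,10),(6,9),(7,10),(8,9),(9,10),(10,10),(11,3),(12,1),(15,10),(17,10),(20,2),(21,10),(22,9),(23,10),(24,1),(25,4),(26,6),(27,2),(28,10),(30,5),(31,6),(32,1),(33,5),(34,1),(35,6),(36,3),(38,3),(39,2),(40,1),(41,6),(42,9),(43,2),(44,5),(45,4),(46,2),(48,2),(49,2),(50,1),(51,6),(52,9),(53,9),(54,6),(55,10),(56,7),(58,3),(59,3),(60,2),(62,7),(63,1),(64,6),(65,2),(66,1),(67,2),(69,4),(70,3),(71,7),(72,1),(73,9),(74,4),(75,1),(76,9),(77,5),(78,7),(79,2),(80,10),(82,5),(83,9),(84,2),(86,3),(87,6),(88,2),(89,4),(90,1),(91,3),(92,10),(93,7),(94,8),(96,10),(97,3),(99,4),(100,2),(101,5),(102,9),(104,8),(105,9),(106,5),(107,10),(108,8),(109,3),(110,9),(111,6),(112,2),(114,7),(115,7),(116,9),(117,6),(118,2),(119,5),(120,10),(121,8),(122,6),(123,8),(125,6),(126,7),(127,5),(128,6),(129,2),(130,4),(131,5),(132,9)])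 (.leaf [(0,10),(1,4),(2,5),(3,3),(4,9),(5,8),(6,5),(7,7),(8,3),(9,7),(10,8),(11,3),(12,4),(13,2),(14,1),(15,8),(16,9),(17,5),(18,5),(19,5),(20,9),(21,9),(22,10),(23,8),(24,4),(25,3),(26,6),(27,3),(28,4),(29,9),(30,9),(31,1),(32,7),(33,2),(34,2),(35,2),(36,3),(38,7),(39,5),(40,7),(41,3),(42,5),(43,6),(44,5),(45,4),(46,1),(47,4),(48,5),(49,9),(50,1),(52,1),(53,3),(54,7),(55,10),(56,9),(57,6),(58,10),(59,2),(60,4),(61,9),(63,3),(64,7),(66,4),(67,8),(68,4),(69,3),(70,8),(71,3),(72,8),(73,3),(74,3),(75,9),(76,7),(77,1),(78,2),(79,6),(80,9),(81,10),(82,4),(83,2),(84,5),(85,4),(86,9),(87,9),(88,8),(89,3),(91,8),(92,4),(94,3),(95,9),(96,8),(97,8),(98,10),(99,1),(100,5),(101,3),(104,8),(106,3),(107,3),(108,2),(109,4),(110,8),(111,6),(112,10),(113,1),(114,6),(115,10),(117,7),(118,9),(119,4),(122,9),(123,1),(124,9),(125,6),(126,5),(127,7),(128,7),(129,10),(130,1),(131,7),(132,2)]))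 (.leaf [(0,10),(1,9),(2,5),(4,1),(5,8),(6,4),(7,6),(9,10),(10,3),(11,9),(13,5),(14,9),(15,6),(16,5),(17,1),(18,4),(20,1),(21,6),(24,5),(25,1),(26,6),(28,7),(30,4),(31,9),(33,7),(34,7),(35,7),(38,10),(40,10),(41,4),(42,7),(44,1),(45,4),(46,10),(47,10),(49,8),(50,9),(51,2),(54,8),(55,4),(56,3),(58,10),(60,3),(62,8),(64,9),(66,8),(67,3),(70,3),(72,3),(74,7),(75,2),(77,10),(78,3),(79,5),(80,1),(81,4),(82,8),(84,4),(85,8),(86,9),(87,3),(89,8),(90,5),(91,1),(92,10),(93,6),(94,7),(96,7),(97,3),(98,2),(100,4),(101,6),(102,10),(103,1),(104,10),(105,10),(106,3),(107,8),(109,3),(110,6),(111,6),(112,5),(113,5),(114,6),(116,1),(117,10),(118,5),(119,4),(120,8),(121,1),(122,2),(123,6),(124,9),(125,6),(126,6),(128,9),(129,2),(130,5),(131,3)])) 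
 (.node (.leaf [(0,2),(1,10),(2,8),(3,1),(4,4),(5,1),(6,7),(8,6),(9,5),(10,4),(11,9),(12,4),(13,1),(14,10),(15,6),(16,10),(19,2),(20,10),(22,8),(23,8),(24,8),(25,4),(26,6),(27,2),(30,8),(31,2),(33,5),(34,1),(35,3),(36,3),(39,3),(41,5),(42,1),(43,8),(44,3),(45,3),(46,7),(48,6),(49,4),(50,6),(51,6),(53,6),(54,4),(55,7),(56,4),(58,7),(59,2),(60,1),(62,9),(63,1),(64,2),(67,4),(68,6),(70,2),(72,6),(74,10),(75,2),(76,1),(77,1),(78,5),(79,1),(80,2),(82,7),(83,6),(85,10),(86,4),(89,5),(90,2),(91,8),(92,8),(93,6),(97,5),(98,1),(99,5),(100,8),(101,9),(102,7),(104,4),(105,9),(106,2),(107,2),(109,2),(110,9),(111,2),(112,8),(113,7),(114,8),(115,10),(116,2),(117,2),(118,7),(119,2),(120,5),(121,2),(123,7),(125,7),(126,2),(127,7),(129,2),(130,8),(131,4),(132,3)]) (.leaf [(0,9),(1,5),(2,10),(3,7),(4,8),(5,7),(6,1),(7,6),(9,8),(10,8),(11,7),(12,8),(13,7),(14,7),(15,4),(17,7)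,(18,6),(19,8),(20,9),(21,6),(22,1),(23,4),(24,10),(25,5),(26,5),(28,5),(31,3),(32,7),(33,5),(34,6),(35,3),(36,7),(37,9),(38,7),(39,2),(40,8),(41,3),(43,9),(44,1),(45,7),(46,3),(47,3),(48,6),(49,2),(50,6),(52,10),(53,4),(54,10),(55,8),(56,8),(58,5),(59,5),(60,8),(61,4),(62,9),(63,5),(64,4),(65,7),(66,3),(67,4),(68,8),(69,1),(70,7),(71,9),(72,6),(73,4),(74,9),(75,5),(78,3),(79,1),(80,6),(81,3),(82,5),(83,7),(84,6),(87,5),(88,4),(89,1),(90,3),(91,4),(92,9),(93,9),(94,4),(95,2),(96,9),(97,8),(98,3),(99,5),(100,9),(101,9),(102,9),(103,4),(104,4),(105,3),(106,6),(107,1),(108,6),(110,5),(111,7),(112,10),(114,4),(115,5),(116,7),(117,10),(118,9),(119,3),(121,10),(122,3),(124,10),(125,8),(126,7),(127,6),(128,10),(129,1),(130,9),(131,6),(132,2)]))) 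
 (.node 
 (.node (.leaf [(4,9),(5,9),(7,2),(8,9),(9,2),(16,9),(18,2),(19,2),(22,9),(24,10),(25,5),(27,3),(28,2),(31,3),(32,2),(34,7),(35,4),(36,4),(38,7),(39,2),(40,4),(41,1),(42,2),(45,1),(46,5),(47,9),(50,1),(53,7),(54,10),(55,1),(56,2),(57,4),(59,10),(60,10),(62,1),(63,9),(64,10),(66,2),(67,2),(71,7),(72,1),(73,7),(74,10),(75,9),(78,4),(80,4),(81,10),(82,4),(83,6),(84,7),(85,3),(87,6),(88,7),(90,8),(91,7),(92,3),(94,4),(95,4),(96,7),(97,7),(98,6),(99,8),(100,7),(101,3),(102,1),(103,7),(106,5),(108,10),(109,6),(110,8),(111,8),(112,6),(113,5),(114,7),(115,7),(116,6),(118,3),(119,5),(120,8),(122,6),(123,8),(124,1),(125,1),(126,7),(127,6),(128,3),(129,5),(130,7),(131,3)]) (.leaf [(0,10),(1,10),(2,8),(3,10),(4,3),(5,3),(6,6),(7,3),(8,8),(9,8),(10,3),(11,3),(12,4),(13,1),(14,5),(15,10),(16,1),(17,7),(18,2),(19,3),(20,8),(21,5),(22,1),(23,1),(24,9),(25,7),(27,7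),(28,8),(29,7),(30,7),(31,4),(33,10),(34,3),(35,7),(36,10),(37,10),(38,10),(40,10),(41,5),(42,8),(43,9),(44,9),(45,9),(46,5),(48,7),(50,1),(51,5),(53,8),(54,1),(55,6),(56,4),(57,9),(58,4),(59,10),(60,6),(61,1),(62,5),(63,10),(64,2),(65,6),(66,1),(67,1),(68,7),(69,1),(70,6),(71,9),(72,4),(73,4),(74,7),(75,8),(76,9),(77,1),(78,3),(79,3),(80,7),(81,10),(82,5),(83,7),(84,3),(85,6),(86,4),(87,8),(89,10),(90,7),(91,4),(92,10),(93,5),(94,5),(95,3),(96,5),(97,7),(99,5),(100,9),(101,5),(102,3),(104,6),(105,1),(106,3),(107,1),(109,10),(110,8),(111,5),(112,2),(113,8),(114,8),(115,10),(116,5),(117,8),(118,7),(119,5),(120,8),(123,3),(124,2),(125,8),(126,4),(127,6),(128,5),(129,3),(130,10),(131,1)])) 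
 (.node (.leaf [(0,2),(1,6),(2,6),(4,5),(5,3),(6,5),(7,6),(8,3),(9,7),(10,3),(11,7),(12,10),(13,5),(14,9),(15,6),(17,1),(18,1),(19,9),(20,7),(21,9),(24,1),(25,3),(26,10),(27,2),(28,7),(30,5),(31,9),(32,4),(33,5),(34,4),(35,6),(36,2),(38,10),(40,10),(41,4),(42,8),(44,2),(45,5),(46,10),(47,6),(48,1),(49,6),(50,9),(51,1),(54,3),(55,4),(56,2),(58,9),(60,8),(62,10),(63,3),(64,10),(66,8),(70,2),(74,10),(75,4),(76,1),(78,10),(79,5),(80,1),(81,4),(82,8),(84,4),(85,1),(86,8),(87,3),(89,8),(90,4),(92,10),(93,10),(94,7),(96,7),(97,3),(98,8),(100,5),(101,7),(102,10),(103,1),(104,4),(105,4),(106,3),(107,3),(108,3),(109,3),(110,7),(111,6),(113,5),(117,10),(119,4),(120,2),(121,9),(122,2),(123,6),(125,9),(128,9),(129,2),(130,5),(131,9),(132,6)]) (.leaf [(0,6),(1,1),(2,4),(3,10),(4,9),(5,4),(6,6),(7,7),(8,10),(9,6),(10,6),(11,7),(12,2),(13,5),(14,7),(15,3),(16,10),(17,5),(1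8,5),(19,4),(20,6),(21,9),(22,8),(23,1),(24,6),(26,7),(27,3),(28,4),(29,2),(30,10),(31,4),(33,4),(34,5),(35,9),(36,6),(37,9),(38,8),(39,7),(40,10),(41,2),(42,2),(44,9),(45,5),(46,3),(47,10),(48,3),(49,6),(50,3),(51,5),(52,4),(53,7),(54,10),(55,8),(56,2),(57,9),(58,6),(59,4),(60,8),(61,8),(62,7),(63,8),(64,6),(65,10),(66,1),(67,5),(68,7),(69,9),(70,8),(71,2),(73,7),(74,4),(75,6),(76,4),(77,7),(78,6),(79,9),(80,8),(81,3),(82,1),(83,2),(84,3),(85,10),(86,6),(88,3),(89,7),(90,4),(91,3),(92,5),(93,7),(94,1),(95,7),(96,2),(97,8),(98,8),(99,7),(100,2),(101,6),(102,9),(103,1),(104,6),(105,10),(106,4),(107,4),(108,4),(109,4),(110,2),(111,2),(112,1),(113,3),(114,1),(115,3),(117,5),(118,9),(119,7),(120,6),(121,5),(122,1),(123,5),(124,4),(125,7),(126,2),(127,2),(128,9),(129,8),(130,7),(131,8),(132,3)])))) 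
 (.node 
 (.node 
 (.node (.leaf [(0,2),(1,1),(2,2),(3,5),(4,2),(5,5),(6,2),(7,5),(8,2),(9,1),(10,1),(11,6),(12,6),(13,4),(14,4),(15,1),(16,2),(17,1),(18,2),(20,7),(21,8),(22,8),(23,9),(24,9),(25,7),(26,5),(27,2),(28,9),(29,8),(30,7),(32,5),(33,6),(34,10),(35,9),(36,7),(37,6),(38,8),(39,6),(40,10),(41,5),(42,3),(43,8),(45,8),(46,7),(47,8),(48,10),(49,10),(50,10),(51,6),(52,7),(53,7),(54,5),(55,6),(56,6),(57,5),(58,1),(60,7),(61,5),(62,4),(63,8),(64,4),(65,3),(66,10),(67,10),(68,5),(69,1),(70,1),(71,5),(72,10),(73,10),(75,10),(76,5),(77,3),(78,4),(79,5),(80,9),(81,7),(82,6),(83,2),(84,5),(85,7),(86,2),(88,9),(89,3),(90,10),(91,4),(92,5),(93,4),(94,3),(95,1),(96,1),(97,8),(98,5),(99,7),(100,8),(101,2),(102,3),(103,4),(104,8),(105,5),(106,6),(107,4),(108,9),(109,2),(110,2),(111,2),(112,4),(113,5),(114,4),(116,5),(117,10),(118,9),(120,7),(121,9),(122,5),(123,8),(124,6),(126,4),(127,5),(128,7),(129,4),(130,4),(131,6),(132,9)])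 (.leaf [(0,7),(1,3),(2,5),(4,8),(5,7),(6,8),(7,2),(8,7),(9,8),(10,2),(11,1),(12,7),(13,10),(15,9),(17,9),(18,2),(19,9),(20,6),(21,2),(24,7),(25,8),(26,2),(27,4),(28,6),(31,4),(33,10),(34,9),(35,3),(36,5),(38,2),(40,5),(41,9),(42,4),(44,9),(45,2),(47,4),(48,2),(49,10),(50,6),(54,3),(55,9),(56,1),(58,9),(59,4),(60,2),(62,2),(63,7),(66,9),(67,10),(70,8),(72,6),(74,5),(75,4),(76,3),(77,7),(78,4),(79,1),(80,8),(81,7),(82,1),(83,2),(84,3),(85,8),(86,1),(87,10),(88,5),(89,1),(90,7),(92,7),(94,3),(95,1),(96,7),(97,3),(98,2),(99,6),(100,4),(101,10),(102,3),(103,5),(104,9),(105,7),(106,10),(107,8),(108,10),(109,4),(110,8),(111,4),(113,5),(114,4),(115,3),(116,8),(117,2),(118,5),(119,2),(120,6),(122,4),(123,2),(124,9),(125,8),(126,4),(127,10),(128,1),(129,5),(130,9),(131,2),(132,5)])) 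
 (.node (.leaf [(0,7),(1,6),(2,9),(3,2),(4,3),(5,10),(6,6),(7,5),(8,5),(9,4),(10,8),(11,4),(12,10),(13,9),(14,4),(15,4),(17,4),(18,3),(19,1),(20,10),(21,2),(22,4),(23,5),(24,3),(25,2),(26,4),(27,2),(28,7),(31,6),(32,1),(33,1),(34,1),(35,9),(36,2),(37,10),(38,7),(39,1),(40,2),(41,3),(42,4),(43,3),(44,4),(45,2),(46,4),(47,6),(48,4),(50,6),(51,9),(53,5),(54,9),(55,4),(58,7),(59,7),(60,10),(62,9),(63,9),(64,1),(66,3),(67,1),(68,1),(70,6),(72,10),(75,6),(76,10),(77,8),(78,8),(79,10),(80,9),(81,6),(82,6),(83,4),(84,8),(87,8),(88,9),(89,9),(90,7),(91,5),(92,7),(93,8),(94,4),(95,3),(97,8),(98,8),(99,6),(101,7),(102,4),(103,5),(105,2),(107,2),(109,6),(111,9),(112,9),(114,9),(115,7),(116,9),(117,3),(118,5),(119,9),(120,2),(121,2),(123,2),(124,9),(125,9),(126,3),(127,4),(128,1),(129,9),(130,8),(131,3)]) (.leaf [(0,3),(1,6),(2,5),(3,4),(4,6),(5,3),(6,10),(7,10),(8,6),(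9,8),(10,9),(11,2),(12,10),(13,9),(14,4),(15,3),(17,2),(18,6),(19,5),(20,4),(21,8),(22,3),(23,7),(24,9),(25,6),(26,9),(27,6),(28,1),(29,5),(30,7),(33,10),(34,3),(35,4),(36,4),(37,3),(38,10),(39,9),(40,10),(41,7),(42,1),(44,10),(45,3),(46,4),(47,6),(48,10),(49,2),(50,7),(51,2),(52,2),(53,8),(54,2),(55,7),(56,7),(57,3),(58,7),(60,6),(61,1),(62,2),(63,6),(64,8),(65,2),(66,1),(67,7),(69,2),(70,4),(72,5),(73,7),(74,10),(75,8),(76,1),(77,6),(78,5),(79,8),(80,5),(81,10),(82,1),(83,2),(85,9),(86,10),(87,7),(90,9),(91,5),(92,3),(93,5),(94,10),(95,2),(96,10),(97,2),(98,8),(100,6),(101,4),(102,10),(103,8),(104,9),(105,2),(107,1),(108,1),(109,5),(111,5),(112,9),(113,10),(114,9),(116,3),(117,2),(118,1),(119,8),(120,1),(121,4),(122,3),(125,4),(126,2),(129,2),(130,9),(131,7),(132,2)]))) 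
 (.node 
 (.node (.leaf [(0,8),(1,9),(2,6),(3,6),(4,3),(5,10),(6,7),(7,3),(8,7),(10,10),(11,3),(12,7),(13,2),(14,2),(15,2),(16,5),(17,7),(18,3),(19,3),(20,1),(21,1),(22,4),(23,4),(24,2),(25,1),(26,6),(27,9),(28,2),(29,10),(30,5),(33,4),(34,1),(35,3),(36,1),(37,10),(38,6),(39,8),(40,6),(41,8),(42,8),(43,3),(44,2),(45,6),(46,9),(48,4),(49,9),(50,8),(51,2),(53,5),(54,9),(55,6),(56,5),(58,1),(59,9),(60,8),(62,1),(63,9),(64,1),(66,3),(67,8),(68,1),(72,2),(74,10),(75,6),(76,10),(77,9),(78,8),(79,8),(80,10),(81,1),(82,3),(83,5),(84,4),(85,10),(86,8),(87,2),(90,5),(91,3),(92,2),(93,7),(94,10),(95,7),(96,10),(97,1),(98,9),(99,6),(100,4),(101,6),(102,4),(104,6),(105,2),(106,4),(107,3),(109,9),(110,2),(111,9),(112,3),(113,10),(114,5),(115,1),(116,9),(117,9),(118,9),(119,3),(120,8),(121,9),(122,6),(123,10),(125,9),(126,2),(127,4),(128,5),(129,4),(130,3),(131,5),(132,8)])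 (.leaf [(1,7),(2,1),(3,5),(4,4),(5,9),(6,10),(8,8),(9,3),(10,6),(11,6),(12,7),(13,1),(14,10),(15,10),(16,4),(18,8),(19,2),(20,2),(21,7),(22,2),(23,6),(24,1),(25,5),(26,1),(27,4),(29,1),(30,9),(31,3),(33,9),(34,3),(35,6),(36,10),(37,5),(39,4),(41,9),(42,9),(43,2),(44,3),(45,7),(46,8),(48,6),(49,2),(50,8),(51,8),(53,2),(54,1),(55,3),(56,5),(57,10),(58,1),(59,1),(60,3),(61,9),(62,4),(63,2),(64,4),(65,6),(67,1),(68,4),(69,2),(70,9),(71,2),(72,6),(73,3),(74,6),(75,8),(76,2),(77,9),(78,6),(79,1),(80,5),(81,7),(82,5),(83,4),(85,7),(86,2),(87,2),(89,8),(90,8),(91,1),(92,10),(93,2),(95,3),(97,8),(98,5),(99,6),(100,8),(101,2),(102,2),(105,1),(106,9),(107,9),(109,7),(110,5),(111,4),(112,7),(113,1),(114,3),(115,1),(116,4),(117,9),(118,7),(119,8),(121,5),(123,5),(124,9),(125,5),(126,8),(127,5),(128,6),(129,1),(130,3),(131,2)])) 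
 (.node (.leaf [(0,1),(1,4),(2,1),(4,6),(5,10),(6,3),(7,2),(8,5),(9,8),(10,6),(11,3),(12,9),(14,7),(15,4),(17,2),(18,9),(19,5),(20,5),(21,9),(24,10),(25,8),(26,6),(27,4),(28,6),(30,8),(31,9),(33,1),(34,3),(35,8),(36,4),(38,9),(40,7),(41,3),(42,8),(44,10),(45,7),(46,9),(47,1),(48,2),(49,3),(50,7),(51,8),(54,9),(55,7),(56,10),(58,6),(59,6),(60,6),(62,2),(63,4),(64,5),(66,1),(67,6),(70,7),(72,4),(75,3),(76,6),(77,8),(78,1),(79,7),(80,1),(81,4),(82,3),(83,2),(84,6),(85,4),(86,9),(87,1),(88,1),(89,4),(90,3),(92,7),(93,9),(94,7),(95,1),(99,6),(101,4),(102,5),(104,10),(105,2),(106,2),(107,6),(108,10),(109,6),(110,2),(111,3),(113,5),(114,3),(115,4),(117,3),(119,9),(120,9),(121,4),(122,10),(123,2),(124,6),(125,2),(126,3),(127,5),(128,8),(129,3),(130,9),(131,4),(132,4)]) (.leaf [(0,8),(1,1),(2,3),(3,4),(4,2),(5,6),(6,8),(7,10),(9,3),(10,9),(11,7),(13,9),(14,4),(15,3)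,(16,2),(17,2),(19,8),(20,3),(21,5),(22,2),(23,7),(24,6),(25,1),(26,1),(28,1),(29,9),(30,8),(33,4),(34,6),(35,2),(36,10),(37,4),(38,10),(39,9),(40,10),(41,7),(42,3),(44,1),(45,5),(46,4),(47,6),(48,2),(49,5),(50,7),(51,4),(53,5),(54,2),(55,7),(56,9),(57,6),(58,8),(60,6),(61,1),(62,10),(63,1),(64,6),(65,10),(66,1),(67,1),(68,4),(69,5),(70,5),(72,10),(73,7),(74,4),(75,5),(77,3),(78,7),(79,8),(80,8),(81,1),(82,9),(85,4),(86,9),(87,7),(89,9),(90,1),(91,10),(92,5),(93,3),(94,10),(95,2),(96,10),(97,2),(98,2),(100,1),(101,10),(102,10),(103,8),(104,2),(109,3),(110,3),(111,5),(112,8),(113,1),(117,2),(118,3),(120,2),(121,9),(122,3),(123,8),(124,9),(125,10),(126,4),(128,8),(129,2),(130,6),(131,9)])))))) 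
 (.node 
 (.node 
 (.node 
 (.node 
 (.node 
 (.node (.leaf [(2,2),(5,9),(7,9),(12,2),(17,9),(24,8),(26,1),(28,9),(29,2),(31,2),(33,10),(36,1),(37,2),(38,3),(40,3),(41,10),(45,10),(46,8),(47,9),(50,10),(51,10),(53,7),(54,1),(55,10),(58,10),(59,1),(60,4),(64,1),(66,7),(67,10),(70,10),(71,4),(80,7),(82,7),(84,4),(85,7),(87,6),(89,4),(92,7),(93,7),(94,4),(96,1),(97,4),(99,3),(101,4),(102,5),(103,4),(106,6),(107,6),(109,6),(110,5),(111,7),(113,10),(115,4),(116,3),(120,5),(121,10),(122,8),(123,6),(126,7),(127,5),(130,7),(132,4)]) (.leaf [(0,8),(1,1),(2,10),(4,4),(6,4),(7,1),(8,5),(9,6),(11,5),(13,5),(14,8),(17,4),(18,1),(19,4),(20,6),(21,5),(22,10),(25,5),(26,9),(28,10),(29,1),(30,10),(31,1),(32,10),(33,6),(34,3),(35,6),(36,8),(38,6),(39,8),(40,2),(42,8),(43,1),(44,9),(45,8),(46,5),(47,9),(48,9),(49,5),(51,6),(52,3),(54,6),(55,6),(56,5),(57,8),(58,5),(62,8),(63,9),(64,3),(66,9),(67,3),(69,3),(71,8),(72,6),(73,5),(74,1),(75,8),(77,3),(78,2),(81,9),(82,5),(84,2),(85,9),(86,1),(87,10),(88,2),(89,8),(90,3),(91,2),(92,8),(94,2),(95,3),(96,6),(98,7),(99,9),(100,5),(101,8),(102,9),(103,1),(104,6),(108,6),(110,3),(111,3),(112,8),(113,5),(114,8),(118,2),(119,1),(120,9),(122,1),(123,9),(125,6),(127,5),(128,3),(129,3),(130,2),(131,2)]))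 (.leaf [(1,2),(2,10),(4,9),(5,2),(7,2),(10,2),(11,9),(13,1),(14,9),(15,7),(17,1),(19,1),(20,3),(21,4),(24,2),(25,9),(26,4),(27,5),(28,6),(30,5),(31,5),(33,8),(36,1),(38,5),(40,3),(41,5),(42,1),(44,10),(47,6),(48,3),(50,6),(51,8),(55,9),(58,5),(59,8),(60,10),(64,9),(66,10),(67,5),(70,6),(72,9),(74,8),(76,9),(77,7),(78,6),(79,6),(80,7),(82,8),(83,7),(84,10),(85,6),(86,4),(87,7),(88,5),(89,8),(92,7),(93,10),(94,5),(95,1),(96,9),(97,7),(98,4),(99,10),(100,8),(101,8),(102,3),(103,6),(104,7),(105,1),(106,9),(107,5),(108,7),(109,4),(110,3),(111,4),(113,4),(114,3),(115,9),(116,7),(117,1),(120,7),(121,9),(122,7),(123,2),(124,6),(125,1),(126,9),(127,10),(128,10),(129,4),(130,9),(132,4)])) 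
 (.node (.leaf [(0,10),(1,8),(2,9),(3,7),(4,9),(5,3),(6,9),(7,5),(8,6),(9,7),(10,9),(11,6),(12,7),(13,7),(14,2),(15,2),(16,2),(17,4),(19,1),(21,1),(22,1),(23,1),(24,10),(25,9),(26,7),(28,7),(29,10),(30,6),(31,1),(33,5),(34,8),(35,7),(36,2),(37,10),(38,7),(39,4),(40,2),(41,6),(42,5),(44,4),(45,1),(46,10),(47,7),(48,5),(49,2),(50,9),(51,2),(53,7),(54,4),(55,10),(56,7),(58,5),(59,9),(60,9),(62,6),(63,2),(64,2),(66,3),(67,5),(70,8),(72,8),(74,1),(75,8),(76,2),(77,10),(78,2),(79,9),(80,1),(82,8),(84,8),(85,1),(86,3),(87,6),(89,4),(90,3),(91,1),(92,4),(93,10),(94,4),(95,7),(97,7),(98,8),(100,7),(101,1),(102,10),(103,3),(104,5),(106,7),(107,4),(109,2),(110,9),(111,6),(112,1),(113,7),(114,10),(115,2),(118,3),(119,6),(120,5),(121,10),(123,9),(124,9),(125,5),(126,1),(129,5),(130,5),(131,3),(132,9)]) (.leaf [(0,10),(1,10),(2,10),(3,10),(4,1),(5,3),(6,6),(7,10),(8,4),(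9,5),(10,10),(11,2),(12,6),(13,8),(14,5),(15,6),(16,2),(17,8),(18,9),(19,8),(20,5),(21,5),(22,9),(23,1),(24,3),(25,10),(26,5),(27,2),(28,1),(29,3),(30,2),(31,7),(32,3),(33,5),(36,7),(37,5),(38,8),(39,6),(40,6),(42,5),(43,9),(44,2),(45,7),(46,3),(47,10),(48,8),(50,8),(52,3),(53,8),(54,10),(55,8),(57,3),(58,1),(59,5),(60,8),(61,1),(62,8),(63,2),(64,4),(65,6),(66,5),(67,4),(68,9),(69,9),(70,10),(71,9),(72,1),(73,5),(76,2),(77,1),(78,5),(79,3),(80,9),(81,1),(82,5),(83,2),(84,10),(85,9),(86,6),(87,6),(88,9),(89,1),(90,6),(92,9),(93,2),(94,3),(95,9),(96,4),(97,4),(98,2),(99,5),(100,5),(101,9),(102,9),(103,8),(104,9),(105,1),(106,5),(107,1),(108,2),(109,7),(110,5),(111,7),(112,3),(113,2),(115,5),(116,10),(117,8),(118,4),(119,10),(121,5),(122,5),(124,4),(125,6),(126,2),(127,6),(128,2),(129,6),(130,8),(131,5),(132,1)]))) 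
 (.node 
 (.node (.leaf [(0,2),(1,9),(3,9),(4,8),(5,6),(6,9),(7,8),(8,1),(9,10),(11,1),(12,3),(13,9),(14,9),(16,9),(18,9),(19,2),(20,1),(21,7),(22,4),(23,7),(24,10),(25,7),(26,6),(27,1),(28,6),(29,7),(30,10),(31,10),(32,9),(33,9),(34,2),(35,10),(36,1),(37,10),(38,2),(39,9),(40,9),(41,5),(42,5),(43,9),(44,6),(45,7),(46,1),(47,6),(48,5),(49,1),(50,5),(51,1),(52,3),(53,8),(54,5),(55,10),(56,1),(57,9),(58,9),(59,8),(60,5),(61,3),(62,5),(63,9),(64,9),(65,3),(66,10),(67,8),(68,3),(69,9),(70,9),(71,1),(72,2),(73,3),(74,9),(75,1),(76,9),(77,8),(78,7),(79,2),(80,2),(81,6),(82,2),(83,6),(84,4),(85,1),(86,3),(87,3),(88,9),(89,2),(90,7),(91,8),(92,1),(93,7),(94,9),(95,9),(96,2),(97,2),(98,3),(99,2),(100,3),(101,2),(102,6),(103,4),(104,3),(105,3),(106,3),(107,3),(108,2),(109,1),(110,5),(111,4),(112,3),(113,5),(114,7),(115,1),(116,2),(117,3),(118,4),(119,3),(120,6),(121,7),(122,8),(123,2),(124,3),(125,1),(126,7),(127,5),(128,7),(129,2),(130,4),(131,4),(132,2)])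 (.leaf [(0,10),(1,6),(2,8),(3,8),(4,7),(5,3),(6,4),(7,1),(8,8),(9,4),(10,8),(11,8),(12,5),(14,10),(15,8),(16,3),(17,3),(18,2),(19,5),(20,1),(21,1),(22,7),(23,3),(24,10),(25,6),(28,10),(29,3),(30,2),(31,3),(33,1),(34,1),(35,2),(36,4),(37,9),(38,3),(39,8),(40,5),(41,10),(42,9),(44,8),(45,3),(46,2),(47,9),(48,6),(49,2),(50,8),(51,3),(53,8),(54,5),(55,9),(56,9),(57,2),(58,5),(59,9),(60,9),(61,3),(62,1),(63,4),(64,8),(65,7),(66,6),(67,7),(68,2),(69,10),(70,4),(72,5),(73,7),(74,2),(75,10),(76,2),(77,10),(78,4),(79,9),(80,1),(81,4),(82,2),(84,1),(86,10),(87,9),(89,5),(90,7),(91,1),(92,7),(93,9),(94,8),(95,4),(96,7),(97,6),(98,1),(100,3),(101,2),(102,6),(103,5),(104,8),(105,2),(106,7),(107,4),(109,1),(110,6),(111,1),(112,9),(113,4),(114,4),(115,9),(116,9),(117,2),(118,4),(119,8),(120,8),(121,10),(122,6),(123,3),(124,5),(125,6),(126,5),(128,5),(130,10),(132,2)])) 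
 (.node (.leaf [(0,7),(1,5),(2,2),(4,7),(5,1),(6,8),(7,4),(8,6),(9,3),(10,5),(11,8),(12,9),(13,3),(14,9),(15,7),(17,8),(18,2),(19,5),(20,7),(21,6),(24,9),(25,6),(26,7),(27,9),(28,1),(30,3),(31,1),(33,2),(34,8),(35,3),(36,6),(38,3),(40,2),(41,3),(42,2),(44,6),(45,2),(47,6),(48,2),(49,10),(50,10),(51,5),(54,7),(55,7),(56,1),(58,1),(59,3),(60,1),(62,9),(63,7),(64,9),(66,7),(67,4),(70,5),(72,10),(74,2),(75,8),(76,4),(77,3),(78,10),(80,4),(81,2),(82,8),(83,9),(84,9),(85,7),(86,7),(88,6),(89,8),(90,8),(92,3),(93,10),(94,3),(95,6),(96,5),(97,5),(98,1),(99,5),(100,1),(101,7),(102,6),(103,7),(105,8),(106,8),(107,1),(108,1),(109,5),(110,5),(111,8),(113,6),(114,2),(115,2),(116,4),(119,2),(120,2),(121,6),(122,8),(123,4),(124,2),(125,6),(126,7),(127,9),(128,4),(129,3),(130,7),(131,7),(132,8)]) (.leaf [(0,10),(1,4),(2,1),(3,8),(4,5),(5,5),(7,7),(8,7),(9,2),(10,9),(11,9),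(12,9),(14,5),(15,1),(16,1),(17,6),(18,4),(19,10),(20,1),(21,9),(22,4),(23,3),(24,10),(25,2),(26,5),(28,4),(29,1),(30,4),(31,3),(32,7),(34,9),(36,10),(37,4),(38,3),(39,8),(40,6),(41,5),(42,2),(43,5),(44,3),(45,10),(47,5),(48,3),(49,9),(50,3),(51,1),(52,1),(53,6),(54,7),(57,4),(58,3),(59,9),(60,2),(61,2),(62,6),(64,1),(65,10),(66,5),(67,1),(68,9),(69,10),(70,1),(71,6),(72,9),(73,3),(74,3),(75,2),(76,10),(77,1),(78,3),(79,5),(81,6),(82,7),(83,9),(84,4),(85,6),(86,2),(87,4),(88,8),(89,9),(90,5),(92,10),(93,3),(94,5),(95,7),(96,6),(97,7),(98,10),(99,3),(100,1),(101,10),(102,1),(103,2),(104,2),(106,3),(107,4),(108,2),(109,6),(110,3),(111,8),(113,1),(115,4),(116,1),(117,4),(118,3),(120,3),(121,9),(122,9),(123,3),(124,1),(125,9),(126,7),(127,2),(128,6),(129,1),(130,1),(131,10),(132,6)])))) 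
 (.node 
 (.node 
 (.node (.leaf [(0,9),(1,10),(2,9),(3,1),(4,10),(5,4),(6,9),(7,2),(8,10),(9,9),(10,10),(13,2),(14,2),(15,8),(16,2),(17,10),(19,9),(20,1),(21,3),(22,5),(23,3),(24,5),(27,1),(28,4),(29,2),(30,6),(31,2),(32,3),(33,3),(34,3),(35,6),(36,2),(37,3),(38,1),(39,2),(40,3),(41,2),(42,4),(43,4),(44,7),(45,8),(46,10),(47,5),(49,1),(50,9),(51,6),(52,6),(53,1),(54,1),(56,7),(57,6),(58,6),(59,6),(60,5),(61,8),(62,1),(63,1),(64,8),(65,6),(66,2),(67,5),(68,8),(69,6),(70,6),(71,6),(72,2),(73,10),(74,6),(75,2),(77,8),(80,8),(81,5),(82,3),(83,3),(84,9),(85,6),(87,2),(88,4),(89,10),(90,8),(91,3),(92,9),(93,4),(94,10),(95,9),(96,8),(97,4),(98,8),(99,2),(100,10),(101,3),(102,8),(103,7),(105,6),(106,10),(107,10),(108,6),(109,2),(110,4),(111,9),(112,2),(113,1),(114,4),(115,2),(116,7),(117,3),(118,6),(119,5),(120,4),(121,6),(122,9),(123,6),(124,8),(125,5),(128,10),(129,6),(130,4),(131,9)])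 (.leaf [(0,10),(1,9),(2,2),(4,4),(6,2),(7,6),(8,8),(9,3),(11,10),(13,3),(17,2),(18,6),(19,4),(20,9),(21,6),(25,2),(26,1),(28,7),(30,1),(31,10),(33,5),(34,3),(35,9),(36,8),(38,9),(40,10),(42,1),(44,1),(45,8),(46,9),(47,4),(49,8),(51,3),(54,8),(55,3),(56,3),(58,8),(62,9),(63,10),(64,2),(66,10),(67,2),(72,8),(74,1),(75,9),(77,10),(78,4),(82,1),(84,4),(85,7),(86,10),(87,1),(88,4),(89,1),(90,1),(92,10),(96,10),(98,5),(99,7),(100,1),(101,10),(103,7),(104,6),(105,10),(107,1),(108,8),(113,3),(118,5),(119,6),(120,6),(122,6),(123,6),(125,8),(127,3),(129,3),(130,6),(131,5)])) 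
 (.node (.leaf [(0,8),(1,9),(2,9),(3,6),(4,1),(5,10),(6,4),(7,1),(8,10),(9,7),(10,5),(11,9),(12,9),(13,1),(14,4),(15,7),(17,3),(18,3),(19,1),(20,8),(21,1),(22,3),(23,4),(24,6),(25,10),(26,4),(27,1),(28,8),(29,1),(30,10),(31,4),(32,1),(33,1),(34,3),(35,2),(36,2),(38,8),(40,7),(41,1),(42,1),(43,3),(44,6),(45,2),(46,4),(47,7),(48,9),(49,9),(50,3),(51,9),(53,5),(54,9),(55,4),(56,1),(58,8),(59,7),(60,4),(62,5),(63,8),(64,1),(66,5),(67,1),(68,5),(70,8),(72,10),(74,1),(75,5),(77,9),(78,6),(79,8),(80,3),(81,1),(82,6),(83,3),(84,6),(85,2),(86,10),(87,6),(88,2),(89,9),(90,2),(91,6),(92,7),(93,6),(94,3),(95,5),(97,2),(98,2),(99,6),(101,7),(102,4),(103,3),(105,2),(106,5),(107,2),(108,5),(111,9),(112,3),(113,5),(114,10),(115,7),(116,4),(117,9),(118,5),(119,4),(120,2),(121,2),(123,2),(124,9),(125,4),(126,10),(127,4),(128,5),(129,9),(130,2),(131,4),(132,5)]) (.leaf [(0,2)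,(1,6),(2,8),(4,3),(5,7),(6,5),(7,2),(8,1),(9,5),(10,7),(11,1),(13,2),(14,6),(15,10),(16,2),(18,6),(19,2),(20,4),(21,1),(22,6),(24,2),(25,5),(26,7),(27,3),(28,9),(29,9),(30,3),(31,8),(32,4),(33,8),(34,6),(35,2),(36,7),(37,6),(38,8),(39,2),(40,9),(41,1),(42,10),(43,8),(44,8),(45,1),(46,2),(47,10),(48,8),(49,9),(50,5),(51,10),(52,10),(53,4),(54,10),(55,9),(56,9),(57,2),(58,9),(59,2),(60,2),(62,4),(63,3),(64,10),(65,8),(66,2),(67,4),(68,7),(69,8),(70,7),(71,3),(72,6),(73,6),(74,1),(75,5),(76,3),(78,2),(80,10),(81,5),(82,4),(84,7),(85,1),(86,10),(87,10),(88,3),(89,3),(90,7),(91,8),(92,1),(93,2),(94,10),(95,5),(96,5),(97,1),(98,2),(99,7),(100,6),(101,7),(104,10),(105,10),(106,8),(107,8),(108,9),(109,7),(110,7),(111,1),(112,10),(113,8),(114,5),(115,7),(118,2),(119,4),(120,2),(121,1),(122,5),(123,7),(124,2),(125,1),(126,8),(127,1),(128,2),(130,5),(131,3),(132,9)])))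 
 (.node 
 (.node (.leaf [(0,10),(1,8),(2,10),(3,7),(4,7),(6,9),(7,10),(8,8),(10,10),(11,10),(12,3),(13,9),(14,5),(15,1),(16,5),(17,8),(19,8),(20,4),(21,1),(22,1),(23,1),(24,10),(25,7),(26,7),(28,3),(29,10),(30,8),(31,4),(33,8),(34,8),(35,5),(36,4),(37,10),(38,3),(39,8),(40,4),(41,3),(42,3),(44,8),(45,9),(46,10),(47,3),(48,2),(49,2),(50,10),(51,1),(54,4),(55,10),(56,8),(58,8),(59,1),(60,9),(62,6),(63,7),(64,8),(66,6),(67,4),(68,7),(70,5),(72,5),(74,1),(76,10),(77,10),(78,9),(79,2),(80,1),(82,4),(84,5),(85,3),(86,6),(87,4),(89,2),(90,7),(91,9),(92,7),(93,8),(94,8),(95,10),(97,9),(98,5),(100,3),(102,10),(103,6),(104,7),(106,9),(107,2),(109,4),(110,3),(111,6),(112,8),(113,4),(114,5),(115,4),(117,5),(118,9),(121,2),(123,2),(124,7),(126,6),(129,5),(130,5),(131,3),(132,7)]) (.leaf [(0,10),(1,6),(2,5),(3,4),(4,9),(5,1),(6,7),(7,6),(8,1),(9,2),(10,5),(11,10),(12,4)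,(13,6),(14,2),(15,5),(16,3),(17,7),(18,3),(19,9),(20,8),(21,1),(22,3),(23,7),(24,10),(25,3),(28,5),(29,5),(30,4),(31,8),(33,2),(34,1),(35,8),(36,9),(37,7),(38,7),(39,2),(40,8),(41,9),(42,7),(44,4),(45,7),(46,2),(47,10),(48,1),(49,2),(50,5),(51,6),(53,10),(54,10),(55,9),(56,3),(58,10),(60,9),(61,10),(62,7),(63,8),(64,4),(65,9),(66,3),(67,2),(69,3),(70,10),(72,8),(74,2),(75,10),(77,10),(78,9),(79,4),(80,1),(81,2),(82,8),(84,6),(85,3),(86,7),(87,3),(89,10),(90,1),(91,10),(92,9),(93,6),(94,4),(95,10),(96,9),(97,1),(98,4),(100,7),(101,10),(102,6),(103,8),(104,3),(105,2),(106,3),(107,8),(109,3),(110,2),(111,1),(112,6),(113,6),(114,8),(115,3),(116,9),(117,6),(118,8),(120,5),(121,8),(122,3),(123,6),(124,3),(125,2),(126,1),(128,8),(129,9),(130,10),(131,4),(132,8)])) 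
 (.node (.leaf [(0,7),(1,3),(2,7),(4,10),(5,2),(7,2),(8,9),(9,10),(10,6),(11,7),(13,4),(14,9),(15,6),(17,6),(18,3),(19,1),(20,10),(21,2),(24,5),(25,9),(26,4),(27,5),(28,6),(30,4),(31,6),(33,5),(34,1),(36,10),(38,5),(40,5),(41,7),(42,10),(44,8),(45,10),(46,1),(47,6),(49,10),(50,7),(51,6),(55,10),(58,1),(59,8),(60,1),(62,8),(64,8),(66,1),(67,8),(70,10),(72,4),(74,5),(75,1),(76,9),(77,7),(78,6),(79,10),(80,8),(81,6),(82,8),(83,7),(84,10),(85,6),(86,5),(87,6),(88,5),(89,7),(90,1),(92,7),(93,6),(94,10),(95,5),(96,9),(97,7),(98,4),(99,10),(100,8),(101,7),(102,2),(103,6),(104,2),(105,7),(106,3),(107,9),(108,10),(109,4),(110,3),(111,10),(113,4),(114,5),(115,9),(116,3),(117,9),(120,2),(121,1),(122,7),(123,2),(124,1),(125,1),(126,4),(127,7),(128,3),(129,9),(130,9),(131,5),(132,4)]) (.leaf [(0,3),(1,2),(2,2),(3,7),(5,5),(7,4),(10,5),(12,9),(13,6),(14,8),(15,10),(16,10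),(17,1),(18,6),(19,10),(20,8),(21,3),(22,4),(23,4),(24,9),(25,4),(26,5),(28,7),(29,1),(30,3),(31,4),(32,10),(33,1),(36,4),(37,3),(38,1),(39,6),(40,3),(42,8),(43,2),(44,6),(45,8),(46,1),(47,5),(48,6),(50,1),(51,5),(52,7),(53,6),(54,7),(55,10),(57,4),(58,4),(59,9),(60,9),(61,10),(64,3),(65,2),(66,8),(67,7),(68,7),(69,10),(70,5),(72,7),(73,5),(74,9),(76,10),(77,10),(78,3),(79,3),(80,1),(82,7),(83,9),(84,1),(85,6),(86,3),(87,3),(88,5),(89,8),(92,8),(93,5),(95,8),(96,1),(97,9),(98,1),(99,6),(100,6),(101,4),(103,2),(105,10),(106,4),(107,5),(108,10),(109,6),(110,3),(111,6),(113,1),(115,4),(117,9),(120,2),(121,4),(122,10),(123,6),(124,4),(125,9),(126,2),(127,5),(128,4),(129,9),(130,4),(132,6)]))))) 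
 (.node 
 (.node 
 (.node 
 (.node (.leaf [(1,3),(3,3),(4,3),(5,4),(6,2),(7,2),(8,3),(10,1),(11,7),(12,7),(13,2),(14,2),(15,1),(16,2),(17,3),(20,6),(21,1),(22,5),(23,5),(24,10),(25,5),(26,10),(27,2),(28,4),(29,2),(30,9),(31,3),(32,3),(33,4),(34,1),(35,1),(37,3),(40,1),(41,10),(43,4),(44,5),(45,7),(47,5),(48,4),(49,9),(50,4),(51,6),(52,6),(53,1),(54,10),(55,3),(56,2),(57,10),(58,10),(59,9),(60,3),(61,8),(62,9),(64,5),(65,6),(67,3),(68,8),(69,6),(70,10),(71,10),(72,9),(73,10),(74,10),(76,4),(77,6),(79,7),(80,3),(82,8),(83,8),(84,9),(85,9),(87,7),(88,4),(89,9),(90,6),(91,5),(92,7),(93,4),(94,4),(95,2),(96,6),(97,10),(98,3),(99,5),(100,1),(101,8),(102,2),(103,4),(105,2),(106,9),(107,4),(108,6),(109,2),(110,5),(111,5),(112,1),(113,6),(114,4),(115,9),(116,6),(117,2),(118,2),(119,9),(121,6),(122,10),(123,7),(124,8),(125,5),(126,8),(127,5),(128,3),(129,7),(130,4),(131,10)])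 (.leaf [(0,7),(1,3),(2,1),(4,8),(5,2),(6,5),(7,2),(8,3),(9,7),(10,9),(11,4),(14,2),(15,1),(17,4),(18,1),(20,6),(21,2),(24,5),(25,7),(26,1),(27,5),(28,6),(30,7),(31,5),(33,1),(34,4),(35,6),(36,4),(38,7),(40,7),(42,7),(44,6),(45,7),(46,1),(47,5),(48,1),(49,10),(50,5),(51,8),(54,9),(55,10),(56,2),(58,8),(59,8),(60,1),(62,10),(63,3),(64,5),(66,7),(67,6),(70,3),(72,9),(74,5),(75,4),(76,9),(77,7),(78,5),(80,8),(81,9),(82,5),(83,7),(84,10),(85,7),(86,8),(87,8),(88,5),(89,4),(90,4),(92,7),(93,5),(94,7),(95,5),(96,6),(97,10),(98,1),(99,10),(101,4),(102,2),(103,7),(105,7),(106,6),(107,6),(108,10),(109,4),(110,3),(111,10),(113,6),(114,4),(115,9),(116,3),(119,4),(120,9),(121,10),(122,3),(123,2),(124,1),(125,10),(126,5),(127,7),(128,7),(130,9),(131,9),(132,4)])) 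
 (.node (.leaf [(0,7),(1,6),(2,8),(3,2),(4,3),(5,2),(6,7),(7,7),(8,6),(9,1),(10,7),(11,1),(12,1),(13,10),(14,5),(15,5),(16,1),(17,2),(18,3),(19,10),(20,10),(21,2),(22,4),(23,5),(24,3),(25,1),(27,2),(28,1),(30,3),(31,4),(32,1),(33,9),(34,5),(35,10),(36,1),(37,10),(38,9),(39,7),(40,3),(41,6),(42,1),(43,3),(44,2),(45,10),(46,4),(48,6),(50,5),(51,10),(53,1),(54,6),(55,4),(56,9),(58,2),(59,7),(60,10),(62,1),(63,2),(64,8),(67,3),(68,5),(72,2),(75,7),(76,10),(77,8),(78,8),(79,10),(80,9),(81,1),(82,4),(83,4),(84,9),(85,5),(86,7),(88,9),(90,9),(91,9),(92,3),(93,3),(95,2),(96,5),(97,6),(98,1),(99,6),(100,4),(101,8),(102,4),(104,8),(105,2),(106,9),(107,4),(109,4),(110,7),(111,9),(112,7),(113,9),(114,3),(115,6),(116,9),(117,3),(118,9),(119,4),(120,7),(121,4),(122,7),(123,4),(125,9),(126,9),(127,4),(128,5),(129,9),(130,8),(131,7),(132,1)]) (.leaf [(2,8),(5,3),(6,2),(7,7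),(8,9),(9,2),(10,10),(12,7),(15,5),(17,10),(18,4),(19,8),(20,9),(24,1),(26,7),(27,6),(28,4),(29,3),(31,2),(33,4),(34,8),(35,3),(36,10),(37,7),(38,10),(39,7),(40,2),(41,1),(42,5),(43,3),(45,2),(46,5),(47,8),(50,2),(53,8),(55,6),(56,8),(57,3),(58,2),(59,4),(60,2),(62,2),(63,9),(64,9),(65,10),(66,9),(67,1),(70,7),(71,3),(73,4),(74,2),(75,3),(76,6),(80,10),(82,8),(83,6),(84,7),(85,9),(87,6),(89,3),(90,7),(91,4),(92,1),(93,4),(94,1),(95,5),(96,5),(97,10),(98,5),(99,9),(101,5),(102,10),(103,2),(106,2),(107,3),(109,9),(110,8),(111,6),(112,5),(113,2),(114,10),(115,4),(116,2),(118,10),(119,1),(120,9),(121,6),(122,9),(123,2),(126,7),(127,2),(129,7),(130,10),(131,6),(132,3)]))) 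
 (.node 
 (.node (.leaf [(0,7),(1,9),(2,7),(3,1),(4,1),(5,1),(6,7),(7,6),(8,3),(9,5),(10,6),(11,2),(12,7),(13,10),(15,4),(17,8),(18,3),(19,2),(20,10),(21,5),(22,8),(23,8),(24,8),(25,10),(26,8),(27,3),(28,4),(29,1),(30,10),(31,5),(33,2),(34,9),(35,5),(36,9),(37,10),(38,3),(40,4),(41,10),(42,9),(43,7),(44,6),(45,9),(46,7),(47,2),(48,2),(49,5),(50,1),(51,7),(53,6),(54,7),(55,7),(56,3),(58,5),(59,5),(60,1),(62,4),(63,7),(64,10),(66,6),(67,10),(68,6),(69,4),(70,4),(72,10),(75,2),(77,1),(78,5),(79,5),(80,2),(81,1),(82,1),(83,7),(84,3),(85,2),(86,10),(87,3),(89,7),(90,9),(92,4),(93,3),(94,8),(95,10),(97,9),(98,5),(99,3),(101,4),(102,7),(103,8),(105,4),(107,4),(109,6),(111,2),(112,1),(113,5),(114,7),(115,3),(116,2),(117,7),(118,5),(119,8),(120,9),(121,4),(123,9),(124,7),(125,2),(126,3),(127,2),(128,5),(129,7),(130,9),(131,7),(132,10)]) (.leaf [(0,10),(1,10),(2,5),(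3,10),(4,8),(5,5),(6,3),(8,2),(9,3),(10,5),(11,3),(13,9),(14,8),(15,1),(18,7),(19,6),(21,5),(22,9),(23,1),(24,3),(25,5),(26,6),(27,2),(29,2),(30,7),(31,8),(32,3),(33,3),(34,10),(35,8),(36,10),(37,6),(39,7),(41,2),(43,9),(44,10),(45,1),(46,3),(47,8),(48,7),(50,3),(51,5),(52,3),(53,6),(54,10),(55,8),(56,3),(57,4),(58,4),(59,3),(60,8),(61,1),(62,8),(63,7),(64,10),(65,5),(67,1),(69,9),(70,7),(71,9),(72,6),(73,8),(75,1),(76,4),(77,1),(78,5),(79,3),(80,9),(81,5),(82,3),(83,2),(85,2),(86,8),(87,9),(88,9),(89,2),(90,8),(91,3),(92,6),(93,9),(95,8),(97,3),(99,5),(100,8),(101,5),(102,9),(103,2),(104,6),(105,1),(106,2),(107,4),(108,2),(109,2),(110,3),(111,7),(112,9),(113,1),(114,5),(115,3),(116,10),(117,8),(118,6),(119,4),(120,6),(121,6),(123,5),(124,9),(125,6),(126,8),(127,6),(128,7),(129,10),(130,8),(131,7),(132,3)])) 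
 (.node (.leaf [(0,4),(1,10),(2,9),(4,2),(5,3),(6,8),(7,6),(8,6),(9,3),(10,7),(11,2),(13,4),(14,7),(15,3),(17,9),(18,2),(19,3),(20,9),(21,2),(25,2),(26,3),(27,10),(28,7),(30,6),(31,1),(33,7),(34,8),(35,3),(36,7),(38,2),(40,10),(41,2),(42,4),(44,2),(45,2),(46,9),(47,1),(48,10),(49,1),(50,10),(55,3),(56,1),(58,7),(59,1),(62,9),(63,7),(64,7),(67,9),(70,1),(72,6),(75,8),(78,5),(79,6),(81,8),(82,9),(83,1),(85,10),(86,2),(87,9),(88,7),(89,4),(90,8),(92,10),(93,5),(94,3),(96,9),(97,7),(98,4),(100,8),(101,4),(103,6),(104,8),(105,5),(106,7),(107,10),(108,3),(109,8),(113,9),(115,6),(117,1),(119,2),(120,9),(121,10),(122,5),(123,6),(124,3),(125,7),(127,3),(128,7),(129,1),(131,7)]) (.leaf [(0,4),(1,9),(2,3),(4,10),(5,6),(6,6),(7,10),(8,5),(9,4),(10,5),(11,3),(12,10),(13,8),(14,10),(15,1),(16,8),(17,2),(18,7),(19,8),(20,8),(21,5),(22,3),(25,1),(26,1),(27,1),(28,1),(29,8)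,(30,8),(32,1),(33,4),(34,8),(35,9),(36,4),(37,2),(38,10),(39,10),(40,10),(41,2),(42,6),(43,8),(44,9),(45,3),(46,5),(47,5),(48,9),(49,2),(50,5),(51,4),(52,8),(53,5),(54,2),(55,6),(56,2),(57,9),(58,7),(61,4),(62,1),(63,8),(64,8),(65,5),(66,1),(67,7),(68,6),(69,2),(70,9),(71,5),(72,10),(73,4),(75,3),(76,1),(77,9),(78,5),(79,3),(82,9),(83,10),(85,6),(86,9),(87,7),(88,9),(89,9),(90,8),(91,3),(92,3),(93,7),(94,10),(96,10),(97,4),(98,6),(99,3),(100,4),(101,4),(102,9),(103,10),(104,10),(105,10),(106,1),(108,5),(109,3),(110,3),(111,3),(112,1),(113,7),(114,9),(117,4),(118,9),(119,7),(120,1),(121,10),(122,3),(124,8),(125,4),(126,10),(127,3),(128,5),(129,7),(131,2),(132,2)])))) 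
 (.node 
 (.node 
 (.node (.leaf [(0,2),(1,9),(2,2),(4,10),(5,8),(7,1),(8,10),(9,1),(11,1),(12,3),(14,9),(16,7),(19,2),(20,3),(21,7),(22,4),(23,9),(24,9),(25,2),(26,6),(27,10),(28,10),(29,9),(30,5),(31,2),(32,7),(33,9),(34,9),(35,8),(37,8),(38,9),(39,9),(40,2),(41,6),(42,2),(43,9),(44,6),(45,2),(46,6),(47,6),(48,5),(49,1),(50,6),(51,2),(52,7),(53,1),(54,5),(56,4),(57,9),(58,9),(59,8),(60,3),(61,3),(62,6),(63,7),(64,9),(65,3),(66,1),(67,9),(68,3),(69,5),(70,10),(71,1),(72,1),(73,6),(74,8),(75,10),(76,9),(77,8),(78,4),(79,9),(80,10),(81,7),(82,2),(84,7),(85,8),(86,2),(87,9),(88,5),(89,9),(90,4),(91,3),(92,1),(94,2),(95,3),(96,9),(97,9),(98,8),(99,2),(100,7),(101,8),(102,7),(103,4),(104,3),(105,3),(106,8),(107,6),(108,8),(109,6),(110,5),(111,1),(112,1),(113,4),(114,3),(115,5),(116,5),(117,2),(118,7),(119,10),(120,4),(121,8),(122,3),(123,9),(124,4),(125,7),(127,5),(128,4),(129,3),(131,7),(132,2)])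 (.leaf [(0,5),(1,8),(2,9),(3,9),(4,1),(5,10),(6,2),(7,5),(8,5),(9,7),(11,9),(12,1),(13,2),(14,2),(15,3),(16,2),(17,3),(19,5),(20,6),(21,5),(22,4),(23,2),(24,1),(25,10),(26,10),(27,2),(28,6),(29,3),(30,2),(31,8),(33,10),(34,4),(35,1),(36,4),(37,3),(38,3),(39,1),(40,5),(41,2),(42,7),(43,10),(44,2),(45,4),(46,8),(47,2),(48,3),(49,1),(50,4),(53,1),(54,9),(55,3),(56,10),(57,3),(58,8),(59,8),(60,3),(61,2),(62,5),(63,6),(64,7),(65,2),(66,6),(67,7),(68,6),(69,10),(70,2),(71,10),(72,1),(73,10),(74,2),(75,7),(76,4),(77,4),(78,2),(79,6),(80,5),(81,1),(82,10),(83,9),(84,5),(85,9),(86,6),(87,6),(89,2),(90,4),(91,10),(92,2),(94,8),(95,7),(96,7),(97,6),(98,7),(99,8),(100,5),(101,2),(102,2),(103,1),(104,2),(105,10),(107,2),(109,7),(110,10),(111,4),(112,4),(113,2),(114,6),(115,8),(116,4),(117,5),(121,4),(122,6),(124,3),(125,3),(126,5),(127,3),(128,2),(129,1),(130,10),(131,2),(132,2)]))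 
 (.node (.leaf [(2,5),(6,3),(7,4),(8,3),(9,8),(10,10),(12,5),(15,5),(17,1),(19,9),(20,4),(24,1),(26,8),(27,3),(28,10),(29,1),(31,10),(33,3),(34,9),(35,2),(36,10),(37,1),(38,10),(40,6),(41,1),(42,8),(43,1),(45,6),(46,8),(47,10),(50,2),(51,5),(54,6),(55,8),(56,2),(58,1),(59,10),(60,2),(62,8),(63,3),(64,9),(66,9),(67,10),(70,1),(74,1),(75,9),(80,10),(82,6),(83,9),(84,2),(85,2),(87,10),(89,5),(90,5),(91,6),(92,1),(93,9),(94,1),(95,4),(97,10),(98,2),(99,2),(102,5),(103,9),(107,6),(109,6),(110,5),(111,10),(112,4),(113,5),(114,5),(115,10),(118,5),(119,6),(123,5),(126,1),(127,5),(129,5),(130,5),(131,7),(132,4)]) (.leaf [(0,4),(1,9),(2,9),(3,7),(4,4),(5,5),(6,5),(7,10),(8,1),(9,5),(10,10),(11,8),(13,8),(14,3),(15,7),(16,3),(17,3),(18,3),(19,4),(20,2),(21,5),(22,10),(23,4),(25,2),(26,3),(27,1),(28,1),(29,3),(30,8),(31,1),(32,1),(33,8),(34,6),(35,2),(37,7),(38,6),(39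,10),(40,9),(41,9),(42,6),(43,8),(44,2),(45,9),(46,5),(47,6),(48,8),(49,2),(50,9),(52,8),(53,6),(54,10),(55,6),(56,9),(57,2),(58,3),(59,1),(61,10),(62,4),(63,3),(64,2),(65,1),(66,2),(68,5),(69,7),(70,2),(71,5),(72,9),(73,9),(75,5),(77,9),(78,5),(79,3),(81,2),(82,10),(83,10),(84,10),(85,5),(87,3),(88,9),(89,1),(90,7),(91,8),(92,9),(93,8),(94,1),(95,1),(96,8),(97,1),(98,4),(99,3),(100,2),(102,9),(103,1),(104,3),(105,10),(107,1),(108,5),(109,8),(110,10),(111,3),(112,10),(113,4),(114,7),(115,2),(117,9),(118,2),(119,4),(120,4),(121,2),(122,3),(123,2),(124,3),(125,10),(126,1),(127,3),(128,5),(129,1),(131,3)]))) 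
 (.node 
 (.node (.leaf [(0,8),(1,9),(3,6),(4,8),(5,10),(6,7),(8,6),(9,1),(10,7),(11,3),(12,1),(13,10),(14,5),(15,5),(16,1),(18,3),(19,7),(21,1),(22,3),(23,4),(24,6),(25,6),(26,2),(27,1),(29,1),(31,9),(32,1),(33,7),(34,5),(35,10),(36,5),(39,8),(41,6),(43,3),(44,3),(45,6),(46,4),(47,10),(48,4),(49,9),(50,5),(51,7),(53,5),(54,2),(55,4),(56,9),(58,4),(59,8),(60,4),(62,1),(63,2),(64,7),(67,4),(68,5),(70,1),(72,4),(74,1),(75,7),(76,10),(77,9),(78,6),(79,8),(80,3),(81,1),(82,10),(83,3),(85,3),(86,1),(88,2),(89,5),(90,9),(91,9),(92,4),(93,5),(97,6),(99,6),(100,3),(101,7),(102,4),(103,9),(104,6),(105,2),(106,9),(107,9),(108,5),(109,4),(110,7),(111,9),(112,7),(113,9),(114,10),(116,4),(117,9),(118,9),(119,4),(120,2),(121,9),(123,9),(124,5),(125,4),(126,10),(127,4),(128,5),(129,9),(130,2),(131,7),(132,1)]) (.leaf [(0,9),(1,5),(2,7),(3,7),(4,3),(5,6),(6,3),(7,4),(8,2),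(9,3),(10,5),(11,7),(13,9),(14,8),(15,1),(16,7),(17,10),(18,6),(19,10),(20,2),(21,6),(22,1),(23,4),(24,10),(25,7),(26,1),(28,7),(29,6),(30,2),(31,6),(32,7),(33,6),(34,10),(35,8),(36,2),(37,3),(38,10),(40,6),(41,2),(42,9),(43,9),(44,9),(45,9),(46,3),(48,3),(49,2),(50,3),(51,3),(52,10),(53,5),(55,8),(56,3),(57,5),(58,1),(59,1),(60,8),(61,4),(62,8),(63,7),(64,2),(65,2),(66,5),(67,9),(68,7),(69,1),(71,9),(72,4),(73,9),(74,9),(75,1),(76,4),(78,3),(79,1),(80,6),(81,10),(83,7),(84,4),(85,9),(86,9),(87,4),(88,4),(89,6),(90,8),(91,3),(92,10),(94,4),(95,4),(96,2),(97,3),(98,5),(99,5),(100,9),(101,1),(102,9),(104,5),(105,3),(106,2),(107,5),(108,6),(109,8),(110,8),(111,7),(112,9),(113,6),(114,10),(115,4),(116,7),(117,10),(118,6),(119,4),(120,10),(121,4),(122,8),(123,1),(124,2),(125,8),(126,1),(127,6),(128,5),(129,4),(130,9),(131,7),(132,3)])) 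
 (.node (.leaf [(0,4),(1,10),(2,5),(4,10),(5,8),(6,3),(7,6),(8,6),(9,2),(10,10),(11,6),(12,10),(13,2),(14,3),(15,7),(17,1),(18,4),(20,3),(21,2),(25,2),(26,6),(27,10),(28,7),(30,4),(31,9),(33,7),(34,5),(35,8),(36,2),(38,10),(40,10),(41,2),(42,6),(44,5),(45,5),(46,9),(47,10),(48,2),(49,1),(50,8),(51,2),(54,8),(55,3),(56,10),(58,9),(62,1),(63,4),(64,10),(66,8),(70,10),(72,9),(75,6),(76,1),(78,10),(79,1),(81,10),(82,8),(83,1),(84,4),(85,1),(86,9),(87,3),(88,7),(89,8),(90,9),(92,10),(93,3),(94,7),(95,7),(96,7),(97,3),(98,8),(100,4),(101,7),(103,5),(104,3),(105,5),(106,9),(107,8),(108,3),(109,3),(110,6),(113,2),(117,10),(118,5),(119,9),(120,2),(121,6),(122,2),(123,6),(124,8),(125,9),(127,3),(128,10),(129,5),(131,8),(132,6)]) (.leaf [(0,10),(1,4),(2,4),(4,1),(5,5),(6,10),(7,5),(8,6),(9,8),(10,7),(11,6),(12,9),(13,3),(14,2),(15,4),(16,1),(17,2),(18,3),(19,9),(20,5)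,(21,9),(22,7),(24,10),(28,6),(29,9),(30,3),(31,2),(32,7),(33,4),(34,3),(35,4),(36,6),(37,7),(38,5),(39,6),(40,8),(41,1),(42,3),(43,5),(44,1),(45,5),(48,4),(49,9),(50,10),(51,5),(52,1),(53,6),(56,7),(57,2),(58,8),(59,9),(60,2),(62,2),(63,6),(64,6),(65,1),(66,3),(67,5),(68,9),(69,1),(70,7),(71,6),(73,10),(74,3),(75,8),(76,10),(77,1),(78,8),(81,4),(82,3),(83,9),(84,2),(85,1),(86,5),(87,1),(88,8),(89,7),(90,9),(91,5),(92,5),(93,8),(94,7),(95,9),(96,8),(97,9),(98,7),(99,3),(100,10),(101,6),(102,1),(103,10),(104,5),(106,3),(107,4),(108,2),(109,6),(110,5),(111,8),(112,9),(113,8),(114,5),(115,4),(116,1),(118,1),(119,8),(120,6),(121,2),(122,3),(123,5),(124,1),(125,2),(126,2),(127,2),(128,1),(129,3),(130,1),(131,7),(132,6)]))))))) 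
 (.node 
 (.node 
 (.node 
 (.node 
 (.node 
 (.node 
 (.node (.leaf [(0,2),(2,2),(3,2),(4,9),(5,9),(6,2),(7,4),(8,9),(9,2),(16,7),(17,9),(18,2),(19,2),(20,2),(21,6),(22,9),(23,2),(24,5),(25,5),(27,9),(28,4),(29,2),(30,6),(31,8),(34,7),(35,9),(36,4),(38,2),(39,4),(40,4),(41,1),(42,8),(45,6),(46,10),(47,9),(50,1),(51,1),(52,8),(53,7),(54,10),(55,2),(56,3),(57,4),(59,10),(60,10),(62,1),(63,9),(66,2),(67,2),(71,7),(72,1),(73,10),(74,10),(75,9),(77,1),(78,4),(79,7),(80,5),(81,10),(82,4),(83,5),(84,3),(85,10),(86,10),(87,7),(88,6),(89,7),(90,8),(91,6),(92,10),(94,5),(95,5),(97,7),(98,5),(99,8),(100,7),(101,2),(102,2),(103,7),(105,9),(106,5),(107,3),(108,10),(109,6),(110,8),(111,5),(112,9),(113,4),(114,7),(115,7),(116,4),(117,10),(118,3),(119,7),(122,4),(123,10),(124,2),(125,1),(126,7),(127,6),(128,3),(129,5),(130,7),(131,3)]) (.leaf [(2,10),(3,10),(4,6),(6,9),(7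,9),(8,9),(9,4),(10,8),(11,6),(13,1),(14,10),(15,10),(17,6),(18,5),(19,9),(20,5),(22,10),(23,1),(25,3),(26,6),(28,2),(29,1),(30,2),(31,3),(33,6),(34,5),(35,9),(36,2),(37,10),(38,8),(39,9),(40,8),(41,5),(42,9),(44,3),(45,6),(47,8),(48,8),(50,5),(51,6),(54,9),(56,2),(57,8),(58,5),(61,8),(62,2),(63,6),(64,5),(65,3),(66,3),(67,9),(69,3),(70,6),(72,8),(73,4),(75,6),(78,2),(79,9),(81,3),(82,2),(84,10),(85,9),(86,5),(87,4),(89,8),(90,9),(91,5),(92,6),(93,2),(94,8),(95,1),(96,8),(97,3),(98,6),(100,3),(101,2),(103,3),(104,7),(110,1),(112,10),(113,5),(114,8),(117,5),(118,10),(119,3),(120,8),(121,6),(122,9),(123,1),(125,6),(126,3),(128,2),(129,9),(131,3)])) (.leaf [(0,7),(1,3),(2,5),(4,9),(5,5),(6,8),(7,2),(8,6),(9,3),(10,1),(11,3),(12,9),(13,2),(15,2),(17,3),(18,2),(19,2),(20,8),(21,2),(24,3),(25,8),(26,7),(27,5),(28,6),(31,7),(33,1),(34,8),(35,3),(36,9),(37,4),(38,8)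,(40,6),(41,10),(42,3),(44,7),(45,4),(47,7),(48,1),(49,10),(50,3),(51,6),(54,2),(55,9),(56,1),(58,5),(59,9),(60,7),(62,9),(63,7),(64,2),(66,9),(67,4),(70,10),(72,1),(74,8),(75,8),(76,6),(77,7),(79,5),(80,8),(81,2),(83,7),(84,6),(85,5),(86,1),(87,4),(88,5),(90,8),(92,7),(94,3),(95,5),(96,7),(97,4),(98,8),(99,10),(100,4),(101,1),(102,3),(103,1),(104,4),(105,7),(106,10),(107,8),(108,10),(109,1),(110,3),(111,4),(113,2),(114,9),(115,4),(116,7),(117,10),(119,2),(120,5),(121,3),(122,1),(123,2),(124,1),(126,9),(127,10),(128,5),(129,10),(130,9),(131,7),(132,4)])) 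
 (.node (.leaf [(0,10),(1,8),(2,6),(3,7),(4,9),(6,2),(7,9),(8,10),(9,3),(11,3),(12,2),(13,10),(14,10),(15,4),(16,10),(17,5),(19,3),(20,5),(21,1),(22,1),(23,1),(25,9),(26,10),(27,5),(28,6),(30,7),(31,8),(33,1),(34,7),(35,1),(36,7),(38,6),(39,4),(40,8),(41,9),(42,10),(43,1),(44,4),(45,2),(47,6),(48,9),(49,2),(50,3),(51,10),(54,2),(56,4),(58,2),(59,1),(62,8),(63,10),(64,3),(66,1),(67,7),(68,7),(70,9),(72,8),(74,1),(75,10),(76,1),(77,10),(78,2),(79,9),(82,2),(84,10),(85,6),(86,3),(87,8),(89,9),(90,9),(91,2),(92,4),(93,5),(94,5),(95,3),(97,1),(98,8),(99,9),(100,7),(103,1),(104,3),(106,2),(107,5),(109,2),(110,9),(112,6),(113,2),(114,5),(115,7),(118,7),(121,9),(123,9),(124,9),(125,5),(126,6),(130,5),(131,7),(132,8)]) (.leaf [(0,10),(1,6),(2,5),(3,8),(4,2),(5,2),(6,10),(7,8),(8,7),(11,7),(12,8),(13,1),(14,3),(15,6),(16,9),(17,3),(18,5),(19,8),(21,1),(22,7),(23,3),(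25,8),(26,6),(27,2),(28,3),(29,2),(30,4),(31,5),(33,5),(34,7),(36,5),(37,9),(38,3),(39,1),(40,5),(41,6),(42,5),(43,7),(44,7),(45,4),(47,5),(48,4),(49,2),(50,4),(51,3),(53,9),(54,10),(57,9),(58,7),(59,2),(61,3),(62,2),(63,3),(64,7),(65,2),(66,6),(67,6),(68,2),(69,10),(70,4),(71,10),(72,3),(73,8),(74,2),(75,4),(76,2),(77,10),(78,4),(79,9),(81,9),(82,7),(83,5),(84,7),(85,3),(86,4),(87,5),(89,8),(90,9),(91,7),(92,2),(93,8),(94,8),(96,7),(97,6),(98,2),(99,4),(100,4),(101,8),(103,10),(104,1),(105,2),(106,3),(107,7),(109,6),(110,1),(113,2),(114,3),(115,2),(117,2),(118,1),(119,6),(120,8),(121,9),(122,6),(123,3),(124,5),(125,6),(126,8),(127,6),(128,3),(129,5),(130,10),(131,8),(132,10)]))) 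
 (.node 
 (.node (.leaf [(0,2),(1,1),(2,2),(3,3),(4,1),(6,2),(7,2),(8,1),(9,2),(10,1),(11,7),(12,9),(13,2),(14,2),(15,1),(17,1),(18,2),(19,2),(20,8),(21,8),(22,3),(23,5),(24,9),(25,10),(27,3),(28,4),(29,6),(30,6),(31,2),(32,3),(33,4),(34,8),(35,9),(36,8),(37,5),(38,6),(39,4),(40,7),(41,10),(42,8),(43,4),(44,5),(45,4),(46,5),(47,1),(48,4),(49,10),(50,4),(51,7),(52,10),(53,4),(54,10),(55,4),(56,6),(57,10),(58,10),(59,9),(60,3),(61,8),(62,10),(63,8),(64,2),(65,6),(66,10),(67,7),(68,8),(69,6),(70,9),(71,10),(72,10),(73,2),(74,8),(75,9),(76,4),(77,3),(78,4),(79,7),(80,3),(81,10),(82,8),(83,8),(84,9),(85,1),(86,5),(87,9),(88,7),(89,5),(90,3),(91,4),(92,6),(94,9),(95,10),(97,10),(98,8),(99,5),(100,8),(101,4),(102,3),(103,4),(105,5),(106,9),(107,7),(109,3),(110,7),(111,2),(112,4),(113,4),(115,2),(116,4),(117,2),(118,5),(120,2),(121,5),(122,5),(123,10),(124,9),(125,6),(126,7),(127,5),(128,6),(129,6),(130,7),(131,2),(132,4)])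 (.leaf [(2,3),(4,4),(5,2),(6,9),(7,1),(8,1),(9,1),(10,7),(11,1),(12,1),(13,5),(14,4),(15,2),(16,5),(17,3),(18,5),(19,9),(20,6),(24,4),(25,6),(26,1),(27,4),(28,10),(29,9),(31,5),(33,2),(34,6),(35,10),(36,3),(37,8),(38,3),(39,5),(40,5),(42,7),(43,7),(44,4),(45,5),(47,9),(48,10),(50,10),(51,5),(53,9),(56,1),(57,8),(58,1),(63,1),(64,6),(65,9),(66,6),(67,8),(68,3),(70,9),(71,10),(72,5),(73,4),(74,4),(75,5),(76,8),(80,3),(81,3),(82,9),(84,1),(85,7),(86,4),(87,4),(89,4),(90,10),(91,8),(92,8),(94,8),(95,6),(96,7),(97,5),(98,7),(99,4),(101,7),(103,5),(104,8),(106,9),(107,6),(109,6),(110,9),(112,2),(113,8),(115,3),(116,3),(118,10),(119,4),(120,6),(121,7),(122,6),(123,5),(124,10),(126,2),(127,6),(128,2),(129,9),(130,9),(131,10),(132,5)])) 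
 (.node (.leaf [(0,8),(1,7),(2,5),(4,4),(5,1),(7,4),(10,8),(11,3),(12,9),(13,2),(14,7),(15,2),(17,7),(20,2),(21,6),(24,9),(25,5),(26,3),(27,9),(28,1),(30,8),(31,1),(33,4),(38,4),(40,2),(41,1),(44,6),(45,10),(46,10),(47,1),(49,8),(50,2),(51,4),(54,8),(55,6),(58,2),(59,3),(60,1),(64,6),(66,5),(67,2),(70,5),(72,5),(74,5),(76,4),(77,9),(78,5),(79,5),(80,4),(81,6),(82,4),(83,9),(84,5),(85,1),(86,10),(87,1),(88,6),(89,4),(92,3),(93,5),(94,10),(95,6),(96,2),(97,3),(98,8),(99,5),(100,4),(101,4),(102,7),(103,1),(104,4),(105,8),(106,1),(107,8),(108,9),(109,5),(110,5),(111,2),(113,5),(114,2),(115,2),(116,4),(117,7),(120,9),(121,10),(122,4),(123,4),(124,2),(125,7),(126,2),(127,1),(128,2),(129,2),(130,7),(132,8)]) (.leaf [(0,10),(1,4),(2,4),(3,4),(4,9),(5,5),(6,1),(7,6),(8,5),(9,3),(10,4),(11,3),(12,8),(13,2),(14,1),(15,6),(16,9),(17,4),(19,4),(20,3),(21,9),(23,7),(24,7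),(25,3),(26,8),(28,5),(29,5),(30,9),(31,7),(32,7),(34,8),(35,7),(36,8),(37,10),(38,4),(39,8),(40,7),(41,9),(42,8),(43,2),(44,5),(45,2),(46,1),(47,8),(48,5),(49,9),(50,10),(51,9),(52,1),(53,6),(54,9),(55,10),(56,4),(57,5),(58,9),(59,3),(60,4),(61,1),(62,9),(63,5),(64,9),(65,3),(66,4),(67,3),(68,4),(70,7),(72,8),(73,9),(74,9),(75,3),(77,1),(79,8),(80,6),(81,10),(82,5),(83,9),(84,3),(85,9),(86,9),(88,8),(89,2),(90,2),(91,6),(92,2),(93,2),(94,6),(95,6),(96,7),(97,10),(98,3),(99,6),(100,5),(101,8),(103,6),(104,8),(106,4),(107,7),(108,2),(109,6),(110,4),(111,6),(112,2),(114,4),(115,1),(116,3),(117,2),(118,10),(119,3),(120,10),(121,6),(122,6),(123,4),(124,9),(126,3),(127,5),(128,7),(129,7),(130,4),(131,4),(132,8)])))) 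
 (.node 
 (.node 
 (.node (.leaf [(0,9),(1,10),(2,9),(3,1),(5,3),(6,9),(7,1),(9,10),(10,10),(11,1),(12,1),(15,10),(16,2),(17,1),(19,9),(20,2),(21,3),(23,1),(24,5),(25,9),(26,6),(27,8),(28,1),(29,9),(30,5),(31,10),(32,10),(33,1),(34,1),(35,6),(36,9),(37,9),(38,4),(39,9),(40,5),(41,7),(42,9),(44,1),(45,9),(46,8),(47,2),(48,5),(49,1),(50,2),(51,7),(52,9),(53,6),(54,7),(55,9),(56,7),(58,4),(59,3),(60,10),(62,8),(63,1),(64,7),(65,9),(66,3),(67,1),(70,5),(72,1),(73,2),(74,4),(75,1),(76,9),(77,8),(79,9),(80,10),(81,9),(82,1),(83,8),(84,9),(85,4),(86,3),(87,10),(88,6),(89,1),(90,8),(91,3),(92,7),(93,8),(96,2),(97,10),(100,3),(101,8),(102,8),(103,4),(104,3),(105,6),(106,10),(107,2),(108,9),(109,2),(110,1),(111,9),(112,2),(113,1),(115,7),(117,5),(118,5),(119,5),(121,4),(122,3),(123,7),(124,10),(126,8),(128,6),(129,9),(130,4),(131,7),(132,9)]) (.leaf [(2,2),(4,3),(6,1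0),(7,6),(8,10),(9,4),(10,10),(11,9),(13,6),(14,5),(15,9),(17,3),(18,3),(19,1),(20,10),(25,3),(26,9),(28,7),(31,10),(33,5),(34,2),(35,1),(36,10),(38,8),(39,4),(40,8),(41,6),(44,3),(45,9),(48,1),(50,8),(51,3),(54,10),(56,1),(58,8),(62,1),(63,8),(64,3),(66,2),(67,10),(70,3),(72,9),(75,8),(78,4),(79,7),(81,1),(84,4),(85,7),(86,5),(87,6),(89,1),(91,1),(92,10),(93,4),(94,10),(95,7),(96,10),(97,10),(98,6),(100,1),(104,5),(106,10),(107,1),(110,6),(112,5),(113,3),(117,3),(118,5),(121,8),(122,6),(123,6),(125,8),(128,5),(129,9)])) 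
 (.node (.leaf [(0,10),(1,8),(2,4),(3,7),(4,2),(5,3),(6,6),(7,10),(8,10),(9,2),(10,9),(11,2),(12,10),(13,9),(14,1),(15,6),(16,1),(17,8),(19,4),(20,5),(21,1),(22,1),(23,1),(25,2),(26,6),(27,5),(28,3),(30,2),(31,8),(35,10),(36,9),(38,3),(39,7),(40,4),(41,10),(42,4),(43,1),(44,7),(45,3),(47,3),(48,9),(49,2),(50,7),(51,6),(53,7),(54,6),(56,10),(58,9),(62,4),(63,8),(64,5),(66,6),(67,1),(70,2),(72,3),(74,1),(76,2),(77,10),(78,9),(79,2),(82,10),(84,1),(85,9),(86,6),(87,2),(89,7),(90,1),(91,9),(92,8),(93,2),(94,8),(95,1),(97,3),(98,5),(99,9),(100,4),(101,1),(103,10),(104,9),(106,10),(107,8),(109,4),(110,7),(112,8),(113,3),(114,10),(115,3),(117,5),(118,9),(119,6),(120,5),(121,8),(123,7),(124,7),(126,1),(129,5),(130,5),(131,10),(132,1)]) (.leaf [(0,7),(1,3),(2,1),(3,1),(4,1),(5,7),(7,2),(10,3),(11,7),(13,3),(14,3),(16,2),(17,9),(18,3),(19,8),(20,9),(21,10),(22,10),(2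3,10),(24,2),(25,1),(26,4),(27,3),(28,9),(29,5),(30,8),(31,6),(32,7),(33,6),(36,3),(37,7),(38,1),(39,3),(40,6),(41,5),(42,10),(43,5),(45,7),(46,3),(47,7),(48,6),(49,1),(50,4),(51,8),(52,5),(53,4),(54,8),(55,8),(57,3),(59,2),(60,2),(61,7),(64,4),(65,1),(66,5),(67,8),(68,7),(69,7),(70,6),(71,8),(72,10),(73,8),(74,7),(76,3),(77,6),(78,5),(79,5),(80,10),(81,8),(82,6),(84,6),(85,9),(86,4),(87,8),(89,4),(92,7),(93,8),(94,7),(95,4),(96,9),(97,5),(99,10),(100,2),(101,3),(102,10),(103,7),(104,4),(106,7),(107,8),(108,6),(109,7),(110,6),(111,10),(113,10),(114,6),(115,7),(117,10),(120,5),(121,2),(122,7),(123,9),(124,2),(125,10),(126,9),(127,4),(128,7),(129,10),(130,8),(132,9)]))) 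
 (.node 
 (.node (.leaf [(2,7),(4,5),(6,7),(7,10),(8,2),(9,3),(10,9),(11,5),(12,8),(13,1),(14,5),(15,6),(16,5),(17,8),(19,6),(20,10),(24,3),(25,10),(26,9),(27,4),(28,3),(29,1),(30,9),(31,3),(33,9),(34,10),(35,9),(36,3),(37,1),(38,3),(39,7),(40,4),(41,4),(42,9),(43,1),(44,5),(45,4),(47,3),(48,6),(50,1),(51,3),(54,4),(56,9),(58,9),(59,10),(60,5),(62,2),(63,6),(64,6),(66,6),(67,3),(70,5),(74,2),(75,10),(76,10),(80,5),(81,1),(82,4),(83,10),(84,5),(85,7),(86,7),(87,3),(89,1),(90,2),(91,10),(92,8),(93,8),(94,8),(95,8),(97,8),(98,5),(99,9),(100,9),(103,6),(104,6),(106,9),(107,2),(109,4),(110,7),(112,2),(113,3),(114,6),(115,9),(116,6),(118,9),(119,6),(121,7),(123,7),(124,7),(126,2),(128,5),(130,10),(131,4)]) (.leaf [(0,10),(1,6),(2,7),(3,4),(4,9),(5,1),(7,2),(8,9),(9,5),(10,2),(12,2),(13,5),(14,3),(15,8),(16,4),(17,6),(18,10),(19,10),(20,3),(21,1),(22,3),(23,7),(25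,3),(26,6),(27,2),(28,9),(29,5),(31,6),(33,9),(34,7),(35,9),(36,7),(37,6),(38,6),(39,6),(40,10),(41,2),(42,9),(43,7),(44,4),(45,8),(47,7),(48,3),(49,2),(50,5),(51,2),(53,10),(56,2),(57,6),(58,10),(61,10),(62,1),(63,7),(64,3),(65,5),(66,1),(67,4),(68,1),(69,3),(70,1),(71,10),(72,8),(73,7),(74,2),(75,4),(76,4),(77,10),(78,9),(79,4),(81,2),(82,10),(83,5),(84,2),(85,2),(86,8),(87,7),(89,10),(90,6),(91,5),(92,4),(93,9),(94,5),(95,5),(96,3),(97,4),(98,9),(99,4),(100,7),(101,9),(103,10),(104,10),(105,2),(106,6),(107,4),(109,3),(110,10),(112,6),(113,5),(117,6),(118,3),(120,3),(121,6),(122,1),(123,8),(124,8),(125,2),(127,6),(128,8),(129,2),(130,10),(131,10),(132,1)])) 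
 (.node (.leaf [(0,7),(1,3),(2,2),(4,8),(5,2),(6,6),(7,2),(8,8),(9,4),(10,9),(11,1),(12,10),(13,10),(15,10),(17,5),(18,10),(19,6),(20,8),(21,2),(24,3),(25,8),(26,8),(27,5),(28,6),(29,4),(31,6),(33,4),(34,7),(35,5),(36,7),(38,6),(40,6),(41,7),(42,3),(44,9),(45,3),(48,2),(49,10),(50,5),(51,4),(54,10),(55,9),(56,9),(58,8),(59,5),(60,7),(62,1),(63,8),(64,1),(66,4),(67,7),(70,7),(72,6),(74,8),(75,7),(76,10),(77,7),(79,5),(80,8),(81,7),(82,1),(83,7),(84,10),(85,1),(86,1),(87,10),(88,5),(89,1),(90,7),(92,7),(93,4),(94,3),(95,1),(96,2),(97,3),(98,8),(99,10),(100,4),(102,3),(103,1),(104,9),(105,7),(106,5),(107,2),(108,10),(109,4),(110,3),(111,4),(113,8),(114,9),(115,9),(116,7),(117,10),(119,7),(121,8),(122,5),(123,2),(124,9),(126,9),(127,10),(128,1),(129,2),(130,9),(131,2),(132,10)]) (.leaf [(0,10),(1,4),(2,10),(3,4),(4,3),(5,10),(6,5),(7,5),(8,1),(9,5),(10,10),(11,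8),(12,2),(13,7),(14,9),(15,1),(16,1),(17,7),(18,9),(20,3),(21,9),(23,7),(24,7),(25,1),(26,10),(28,6),(29,4),(30,9),(31,4),(32,7),(33,8),(34,6),(35,2),(36,2),(38,7),(39,7),(40,9),(41,1),(42,8),(43,2),(44,2),(46,1),(47,8),(48,8),(49,9),(50,7),(51,1),(52,1),(53,1),(54,3),(55,10),(56,9),(57,6),(58,3),(59,10),(60,4),(61,1),(62,4),(63,3),(65,2),(66,2),(67,9),(68,9),(70,2),(72,10),(73,1),(74,9),(75,5),(76,4),(77,1),(79,8),(80,6),(81,5),(83,9),(84,1),(86,9),(87,7),(88,8),(89,10),(90,7),(91,8),(95,8),(96,1),(97,2),(98,3),(99,6),(101,2),(103,6),(104,1),(106,6),(107,5),(108,2),(109,3),(110,1),(111,6),(112,10),(113,5),(114,1),(115,6),(116,3),(117,2),(118,2),(119,4),(120,9),(121,1),(122,4),(123,7),(124,1),(126,6),(127,5),(128,9),(129,2),(130,4),(131,3),(132,3)]))))) 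
 (.node 
 (.node 
 (.node 
 (.node (.leaf [(0,9),(1,10),(2,7),(3,10),(5,1),(6,9),(7,10),(9,8),(10,10),(11,1),(12,1),(15,10),(16,2),(17,10),(18,9),(19,7),(21,3),(22,2),(23,10),(24,6),(25,9),(26,6),(27,5),(28,10),(29,9),(30,5),(31,1),(32,10),(33,1),(34,5),(35,2),(36,10),(38,3),(39,9),(40,1),(41,6),(42,1),(43,9),(44,1),(45,8),(46,3),(47,2),(48,5),(49,1),(50,1),(51,6),(52,9),(53,2),(54,8),(55,8),(56,5),(57,7),(58,4),(59,4),(60,1),(62,6),(63,3),(64,8),(65,9),(66,1),(70,4),(71,4),(72,1),(73,6),(74,4),(75,3),(76,9),(77,8),(78,7),(79,2),(80,2),(81,9),(82,8),(83,2),(84,2),(85,1),(86,3),(87,5),(88,6),(89,5),(90,4),(91,7),(92,3),(93,4),(94,8),(95,3),(96,10),(97,3),(98,6),(99,7),(100,3),(101,1),(102,7),(103,7),(104,3),(105,6),(106,5),(107,10),(108,9),(109,7),(110,4),(111,1),(112,7),(113,7),(114,4),(116,8),(117,6),(118,10),(120,5),(121,3),(122,6),(123,2),(124,10),(125,10),(126,4),(127,6),(128,6),(129,3),(131,2),(132,9)])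 (.leaf [(0,2),(1,6),(4,1),(5,8),(6,7),(7,6),(8,7),(9,8),(10,5),(11,4),(12,10),(13,4),(14,7),(15,5),(17,2),(18,5),(19,10),(20,8),(21,9),(22,4),(25,2),(26,3),(28,7),(30,7),(31,8),(33,1),(34,9),(35,4),(36,5),(38,9),(40,9),(41,9),(42,4),(44,4),(45,1),(46,9),(47,5),(48,2),(49,6),(50,4),(51,3),(54,6),(55,3),(56,2),(58,7),(59,8),(62,2),(63,4),(64,6),(66,5),(67,1),(70,1),(74,10),(75,4),(76,1),(78,9),(79,6),(81,2),(82,5),(84,4),(85,2),(86,1),(87,5),(89,5),(90,7),(91,1),(92,10),(93,9),(94,3),(95,7),(96,3),(97,7),(98,10),(100,8),(101,3),(103,6),(104,2),(105,4),(106,6),(109,3),(110,6),(112,5),(113,4),(117,1),(118,5),(119,2),(120,4),(121,7),(122,4),(123,6),(125,10),(127,3),(128,3),(129,7),(130,5),(131,2),(132,6)])) 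
 (.node (.leaf [(0,8),(1,9),(2,10),(3,2),(4,10),(5,10),(6,3),(7,6),(8,3),(9,1),(11,6),(12,1),(14,3),(15,5),(16,6),(17,8),(18,3),(19,4),(20,5),(21,1),(22,3),(23,5),(24,8),(25,8),(26,3),(27,2),(28,4),(30,7),(31,2),(33,4),(34,2),(35,1),(36,10),(38,3),(39,4),(40,4),(41,3),(42,2),(43,3),(44,10),(45,9),(46,4),(47,2),(48,1),(49,9),(50,5),(51,8),(53,5),(55,4),(56,3),(58,10),(59,9),(62,7),(63,4),(64,6),(65,4),(66,6),(67,9),(68,1),(70,3),(72,7),(75,7),(77,9),(78,6),(79,10),(80,9),(81,1),(82,8),(83,4),(84,3),(85,6),(86,3),(87,4),(89,7),(90,5),(91,2),(92,10),(93,4),(94,8),(95,8),(97,4),(98,4),(99,6),(100,7),(101,7),(102,4),(103,8),(104,3),(105,2),(106,2),(109,2),(110,9),(111,9),(112,5),(113,2),(114,4),(115,4),(116,4),(117,3),(118,7),(119,9),(120,2),(123,6),(124,7),(125,4),(126,4),(127,4),(128,5),(129,9),(130,8),(131,10),(132,8)]) (.leaf [(2,2),(4,5),(5,3),(6,3),(7,3),(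8,6),(9,10),(10,2),(11,2),(12,9),(13,7),(14,10),(15,2),(16,8),(17,10),(18,1),(19,6),(20,9),(25,9),(26,10),(28,8),(29,7),(30,6),(31,2),(33,3),(34,1),(35,4),(36,7),(37,4),(38,10),(39,3),(40,2),(41,8),(42,5),(44,1),(47,4),(48,9),(50,2),(51,9),(53,8),(54,9),(56,7),(57,4),(58,6),(59,9),(62,2),(65,7),(66,9),(67,4),(68,3),(70,5),(72,2),(73,3),(75,10),(76,2),(81,6),(82,1),(84,2),(85,5),(86,6),(87,6),(89,4),(90,10),(91,3),(92,8),(93,6),(94,1),(95,9),(96,5),(97,7),(98,5),(100,10),(101,10),(103,7),(104,5),(106,10),(107,1),(109,9),(110,9),(112,3),(113,7),(114,3),(115,1),(118,2),(119,3),(120,8),(121,4),(122,9),(123,8),(124,2),(126,8),(128,2),(129,2),(131,9),(132,10)]))) 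
 (.node 
 (.node (.leaf [(0,4),(1,4),(2,8),(3,8),(4,10),(5,1),(6,6),(8,1),(9,2),(10,2),(11,10),(12,4),(13,9),(14,10),(15,4),(16,6),(18,3),(19,8),(20,10),(21,9),(22,8),(23,9),(24,8),(25,8),(26,5),(27,4),(30,1),(31,1),(32,1),(33,5),(34,10),(35,4),(36,6),(37,10),(39,4),(41,2),(42,1),(43,7),(44,10),(45,5),(46,7),(47,10),(48,5),(49,4),(50,1),(51,6),(53,6),(54,2),(55,7),(56,5),(58,8),(59,5),(60,1),(62,2),(63,3),(64,4),(67,7),(68,6),(70,1),(72,7),(74,10),(75,3),(76,1),(77,1),(78,1),(79,3),(80,2),(81,1),(82,8),(83,8),(85,10),(86,3),(87,10),(88,9),(89,5),(90,7),(91,7),(92,7),(93,8),(95,2),(98,1),(99,3),(100,7),(101,4),(102,7),(103,2),(104,3),(105,5),(106,7),(107,2),(109,2),(110,9),(111,2),(112,3),(113,7),(114,2),(116,2),(117,7),(118,7),(119,2),(120,9),(121,2),(123,2),(124,5),(125,2),(126,8),(127,2),(128,5),(129,7),(130,4),(131,3),(132,3)]) (.leaf [(0,10),(1,10),(2,3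),(3,10),(4,5),(5,5),(7,5),(8,3),(9,4),(10,2),(11,10),(12,1),(13,3),(14,1),(15,9),(16,5),(17,4),(18,7),(20,4),(21,5),(22,1),(23,1),(24,8),(25,4),(26,6),(28,6),(29,6),(30,2),(31,2),(33,2),(34,5),(35,5),(36,5),(37,8),(38,4),(39,1),(40,3),(41,1),(42,9),(43,9),(44,5),(45,3),(46,3),(47,1),(51,7),(53,6),(55,8),(56,6),(57,10),(59,5),(60,7),(61,1),(62,8),(63,1),(64,8),(65,8),(66,8),(67,6),(68,9),(69,1),(70,6),(71,9),(72,7),(73,1),(74,9),(75,6),(77,1),(78,3),(79,3),(80,1),(81,8),(82,1),(83,7),(84,5),(85,1),(86,2),(87,2),(89,2),(90,7),(91,6),(92,7),(93,2),(94,7),(95,3),(96,2),(97,9),(98,2),(99,5),(100,2),(101,8),(102,9),(103,3),(104,7),(105,1),(106,9),(107,6),(109,5),(110,9),(111,7),(112,4),(113,1),(115,5),(116,5),(117,8),(118,5),(119,9),(120,5),(121,9),(122,8),(123,6),(124,7),(125,8),(126,8),(127,6),(128,8),(129,8),(130,9),(131,6),(132,10)])) 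
 (.node (.leaf [(0,10),(1,9),(2,8),(4,2),(5,3),(6,10),(7,6),(8,6),(9,3),(10,7),(11,2),(13,1),(14,2),(15,3),(17,2),(18,5),(19,9),(20,9),(21,6),(24,5),(25,2),(26,5),(28,7),(30,7),(31,10),(33,9),(34,8),(35,1),(36,6),(38,9),(40,9),(41,2),(42,4),(44,2),(45,3),(46,10),(47,5),(48,10),(49,8),(50,10),(51,1),(54,7),(55,4),(56,4),(60,3),(62,9),(63,6),(64,3),(66,5),(67,2),(70,2),(72,6),(74,7),(75,8),(77,10),(78,9),(79,10),(80,1),(81,8),(82,5),(84,4),(85,2),(86,7),(87,5),(89,4),(90,8),(93,1),(94,3),(96,3),(97,7),(98,4),(100,8),(101,3),(102,10),(103,6),(104,8),(105,10),(106,7),(107,4),(109,9),(111,6),(113,4),(114,6),(116,1),(117,9),(119,8),(120,4),(121,2),(122,4),(124,3),(125,7),(126,6),(128,7),(129,1),(130,5),(131,7)]) (.leaf [(0,3),(1,6),(3,4),(4,2),(6,10),(7,1),(8,2),(9,10),(10,8),(12,4),(13,9),(14,4),(15,2),(16,3),(17,5),(18,6),(19,6),(20,9),(21,8),(22,3),(23,7),(25,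1),(26,8),(28,10),(29,7),(30,6),(31,3),(33,7),(34,1),(35,4),(36,2),(37,4),(38,2),(39,1),(40,1),(41,8),(42,5),(43,8),(44,1),(45,8),(46,5),(47,9),(48,7),(49,2),(51,4),(54,9),(55,6),(56,7),(57,1),(58,7),(59,1),(61,3),(62,8),(63,6),(64,3),(65,10),(66,10),(67,9),(68,5),(69,2),(70,9),(71,5),(72,10),(73,2),(74,10),(75,10),(76,5),(77,6),(78,5),(79,8),(81,1),(82,2),(84,1),(85,8),(86,4),(87,5),(89,6),(90,3),(91,5),(92,8),(93,3),(94,4),(95,10),(96,4),(97,1),(98,7),(99,3),(100,1),(101,2),(102,9),(103,5),(105,2),(106,1),(107,3),(110,10),(111,3),(112,9),(113,2),(114,9),(115,2),(117,3),(118,4),(119,8),(120,4),(121,9),(122,1),(123,10),(124,3),(125,4),(126,10),(127,3),(128,8),(129,10),(130,9),(131,6),(132,8)])))) 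
 (.node 
 (.node 
 (.node (.leaf [(4,10),(5,10),(6,2),(7,3),(8,10),(9,1),(11,1),(12,1),(13,9),(16,7),(19,2),(20,3),(22,6),(23,9),(24,9),(25,2),(26,5),(27,7),(28,1),(29,7),(30,8),(32,7),(33,9),(34,9),(35,9),(36,7),(37,6),(38,5),(39,9),(40,6),(41,7),(42,2),(43,7),(44,6),(45,6),(46,6),(47,6),(48,5),(50,7),(51,1),(52,7),(53,5),(54,4),(56,3),(57,9),(58,10),(59,8),(60,2),(61,3),(62,6),(63,9),(65,3),(66,3),(67,7),(68,3),(69,1),(70,10),(71,1),(72,1),(73,6),(74,8),(75,10),(76,9),(78,8),(79,9),(80,3),(81,7),(82,6),(83,5),(84,3),(85,1),(86,8),(87,3),(88,5),(89,2),(90,4),(91,6),(92,5),(93,4),(94,6),(95,3),(96,5),(97,5),(98,8),(99,6),(100,7),(101,4),(102,7),(103,7),(104,3),(106,2),(107,3),(108,8),(111,1),(112,9),(113,5),(115,5),(116,2),(117,2),(118,7),(119,7),(120,10),(121,9),(122,9),(123,3),(124,4),(125,1),(127,6),(128,4),(129,3),(130,7),(131,7),(132,9)]) (.leaf [(0,1)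,(2,1),(3,2),(4,10),(5,8),(8,4),(9,6),(10,9),(11,4),(12,7),(14,1),(15,7),(16,1),(18,9),(19,8),(20,2),(21,6),(22,6),(23,9),(24,1),(25,2),(29,1),(30,2),(31,5),(32,7),(33,9),(34,9),(35,7),(36,1),(37,9),(39,7),(41,5),(42,9),(43,10),(44,6),(45,10),(46,8),(47,4),(48,8),(49,7),(50,8),(51,8),(52,10),(53,3),(54,10),(55,3),(56,4),(57,10),(58,3),(59,6),(60,3),(61,1),(62,5),(63,4),(64,1),(65,7),(67,10),(68,7),(69,9),(70,7),(71,10),(72,9),(73,6),(75,2),(76,2),(77,2),(78,1),(79,10),(80,5),(81,3),(82,6),(83,3),(85,7),(86,2),(87,8),(88,4),(89,8),(90,5),(92,5),(93,9),(95,1),(97,5),(98,5),(99,8),(100,1),(101,6),(102,2),(103,7),(104,6),(105,9),(106,6),(107,9),(108,6),(109,1),(110,3),(111,4),(112,5),(113,1),(114,2),(115,6),(116,4),(118,1),(119,10),(120,5),(121,10),(123,6),(125,9),(126,9),(127,3),(128,10),(129,3),(131,3)])) 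
 (.node (.leaf [(2,8),(4,5),(6,2),(7,4),(8,8),(9,10),(10,8),(11,10),(12,10),(13,8),(14,7),(15,3),(16,7),(17,1),(19,6),(20,4),(25,5),(26,10),(28,10),(30,3),(31,10),(33,2),(34,1),(35,3),(36,8),(38,10),(39,1),(40,6),(41,9),(42,8),(44,1),(45,3),(47,10),(48,1),(50,8),(51,3),(54,9),(56,3),(59,10),(62,2),(63,5),(64,6),(66,9),(67,8),(72,2),(75,1),(76,1),(82,1),(84,9),(85,4),(86,9),(87,10),(89,6),(90,10),(91,5),(92,6),(93,7),(94,1),(95,2),(97,5),(98,2),(100,10),(101,1),(103,2),(104,1),(106,5),(107,6),(109,6),(112,10),(113,5),(114,4),(115,6),(119,6),(120,5),(121,6),(123,1),(124,5),(126,7),(129,5),(131,6),(132,5)]) (.leaf [(0,8),(1,1),(2,7),(3,8),(4,4),(5,7),(6,9),(8,1),(9,5),(10,10),(11,8),(13,1),(14,1),(15,7),(16,3),(17,4),(18,6),(19,9),(20,2),(21,5),(22,6),(23,3),(24,6),(25,2),(26,1),(29,5),(30,5),(31,5),(33,2),(34,6),(35,8),(36,4),(37,8),(38,9),(39,10),(40,9),(41,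9),(42,6),(44,2),(45,5),(46,4),(47,3),(48,8),(49,5),(50,9),(51,2),(53,4),(54,8),(55,7),(56,3),(57,7),(58,10),(60,6),(61,2),(62,4),(63,1),(64,6),(65,9),(66,2),(67,7),(68,5),(69,4),(70,3),(72,9),(73,9),(74,4),(75,5),(77,3),(78,10),(79,5),(80,8),(81,2),(82,3),(84,1),(85,1),(86,7),(87,6),(89,10),(90,7),(91,10),(92,5),(93,6),(94,9),(95,1),(96,9),(97,1),(98,4),(100,2),(101,4),(102,10),(103,4),(104,3),(109,9),(110,4),(111,5),(112,7),(113,3),(114,1),(117,4),(118,2),(119,5),(120,8),(121,7),(122,6),(123,9),(124,3),(125,8),(126,3),(128,5),(129,1),(130,6),(131,3)]))) 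
 (.node 
 (.node (.leaf [(0,8),(1,9),(2,9),(3,6),(4,5),(5,2),(6,10),(7,6),(8,8),(9,4),(10,6),(11,5),(12,6),(14,10),(15,6),(16,2),(17,7),(18,3),(19,7),(21,1),(22,4),(23,4),(24,8),(25,3),(26,1),(27,2),(28,4),(29,1),(30,1),(31,1),(33,9),(34,4),(35,7),(36,4),(37,10),(38,4),(39,4),(40,9),(41,9),(42,8),(43,3),(44,9),(45,3),(46,4),(47,4),(48,2),(49,9),(50,4),(51,9),(53,1),(54,4),(55,4),(56,6),(57,4),(58,10),(59,8),(62,3),(63,7),(64,3),(66,8),(67,6),(68,5),(70,3),(72,5),(75,6),(76,1),(77,9),(78,8),(79,8),(80,9),(81,1),(82,2),(83,4),(84,3),(85,1),(86,3),(87,3),(89,7),(91,1),(93,9),(94,7),(95,8),(97,4),(98,4),(99,6),(100,8),(101,8),(102,4),(103,8),(104,4),(105,2),(106,7),(107,6),(109,2),(110,9),(111,9),(113,7),(114,4),(115,3),(116,4),(117,9),(118,7),(119,4),(120,7),(121,6),(124,7),(125,9),(126,4),(127,4),(128,5),(129,9),(130,8),(132,9)]) (.leaf [(0,10),(1,10),(2,2),(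3,7),(4,10),(5,5),(6,4),(7,5),(8,10),(9,7),(10,7),(11,8),(12,10),(13,2),(14,8),(15,8),(16,10),(17,3),(18,5),(19,7),(20,10),(21,5),(22,9),(23,4),(24,8),(25,2),(28,6),(29,5),(33,4),(35,6),(36,4),(37,9),(38,3),(39,1),(40,5),(41,10),(43,9),(44,6),(45,2),(46,3),(47,2),(48,2),(50,10),(51,8),(53,6),(54,10),(55,8),(56,5),(57,6),(59,1),(60,7),(61,4),(62,9),(64,9),(65,1),(66,6),(67,7),(68,9),(69,9),(70,6),(71,9),(72,9),(73,1),(74,9),(76,4),(77,1),(78,5),(79,1),(80,1),(81,3),(82,4),(83,7),(84,5),(85,2),(86,8),(87,7),(89,7),(90,4),(91,1),(92,1),(93,1),(94,8),(95,3),(96,7),(97,4),(98,7),(99,5),(100,1),(101,2),(102,9),(103,1),(104,2),(105,1),(106,7),(107,8),(109,5),(110,4),(111,7),(112,4),(113,5),(115,1),(116,5),(117,10),(118,10),(119,9),(120,5),(121,5),(122,6),(123,6),(124,7),(125,6),(126,8),(127,6),(128,10),(129,8),(130,9),(131,7),(132,3)])) 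
 (.node (.leaf [(0,2),(1,6),(2,1),(3,5),(4,1),(6,5),(7,6),(8,1),(9,6),(11,5),(12,9),(13,5),(14,9),(15,9),(17,10),(18,1),(19,6),(20,2),(21,9),(23,4),(25,1),(26,7),(28,7),(30,4),(31,1),(33,3),(34,5),(35,6),(36,3),(38,1),(40,10),(41,7),(42,7),(44,1),(45,7),(46,9),(47,6),(48,9),(49,6),(51,7),(54,1),(55,3),(56,2),(58,9),(59,1),(62,7),(63,3),(64,7),(66,2),(67,1),(70,10),(72,3),(74,10),(75,5),(76,8),(78,10),(79,5),(81,4),(82,7),(85,5),(86,4),(87,8),(89,8),(90,5),(93,6),(94,7),(96,1),(97,4),(98,7),(100,4),(101,7),(103,1),(104,10),(105,4),(106,10),(107,7),(113,10),(115,6),(117,2),(119,4),(120,2),(121,1),(122,9),(124,3),(125,9),(127,3),(128,9),(129,10),(130,5),(131,3)]) (.leaf [(0,3),(1,6),(2,8),(3,7),(4,10),(5,6),(6,3),(7,8),(8,3),(9,7),(10,9),(11,10),(12,10),(13,8),(14,3),(15,10),(17,4),(18,2),(19,7),(20,7),(21,8),(22,6),(23,4),(25,4),(26,7),(28,3),(29,5),(30,7),(3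1,10),(33,3),(34,2),(36,6),(37,6),(38,9),(39,8),(40,9),(41,1),(42,4),(43,8),(44,5),(46,5),(49,2),(50,9),(51,6),(53,5),(54,6),(55,6),(57,7),(58,3),(59,5),(61,10),(63,9),(65,4),(66,2),(67,5),(69,6),(70,2),(71,5),(72,7),(74,10),(75,9),(76,1),(77,6),(78,10),(79,3),(81,7),(82,5),(84,9),(85,1),(86,1),(87,4),(89,9),(91,2),(93,10),(94,9),(95,2),(96,9),(97,9),(98,10),(99,3),(100,7),(101,6),(102,9),(103,7),(104,1),(105,2),(106,3),(107,1),(109,3),(110,5),(111,3),(112,9),(113,3),(114,7),(115,8),(117,9),(118,9),(119,7),(120,5),(121,8),(122,6),(123,10),(125,9),(126,1),(127,3),(128,3),(129,9),(130,9),(131,7),(132,2)])))))) 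
 (.node 
 (.node 
 (.node 
 (.node 
 (.node 
 (.node (.leaf [(1,3),(3,8),(4,3),(6,2),(7,9),(8,1),(9,2),(10,1),(12,9),(13,9),(14,9),(15,1),(17,3),(18,9),(20,10),(21,1),(22,10),(23,6),(25,6),(26,10),(27,1),(28,7),(29,7),(30,8),(31,2),(32,8),(33,8),(34,8),(35,1),(37,6),(39,5),(40,1),(41,10),(42,7),(43,7),(44,4),(45,2),(46,7),(47,8),(49,9),(50,4),(51,4),(52,1),(53,7),(54,10),(55,10),(56,2),(57,1),(58,6),(59,6),(60,5),(61,7),(62,10),(63,1),(64,4),(65,5),(67,3),(68,3),(69,1),(70,5),(71,5),(72,8),(73,9),(74,6),(75,9),(77,6),(79,7),(80,6),(81,7),(82,8),(83,3),(84,2),(85,6),(86,6),(87,2),(88,4),(89,5),(90,3),(91,1),(94,4),(95,5),(96,6),(97,10),(98,3),(99,9),(100,5),(101,9),(102,2),(105,2),(106,9),(107,9),(109,8),(110,5),(111,5),(112,3),(113,6),(114,4),(115,6),(116,3),(117,3),(118,5),(119,1),(120,8),(121,6),(122,10),(123,5),(124,2),(125,10),(128,9),(129,6),(131,2),(132,7)])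 (.leaf [(2,9),(3,8),(4,2),(5,3),(6,5),(7,10),(8,2),(9,2),(10,3),(11,5),(12,10),(13,1),(14,1),(15,9),(16,1),(18,9),(19,2),(20,1),(22,8),(23,3),(25,4),(28,1),(29,1),(30,4),(31,9),(33,8),(35,2),(36,9),(37,10),(38,3),(39,10),(40,7),(41,3),(42,7),(44,8),(45,3),(47,6),(48,2),(53,8),(54,2),(56,9),(57,4),(58,9),(59,10),(61,2),(62,9),(63,3),(64,8),(65,7),(66,4),(67,2),(68,3),(69,9),(70,2),(72,7),(73,9),(76,1),(78,6),(79,5),(81,8),(82,1),(84,10),(85,6),(86,8),(87,5),(89,1),(90,10),(91,8),(92,3),(93,5),(94,7),(95,1),(96,3),(97,10),(98,3),(100,4),(101,9),(103,1),(104,6),(106,10),(107,1),(109,5),(110,9),(112,10),(113,1),(114,10),(115,9),(117,4),(118,2),(119,4),(120,7),(121,10),(122,5),(123,1),(124,6),(125,7),(126,1),(128,6),(129,1),(131,2),(132,2)])) (.leaf [(0,8),(1,5),(2,2),(4,6),(5,10),(6,1),(7,7),(8,5),(9,8),(10,9),(11,7),(12,10),(14,7),(15,1),(17,4),(18,9),(19,8),(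20,6),(21,7),(24,2),(25,8),(26,9),(27,4),(28,10),(30,6),(31,6),(33,10),(34,3),(35,10),(36,2),(38,7),(40,7),(42,7),(44,10),(45,7),(46,2),(47,1),(48,4),(49,2),(50,5),(51,7),(55,6),(56,7),(58,6),(59,8),(60,10),(62,2),(63,5),(66,7),(67,4),(70,8),(72,4),(74,1),(75,3),(76,10),(77,8),(78,1),(80,7),(81,4),(82,4),(83,8),(84,10),(86,3),(87,7),(88,1),(89,4),(90,3),(92,7),(93,9),(94,7),(95,1),(96,6),(97,10),(98,1),(99,10),(101,10),(102,3),(104,10),(105,8),(106,6),(107,1),(108,2),(109,1),(110,9),(111,4),(113,3),(114,3),(115,9),(116,7),(119,3),(120,2),(121,4),(122,3),(123,2),(124,9),(125,2),(126,9),(127,10),(128,8),(130,4),(131,4),(132,10)])) 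
 (.node (.leaf [(0,2),(1,10),(2,6),(3,1),(4,7),(5,1),(6,5),(7,9),(8,1),(9,1),(10,2),(11,5),(12,10),(13,8),(14,1),(15,8),(16,1),(17,5),(20,10),(22,8),(23,8),(24,8),(25,7),(26,4),(27,2),(28,6),(30,3),(31,9),(33,10),(34,3),(35,5),(36,1),(38,6),(39,8),(40,8),(42,6),(43,8),(44,8),(45,2),(46,7),(47,6),(48,10),(49,4),(50,4),(51,8),(53,6),(54,4),(55,7),(56,6),(58,2),(59,4),(60,1),(62,9),(63,9),(64,5),(66,1),(67,2),(68,6),(70,7),(72,5),(74,10),(75,4),(76,10),(77,1),(78,1),(79,5),(80,2),(82,10),(83,6),(84,6),(85,5),(86,7),(87,7),(89,9),(90,10),(91,4),(92,1),(94,5),(95,5),(97,1),(98,9),(99,5),(100,3),(101,4),(102,7),(103,5),(104,8),(105,9),(106,9),(107,6),(109,4),(110,7),(111,2),(112,10),(113,9),(114,1),(115,7),(116,2),(117,7),(118,9),(119,9),(120,9),(123,5),(124,9),(125,2),(126,9),(127,7),(129,7),(130,8),(131,6),(132,6)]) (.leaf [(0,1),(1,1),(2,2),(3,1),(4,5),(5,7),(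6,7),(7,5),(8,6),(9,1),(11,9),(12,3),(13,2),(14,2),(15,3),(16,2),(17,4),(18,7),(19,9),(20,4),(21,6),(22,10),(23,10),(25,9),(26,5),(28,6),(29,4),(30,2),(31,8),(33,4),(34,2),(35,3),(36,4),(37,3),(38,4),(39,8),(40,3),(41,2),(42,9),(43,4),(44,1),(45,4),(46,10),(47,1),(48,3),(50,4),(51,10),(53,4),(54,10),(55,1),(56,8),(57,1),(58,6),(59,6),(60,1),(61,10),(62,4),(63,7),(64,7),(65,2),(66,8),(67,7),(68,6),(69,10),(70,2),(71,10),(72,2),(73,9),(74,4),(75,9),(77,10),(78,8),(79,8),(80,6),(81,6),(82,7),(83,3),(84,5),(85,7),(86,6),(87,6),(89,5),(90,10),(91,4),(92,2),(94,7),(96,2),(97,6),(98,2),(99,2),(100,10),(101,2),(102,7),(103,3),(104,2),(105,10),(107,8),(109,9),(110,4),(111,2),(112,2),(113,5),(114,7),(115,6),(116,2),(117,3),(118,9),(119,2),(121,4),(122,8),(124,3),(125,3),(126,5),(127,3),(128,2),(129,7),(130,1),(131,4),(132,9)]))) 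
 (.node 
 (.node (.leaf [(0,9),(1,10),(2,9),(3,10),(5,1),(7,1),(8,9),(9,10),(10,10),(11,3),(12,10),(15,10),(17,10),(19,9),(20,2),(21,3),(22,2),(23,10),(24,1),(25,10),(26,10),(27,5),(28,1),(30,3),(31,4),(32,10),(33,5),(34,1),(35,7),(36,10),(37,9),(38,10),(40,5),(41,7),(42,9),(43,9),(45,8),(46,8),(47,2),(48,2),(49,1),(50,2),(51,5),(52,2),(53,2),(54,6),(55,9),(56,6),(57,7),(58,4),(59,4),(60,1),(62,7),(63,3),(64,8),(65,2),(66,3),(69,7),(70,4),(73,2),(74,4),(75,1),(76,9),(77,8),(78,4),(79,2),(80,3),(81,5),(82,4),(83,2),(84,9),(85,8),(86,8),(88,9),(89,8),(90,1),(91,6),(92,3),(94,1),(95,7),(96,6),(97,10),(99,4),(100,7),(101,1),(102,8),(103,7),(104,8),(105,6),(106,10),(107,7),(108,3),(109,8),(110,9),(111,9),(112,10),(113,6),(114,4),(115,4),(116,6),(117,6),(118,2),(119,2),(120,5),(121,9),(122,1),(123,2),(125,5),(126,4),(127,1),(128,1),(129,8),(131,5),(132,5)]) (.leaf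 [(0,10),(1,10),(2,8),(3,10),(4,5),(5,4),(6,7),(7,5),(8,8),(9,5),(10,10),(11,8),(12,1),(13,7),(14,2),(15,1),(16,4),(17,4),(18,7),(19,7),(20,8),(21,5),(22,9),(23,1),(24,4),(25,4),(27,9),(28,6),(29,4),(30,9),(32,3),(33,5),(34,4),(36,3),(37,3),(38,4),(39,9),(40,3),(41,5),(42,2),(43,1),(44,5),(45,4),(46,3),(47,9),(48,2),(51,10),(52,3),(53,7),(54,10),(55,8),(57,8),(58,7),(59,5),(60,10),(61,1),(62,6),(63,10),(64,7),(65,3),(66,8),(67,8),(68,7),(69,9),(70,8),(71,1),(72,7),(73,9),(74,9),(75,7),(76,2),(77,1),(78,5),(79,3),(80,8),(81,8),(82,4),(83,6),(84,5),(85,4),(86,2),(87,7),(88,9),(89,6),(90,8),(91,4),(92,2),(93,9),(94,7),(95,5),(96,2),(97,1),(98,2),(99,3),(100,2),(101,7),(102,9),(103,5),(104,2),(105,1),(106,1),(107,10),(108,2),(109,10),(110,4),(111,7),(112,3),(113,2),(114,7),(115,5),(116,1),(117,8),(118,3),(119,4),(120,3),(121,2),(122,8),(123,8),(124,10),(125,6),(126,7),(127,8),(128,8),(129,6),(130,9),(131,8),(132,4)]))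 
 (.node (.leaf [(0,7),(1,5),(2,10),(4,6),(5,1),(6,5),(7,4),(8,3),(9,7),(10,1),(11,1),(12,9),(13,1),(15,10),(17,7),(18,1),(19,10),(20,5),(21,6),(24,9),(25,5),(27,9),(28,1),(30,10),(31,3),(33,6),(34,4),(35,6),(36,3),(38,4),(40,3),(41,10),(42,6),(44,5),(45,6),(49,10),(50,3),(51,1),(54,6),(55,7),(56,2),(58,2),(59,3),(60,1),(62,10),(63,3),(64,2),(66,10),(67,3),(70,4),(72,7),(74,2),(75,4),(76,4),(77,3),(79,10),(80,4),(81,9),(82,1),(83,9),(84,5),(85,6),(86,3),(87,8),(88,6),(89,6),(90,4),(92,3),(94,7),(95,10),(96,9),(97,7),(98,5),(99,5),(100,8),(102,6),(103,6),(104,3),(105,8),(106,5),(107,4),(108,1),(109,5),(110,5),(111,8),(113,1),(114,7),(115,2),(116,4),(117,6),(119,4),(122,6),(123,4),(124,2),(126,2),(127,9),(128,6),(129,9),(130,7),(131,9),(132,8)]) (.leaf [(0,10),(1,4),(2,10),(3,8),(4,4),(5,7),(6,4),(7,9),(8,9),(9,9),(10,1),(11,7),(12,4),(13,4),(14,3),(15,2),(16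,4),(17,7),(18,1),(20,2),(21,9),(22,4),(23,3),(24,4),(25,8),(26,4),(27,3),(28,2),(29,4),(30,2),(31,6),(32,7),(33,5),(34,4),(35,6),(36,10),(37,5),(38,4),(39,7),(40,2),(42,1),(43,6),(44,8),(45,10),(46,1),(47,5),(49,9),(50,9),(51,3),(52,1),(53,4),(54,3),(55,10),(56,5),(57,10),(58,6),(59,7),(60,4),(61,2),(62,4),(63,9),(64,1),(65,7),(66,9),(67,1),(68,3),(69,10),(70,1),(71,3),(72,3),(73,6),(74,3),(75,7),(76,2),(77,1),(78,3),(79,5),(80,9),(81,9),(82,8),(83,2),(84,5),(85,3),(86,8),(87,2),(88,8),(89,7),(90,7),(91,2),(92,10),(93,1),(94,4),(95,9),(96,9),(97,4),(99,1),(100,4),(101,10),(103,2),(104,4),(106,3),(107,3),(108,2),(109,9),(110,2),(111,6),(112,8),(113,9),(114,4),(115,2),(117,4),(118,4),(119,1),(120,3),(121,3),(122,10),(123,3),(124,4),(125,9),(126,7),(127,7),(128,6),(129,7),(130,1),(131,7),(132,10)])))) 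
 (.node 
 (.node 
 (.node (.leaf [(0,4),(1,2),(2,4),(3,4),(4,3),(5,3),(6,4),(7,5),(8,3),(9,3),(10,2),(11,6),(12,6),(13,2),(14,2),(15,2),(17,2),(18,2),(19,4),(20,8),(21,5),(22,3),(23,6),(24,8),(25,7),(26,3),(27,3),(28,7),(29,4),(30,2),(31,7),(32,2),(33,7),(34,7),(35,3),(36,1),(37,3),(38,3),(39,4),(41,5),(42,7),(43,4),(44,4),(45,4),(47,3),(48,1),(49,9),(50,4),(51,9),(52,1),(53,10),(54,1),(55,7),(56,10),(57,10),(58,6),(59,5),(61,8),(62,3),(63,7),(64,9),(65,4),(66,10),(67,3),(68,8),(69,6),(70,6),(71,6),(72,8),(74,5),(75,8),(76,6),(77,6),(78,4),(79,5),(80,8),(81,2),(82,4),(83,5),(84,3),(85,5),(86,2),(87,3),(88,5),(90,2),(91,1),(93,8),(94,8),(95,3),(97,3),(98,2),(99,2),(100,9),(101,6),(102,1),(104,3),(105,10),(106,9),(107,10),(108,3),(109,5),(110,7),(111,8),(112,2),(113,5),(115,9),(116,3),(117,7),(118,3),(119,6),(120,9),(121,9),(122,2),(123,7),(124,9),(125,6),(128,8),(129,9),(131,8),(132,2)])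 (.leaf [(2,9),(4,3),(5,3),(6,8),(8,4),(9,2),(11,5),(12,10),(13,1),(14,2),(15,2),(18,10),(19,3),(20,10),(25,1),(26,8),(30,8),(31,9),(33,7),(34,3),(35,3),(36,8),(40,10),(41,4),(42,3),(45,4),(47,1),(48,2),(54,5),(56,1),(58,10),(59,10),(62,6),(63,7),(64,4),(66,6),(67,10),(70,1),(72,5),(75,8),(76,1),(78,1),(79,10),(81,7),(82,4),(85,6),(86,6),(87,4),(89,4),(90,7),(93,5),(94,3),(96,4),(97,7),(98,5),(100,8),(101,4),(103,6),(104,7),(106,1),(107,10),(109,3),(110,1),(113,4),(115,5),(117,9),(118,10),(119,2),(120,9),(121,7),(122,9),(124,8),(125,2),(128,2),(129,1),(131,2),(132,6)])) 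
 (.node (.leaf [(0,3),(1,2),(2,1),(3,5),(4,5),(5,1),(6,10),(7,6),(8,2),(9,10),(10,6),(11,2),(12,1),(13,10),(15,4),(17,7),(19,5),(21,10),(22,7),(23,7),(24,7),(25,5),(26,6),(27,4),(28,4),(29,10),(30,10),(31,5),(33,4),(34,3),(36,9),(37,10),(38,4),(39,1),(40,9),(41,10),(42,8),(43,8),(44,1),(45,9),(46,1),(47,4),(48,2),(49,2),(50,1),(51,3),(53,6),(55,9),(56,1),(58,4),(59,4),(60,10),(62,5),(63,6),(64,10),(66,8),(67,10),(68,6),(70,4),(71,4),(72,2),(74,1),(75,4),(76,1),(77,2),(78,3),(79,3),(80,3),(82,6),(83,8),(84,3),(85,2),(86,10),(87,3),(89,2),(90,9),(92,4),(93,3),(94,7),(95,8),(97,9),(98,4),(99,5),(100,10),(101,4),(102,7),(103,8),(105,9),(107,4),(111,2),(112,1),(114,2),(115,4),(116,2),(117,2),(119,2),(120,9),(121,4),(123,9),(124,7),(125,2),(126,3),(127,2),(129,7),(130,8),(131,7)]) (.leaf [(0,2),(1,6),(2,2),(3,5),(4,1),(5,7),(6,10),(7,3),(8,6),(9,8),(10,4),(11,3),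(13,9),(14,10),(15,4),(16,2),(17,9),(18,9),(19,7),(20,6),(21,1),(23,6),(24,2),(25,4),(26,10),(27,3),(28,8),(29,4),(30,8),(31,8),(32,4),(33,2),(34,3),(35,4),(36,5),(38,9),(39,3),(40,10),(41,7),(42,5),(43,8),(44,7),(45,4),(46,2),(47,4),(48,8),(49,9),(50,6),(51,9),(52,10),(53,4),(54,1),(55,9),(56,7),(57,10),(58,1),(59,2),(60,2),(61,8),(62,2),(63,6),(64,7),(66,1),(67,6),(68,7),(70,4),(71,3),(72,7),(73,2),(74,1),(75,8),(76,3),(79,2),(80,10),(81,4),(82,2),(84,7),(85,3),(86,6),(87,3),(88,3),(90,9),(91,5),(92,4),(95,5),(96,6),(97,4),(98,6),(99,7),(100,5),(101,5),(103,3),(104,6),(105,10),(106,7),(107,9),(108,9),(109,7),(110,8),(111,1),(112,9),(113,9),(114,5),(115,7),(117,1),(118,1),(119,8),(120,9),(122,2),(123,8),(124,2),(126,8),(127,1),(128,5),(129,4),(130,5),(131,7),(132,9)]))) 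
 (.node 
 (.node (.leaf [(0,8),(1,9),(2,7),(3,6),(4,5),(5,10),(6,9),(7,6),(9,5),(10,8),(11,6),(12,2),(13,3),(14,3),(15,8),(16,10),(17,7),(18,3),(19,4),(20,6),(21,1),(22,3),(23,4),(24,7),(25,3),(26,3),(27,3),(28,4),(29,2),(30,8),(31,2),(32,1),(33,5),(34,3),(35,3),(36,9),(37,1),(38,4),(39,3),(40,9),(41,1),(42,1),(43,4),(44,9),(45,4),(46,4),(47,3),(48,1),(49,9),(50,9),(51,10),(53,5),(55,4),(56,2),(59,8),(60,6),(62,1),(64,4),(66,8),(67,8),(68,5),(70,4),(72,5),(75,5),(76,10),(77,9),(78,6),(79,8),(80,2),(81,1),(82,8),(83,8),(84,3),(85,6),(86,4),(87,4),(88,2),(89,6),(90,1),(91,8),(93,2),(94,7),(95,6),(97,9),(98,3),(99,8),(100,8),(101,7),(102,4),(103,6),(104,3),(105,2),(106,2),(108,5),(109,2),(110,9),(111,9),(112,6),(113,7),(114,5),(115,3),(116,4),(117,9),(118,7),(119,9),(120,2),(121,5),(124,2),(125,4),(126,9),(127,9),(128,5),(129,4),(130,8),(131,5),(132,3)]) (.leaf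 [(1,7),(2,6),(3,9),(4,7),(5,9),(6,2),(7,9),(8,2),(9,1),(11,3),(12,6),(13,7),(14,1),(15,4),(16,7),(17,6),(18,8),(19,7),(20,10),(21,7),(22,6),(23,2),(24,1),(25,6),(26,6),(27,4),(28,2),(29,6),(30,2),(34,9),(35,9),(36,7),(38,6),(39,2),(40,10),(41,7),(42,5),(43,2),(44,8),(45,9),(46,8),(47,3),(48,9),(49,2),(50,2),(51,3),(53,2),(54,10),(55,3),(56,2),(57,5),(58,2),(59,8),(60,3),(61,2),(62,6),(63,4),(64,2),(66,1),(67,4),(68,4),(69,9),(70,8),(71,2),(72,5),(73,2),(74,6),(75,2),(76,6),(77,9),(78,1),(79,6),(80,5),(81,4),(82,5),(83,4),(84,8),(85,9),(86,9),(87,4),(89,7),(90,8),(91,1),(92,10),(94,5),(95,6),(96,3),(97,9),(98,9),(99,6),(100,3),(101,9),(102,2),(103,4),(104,9),(105,1),(106,1),(107,6),(109,4),(110,2),(111,4),(112,7),(113,6),(114,10),(115,8),(116,4),(117,5),(118,10),(119,2),(120,6),(122,1),(123,5),(124,1),(125,9),(126,1),(127,5),(128,5),(129,5),(130,3),(131,1),(132,4)]))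 
 (.node (.leaf [(0,7),(1,3),(2,6),(4,8),(5,2),(6,2),(7,2),(8,10),(9,6),(10,7),(11,5),(13,1),(14,4),(15,8),(17,3),(19,9),(20,9),(21,2),(24,7),(25,6),(26,1),(27,4),(28,6),(30,4),(31,9),(33,7),(34,10),(35,9),(36,10),(38,8),(40,7),(41,1),(44,3),(45,10),(47,6),(48,8),(49,10),(50,10),(51,7),(54,9),(55,9),(56,3),(58,7),(59,3),(60,2),(62,7),(63,10),(64,8),(66,3),(67,8),(70,10),(72,1),(74,5),(75,4),(76,4),(77,7),(78,6),(79,10),(80,8),(82,7),(83,2),(84,6),(85,6),(88,5),(89,7),(90,1),(92,7),(93,2),(95,9),(96,3),(97,8),(98,3),(99,6),(100,7),(101,7),(102,3),(103,6),(104,8),(105,7),(106,4),(107,3),(108,10),(109,9),(110,7),(111,4),(113,1),(114,4),(115,5),(116,8),(117,9),(118,6),(119,6),(120,2),(121,4),(122,3),(123,2),(124,4),(125,1),(126,4),(127,10),(128,2),(129,6),(130,9),(131,5),(132,3)]) (.leaf [(0,2),(1,3),(2,6),(4,9),(5,2),(6,2),(7,5),(8,10),(9,6),(10,7),(11,3),(12,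8),(13,5),(14,7),(15,4),(16,9),(17,2),(18,5),(19,3),(20,5),(21,4),(22,8),(24,9),(26,8),(27,1),(28,6),(29,8),(30,6),(31,1),(32,8),(33,10),(34,5),(35,3),(36,3),(37,9),(38,5),(39,10),(40,8),(41,1),(42,3),(43,2),(44,9),(45,3),(46,7),(47,10),(48,9),(49,4),(50,10),(51,3),(52,9),(53,9),(54,3),(55,4),(56,8),(57,5),(58,6),(59,9),(60,9),(62,7),(63,10),(64,8),(65,10),(66,3),(67,8),(68,4),(69,9),(70,9),(73,2),(74,5),(75,6),(77,9),(78,6),(80,1),(81,3),(83,8),(84,2),(85,3),(86,9),(87,2),(88,6),(89,9),(90,4),(91,1),(93,7),(94,7),(95,4),(96,8),(97,9),(98,7),(99,6),(100,2),(101,1),(102,2),(103,1),(104,8),(106,3),(107,5),(108,7),(109,1),(110,3),(111,3),(112,4),(113,3),(114,1),(115,4),(118,9),(119,6),(120,8),(121,5),(122,3),(123,6),(124,9),(125,7),(126,4),(127,5),(128,9),(129,5),(130,9),(131,8),(132,8)]))))) 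
 (.node 
 (.node 
 (.node 
 (.node (.leaf [(0,2),(1,1),(2,4),(3,3),(4,1),(5,2),(6,2),(7,2),(8,1),(9,2),(10,1),(11,9),(12,9),(13,2),(14,2),(15,1),(17,10),(18,2),(19,2),(20,10),(21,8),(22,3),(23,5),(24,10),(25,10),(26,10),(27,5),(28,4),(29,6),(30,7),(31,2),(32,3),(33,1),(34,8),(35,9),(37,3),(38,5),(39,4),(40,8),(42,5),(43,4),(44,5),(45,7),(46,5),(47,3),(48,1),(49,10),(50,5),(51,4),(52,10),(53,8),(54,9),(55,4),(56,6),(57,6),(58,9),(59,10),(60,4),(61,8),(62,10),(63,8),(64,5),(65,6),(66,9),(67,3),(68,8),(69,6),(70,9),(71,6),(72,10),(73,2),(74,9),(75,9),(76,4),(77,3),(78,4),(79,7),(80,10),(81,10),(82,1),(83,3),(84,1),(85,9),(86,5),(87,9),(88,7),(89,4),(90,3),(91,4),(92,7),(93,4),(94,2),(95,10),(96,7),(97,6),(98,2),(99,2),(100,8),(101,8),(102,3),(104,5),(105,5),(106,3),(107,9),(109,8),(110,2),(111,2),(112,4),(113,10),(115,6),(116,9),(117,2),(118,5),(121,6),(123,7),(124,9),(125,6),(126,7),(128,6),(129,6),(131,2),(132,4)])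 (.leaf [(0,4),(1,8),(2,8),(4,2),(5,9),(6,8),(7,4),(8,8),(9,4),(10,3),(11,5),(12,10),(14,9),(15,9),(17,6),(18,2),(19,3),(20,7),(21,9),(24,9),(25,5),(26,2),(27,8),(28,1),(30,2),(31,3),(34,7),(35,3),(36,6),(38,5),(40,3),(41,4),(42,2),(43,4),(44,7),(45,2),(46,1),(47,6),(49,1),(50,9),(54,4),(55,3),(56,1),(58,4),(59,3),(60,1),(62,1),(63,7),(64,9),(66,8),(67,4),(70,6),(72,3),(74,3),(75,7),(76,3),(77,4),(78,10),(80,4),(81,3),(82,7),(83,4),(84,5),(86,8),(87,9),(88,2),(89,8),(90,7),(92,3),(93,10),(94,3),(95,6),(96,6),(98,1),(99,5),(101,7),(102,7),(104,5),(105,4),(106,8),(107,5),(108,4),(109,2),(110,4),(111,2),(114,2),(115,2),(116,4),(119,2),(120,2),(121,9),(122,2),(123,4),(124,2),(125,9),(126,2),(127,4),(128,9),(130,2),(131,2),(132,2)])) 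
 (.node (.leaf [(0,8),(1,9),(2,9),(3,2),(5,2),(6,8),(7,8),(8,4),(9,9),(10,6),(11,8),(12,4),(13,9),(14,7),(15,2),(16,7),(17,3),(18,3),(19,10),(20,6),(21,1),(22,3),(23,5),(24,2),(26,1),(27,9),(28,9),(30,4),(31,5),(33,1),(34,6),(35,6),(36,9),(37,9),(38,8),(39,1),(40,7),(42,9),(43,3),(45,6),(46,9),(47,7),(48,10),(49,9),(50,1),(51,9),(53,1),(55,6),(56,2),(58,7),(59,8),(60,8),(62,10),(63,8),(64,2),(66,5),(68,5),(70,5),(73,4),(74,10),(75,8),(77,9),(78,6),(79,10),(80,10),(82,1),(83,5),(84,4),(86,10),(87,7),(89,9),(90,7),(91,10),(92,6),(93,6),(94,3),(95,7),(97,3),(98,7),(99,6),(101,8),(102,4),(103,7),(104,1),(105,2),(106,5),(107,2),(111,9),(112,5),(114,9),(115,8),(116,9),(117,3),(119,4),(120,7),(121,8),(123,8),(124,9),(125,4),(126,9),(127,4),(129,9),(130,3),(131,3),(132,1)]) (.leaf [(2,3),(3,8),(4,3),(5,2),(6,7),(7,5),(8,8),(9,4),(10,9),(11,3),(12,5),(13,4),(15,3),(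16,9),(17,10),(18,2),(19,8),(20,10),(22,8),(23,3),(25,7),(26,10),(28,6),(29,2),(31,3),(33,2),(34,1),(35,7),(36,4),(37,9),(38,2),(39,5),(40,4),(41,9),(44,9),(45,3),(47,10),(48,8),(50,6),(51,5),(53,9),(54,10),(56,4),(57,4),(58,3),(59,9),(61,3),(62,1),(63,3),(64,8),(65,7),(66,7),(67,7),(68,2),(69,8),(70,8),(72,4),(73,4),(75,10),(76,2),(78,2),(79,9),(81,10),(82,4),(84,5),(85,2),(86,4),(87,9),(89,4),(90,7),(91,4),(92,7),(93,9),(94,2),(95,6),(96,1),(97,7),(98,7),(100,9),(101,2),(103,4),(104,2),(106,5),(107,6),(109,6),(110,7),(112,8),(113,1),(114,2),(115,9),(117,2),(118,4),(119,3),(120,8),(121,10),(122,6),(123,3),(124,5),(125,9),(126,9),(128,5),(129,9),(132,2)]))) 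
 (.node 
 (.node (.leaf [(0,7),(1,9),(2,8),(3,8),(4,3),(5,1),(6,3),(7,5),(8,4),(9,2),(10,3),(11,6),(12,7),(14,5),(15,3),(16,5),(17,4),(18,3),(20,5),(21,5),(22,7),(23,9),(24,8),(25,1),(26,4),(27,3),(28,7),(30,9),(31,9),(33,2),(34,2),(35,7),(36,7),(38,7),(39,8),(40,2),(41,10),(42,10),(43,7),(44,2),(45,8),(46,7),(47,7),(48,9),(49,5),(50,2),(51,6),(53,6),(54,4),(55,7),(56,8),(59,4),(60,1),(61,4),(62,7),(63,9),(64,8),(66,3),(67,5),(68,6),(70,9),(72,2),(75,3),(76,1),(77,1),(78,3),(79,7),(80,2),(81,1),(82,10),(83,7),(84,8),(85,5),(86,7),(87,7),(89,3),(91,4),(94,4),(95,5),(97,2),(98,8),(99,3),(100,4),(101,3),(102,7),(103,3),(104,7),(105,4),(106,9),(107,6),(109,4),(110,7),(111,2),(112,10),(113,9),(114,8),(115,7),(116,2),(117,7),(118,9),(119,2),(120,4),(124,9),(125,2),(126,2),(127,2),(128,5),(129,7),(130,9),(132,6)]) (.leaf [(0,2),(1,2),(2,5),(3,2),(4,7),(5,2),(6,7),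(7,7),(8,7),(9,4),(10,2),(11,8),(13,2),(14,9),(15,4),(16,8),(17,10),(18,3),(19,10),(20,6),(21,1),(22,9),(23,9),(24,3),(25,6),(26,5),(27,2),(28,4),(29,2),(30,7),(31,2),(33,3),(34,9),(35,9),(36,8),(37,9),(38,10),(39,7),(40,2),(41,6),(42,2),(43,1),(44,8),(45,2),(46,5),(47,8),(48,5),(50,3),(51,5),(53,9),(55,6),(56,2),(57,4),(58,4),(59,3),(60,8),(61,9),(62,6),(63,6),(64,9),(65,8),(66,9),(67,3),(68,8),(69,9),(70,9),(71,1),(72,5),(73,8),(74,4),(75,2),(76,4),(77,9),(78,5),(79,5),(80,9),(81,4),(82,8),(83,2),(84,7),(85,2),(86,4),(87,7),(89,2),(90,9),(91,9),(92,1),(93,7),(94,1),(95,8),(96,5),(97,6),(98,5),(99,3),(100,3),(101,4),(102,4),(103,2),(104,1),(105,9),(106,5),(107,4),(109,4),(110,3),(111,8),(112,9),(113,1),(114,5),(115,3),(116,10),(117,6),(118,4),(119,4),(120,4),(121,8),(122,9),(123,7),(124,7),(125,6),(126,7),(127,8),(128,5),(129,10),(130,1),(131,9),(132,3)])) 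
 (.node (.leaf [(0,6),(1,1),(2,4),(4,10),(5,2),(6,8),(7,7),(8,7),(9,10),(10,3),(11,4),(13,10),(14,6),(17,4),(18,10),(19,6),(20,7),(21,8),(24,5),(25,7),(26,8),(27,5),(28,10),(30,1),(31,6),(33,3),(34,6),(35,3),(36,8),(38,7),(40,8),(41,3),(42,4),(44,5),(45,5),(49,7),(50,9),(51,7),(54,10),(55,4),(56,1),(58,9),(59,8),(60,1),(62,8),(63,7),(64,9),(66,1),(67,8),(70,8),(74,4),(76,9),(77,6),(79,9),(80,8),(81,1),(82,1),(83,7),(84,6),(85,1),(86,6),(87,5),(88,9),(90,8),(92,8),(93,7),(94,4),(95,5),(96,2),(97,4),(98,7),(99,6),(100,4),(102,8),(103,1),(104,5),(105,6),(107,2),(108,7),(109,4),(110,3),(113,5),(114,4),(115,9),(116,3),(117,7),(118,6),(119,2),(121,3),(122,5),(123,7),(124,1),(126,4),(127,10),(129,10),(130,3),(131,7),(132,4)]) (.leaf [(0,2),(1,6),(2,4),(3,7),(4,3),(5,4),(6,5),(7,4),(8,4),(9,1),(10,4),(11,4),(12,2),(13,7),(14,10),(15,4),(16,10),(17,2),(18,3),(19,6),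(20,1),(21,1),(22,2),(23,4),(24,2),(25,2),(26,4),(28,7),(29,4),(30,3),(31,8),(32,4),(33,10),(34,8),(35,2),(38,4),(39,4),(40,1),(41,7),(42,2),(43,6),(44,1),(45,6),(46,3),(47,1),(48,7),(49,9),(50,6),(51,1),(52,10),(53,7),(54,6),(55,8),(56,9),(57,10),(58,7),(59,2),(60,2),(61,10),(62,4),(63,9),(64,5),(66,10),(68,2),(69,9),(70,10),(71,5),(72,9),(73,10),(75,3),(76,1),(78,10),(79,3),(80,10),(81,9),(82,5),(83,2),(84,9),(85,3),(86,8),(87,3),(88,3),(89,2),(90,7),(92,6),(94,2),(95,3),(96,1),(97,4),(98,2),(99,8),(100,3),(102,10),(103,6),(104,7),(105,10),(106,7),(107,8),(108,9),(109,2),(110,8),(111,10),(113,9),(114,4),(115,7),(117,9),(119,9),(120,10),(122,3),(123,5),(124,10),(125,3),(127,9),(128,4),(129,9),(130,3),(131,10),(132,5)])))) 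
 (.node 
 (.node 
 (.node (.leaf [(0,9),(1,10),(2,9),(3,1),(4,10),(5,2),(7,4),(8,8),(10,8),(13,2),(14,2),(15,10),(17,8),(18,2),(19,9),(20,1),(21,3),(22,5),(23,3),(24,1),(25,1),(26,1),(27,10),(28,6),(29,4),(30,3),(31,7),(32,3),(33,3),(34,10),(36,6),(37,3),(38,7),(39,4),(40,3),(41,6),(42,4),(43,2),(44,6),(45,9),(46,1),(47,3),(49,1),(50,7),(51,6),(52,10),(53,8),(54,2),(56,8),(57,6),(58,6),(59,6),(60,7),(61,8),(62,2),(63,1),(64,7),(65,6),(66,2),(67,7),(68,8),(69,2),(70,5),(71,6),(72,1),(73,6),(74,5),(77,8),(78,8),(80,1),(81,1),(82,10),(83,8),(84,5),(85,2),(86,5),(87,3),(88,7),(89,10),(90,5),(91,2),(92,1),(93,4),(95,2),(96,1),(98,8),(99,6),(100,3),(101,6),(102,3),(103,3),(105,6),(106,4),(107,10),(109,8),(110,9),(111,2),(112,5),(114,4),(115,6),(116,2),(117,3),(118,9),(119,7),(120,1),(121,6),(122,7),(123,3),(124,9),(126,7),(127,1),(128,5),(130,7),(131,1)]) (.leaf 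[(0,5),(1,8),(2,5),(3,4),(4,3),(5,9),(6,3),(7,6),(8,7),(9,2),(10,1),(11,1),(13,7),(14,6),(15,10),(16,3),(17,7),(19,7),(20,3),(21,5),(22,10),(23,7),(24,1),(25,7),(26,6),(27,2),(28,5),(29,6),(33,6),(34,8),(35,10),(36,6),(38,7),(39,2),(40,8),(41,6),(42,9),(43,10),(44,9),(45,8),(46,8),(47,10),(49,1),(51,4),(53,2),(54,10),(55,3),(56,1),(57,5),(58,9),(59,8),(60,3),(61,2),(62,4),(63,10),(64,3),(66,3),(67,5),(68,5),(69,10),(70,1),(71,10),(72,4),(73,2),(74,2),(75,3),(76,4),(77,4),(78,8),(80,5),(81,10),(82,5),(83,9),(84,6),(85,9),(86,4),(87,4),(89,9),(90,9),(91,8),(92,4),(94,4),(95,6),(96,9),(97,10),(98,9),(99,8),(100,9),(101,3),(102,2),(103,8),(104,4),(105,10),(106,10),(107,3),(109,4),(110,2),(111,4),(112,10),(113,6),(114,9),(115,8),(116,4),(117,5),(118,8),(119,5),(120,6),(122,3),(123,5),(124,6),(125,3),(126,2),(127,3),(128,5),(129,5),(130,10),(131,3),(132,2)])) 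
 (.node (.leaf [(2,7),(3,7),(4,3),(6,4),(7,6),(8,8),(11,4),(12,3),(13,1),(14,9),(15,7),(16,1),(17,4),(18,3),(19,5),(20,5),(22,10),(23,1),(25,1),(26,3),(28,4),(29,1),(30,9),(31,4),(33,9),(34,8),(35,7),(36,4),(37,10),(38,9),(39,7),(40,10),(41,2),(42,2),(44,2),(45,9),(47,4),(48,7),(50,8),(51,3),(54,5),(56,7),(58,7),(59,1),(62,6),(63,3),(64,8),(66,9),(67,4),(70,4),(72,2),(76,10),(78,9),(79,2),(81,1),(82,4),(84,3),(85,3),(86,7),(87,4),(89,1),(90,7),(91,4),(92,7),(93,8),(94,7),(95,8),(96,10),(97,10),(98,4),(100,4),(103,1),(104,7),(106,9),(107,2),(109,4),(110,2),(112,9),(113,9),(114,6),(115,4),(117,5),(118,9),(121,2),(122,6),(123,2),(124,7),(125,6),(126,5),(128,5),(131,3),(132,7)]) (.leaf [(0,7),(1,5),(2,8),(3,5),(4,1),(5,5),(6,5),(7,8),(8,3),(9,1),(11,7),(12,9),(14,7),(15,9),(16,1),(17,2),(18,4),(19,4),(20,4),(21,3),(23,6),(24,10),(25,3),(26,8),(28,3),(29,5),(30,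6),(31,5),(32,6),(33,2),(34,1),(35,2),(36,6),(37,1),(38,2),(39,7),(40,1),(41,9),(42,7),(43,6),(44,8),(45,7),(46,3),(47,8),(48,9),(49,3),(50,7),(51,3),(52,4),(53,6),(54,9),(55,8),(56,9),(57,3),(58,10),(59,9),(60,2),(61,4),(62,2),(63,3),(64,4),(65,8),(66,10),(67,5),(68,9),(70,8),(71,3),(72,8),(73,1),(74,2),(75,10),(76,10),(77,4),(79,10),(82,5),(83,9),(84,4),(85,9),(86,5),(87,6),(88,10),(89,8),(90,9),(91,8),(92,7),(93,9),(95,8),(96,5),(97,5),(98,4),(99,1),(100,2),(101,6),(102,5),(103,6),(106,3),(107,4),(108,8),(109,6),(110,4),(111,4),(112,10),(113,10),(114,6),(115,4),(116,1),(117,8),(118,3),(119,4),(120,2),(121,5),(122,9),(123,3),(124,1),(126,5),(127,7),(128,10),(129,2),(130,10),(132,6)]))) 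
 (.node 
 (.node (.leaf [(0,6),(1,4),(3,10),(4,7),(5,7),(7,4),(8,9),(9,2),(10,9),(11,9),(12,1),(13,2),(14,9),(15,7),(16,9),(17,1),(20,5),(21,9),(22,3),(23,3),(24,6),(25,7),(26,8),(27,1),(28,10),(29,1),(30,5),(31,1),(33,7),(34,4),(35,4),(36,10),(37,1),(38,10),(39,8),(40,6),(41,9),(42,5),(43,4),(44,8),(45,7),(46,3),(47,10),(48,10),(49,4),(50,10),(51,7),(53,9),(54,5),(55,3),(56,6),(58,4),(59,8),(60,4),(62,10),(63,10),(64,8),(66,9),(67,6),(68,1),(70,2),(72,5),(75,6),(76,10),(77,4),(78,6),(79,6),(80,3),(82,9),(83,3),(84,2),(85,3),(86,8),(87,6),(89,5),(90,10),(91,10),(92,4),(93,7),(94,1),(99,8),(100,3),(101,6),(102,3),(103,9),(104,6),(105,7),(106,4),(107,9),(109,9),(110,2),(111,4),(112,1),(113,9),(114,10),(116,4),(117,4),(118,9),(119,9),(120,8),(121,3),(123,9),(125,4),(126,4),(127,9),(129,9),(130,1),(131,1),(132,1)]) (.leaf [(0,10),(1,10),(2,10),(3,7),(5,4),(7,3)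,(8,1),(9,2),(11,4),(12,10),(13,5),(14,8),(15,1),(16,6),(17,8),(18,5),(19,7),(20,1),(21,5),(22,9),(23,4),(24,9),(26,10),(27,7),(28,8),(30,4),(31,5),(33,5),(34,4),(35,7),(36,10),(37,6),(38,8),(40,6),(41,10),(43,9),(45,4),(46,5),(47,6),(48,6),(50,6),(53,7),(54,9),(55,6),(56,4),(58,5),(59,1),(60,6),(61,4),(62,8),(63,5),(64,7),(65,4),(66,5),(67,1),(68,8),(69,9),(70,5),(71,9),(73,5),(74,7),(75,7),(76,7),(77,1),(78,5),(79,1),(80,7),(82,3),(83,7),(84,3),(89,1),(90,9),(91,1),(92,2),(94,3),(95,3),(96,4),(97,5),(98,4),(99,5),(101,5),(102,3),(103,2),(104,3),(105,1),(106,3),(107,1),(109,2),(110,8),(111,5),(112,9),(114,4),(115,1),(116,5),(117,10),(118,7),(119,9),(120,4),(121,8),(122,5),(123,7),(124,10),(125,6),(126,8),(127,6),(129,6),(130,10),(131,8),(132,9)])) 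
 (.node (.leaf [(0,7),(1,5),(2,10),(4,5),(5,9),(7,4),(8,2),(10,1),(13,4),(14,5),(15,10),(17,9),(18,4),(19,8),(20,3),(21,6),(24,9),(25,6),(26,6),(27,6),(28,1),(30,1),(31,3),(34,6),(35,6),(36,1),(38,2),(40,2),(41,10),(42,7),(44,7),(45,5),(46,10),(48,1),(49,10),(50,3),(51,6),(54,3),(55,6),(56,8),(59,3),(60,1),(63,1),(64,1),(66,9),(67,6),(70,7),(72,8),(74,1),(75,1),(76,2),(77,3),(78,4),(79,6),(80,4),(81,10),(83,4),(84,9),(85,6),(86,3),(87,8),(88,6),(89,1),(90,4),(91,6),(92,3),(94,7),(95,6),(96,8),(97,7),(98,10),(99,1),(100,8),(101,10),(102,7),(103,6),(104,2),(105,8),(106,5),(107,5),(108,1),(109,2),(110,4),(111,2),(112,4),(113,1),(114,2),(115,2),(116,4),(117,1),(118,5),(119,4),(120,6),(122,1),(123,4),(124,10),(125,5),(126,2),(127,4),(129,1),(130,1),(131,9),(132,7)]) (.leaf [(0,1),(1,7),(2,3),(4,1),(5,4),(6,5),(7,1),(8,5),(9,3),(10,4),(12,1),(13,8),(14,9),(16,2),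(17,7),(18,2),(19,1),(20,4),(21,2),(22,3),(24,2),(25,9),(26,1),(27,6),(28,10),(30,4),(31,6),(32,5),(33,5),(34,8),(35,2),(36,7),(37,3),(38,2),(39,5),(40,7),(41,1),(42,10),(43,5),(44,4),(45,1),(46,9),(47,1),(48,4),(49,2),(50,8),(51,1),(52,7),(53,7),(54,4),(55,2),(56,9),(58,4),(59,2),(60,2),(62,9),(63,3),(64,10),(65,2),(66,4),(67,4),(68,7),(69,2),(70,8),(71,10),(72,2),(73,1),(74,2),(75,3),(76,2),(77,10),(78,5),(80,10),(81,1),(82,7),(83,4),(84,5),(86,9),(87,1),(88,1),(89,9),(90,2),(91,8),(92,1),(93,5),(94,8),(95,2),(96,10),(98,2),(99,10),(100,10),(101,7),(102,1),(103,10),(104,2),(106,10),(107,10),(108,3),(109,2),(110,7),(111,7),(112,10),(114,8),(115,7),(118,10),(119,4),(120,2),(121,4),(122,4),(123,7),(124,2),(125,4),(126,10),(127,5),(128,9),(129,8),(130,7),(131,4),(132,7)]))))))))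

def m6 : Rows := 
 (.node 
 (.node 
 (.node 
 (.node 
 (.node 
 (.node 
 (.node 
 (.node (.leaf [(0,5),(1,7),(2,7),(5,6),(6,7),(8,5),(9,7),(11,2),(12,9),(13,4),(14,6),(15,7),(16,4),(19,5),(21,5),(22,6),(24,7),(33,5),(34,6),(36,6),(37,4),(38,5),(39,6),(43,6),(44,5),(47,6),(48,4),(49,3),(51,3),(53,3),(55,2),(56,3),(58,2),(60,2),(62,8),(64,8),(65,9),(66,3),(68,3),(69,8),(70,2),(71,8),(72,3),(73,8),(76,9),(77,5),(78,6),(80,7),(89,5),(90,6),(92,6),(93,4),(94,5),(95,6),(99,6),(100,5),(103,6),(104,4),(105,7),(107,7),(109,7),(111,1),(112,7),(114,1),(116,1),(118,4),(120,4),(121,10),(122,7),(124,7),(125,4),(126,1),(127,4),(128,7),(129,4),(132,10)]) (.leaf [(0,5),(1,6),(2,3),(4,7),(5,7),(10,2),(11,7),(12,9),(13,7),(14,4),(17,4),(18,9),(20,3),(21,4),(22,5),(25,3),(26,6),(29,8),(32,8),(33,2),(35,1),(36,5),(37,6),(38,6),(39,5),(40,10),(41,6),(43,8),(44,5),(45,5),(47,6),(49,5),(50,2),(51,8),(52,4),(53,7),(54,2),(57,5),(59,3),(63,4),(64,9),(65,2),(66,2),(67,9),(69,9),(71,3),(72,9),(73,9),(74,2),(75,9),(76,1),(81,5),(85,7),(86,5),(88,4),(98,10),(99,1),(102,6),(103,6),(104,5),(105,5),(106,2),(107,8),(108,2),(109,10),(110,2),(113,7),(115,4),(119,4),(120,9),(121,2),(122,2),(123,9),(125,9),(127,8),(128,9),(129,9),(130,10),(131,9),(132,5)]))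 (.leaf [(0,4),(1,7),(2,6),(4,10),(5,1),(7,10),(8,6),(9,5),(10,1),(11,1),(12,6),(13,9),(14,2),(15,4),(17,10),(18,5),(19,1),(20,1),(21,2),(22,9),(25,7),(26,8),(28,7),(29,8),(30,10),(31,4),(32,6),(33,8),(34,8),(35,8),(36,9),(37,8),(39,5),(40,6),(41,6),(42,4),(43,10),(44,3),(45,8),(46,4),(47,7),(48,4),(49,1),(50,3),(51,4),(52,3),(54,4),(55,6),(57,4),(58,10),(62,4),(63,4),(64,4),(65,4),(67,4),(69,10),(70,6),(71,7),(72,7),(73,8),(74,4),(76,9),(77,4),(78,7),(81,7),(82,5),(84,7),(85,5),(86,8),(87,1),(88,1),(89,5),(90,5),(91,5),(92,6),(93,5),(95,10),(96,1),(97,1),(98,1),(99,2),(100,6),(101,5),(102,1),(103,7),(104,1),(105,2),(106,6),(107,8),(108,6),(109,6),(110,8),(111,10),(113,8),(114,2),(118,8),(119,8),(120,1),(121,8),(123,8),(125,9),(126,10),(127,9),(128,3),(129,5),(130,3),(132,4)])) 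
 (.node (.leaf [(0,3),(1,8),(2,3),(4,3),(5,5),(8,1),(9,10),(10,9),(11,3),(13,1),(14,10),(16,1),(17,1),(18,2),(19,3),(20,3),(27,9),(29,1),(31,10),(42,2),(44,4),(46,1),(47,6),(48,2),(49,2),(50,6),(51,9),(53,7),(54,3),(55,7),(56,2),(57,9),(58,7),(59,8),(60,6),(62,3),(63,3),(64,8),(65,6),(66,3),(67,10),(68,1),(69,8),(71,2),(72,5),(73,3),(74,8),(75,9),(77,8),(78,10),(80,2),(81,8),(82,1),(83,6),(85,1),(87,3),(89,3),(90,1),(91,1),(92,10),(93,2),(94,1),(95,1),(96,1),(97,2),(98,5),(99,8),(100,1),(101,7),(102,8),(103,5),(104,5),(105,6),(106,7),(107,5),(109,3),(110,9),(112,5),(113,3),(116,7),(118,9),(119,9),(120,2),(121,7),(122,9),(123,8),(124,1),(125,2),(127,6),(128,7),(129,9),(131,3)]) (.leaf [(2,3),(3,2),(5,7),(6,7),(7,1),(10,7),(11,2),(15,2),(16,3),(18,6),(19,4),(20,4),(22,5),(23,9),(26,2),(27,7),(28,8),(29,4),(31,5),(32,3),(33,3),(36,10),(38,8),(39,2),(41,4),(42,3),(43,1),(45,8),(46,9),(47,3),(48,7),(50,2),(51,7),(52,7),(53,3),(54,1),(55,9),(56,3),(57,10),(59,6),(61,10),(64,5),(66,4),(67,4),(68,4),(69,8),(70,2),(71,8),(73,1),(74,8),(75,9),(78,3),(79,1),(82,10),(83,4),(84,6),(85,3),(87,6),(88,4),(89,4),(92,6),(94,7),(95,10),(97,9),(98,8),(99,9),(101,7),(102,2),(103,5),(104,4),(109,7),(111,4),(112,7),(113,5),(115,10),(126,7),(127,4),(130,6),(131,10)])))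 
 (.node 
 (.node (.leaf [(5,9),(8,5),(9,7),(10,4),(11,9),(12,7),(13,6),(14,4),(15,7),(16,9),(20,5),(22,5),(24,6),(27,6),(29,5),(30,10),(31,6),(32,6),(34,6),(35,1),(36,5),(39,6),(41,5),(42,2),(43,6),(44,10),(45,5),(46,6),(47,5),(48,10),(50,3),(52,8),(53,5),(55,5),(57,3),(58,3),(59,3),(60,8),(62,8),(63,5),(64,3),(67,3),(68,6),(69,3),(70,5),(71,8),(72,6),(73,8),(74,3),(75,8),(76,3),(78,5),(80,6),(83,6),(85,5),(86,10),(87,6),(88,6),(90,6),(91,1),(92,5),(95,6),(97,5),(98,2),(99,6),(100,10),(101,5),(102,6),(103,5),(104,10),(106,7),(108,4),(109,8),(111,8),(113,7),(114,7),(115,7),(116,4),(118,4),(119,8),(120,7),(123,7),(124,3),(125,7),(126,8),(127,4),(128,3),(129,4),(130,7),(131,4),(132,7)]) (.leaf [(0,2),(1,9),(2,3),(4,9),(5,9),(6,7),(7,1),(8,2),(9,9),(10,5),(11,2),(16,3),(18,4),(19,6),(20,6),(21,9),(22,5),(24,10),(25,2),(26,2),(28,8),(29,4),(31,1),(32,3),(33,3),(34,2),(36,8),(38,8),(39,2),(41,6),(42,10),(45,6),(46,6),(47,3),(48,7),(49,10),(50,3),(51,7),(52,7),(53,10),(54,1),(55,9),(56,3),(57,10),(59,6),(60,7),(62,1),(64,4),(66,4),(67,3),(68,4),(69,8),(73,1),(74,10),(75,2),(77,1),(78,3),(80,10),(81,10),(82,10),(84,6),(85,3),(87,10),(88,4),(89,4),(90,10),(92,7),(94,7),(95,10),(97,8),(98,1),(101,8),(102,5),(103,5),(104,4),(111,4),(112,7),(113,5),(115,10),(116,4),(130,2),(131,6)]))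 
 (.node (.leaf [(2,2),(3,3),(5,7),(6,5),(7,7),(8,9),(9,2),(10,3),(11,6),(13,4),(14,7),(16,5),(17,1),(18,8),(19,6),(20,9),(28,10),(29,6),(30,4),(31,9),(42,6),(46,2),(47,7),(48,4),(50,2),(51,6),(52,6),(53,3),(54,1),(55,7),(56,6),(57,2),(58,7),(60,8),(61,2),(62,5),(63,5),(64,9),(65,6),(66,8),(68,10),(69,3),(70,1),(73,3),(74,1),(78,1),(79,8),(80,10),(82,4),(84,1),(85,7),(86,10),(87,6),(88,2),(89,2),(90,9),(91,9),(92,3),(93,2),(94,10),(95,1),(96,1),(97,8),(98,4),(102,5),(103,4),(104,10),(106,6),(107,7),(108,7),(109,7),(110,3),(112,6),(113,5),(116,2),(117,6),(118,4),(119,4),(120,5),(121,7),(122,2),(124,1),(125,9),(129,9),(131,3)]) (.leaf [(2,9),(3,1),(4,4),(5,7),(6,10),(7,3),(8,4),(9,7),(10,2),(11,8),(12,4),(13,8),(14,3),(15,1),(16,5),(17,4),(18,2),(19,1),(20,6),(22,4),(23,3),(25,5),(26,10),(28,1),(29,9),(32,6),(33,6),(34,10),(35,2),(36,3),(37,10),(38,4),(39,9),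(40,10),(41,6),(43,2),(44,1),(45,6),(47,9),(50,2),(51,2),(52,2),(53,7),(54,7),(55,6),(56,10),(57,9),(58,6),(59,3),(61,1),(62,7),(63,8),(64,1),(65,7),(66,5),(67,2),(68,5),(69,5),(70,10),(71,1),(72,4),(73,3),(74,6),(76,9),(81,5),(84,1),(85,7),(86,7),(87,1),(98,9),(99,1),(102,1),(103,9),(104,1),(106,2),(107,2),(108,2),(109,10),(110,7),(111,8),(112,8),(114,8),(115,4),(117,1),(118,7),(119,8),(120,1),(121,7),(122,5),(123,2),(124,5),(125,5),(126,6),(127,6),(128,4),(129,3),(130,8),(132,1)])))) 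
 (.node 
 (.node 
 (.node (.leaf [(2,7),(3,7),(5,2),(6,7),(7,7),(8,8),(9,9),(10,2),(11,1),(12,3),(13,7),(14,10),(15,9),(17,9),(18,7),(19,5),(20,5),(22,9),(23,6),(24,9),(26,1),(27,8),(28,6),(29,9),(30,10),(31,6),(32,7),(33,5),(34,3),(35,4),(36,8),(37,5),(39,4),(40,1),(41,8),(42,3),(43,8),(44,6),(45,3),(46,6),(47,8),(48,6),(50,7),(51,3),(52,2),(53,6),(54,5),(55,6),(56,3),(57,1),(58,5),(59,5),(60,1),(61,8),(62,4),(63,9),(64,7),(65,3),(67,4),(69,1),(70,3),(71,7),(72,8),(73,9),(74,3),(75,7),(76,5),(78,9),(79,6),(80,9),(82,1),(83,8),(84,6),(85,9),(86,10),(87,6),(88,7),(89,5),(90,3),(91,4),(92,8),(93,5),(95,4),(96,1),(97,8),(98,3),(99,8),(100,6),(101,3),(102,6),(103,8),(104,6),(106,9),(107,7),(108,1),(109,3),(110,8),(111,3),(112,7),(113,6),(114,8),(115,8),(116,6),(117,4),(118,2),(119,10),(120,9),(121,7),(123,2),(125,6),(126,7),(127,9),(128,4),(129,10),(130,7),(131,9),(132,8)])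 (.leaf [(0,4),(1,7),(2,9),(4,10),(5,10),(10,6),(11,10),(12,5),(13,10),(14,1),(17,1),(18,5),(20,9),(21,2),(22,8),(25,3),(26,3),(29,5),(30,7),(32,3),(33,1),(35,6),(36,8),(37,3),(38,3),(39,8),(40,5),(41,3),(42,3),(43,1),(44,8),(45,8),(46,4),(47,7),(48,7),(49,1),(50,7),(51,6),(52,1),(54,7),(57,3),(59,6),(63,3),(64,4),(65,7),(66,7),(67,4),(69,4),(71,10),(72,4),(73,4),(74,4),(75,4),(76,2),(77,4),(78,5),(81,2),(82,6),(86,10),(88,5),(89,2),(91,1),(92,5),(93,6),(94,6),(95,5),(96,10),(97,6),(98,9),(99,10),(100,5),(101,5),(102,1),(103,7),(104,10),(105,2),(106,3),(107,1),(108,6),(109,5),(110,3),(113,2),(115,10),(119,6),(120,8),(121,3),(122,3),(123,8),(125,8),(127,10),(128,8),(129,8),(130,3),(131,8),(132,7)])) 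
 (.node (.leaf [(2,10),(3,3),(5,5),(6,5),(7,7),(10,5),(11,3),(15,3),(16,10),(18,9),(19,6),(20,6),(27,2),(28,10),(29,5),(31,3),(42,4),(43,4),(46,1),(47,1),(48,2),(50,7),(51,8),(52,8),(53,10),(54,9),(55,10),(56,10),(57,4),(59,3),(61,2),(64,1),(66,3),(67,3),(68,3),(69,6),(70,1),(71,1),(73,9),(74,4),(75,8),(78,2),(79,8),(82,3),(83,5),(84,1),(85,6),(87,2),(88,10),(89,10),(92,4),(94,1),(95,3),(97,6),(98,10),(99,7),(101,1),(102,8),(103,10),(104,5),(106,10),(107,2),(108,2),(109,5),(110,5),(112,5),(113,2),(117,6),(120,3),(122,9),(123,9),(124,9),(125,7),(127,6),(129,5),(131,4)]) (.leaf [(2,5),(3,2),(5,1),(6,7),(7,1),(8,6),(9,5),(10,2),(11,4),(13,10),(14,1),(16,7),(17,8),(18,9),(19,4),(20,6),(22,8),(23,9),(24,3),(26,10),(28,8),(29,1),(30,3),(31,4),(32,5),(33,5),(34,6),(35,6),(36,2),(37,5),(38,3),(39,8),(40,8),(41,9),(42,10),(46,7),(47,10),(48,3),(50,10),(51,8),(52,8),(53,2),(54,5),(55,3),(56,7),(57,9),(58,3),(60,7),(61,10),(62,3),(63,3),(64,1),(65,8),(66,7),(68,10),(69,4),(70,2),(73,4),(74,2),(75,3),(78,7),(79,1),(80,4),(82,6),(84,6),(86,8),(87,7),(88,3),(89,3),(90,8),(91,8),(92,10),(93,3),(94,4),(95,7),(96,7),(97,1),(98,1),(102,4),(103,2),(104,8),(109,1),(111,5),(112,6),(113,6),(114,5),(124,9),(126,7),(130,7),(131,4)])))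 
 (.node 
 (.node (.leaf [(0,3),(1,8),(2,10),(4,8),(5,8),(6,5),(7,7),(8,3),(9,8),(10,2),(11,3),(16,10),(18,6),(19,9),(20,9),(24,4),(28,10),(29,5),(31,5),(42,6),(46,8),(47,1),(48,2),(49,2),(50,5),(51,8),(52,8),(53,2),(54,9),(55,10),(56,10),(57,4),(59,3),(60,3),(62,9),(64,3),(66,3),(67,5),(68,3),(69,6),(73,9),(74,5),(75,5),(77,8),(78,2),(80,4),(81,3),(82,3),(84,1),(85,6),(87,7),(88,10),(89,10),(90,3),(92,1),(94,1),(95,3),(97,9),(98,4),(101,9),(102,9),(103,10),(104,5),(105,6),(106,4),(107,2),(108,2),(109,6),(110,5),(112,5),(113,2),(116,1),(118,5),(120,9),(122,9),(123,4),(124,9),(125,7),(129,5),(131,3)]) (.leaf [(0,2),(1,9),(2,2),(4,2),(5,7),(8,8),(9,3),(10,6),(11,2),(13,8),(14,3),(16,8),(17,8),(18,5),(19,2),(20,2),(21,9),(22,3),(24,5),(25,9),(26,8),(27,4),(29,8),(31,2),(33,2),(34,8),(35,8),(36,3),(37,5),(38,8),(39,8),(40,8),(41,5),(42,7),(43,9),(44,8),(45,1),(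46,9),(47,7),(48,7),(49,10),(50,8),(51,1),(53,6),(54,4),(55,3),(56,9),(57,10),(58,3),(59,5),(60,8),(62,4),(63,4),(64,7),(65,8),(66,4),(67,6),(68,3),(69,7),(71,10),(72,6),(73,4),(74,5),(75,10),(77,1),(78,4),(80,3),(81,1),(82,7),(83,7),(85,8),(87,9),(89,10),(90,7),(91,7),(92,4),(93,3),(94,7),(95,7),(96,7),(97,3),(98,4),(99,1),(101,5),(102,2),(103,8),(104,4),(109,9),(111,5),(112,6),(113,1),(114,5),(115,1),(124,1),(128,4),(130,1),(131,1)])) 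
 (.node (.leaf [(2,5),(3,3),(4,1),(5,10),(6,8),(7,9),(8,1),(9,10),(10,6),(11,2),(12,1),(13,2),(14,9),(15,3),(16,4),(17,1),(18,6),(19,3),(20,7),(22,2),(23,7),(25,4),(26,5),(28,3),(30,1),(31,8),(32,3),(33,3),(34,5),(35,1),(36,7),(37,5),(38,2),(39,10),(40,5),(41,3),(42,6),(43,9),(44,6),(45,3),(46,8),(47,5),(48,8),(50,7),(51,7),(52,7),(54,8),(55,1),(57,6),(58,1),(59,6),(61,9),(62,8),(63,6),(64,9),(65,8),(66,1),(67,7),(68,1),(69,1),(70,9),(71,3),(72,3),(73,5),(74,1),(76,7),(78,4),(79,3),(81,4),(82,10),(84,3),(85,1),(86,3),(87,2),(88,6),(89,6),(90,10),(91,2),(92,3),(93,10),(94,4),(95,9),(96,10),(97,6),(98,7),(99,4),(100,1),(101,6),(102,2),(103,5),(104,2),(106,3),(107,3),(108,3),(109,5),(110,5),(111,9),(112,4),(113,8),(114,9),(115,10),(117,7),(118,5),(119,1),(120,7),(121,5),(122,2),(123,3),(124,2),(125,2),(126,4),(127,7),(128,6),(129,10),(130,9),(132,8)]) (.leaf [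(0,5),(1,6),(2,2),(4,7),(5,4),(7,7),(8,2),(9,9),(10,4),(11,4),(12,2),(13,3),(14,8),(15,5),(17,7),(18,9),(19,4),(20,4),(21,4),(22,7),(25,6),(26,5),(28,6),(29,5),(32,1),(33,5),(34,5),(35,5),(36,9),(37,5),(39,10),(40,1),(41,1),(43,1),(44,6),(45,5),(47,6),(49,5),(50,4),(51,9),(52,4),(53,4),(54,9),(55,3),(57,9),(58,5),(62,9),(63,9),(64,8),(65,9),(67,9),(69,6),(70,3),(71,6),(72,2),(73,7),(74,2),(76,10),(81,6),(84,6),(86,4),(87,6),(92,4),(98,6),(99,6),(102,6),(103,6),(104,6),(105,5),(106,4),(107,9),(108,4),(109,1),(110,9),(111,4),(113,9),(114,3),(118,9),(119,9),(120,6),(121,9),(123,9),(125,6),(126,4),(127,3),(128,2),(129,7),(130,10),(132,6)]))))) 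
 (.node 
 (.node 
 (.node 
 (.node 
 (.node (.leaf [(4,9),(8,3),(9,2),(10,9),(11,1),(12,3),(13,7),(14,10),(15,2),(17,9),(20,3),(22,3),(24,8),(25,10),(26,6),(27,8),(29,3),(30,6),(31,6),(32,8),(34,8),(35,10),(36,3),(39,9),(40,1),(41,3),(42,10),(43,8),(44,6),(45,8),(46,6),(47,2),(48,6),(50,4),(52,7),(54,8),(55,4),(57,4),(58,5),(59,3),(60,7),(62,7),(63,6),(64,4),(67,7),(69,4),(70,1),(71,7),(72,8),(73,1),(74,3),(75,4),(76,5),(78,3),(80,8),(81,10),(82,6),(83,8),(85,3),(86,6),(87,6),(88,8),(90,8),(91,10),(92,3),(95,9),(96,1),(97,3),(98,10),(99,8),(100,6),(101,8),(102,6),(103,2),(104,6),(106,2),(108,9),(110,4),(111,2),(113,2),(114,8),(115,7),(116,9),(118,9),(119,3),(120,2),(123,9),(125,2),(126,6),(127,9),(128,4),(129,6),(130,7),(131,2),(132,8)]) (.leaf [(2,4),(3,5),(4,5),(5,8),(7,8),(8,7),(9,4),(10,7),(11,7),(12,4),(13,7),(14,4),(15,10),(17,9),(19,10),(20,1),(22,6)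,(23,4),(25,7),(26,2),(28,10),(29,4),(32,1),(33,10),(34,1),(35,4),(36,7),(37,6),(38,5),(39,1),(40,6),(41,10),(43,8),(44,5),(47,7),(50,7),(51,7),(52,4),(53,8),(54,8),(55,5),(57,5),(58,8),(61,5),(62,4),(63,5),(64,6),(65,2),(66,9),(69,2),(70,9),(71,2),(72,9),(73,4),(75,2),(76,9),(81,1),(83,4),(84,10),(86,10),(87,6),(98,7),(99,9),(102,4),(103,7),(104,5),(106,7),(107,7),(108,4),(109,2),(110,8),(111,3),(113,5),(114,7),(117,5),(118,4),(119,5),(120,6),(121,2),(122,9),(125,2),(126,1),(127,3),(128,9),(129,4),(131,2),(132,1)])) (.leaf [(3,4),(4,5),(5,3),(6,7),(7,2),(8,6),(9,5),(11,8),(13,8),(14,3),(15,8),(16,3),(18,10),(19,8),(20,5),(22,6),(23,2),(25,8),(26,9),(28,8),(29,5),(30,6),(31,4),(32,8),(34,8),(35,7),(36,1),(37,9),(38,3),(42,9),(43,3),(45,3),(46,7),(47,3),(48,10),(52,4),(54,10),(55,5),(56,1),(57,8),(58,10),(61,1),(62,4),(63,9),(64,6),(65,10),(66,7),(67,7),(69,3),(70,7),(71,7),(74,2),(75,5),(78,1),(79,4),(81,5),(82,7),(84,8),(85,10),(86,7),(87,1),(88,5),(90,5),(91,3),(92,2),(93,7),(94,6),(98,5),(99,6),(101,6),(102,10),(103,3),(104,8),(108,8),(109,7),(110,9),(111,1),(112,2),(113,5),(114,2),(117,2),(118,8),(119,7),(120,1),(121,9),(122,3),(123,3),(124,4),(125,6),(126,8),(127,3),(130,7),(131,10)]))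 
 (.node (.leaf [(0,3),(1,8),(2,10),(5,9),(6,8),(7,2),(8,10),(9,1),(10,1),(11,8),(13,2),(14,9),(16,1),(17,2),(18,10),(19,9),(20,1),(28,6),(30,2),(31,6),(36,4),(42,8),(46,3),(47,6),(48,9),(49,2),(50,8),(51,8),(52,6),(53,7),(54,8),(55,4),(56,6),(57,3),(58,3),(59,7),(60,3),(62,8),(63,6),(64,9),(65,5),(67,8),(68,10),(69,9),(73,8),(74,8),(75,7),(77,8),(78,3),(80,1),(82,10),(84,5),(85,1),(86,5),(87,4),(88,2),(89,10),(90,10),(91,2),(92,6),(93,9),(95,10),(96,2),(97,10),(98,9),(101,10),(102,2),(103,5),(104,6),(105,6),(106,2),(107,2),(108,7),(109,9),(110,2),(112,5),(113,9),(116,9),(118,2),(119,7),(120,8),(121,4),(123,2),(124,7),(125,5),(129,2)]) (.leaf [(0,2),(1,9),(5,5),(8,10),(9,1),(10,6),(13,6),(14,5),(16,8),(17,6),(18,1),(20,2),(21,9),(22,3),(24,3),(26,8),(27,7),(29,7),(31,2),(32,10),(34,10),(35,8),(36,3),(37,3),(38,8),(39,8),(40,6),(41,5),(42,7),(45,3),(46,5),(47,7),(49,10),(50,8),(52,7),(53,10),(54,4),(55,3),(56,9),(57,6),(58,5),(59,3),(60,7),(62,5),(63,4),(64,7),(65,7),(66,4),(67,7),(68,3),(69,7),(73,4),(74,5),(77,1),(78,4),(80,4),(82,7),(83,4),(85,7),(87,9),(88,10),(90,6),(91,7),(92,4),(93,4),(94,7),(95,7),(96,8),(97,3),(98,4),(101,4),(102,6),(103,8),(108,4),(109,5),(111,5),(112,6),(113,5),(114,1),(115,5),(124,1),(130,1),(131,1)])))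 
 (.node 
 (.node (.leaf [(4,4),(5,6),(6,7),(7,7),(10,4),(15,7),(16,4),(17,4),(18,7),(19,5),(22,6),(24,6),(25,5),(26,6),(28,6),(29,6),(30,4),(32,5),(35,5),(37,10),(38,5),(39,1),(40,6),(41,5),(43,6),(44,6),(46,7),(50,3),(52,3),(53,3),(54,8),(55,2),(56,3),(57,8),(60,8),(63,3),(65,6),(66,3),(68,3),(69,8),(71,8),(72,8),(73,5),(75,5),(78,6),(80,6),(81,5),(82,6),(84,6),(85,6),(86,4),(88,5),(91,5),(93,10),(94,5),(95,1),(96,6),(97,5),(99,6),(100,6),(102,7),(106,7),(108,7),(109,7),(110,4),(111,1),(112,7),(113,4),(116,4),(119,7),(121,3),(122,7),(124,7),(125,4),(127,4),(128,4),(129,8),(131,8)]) (.leaf [(2,6),(3,7),(4,9),(5,5),(6,4),(7,10),(8,8),(9,3),(10,1),(11,7),(13,6),(14,5),(15,7),(16,5),(17,6),(18,6),(19,7),(20,7),(22,9),(23,4),(24,5),(25,2),(26,6),(28,3),(29,3),(30,4),(31,5),(32,8),(33,6),(34,8),(35,8),(36,4),(37,1),(38,9),(39,6),(40,6),(41,10),(42,8),(43,9),(45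,8),(46,3),(47,5),(48,8),(50,5),(51,3),(52,4),(53,10),(54,3),(55,5),(56,6),(57,7),(58,5),(59,8),(60,8),(61,2),(62,4),(63,4),(64,2),(65,6),(66,10),(67,4),(68,10),(69,10),(70,7),(71,10),(73,3),(74,6),(75,2),(78,1),(79,9),(80,3),(81,10),(82,8),(84,5),(85,4),(86,7),(87,6),(88,7),(89,8),(90,7),(91,7),(92,9),(93,5),(94,1),(95,8),(96,8),(97,6),(98,3),(99,1),(101,7),(102,8),(103,1),(104,3),(109,5),(111,1),(112,10),(114,1),(115,6),(124,1),(126,8),(130,10),(131,2)])) 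
 (.node (.leaf [(0,4),(1,7),(2,4),(4,9),(5,7),(7,2),(8,6),(9,5),(11,8),(12,7),(13,4),(14,7),(15,8),(18,10),(19,1),(20,2),(21,2),(22,6),(25,10),(26,9),(28,8),(29,2),(30,7),(31,4),(32,8),(33,9),(34,8),(35,5),(36,3),(37,9),(38,3),(42,8),(43,3),(44,3),(45,5),(46,7),(47,3),(48,10),(49,1),(51,10),(52,4),(53,1),(54,10),(55,5),(57,7),(58,5),(59,6),(62,4),(63,8),(64,7),(65,10),(66,7),(67,8),(69,3),(70,1),(71,7),(72,1),(74,2),(75,4),(76,5),(77,4),(78,1),(81,9),(82,7),(84,8),(85,5),(86,10),(87,1),(88,5),(89,7),(90,5),(91,10),(92,6),(93,7),(94,6),(98,2),(99,6),(100,5),(101,10),(102,10),(103,3),(104,8),(105,2),(107,9),(108,8),(109,2),(110,9),(111,1),(113,10),(114,1),(115,10),(118,8),(119,5),(120,3),(121,9),(122,3),(123,5),(125,6),(126,9),(127,3),(128,6),(130,7),(131,8),(132,1)]) (.leaf [(0,5),(1,6),(2,9),(4,7),(5,1),(8,5),(9,6),(10,2),(11,7),(12,4),(13,8),(14,3),(16,5),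(17,9),(18,4),(19,5),(20,3),(21,4),(22,5),(24,1),(25,2),(26,6),(29,1),(33,6),(34,7),(35,1),(36,5),(37,6),(38,6),(39,1),(40,6),(41,6),(43,8),(44,1),(45,9),(47,6),(49,5),(50,2),(51,2),(54,2),(55,8),(57,4),(58,3),(60,9),(62,6),(63,4),(64,9),(65,2),(66,2),(67,3),(68,5),(69,9),(71,3),(72,4),(73,4),(74,5),(75,4),(76,9),(80,4),(81,1),(86,1),(87,4),(98,10),(99,1),(102,6),(103,6),(104,5),(105,5),(106,2),(107,2),(109,1),(110,2),(111,7),(113,4),(114,4),(116,7),(118,6),(119,4),(120,9),(121,2),(122,2),(123,3),(124,5),(125,9),(127,8),(128,4),(129,4),(130,3),(131,4),(132,1)])))) 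
 (.node 
 (.node 
 (.node (.leaf [(2,7),(4,7),(6,7),(8,8),(9,9),(10,2),(11,8),(12,4),(13,2),(14,3),(15,9),(16,4),(18,4),(20,6),(22,3),(24,4),(25,6),(26,5),(27,2),(29,8),(32,8),(33,5),(34,3),(35,6),(36,3),(37,5),(39,3),(41,8),(43,3),(44,10),(45,8),(47,3),(48,4),(50,7),(51,3),(52,7),(54,3),(55,1),(56,3),(57,7),(58,2),(60,9),(62,4),(63,8),(64,4),(65,3),(67,7),(68,3),(69,4),(70,2),(71,4),(72,6),(73,4),(75,7),(76,9),(78,3),(80,4),(81,6),(82,5),(83,2),(85,8),(88,8),(89,5),(90,3),(91,6),(92,3),(93,5),(95,3),(97,8),(99,3),(100,10),(101,8),(103,3),(104,4),(106,9),(107,7),(108,9),(110,7),(111,6),(112,7),(113,9),(114,1),(116,10),(118,2),(119,4),(120,2),(121,7),(123,9),(124,7),(125,2),(126,1),(127,2),(128,3),(129,2),(131,9),(132,10)]) (.leaf [(2,1),(3,4),(4,4),(5,2),(7,2),(8,10),(9,1),(10,10),(11,10),(12,1),(13,10),(14,1),(15,8),(17,5),(19,8),(20,3),(22,3),(23,2),(25,6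),(26,1),(27,10),(28,8),(29,2),(30,3),(31,4),(32,6),(33,5),(34,6),(35,2),(36,9),(37,3),(38,8),(39,6),(40,3),(41,5),(42,1),(43,10),(44,8),(46,10),(47,10),(48,7),(50,8),(51,8),(52,3),(54,6),(55,10),(57,1),(58,5),(61,1),(62,3),(63,1),(64,10),(65,7),(66,4),(69,7),(70,7),(71,8),(72,4),(73,3),(75,7),(76,7),(78,6),(79,4),(81,9),(82,2),(83,8),(84,8),(85,4),(86,9),(87,1),(88,1),(89,10),(90,1),(91,4),(92,7),(93,6),(94,5),(95,1),(96,6),(97,10),(98,3),(99,4),(100,5),(102,8),(103,10),(104,10),(106,5),(107,5),(108,6),(109,1),(110,1),(111,2),(113,2),(114,1),(117,2),(118,6),(119,2),(120,9),(121,3),(122,8),(125,3),(126,8),(127,3),(128,8),(129,6),(131,3),(132,8)])) 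
 (.node (.leaf [(0,3),(1,8),(5,2),(8,4),(9,7),(10,9),(13,9),(14,2),(16,1),(17,9),(18,7),(20,3),(27,2),(29,5),(31,10),(32,4),(42,2),(46,3),(47,6),(49,2),(50,6),(52,3),(53,4),(54,3),(55,7),(56,2),(57,1),(58,8),(59,7),(60,8),(62,1),(63,3),(64,8),(65,8),(66,3),(67,8),(68,1),(69,8),(73,3),(74,8),(75,7),(77,8),(78,10),(80,10),(82,1),(83,5),(85,5),(87,3),(88,4),(90,4),(91,1),(92,10),(93,10),(94,1),(95,1),(96,9),(97,2),(98,5),(101,10),(102,2),(103,5),(105,6),(106,7),(108,1),(109,2),(110,9),(112,5),(113,4),(116,2),(118,3),(119,9),(120,2),(121,2),(122,9),(123,2),(124,1),(125,2),(129,9),(131,8)]) (.leaf [(0,5),(1,6),(2,5),(4,3),(5,6),(7,8),(8,2),(9,9),(11,10),(12,6),(13,5),(14,6),(15,10),(18,7),(19,4),(20,8),(21,4),(22,1),(25,9),(26,7),(28,10),(29,2),(32,5),(33,7),(34,5),(35,10),(36,6),(37,7),(38,6),(43,6),(44,8),(45,10),(47,1),(49,5),(51,6),(52,9),(53,5),(54,6),(55,8),(57,3),(58,8),(59,3),(62,9),(63,7),(64,2),(65,6),(66,2),(67,7),(69,4),(70,6),(71,2),(72,4),(74,1),(75,9),(76,8),(84,10),(85,7),(86,5),(87,6),(98,1),(100,4),(102,5),(103,1),(104,4),(105,5),(107,6),(108,9),(109,5),(110,6),(111,7),(113,5),(114,7),(115,4),(118,9),(119,7),(120,2),(121,6),(122,2),(123,7),(125,4),(126,8),(127,2),(128,2),(130,5),(131,9),(132,7)])))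 
 (.node 
 (.node (.leaf [(2,9),(3,5),(4,8),(5,2),(6,6),(7,4),(8,1),(9,10),(10,7),(11,5),(13,9),(14,2),(15,5),(16,2),(17,9),(18,9),(19,5),(20,5),(28,1),(30,9),(31,3),(42,7),(46,4),(47,9),(48,7),(50,1),(51,5),(52,3),(53,4),(54,5),(55,8),(56,3),(57,8),(58,8),(59,4),(60,6),(61,7),(62,3),(63,3),(64,7),(65,10),(66,2),(67,3),(68,9),(69,2),(70,9),(71,2),(73,5),(74,3),(75,10),(78,8),(79,6),(80,2),(81,3),(82,9),(84,10),(85,10),(86,6),(87,2),(88,1),(89,9),(90,1),(91,1),(92,6),(93,7),(94,8),(95,9),(96,9),(97,4),(98,1),(99,8),(101,1),(102,10),(103,2),(104,1),(106,3),(107,4),(108,9),(109,2),(110,4),(113,2),(116,7),(117,10),(118,9),(119,9),(120,10),(121,8),(122,6),(123,9),(124,3),(125,6),(127,6),(129,4),(131,4)]) (.leaf [(0,2),(1,9),(2,3),(5,6),(6,9),(7,5),(8,3),(9,8),(10,8),(11,9),(13,5),(14,6),(16,8),(17,5),(18,3),(19,6),(20,8),(21,9),(22,2),(24,8),(26,3),(28,7),(29,8)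,(30,7),(31,10),(32,5),(33,3),(34,3),(35,5),(36,4),(37,6),(39,3),(40,5),(41,3),(42,6),(45,3),(46,5),(47,7),(48,4),(49,10),(50,7),(51,7),(52,8),(53,1),(54,7),(55,8),(56,6),(57,4),(58,6),(59,3),(60,4),(62,7),(63,8),(64,4),(65,3),(67,7),(68,5),(69,1),(73,7),(74,5),(75,3),(77,1),(78,10),(80,7),(82,4),(84,8),(85,7),(86,4),(87,1),(88,3),(89,4),(90,4),(91,3),(92,2),(93,8),(95,4),(96,3),(97,4),(98,5),(101,4),(102,6),(103,8),(104,7),(109,6),(111,6),(112,1),(114,10),(115,5),(120,4),(124,6),(130,1),(131,5)])) 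
 (.node (.leaf [(0,4),(1,7),(2,5),(4,10),(5,3),(8,4),(9,7),(10,6),(11,10),(12,1),(13,2),(14,9),(16,4),(17,5),(18,1),(19,4),(20,9),(21,2),(22,8),(24,5),(25,9),(26,3),(29,6),(30,8),(31,10),(33,3),(34,9),(35,6),(36,8),(37,3),(38,3),(39,6),(40,3),(41,3),(42,3),(43,1),(44,6),(45,10),(46,4),(47,7),(48,7),(49,1),(50,7),(51,7),(53,1),(54,7),(55,5),(57,3),(58,6),(60,2),(62,10),(63,3),(64,4),(65,7),(66,7),(67,5),(68,1),(69,4),(71,10),(72,3),(73,3),(74,10),(75,3),(76,7),(77,4),(78,5),(80,9),(81,4),(82,6),(85,1),(86,2),(87,8),(89,6),(90,7),(91,1),(92,5),(93,6),(94,6),(95,1),(96,6),(97,6),(98,9),(99,10),(100,1),(101,9),(102,1),(103,7),(104,10),(105,2),(106,3),(107,3),(110,3),(111,1),(113,6),(114,10),(116,8),(118,9),(119,6),(120,8),(121,3),(122,3),(123,10),(124,2),(125,8),(127,10),(128,6),(129,6),(130,2),(131,6),(132,8)]) (.leaf [(3,5),(4,9),(5,1),(6,6),(7,8),(8,2),(9,9)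,(11,10),(13,10),(14,1),(15,10),(16,1),(18,7),(19,10),(20,9),(22,1),(23,4),(25,5),(26,7),(28,10),(29,10),(32,5),(34,5),(35,3),(36,2),(37,7),(38,6),(43,6),(45,6),(47,1),(52,9),(53,1),(54,6),(55,8),(56,5),(57,7),(58,5),(61,5),(62,9),(63,1),(64,8),(65,6),(66,2),(67,2),(68,10),(69,4),(70,9),(71,2),(74,1),(75,3),(84,10),(86,9),(87,6),(98,8),(102,5),(103,1),(104,4),(108,9),(109,3),(110,6),(111,7),(112,5),(113,7),(114,3),(117,5),(118,9),(119,1),(120,8),(121,6),(122,2),(123,2),(124,8),(125,4),(126,1),(127,2),(130,5),(131,3)])))))) 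
 (.node 
 (.node 
 (.node 
 (.node 
 (.node 
 (.node (.leaf [(2,5),(5,4),(7,4),(10,7),(15,4),(17,7),(19,7),(24,4),(26,5),(28,5),(29,6),(31,7),(33,6),(36,5),(37,6),(38,7),(40,5),(41,6),(43,5),(45,6),(47,5),(50,8),(51,8),(53,8),(54,3),(55,9),(57,8),(58,9),(59,2),(60,9),(64,3),(65,8),(66,2),(67,8),(70,9),(71,3),(80,4),(82,5),(84,5),(85,6),(87,7),(89,6),(92,5),(93,6),(94,7),(96,5),(97,6),(99,5),(101,6),(103,5),(106,4),(107,4),(109,4),(110,7),(111,10),(113,4),(114,10),(115,1),(116,10),(120,7),(121,4),(122,1),(123,4),(126,10),(127,7)]) (.leaf [(3,5),(4,5),(13,10),(14,1),(15,10),(17,5),(18,10),(19,6),(20,1),(22,7),(23,4),(25,4),(29,4),(35,4),(36,7),(37,7),(38,7),(40,7),(44,4),(47,7),(57,5),(58,2),(61,5),(63,5),(64,6),(65,6),(66,6),(69,6),(70,9),(72,5),(75,5),(86,4),(98,7),(103,7),(113,5),(114,10),(117,5),(119,5),(120,6),(121,6),(122,6),(125,6),(126,1),(128,5),(131,5)]))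 (.leaf [(0,4),(1,7),(2,9),(4,9),(5,10),(7,1),(8,5),(9,6),(10,6),(11,10),(12,5),(13,10),(14,1),(15,4),(16,4),(17,1),(18,10),(19,6),(20,10),(21,2),(25,3),(26,3),(28,4),(29,2),(31,7),(32,3),(33,1),(34,3),(35,3),(36,5),(37,3),(38,3),(39,6),(40,5),(41,3),(42,7),(43,1),(44,8),(45,5),(46,7),(47,3),(48,7),(49,1),(50,7),(51,6),(52,7),(54,7),(55,5),(57,7),(59,6),(62,7),(63,7),(64,8),(65,7),(66,1),(67,8),(68,1),(70,6),(71,4),(72,4),(73,3),(74,2),(76,2),(77,4),(81,3),(82,6),(84,4),(85,5),(87,10),(88,6),(89,2),(90,6),(91,6),(92,10),(93,6),(94,5),(95,1),(96,10),(97,6),(98,10),(99,9),(100,5),(101,10),(102,10),(103,3),(104,10),(105,2),(106,3),(107,1),(108,3),(109,5),(110,3),(111,1),(113,10),(115,10),(118,3),(119,3),(120,5),(121,3),(122,6),(123,5),(124,2),(126,10),(127,2),(128,8),(129,6),(130,7),(132,7)])) 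
 (.node (.leaf [(0,3),(1,8),(2,2),(6,5),(7,7),(10,2),(11,6),(16,10),(18,9),(19,9),(20,1),(23,4),(27,9),(28,10),(29,1),(31,5),(42,8),(46,8),(47,1),(48,4),(49,2),(50,5),(51,6),(52,8),(54,9),(55,10),(56,10),(57,1),(59,4),(60,9),(61,5),(63,9),(64,3),(65,9),(66,3),(67,7),(68,3),(69,8),(73,9),(74,5),(75,10),(77,8),(78,10),(79,1),(80,3),(82,3),(83,6),(84,1),(85,2),(87,7),(88,10),(89,2),(91,3),(92,1),(93,3),(94,1),(95,3),(97,9),(98,9),(101,6),(102,9),(103,10),(104,10),(105,6),(106,4),(107,7),(108,2),(110,5),(112,5),(113,1),(116,5),(117,7),(119,5),(120,9),(121,5),(122,9),(123,10),(124,9),(125,2),(129,5),(131,10)]) (.leaf [(4,9),(5,1),(6,9),(7,7),(8,8),(9,3),(10,8),(11,2),(13,6),(14,5),(16,6),(17,6),(18,10),(19,9),(22,5),(24,3),(25,2),(26,8),(28,1),(29,7),(31,10),(34,8),(35,6),(36,3),(37,3),(38,6),(39,8),(40,6),(41,3),(44,2),(45,3),(46,8),(47,7),(48,7),(50,7),(53,2),(54,4),(55,3),(56,8),(57,6),(58,5),(59,3),(60,7),(62,4),(63,3),(64,7),(65,7),(66,3),(67,7),(68,10),(69,8),(72,1),(73,4),(74,5),(75,7),(78,3),(80,4),(81,10),(82,7),(84,9),(85,7),(87,1),(90,7),(91,8),(92,4),(93,4),(94,8),(95,7),(96,8),(97,4),(100,10),(101,4),(102,3),(103,8),(104,4),(109,1),(111,5),(112,6),(113,5),(114,1),(115,5),(124,5),(130,1),(131,5)])))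 
 (.node 
 (.node (.leaf [(2,9),(4,4),(5,9),(7,2),(10,9),(11,2),(12,2),(13,9),(14,2),(15,2),(17,7),(18,5),(19,2),(20,5),(22,1),(24,3),(25,5),(26,3),(27,8),(28,8),(29,9),(30,8),(31,6),(32,10),(33,8),(35,4),(36,3),(37,2),(38,3),(39,6),(40,9),(41,3),(42,3),(43,8),(44,6),(45,9),(46,8),(47,3),(48,8),(50,4),(51,7),(52,6),(53,10),(54,4),(55,4),(57,1),(58,6),(59,5),(60,4),(63,9),(64,4),(65,10),(66,4),(67,1),(69,5),(70,2),(71,7),(72,8),(73,8),(74,5),(75,3),(76,4),(78,1),(80,3),(81,5),(82,3),(83,8),(84,8),(85,9),(86,8),(87,6),(88,10),(89,8),(91,4),(92,3),(93,2),(94,3),(95,6),(96,9),(97,3),(98,3),(99,8),(100,6),(101,9),(102,8),(103,3),(104,8),(106,2),(107,9),(108,3),(109,5),(110,2),(111,2),(113,6),(114,3),(115,8),(116,2),(119,10),(120,2),(121,5),(122,2),(123,6),(125,8),(126,1),(127,9),(128,4),(129,4),(130,8),(131,7),(132,2)]) (.leaf [(0,2),(1,9),(2,8),(6,9),(7,6),(8,2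),(9,9),(10,8),(11,2),(16,8),(18,3),(19,5),(20,3),(21,9),(22,8),(24,2),(26,10),(28,4),(29,6),(30,4),(31,2),(32,6),(33,8),(34,2),(36,3),(38,5),(39,2),(41,3),(42,5),(45,3),(46,5),(47,7),(48,7),(49,10),(50,7),(51,4),(52,3),(54,7),(55,9),(56,4),(57,8),(59,3),(60,1),(62,1),(64,7),(66,8),(67,7),(68,1),(69,4),(73,1),(74,5),(75,3),(77,1),(78,7),(80,10),(82,10),(84,3),(85,7),(86,7),(87,9),(88,8),(89,7),(90,10),(92,4),(94,3),(95,10),(97,4),(98,6),(101,4),(102,6),(103,8),(104,4),(110,4),(111,4),(112,7),(113,10),(115,5),(124,7),(130,1),(131,1)])) 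
 (.node (.leaf [(0,4),(1,7),(2,10),(4,9),(5,1),(7,7),(10,1),(11,9),(12,6),(13,9),(14,2),(15,8),(17,6),(18,10),(19,7),(20,2),(21,2),(22,3),(25,1),(26,6),(28,3),(29,2),(30,3),(33,6),(35,5),(36,3),(37,6),(38,6),(39,3),(40,8),(42,8),(43,5),(44,3),(45,5),(46,7),(47,3),(48,3),(49,1),(50,5),(51,3),(54,3),(55,5),(57,7),(58,5),(59,6),(63,8),(64,7),(65,3),(66,3),(67,8),(69,7),(70,1),(71,10),(72,7),(73,7),(74,2),(75,8),(76,9),(77,4),(78,6),(81,6),(82,1),(84,5),(85,5),(86,9),(89,1),(91,10),(92,6),(93,1),(94,1),(95,6),(96,5),(97,10),(98,2),(99,3),(100,6),(101,10),(102,10),(103,3),(104,9),(105,2),(106,3),(107,6),(109,6),(110,6),(111,1),(113,10),(114,1),(115,10),(119,5),(120,3),(121,6),(122,6),(123,5),(125,3),(126,9),(127,4),(128,3),(129,3),(130,7),(131,5),(132,4)]) (.leaf [(2,9),(4,9),(5,8),(7,4),(8,4),(9,7),(10,7),(11,7),(12,9),(13,7),(14,4),(15,5),(17,4),(18,1),(19,2),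(20,8),(24,7),(25,9),(26,6),(28,5),(29,2),(32,10),(33,6),(34,10),(35,6),(36,6),(37,6),(39,5),(40,10),(41,10),(43,6),(44,5),(45,6),(47,5),(50,7),(51,2),(52,7),(53,8),(54,2),(55,8),(57,3),(58,8),(59,3),(60,6),(62,7),(63,2),(64,2),(65,2),(67,2),(72,9),(73,9),(74,6),(75,5),(76,1),(81,5),(84,5),(85,7),(87,1),(98,1),(99,5),(102,5),(103,5),(104,5),(106,7),(107,2),(108,7),(109,2),(110,2),(111,7),(113,5),(114,7),(115,4),(116,6),(118,7),(119,2),(120,2),(121,2),(123,2),(127,3),(128,9),(129,9),(130,8),(131,5),(132,5)])))) 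
 (.node 
 (.node 
 (.node (.leaf [(2,2),(4,7),(5,4),(7,9),(8,3),(9,2),(10,9),(11,10),(12,1),(13,9),(14,8),(17,2),(18,4),(19,7),(22,3),(24,6),(25,6),(26,3),(28,3),(29,5),(30,2),(31,4),(32,8),(33,3),(34,8),(35,6),(37,9),(38,8),(39,2),(40,3),(41,10),(46,2),(48,9),(50,6),(51,4),(52,7),(53,7),(54,4),(57,3),(58,1),(60,8),(62,7),(63,8),(65,1),(66,7),(69,4),(70,1),(73,10),(75,7),(76,1),(78,3),(80,6),(81,6),(82,3),(84,3),(85,5),(86,2),(87,4),(88,8),(89,3),(90,8),(91,6),(93,9),(94,8),(95,2),(96,3),(97,10),(102,2),(104,9),(106,3),(107,2),(108,9),(109,9),(110,2),(113,7),(114,6),(116,4),(118,9),(119,4),(121,6),(122,9),(125,2),(126,6),(129,5),(131,9),(132,6)]) (.leaf [(3,4),(4,4),(13,8),(14,3),(15,8),(17,4),(18,8),(19,7),(20,3),(22,9),(23,2),(25,2),(29,2),(30,10),(35,2),(36,9),(37,9),(38,9),(40,9),(42,1),(44,2),(47,10),(57,1),(58,4),(61,1),(63,1),(64,10),(65,10),(66,10),(69,10),(70,7),(72,1),(75,1),(78,7),(79,4),(81,4),(85,4),(86,8),(91,4),(92,7),(93,7),(94,7),(96,7),(98,3),(100,4),(103,10),(113,2),(114,3),(117,2),(119,2),(120,9),(121,9),(122,9),(125,9),(126,8),(128,2),(131,2)]))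 
 (.node (.leaf [(4,8),(5,7),(6,8),(7,5),(8,1),(9,10),(10,1),(11,3),(13,9),(14,2),(16,9),(17,9),(18,4),(19,8),(28,4),(29,5),(31,6),(46,7),(47,6),(48,2),(50,8),(53,3),(54,3),(55,7),(56,4),(57,1),(58,8),(59,7),(60,8),(62,3),(63,5),(64,8),(65,8),(66,5),(67,8),(68,4),(69,6),(72,9),(73,3),(74,8),(75,10),(78,2),(80,10),(81,3),(82,1),(84,7),(85,5),(87,4),(90,1),(91,9),(92,10),(93,10),(94,9),(95,1),(96,9),(97,10),(100,3),(101,10),(102,1),(103,5),(104,5),(106,2),(109,7),(110,9),(113,4),(116,2),(118,9),(119,4),(120,2),(121,2),(122,4),(123,2),(124,2),(125,7),(128,5),(129,9),(131,9)]) (.leaf [(0,5),(1,6),(2,7),(4,3),(5,4),(7,6),(10,4),(11,3),(12,2),(13,3),(14,8),(15,10),(17,2),(18,7),(19,6),(20,8),(21,4),(22,6),(25,5),(26,1),(28,8),(29,2),(33,1),(35,10),(36,6),(37,1),(38,1),(39,6),(40,5),(41,2),(43,2),(44,6),(45,10),(47,1),(49,5),(50,2),(51,4),(53,4),(54,4),(55,8),(57,3),(58,8),(59,3),(63,7),(64,2),(65,4),(66,4),(67,7),(69,2),(70,6),(71,10),(72,2),(73,2),(74,1),(75,7),(76,10),(81,6),(84,4),(85,7),(86,10),(97,4),(98,1),(99,6),(102,5),(103,1),(104,10),(105,5),(107,4),(109,1),(110,4),(111,7),(113,5),(114,7),(115,4),(119,7),(120,2),(121,4),(122,4),(123,7),(125,2),(126,8),(127,7),(128,2),(129,2),(130,5),(131,7),(132,6)])))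 
 (.node 
 (.node (.leaf [(0,3),(1,8),(2,1),(6,8),(7,9),(8,3),(9,8),(10,1),(11,3),(16,1),(18,10),(19,2),(20,10),(26,4),(28,5),(29,10),(30,9),(31,10),(42,3),(46,3),(47,6),(48,2),(49,2),(50,8),(51,3),(52,5),(54,3),(55,10),(56,8),(57,10),(59,7),(60,9),(62,9),(64,8),(66,6),(67,8),(68,3),(69,3),(73,9),(74,8),(75,1),(77,8),(78,1),(80,3),(82,4),(84,6),(85,9),(86,6),(87,3),(88,9),(89,1),(90,3),(92,10),(94,2),(95,3),(97,10),(98,2),(101,10),(102,2),(103,5),(104,5),(105,6),(106,2),(107,9),(108,4),(110,1),(112,10),(113,10),(116,5),(118,5),(120,2),(122,7),(123,2),(124,6),(125,9),(129,5),(131,1)]) (.leaf [(0,2),(1,9),(2,5),(6,7),(7,1),(10,5),(11,4),(16,3),(18,6),(19,6),(20,8),(21,9),(22,3),(23,8),(24,2),(26,2),(27,4),(28,8),(29,5),(31,1),(32,3),(33,5),(35,2),(36,8),(37,2),(38,8),(39,2),(41,6),(42,6),(45,4),(46,6),(47,3),(48,3),(49,10),(50,3),(51,8),(52,7),(54,1),(55,9),(56,3),(57,3),(59,8),(60,1),(61,6),(63,1),(64,4),(65,1),(66,4),(67,2),(68,4),(69,7),(73,1),(74,10),(75,8),(77,1),(78,4),(80,10),(82,10),(83,7),(84,6),(85,4),(87,10),(88,4),(89,3),(91,10),(92,7),(93,10),(94,7),(95,10),(97,8),(98,5),(101,9),(102,5),(103,5),(104,8),(111,4),(112,7),(113,1),(115,6),(117,4),(130,2),(131,10)]))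 
 (.node (.leaf [(2,5),(4,5),(5,2),(7,1),(8,1),(9,10),(10,10),(11,10),(12,5),(13,10),(14,1),(15,4),(17,1),(18,3),(19,6),(20,2),(24,9),(25,6),(26,3),(28,4),(29,2),(31,8),(32,5),(33,3),(34,5),(35,3),(36,3),(37,3),(39,8),(40,5),(41,5),(42,8),(43,10),(44,8),(45,3),(46,7),(47,4),(48,7),(50,8),(51,7),(52,8),(54,7),(55,5),(57,7),(58,5),(59,6),(60,10),(62,8),(63,7),(64,7),(65,7),(67,7),(71,3),(72,4),(73,4),(74,1),(75,1),(76,2),(80,7),(81,8),(82,6),(84,4),(85,5),(87,2),(88,10),(89,6),(90,10),(91,6),(92,6),(93,6),(95,5),(96,10),(97,10),(98,2),(99,5),(100,5),(101,6),(102,10),(103,4),(104,10),(106,5),(107,3),(108,5),(109,1),(110,3),(111,1),(113,10),(114,1),(115,10),(116,9),(118,5),(119,3),(120,3),(121,3),(123,3),(128,8),(129,8),(130,9),(131,2),(132,7)]) (.leaf [(0,5),(1,6),(2,3),(4,3),(5,7),(7,4),(8,9),(9,2),(10,2),(11,7),(12,9),(13,7),(14,4),(15,5),(16,5),(17,4),(18,7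),(19,2),(20,7),(21,4),(25,1),(26,6),(28,5),(29,2),(32,6),(33,2),(34,6),(35,6),(36,10),(37,6),(38,8),(39,1),(40,10),(41,6),(43,10),(44,5),(45,10),(47,1),(49,5),(50,2),(51,8),(52,2),(53,7),(54,2),(55,8),(57,3),(59,3),(62,2),(63,2),(64,7),(65,2),(66,4),(67,7),(68,5),(70,3),(71,5),(72,9),(73,4),(74,1),(76,1),(81,1),(84,5),(85,7),(87,5),(94,4),(98,5),(99,5),(102,5),(103,1),(104,5),(105,5),(106,2),(107,8),(108,2),(109,10),(110,2),(111,7),(113,5),(115,4),(118,2),(119,2),(120,7),(121,2),(122,2),(123,7),(124,5),(126,4),(127,8),(128,9),(129,4),(130,5),(132,5)]))))) 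
 (.node 
 (.node 
 (.node 
 (.node (.leaf [(2,9),(4,7),(5,8),(6,9),(7,2),(8,8),(9,9),(11,8),(12,8),(13,4),(14,1),(17,9),(18,4),(19,1),(20,7),(22,8),(24,6),(25,6),(26,8),(27,6),(28,8),(29,5),(30,8),(31,10),(32,3),(33,8),(34,3),(35,6),(37,3),(38,2),(39,7),(40,8),(42,6),(46,1),(47,1),(48,8),(51,7),(52,4),(53,4),(54,7),(55,3),(56,5),(57,3),(58,4),(59,3),(60,8),(62,4),(63,8),(65,4),(66,10),(69,7),(70,6),(73,2),(74,5),(75,10),(76,4),(78,8),(80,6),(81,6),(82,8),(83,6),(84,8),(85,5),(86,8),(87,10),(88,3),(89,8),(90,3),(91,6),(93,3),(94,2),(95,7),(96,8),(98,6),(102,1),(103,1),(104,8),(107,9),(108,2),(109,2),(110,9),(111,7),(112,8),(113,7),(114,2),(115,7),(116,4),(118,2),(119,4),(121,2),(122,5),(125,9),(126,3),(129,1),(130,8),(131,5),(132,2)]) (.leaf [(2,5),(4,6),(5,2),(7,3),(10,10),(11,10),(12,5),(13,10),(14,1),(15,4),(17,1),(18,5),(19,7),(20,1),(22,6),(24,9),(25,1)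,(26,3),(28,1),(29,7),(30,7),(31,1),(33,3),(35,8),(36,8),(37,3),(38,5),(39,8),(40,5),(41,5),(42,4),(43,4),(44,8),(45,8),(46,3),(47,7),(48,7),(50,8),(51,7),(54,7),(55,5),(57,4),(58,5),(59,6),(60,10),(63,4),(64,4),(65,7),(66,8),(67,4),(69,3),(72,4),(73,4),(74,9),(75,4),(76,2),(78,1),(80,7),(81,9),(82,6),(84,1),(85,4),(86,10),(87,3),(89,6),(91,5),(92,5),(93,6),(94,10),(95,5),(96,10),(97,10),(98,1),(99,4),(100,5),(101,5),(102,9),(103,7),(104,10),(106,5),(107,3),(109,1),(110,3),(111,1),(113,4),(114,1),(115,10),(116,9),(119,8),(120,8),(121,3),(122,5),(123,8),(125,6),(127,5),(128,8),(129,8),(130,4),(131,8),(132,7)])) 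
 (.node (.leaf [(0,3),(1,8),(2,1),(4,8),(5,2),(6,8),(7,9),(8,4),(9,7),(10,10),(11,3),(13,9),(14,2),(16,10),(17,9),(18,6),(19,10),(20,2),(28,5),(31,7),(38,4),(42,5),(46,6),(47,1),(48,2),(49,2),(50,3),(51,3),(52,3),(53,4),(54,3),(55,7),(56,4),(57,6),(58,8),(59,3),(60,8),(62,1),(63,3),(64,5),(65,6),(66,3),(67,5),(68,1),(71,2),(73,3),(74,5),(75,2),(77,8),(80,10),(81,3),(82,1),(84,6),(85,2),(87,1),(88,1),(89,1),(90,4),(91,1),(92,9),(93,2),(94,4),(95,1),(96,9),(97,1),(98,7),(99,8),(101,9),(102,4),(103,10),(104,5),(105,6),(106,9),(107,9),(108,9),(109,2),(110,9),(113,7),(116,2),(118,3),(119,9),(120,4),(121,7),(122,1),(123,4),(124,4),(127,6),(129,9),(131,5)]) (.leaf [(3,2),(6,7),(10,2),(17,2),(18,9),(19,9),(22,2),(23,9),(24,9),(29,1),(31,7),(36,2),(38,2),(39,2),(40,2),(41,9),(46,7),(47,10),(50,10),(56,3),(57,8),(59,9),(60,10),(61,10),(64,1),(66,1),(69,1),(70,2),(73,1),(74,2),(75,8),(78,10),(79,1),(80,1),(85,9),(87,4),(92,10),(94,10),(95,10),(96,10),(97,1),(102,4),(103,2),(112,7),(113,4),(115,4),(126,7),(130,7),(131,4)])))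 
 (.node 
 (.node (.leaf [(0,3),(1,8),(4,8),(5,9),(6,5),(7,8),(8,2),(9,9),(10,2),(11,3),(13,10),(14,1),(16,10),(17,10),(18,6),(19,8),(28,4),(29,10),(31,5),(35,4),(46,8),(47,1),(48,2),(49,2),(50,5),(53,7),(54,6),(55,3),(56,8),(57,2),(58,4),(59,3),(60,3),(62,6),(64,3),(65,3),(66,6),(67,5),(68,5),(69,3),(73,6),(74,5),(75,8),(77,8),(78,1),(80,1),(81,3),(82,2),(84,4),(85,10),(87,7),(90,2),(91,3),(92,1),(93,1),(94,2),(95,2),(96,10),(97,9),(101,9),(102,9),(103,10),(104,5),(105,6),(106,4),(109,9),(110,7),(113,8),(116,9),(118,7),(119,3),(120,9),(121,9),(122,7),(123,4),(124,3),(125,9),(129,7),(131,1)]) (.leaf [(2,6),(4,9),(5,1),(6,9),(7,6),(8,8),(9,3),(10,3),(11,2),(13,6),(14,5),(16,1),(17,6),(18,4),(19,3),(20,1),(24,3),(25,2),(26,8),(28,4),(29,4),(31,1),(32,6),(33,6),(34,8),(35,6),(36,8),(37,3),(39,8),(40,6),(41,8),(42,9),(44,2),(45,8),(46,6),(47,4),(48,7),(50,4),(51,3),(52,3),(53,2),(54,4),(55,3),(56,8),(57,4),(58,5),(59,6),(60,7),(62,4),(63,3),(64,4),(65,7),(67,4),(68,7),(72,1),(73,4),(74,8),(75,9),(80,4),(81,10),(82,7),(84,3),(85,2),(87,10),(88,8),(89,8),(90,7),(91,8),(92,7),(93,4),(95,7),(96,8),(97,7),(98,2),(100,10),(101,7),(102,5),(103,3),(104,4),(109,1),(111,5),(112,6),(113,4),(114,1),(115,10),(124,5),(130,6),(131,6)]))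 
 (.node (.leaf [(0,4),(1,7),(2,4),(4,10),(7,1),(8,5),(9,6),(11,8),(12,7),(15,4),(18,5),(19,10),(20,1),(21,2),(22,3),(25,5),(26,3),(28,4),(29,8),(30,4),(31,7),(32,5),(33,9),(34,3),(35,8),(36,8),(37,9),(38,6),(42,4),(43,3),(44,9),(45,8),(46,4),(47,7),(48,10),(49,1),(51,10),(52,8),(54,1),(55,5),(57,4),(62,7),(63,4),(64,4),(65,10),(66,3),(67,4),(69,7),(70,6),(71,2),(72,10),(74,4),(75,8),(76,5),(77,4),(78,6),(81,10),(82,5),(84,4),(85,5),(86,1),(87,10),(88,10),(89,7),(90,6),(91,5),(92,5),(93,7),(94,1),(98,1),(99,7),(100,7),(101,5),(102,1),(103,7),(104,8),(105,2),(107,9),(108,5),(110,6),(111,1),(113,8),(118,3),(119,8),(120,8),(121,9),(122,6),(123,8),(125,3),(126,10),(128,9),(130,3),(131,5),(132,1)]) (.leaf [(0,5),(1,6),(4,3),(7,8),(8,7),(9,4),(10,6),(11,10),(12,6),(15,10),(18,2),(19,4),(20,8),(21,4),(22,5),(23,1),(25,8),(26,7),(28,10),(29,10),(32,5),(34,1),(35,10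),(36,6),(37,7),(38,6),(39,7),(41,7),(43,6),(44,7),(45,3),(47,1),(49,5),(50,6),(52,9),(54,6),(55,5),(57,7),(59,3),(61,9),(62,4),(63,7),(64,2),(65,6),(66,2),(67,1),(69,9),(70,6),(71,2),(72,6),(73,6),(74,4),(75,9),(76,8),(79,4),(81,7),(84,10),(86,5),(87,10),(98,1),(102,5),(103,1),(104,4),(105,5),(106,6),(108,9),(110,6),(111,3),(113,7),(115,4),(117,7),(118,4),(119,7),(120,2),(121,6),(122,2),(123,1),(125,9),(126,8),(127,2),(128,6),(129,6),(130,9),(131,9),(132,7)])))) 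
 (.node 
 (.node 
 (.node (.leaf [(2,5),(5,9),(6,3),(7,9),(8,5),(9,7),(10,2),(11,4),(13,9),(14,2),(15,5),(16,4),(17,7),(18,7),(19,9),(20,3),(22,1),(24,4),(26,3),(27,8),(28,3),(29,9),(30,8),(31,6),(32,5),(33,2),(34,6),(35,10),(36,3),(37,1),(38,8),(39,7),(40,9),(41,8),(42,10),(43,3),(44,5),(45,3),(46,4),(47,8),(48,1),(50,7),(51,10),(52,3),(53,10),(54,4),(55,6),(56,6),(57,1),(58,6),(59,5),(60,9),(62,8),(63,6),(64,4),(65,5),(66,7),(67,4),(68,3),(69,5),(70,4),(71,4),(72,3),(73,2),(74,3),(75,8),(76,2),(78,1),(80,4),(82,3),(83,8),(84,3),(85,9),(86,8),(87,6),(88,5),(89,2),(90,6),(91,10),(92,3),(93,1),(94,8),(95,7),(96,9),(97,8),(98,10),(99,3),(100,5),(101,3),(102,4),(103,8),(104,1),(106,9),(107,5),(108,7),(109,5),(110,2),(111,3),(112,3),(113,6),(114,3),(115,8),(116,10),(118,4),(119,3),(120,2),(121,8),(122,9),(123,2),(124,7),(125,8),(126,2),(127,2),(128,7),(129,1),(130,7),(131,4),(132,1)])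 (.leaf [(0,2),(1,9),(4,9),(5,6),(6,7),(7,9),(8,5),(9,6),(10,5),(11,2),(13,3),(14,8),(16,3),(17,3),(18,4),(19,9),(21,9),(22,8),(24,8),(25,2),(26,5),(28,10),(29,3),(31,1),(34,5),(35,2),(36,8),(37,8),(38,5),(39,5),(40,3),(41,6),(45,6),(46,6),(47,3),(48,7),(49,10),(50,3),(53,1),(54,8),(55,6),(56,5),(57,1),(58,8),(59,6),(60,4),(62,8),(63,3),(64,4),(65,4),(66,8),(67,3),(68,2),(69,4),(73,8),(74,10),(75,6),(77,1),(78,7),(80,7),(81,10),(82,3),(84,10),(85,3),(87,10),(90,3),(91,3),(92,7),(93,7),(94,3),(95,3),(96,4),(97,8),(101,8),(102,5),(103,5),(104,4),(109,6),(111,10),(112,1),(113,10),(114,6),(115,10),(119,4),(124,6),(130,2),(131,6)])) 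
 (.node (.leaf [(3,3),(6,5),(10,3),(17,3),(18,8),(19,8),(29,4),(31,2),(46,2),(47,7),(50,2),(56,10),(57,1),(59,10),(60,2),(61,2),(64,9),(66,9),(69,9),(70,1),(73,9),(74,1),(75,1),(78,3),(79,8),(80,8),(85,7),(87,5),(92,3),(94,3),(95,3),(96,3),(97,8),(102,5),(103,4),(106,6),(112,5),(113,6),(116,6),(117,6),(120,5),(122,5),(125,5),(129,5),(131,6)]) (.leaf [(0,5),(1,6),(2,5),(4,7),(7,4),(8,9),(9,2),(11,10),(12,6),(15,5),(18,9),(19,7),(20,4),(21,4),(22,6),(25,10),(26,8),(28,5),(29,5),(32,10),(33,7),(34,6),(35,5),(36,5),(37,7),(38,1),(43,4),(44,7),(45,5),(47,6),(49,5),(51,6),(52,7),(54,4),(55,8),(57,9),(62,2),(63,9),(64,9),(65,6),(66,4),(67,9),(69,2),(70,3),(72,6),(74,2),(75,7),(76,8),(82,4),(84,5),(86,6),(87,5),(98,6),(99,7),(102,6),(103,6),(104,4),(105,5),(107,6),(108,7),(110,2),(111,7),(113,9),(118,2),(119,9),(120,9),(121,6),(122,4),(123,9),(125,2),(126,4),(127,2),(128,6),(130,10),(131,7),(132,7)])))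 
 (.node 
 (.node (.leaf [(2,9),(4,8),(5,7),(6,8),(7,9),(8,1),(9,10),(10,10),(11,3),(13,9),(14,2),(16,7),(17,9),(18,6),(19,10),(20,7),(28,5),(29,4),(31,5),(42,1),(46,8),(47,5),(48,2),(50,3),(51,5),(52,5),(53,3),(54,3),(55,7),(56,4),(57,9),(58,8),(59,3),(60,8),(62,3),(63,5),(64,3),(65,8),(67,3),(68,10),(72,9),(73,3),(74,4),(75,2),(80,10),(81,3),(82,1),(84,6),(85,6),(87,7),(88,9),(89,9),(90,1),(91,9),(92,1),(93,10),(95,1),(96,9),(97,1),(98,8),(100,3),(101,1),(102,9),(103,6),(104,5),(106,9),(107,4),(108,4),(109,7),(110,9),(113,8),(116,2),(118,9),(119,4),(120,9),(121,2),(123,9),(124,9),(128,5),(129,9),(131,5)]) (.leaf [(0,2),(1,9),(2,8),(4,9),(5,5),(6,9),(7,6),(8,10),(9,1),(10,3),(11,2),(13,6),(14,5),(16,3),(17,6),(18,4),(19,3),(20,5),(21,9),(24,3),(25,2),(26,8),(28,4),(29,5),(31,8),(32,8),(33,8),(34,10),(35,8),(36,6),(37,5),(38,10),(39,8),(40,6),(41,8),(42,1),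(43,9),(45,6),(46,10),(47,3),(48,7),(49,10),(50,4),(51,4),(52,4),(53,10),(54,4),(55,3),(56,8),(57,8),(58,5),(59,6),(60,7),(62,5),(63,4),(64,3),(65,8),(66,7),(67,3),(68,6),(71,10),(73,4),(74,10),(75,9),(77,1),(80,4),(81,10),(82,7),(84,3),(85,3),(87,3),(88,7),(89,7),(90,6),(91,7),(92,8),(93,3),(94,10),(95,7),(96,8),(97,7),(98,10),(99,1),(101,8),(102,1),(103,5),(104,4),(109,5),(111,5),(112,6),(114,1),(115,10),(122,4),(124,5),(130,2),(131,6)])) 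
 (.node (.leaf [(0,4),(1,7),(4,9),(7,2),(8,10),(9,1),(10,7),(11,8),(12,7),(15,8),(18,6),(19,1),(20,2),(21,2),(22,8),(23,5),(25,5),(26,9),(28,8),(29,5),(30,7),(31,3),(32,8),(34,6),(35,5),(36,3),(37,9),(38,3),(39,9),(41,9),(42,8),(43,3),(44,9),(45,7),(46,7),(47,3),(48,10),(49,1),(50,10),(52,4),(54,10),(55,10),(57,8),(59,6),(61,2),(62,3),(63,8),(64,7),(65,10),(66,7),(67,9),(69,4),(70,1),(71,7),(72,10),(73,10),(74,8),(75,4),(76,5),(77,4),(78,5),(79,9),(82,7),(84,8),(85,10),(86,10),(87,9),(88,5),(90,1),(91,10),(92,6),(93,7),(94,6),(95,7),(97,7),(98,2),(99,6),(100,7),(101,3),(102,10),(103,3),(104,8),(105,2),(106,9),(108,8),(110,9),(111,2),(113,5),(115,10),(117,8),(118,6),(119,5),(120,3),(121,9),(122,3),(123,7),(125,8),(126,9),(127,3),(128,9),(129,9),(130,6),(131,8),(132,1)]) (.leaf [(2,9),(4,2),(5,8),(7,1),(10,7),(11,7),(12,9),(13,7),(14,4),(15,5),(17,4),(18,9),(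19,6),(20,4),(22,1),(24,7),(25,10),(26,6),(28,4),(29,1),(33,6),(35,5),(36,5),(37,6),(38,10),(39,5),(40,10),(41,10),(43,5),(44,5),(45,5),(47,6),(50,7),(51,2),(53,8),(54,2),(55,8),(57,10),(58,8),(59,3),(60,6),(63,9),(64,9),(65,2),(66,7),(67,9),(69,4),(71,7),(72,9),(73,9),(74,10),(75,9),(76,1),(81,5),(84,4),(85,7),(86,5),(87,7),(98,6),(99,5),(102,10),(103,6),(104,5),(106,7),(107,2),(109,2),(110,2),(111,7),(113,1),(114,7),(115,4),(116,6),(119,9),(120,9),(121,2),(122,7),(123,9),(125,4),(127,10),(128,9),(129,9),(130,6),(131,9),(132,5)]))))))) 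
 (.node 
 (.node 
 (.node 
 (.node 
 (.node 
 (.node 
 (.node (.leaf [(0,7),(1,5),(2,7),(4,4),(5,10),(6,3),(7,7),(8,5),(9,7),(10,4),(11,2),(12,9),(13,4),(14,6),(15,3),(16,8),(17,4),(18,7),(19,1),(21,6),(24,1),(25,5),(26,6),(28,6),(29,6),(30,4),(31,7),(32,5),(33,5),(34,6),(35,5),(36,5),(37,4),(39,8),(40,6),(41,5),(43,1),(44,10),(46,3),(47,5),(48,4),(49,8),(50,3),(51,3),(52,3),(54,8),(55,4),(56,6),(57,8),(60,5),(62,8),(63,3),(64,3),(65,9),(68,6),(71,5),(72,6),(73,7),(75,5),(76,9),(77,6),(80,1),(81,5),(82,6),(84,6),(85,6),(86,4),(87,7),(88,5),(89,5),(90,6),(91,5),(92,5),(93,4),(95,8),(96,6),(97,5),(99,1),(100,10),(102,3),(103,5),(104,4),(105,4),(106,7),(107,7),(108,7),(110,4),(111,2),(112,3),(113,4),(116,8),(118,4),(119,7),(120,7),(121,10),(124,3),(127,8),(128,3),(129,9),(131,8),(132,10)]) (.leaf [(3,5),(4,5),(6,6),(7,1),(8,5),(9,6),(11,10),(15,10),(19,6),(20,1),(23,4),(25,4),(26,7),(28,4),(32,4),(34,7),(35,4),(37,7),(38,7),(39,4),(43,7),(45,4),(47,7),(52,5),(54,6),(55,2),(56,5),(61,5),(62,6),(63,5),(65,6),(66,6),(67,5),(70,9),(71,6),(73,10),(74,3),(84,4),(87,4),(95,4),(98,7),(102,4),(103,7),(104,4),(108,5),(110,6),(111,10),(112,5),(117,5),(118,6),(119,5),(121,6),(122,6),(123,5),(126,1),(127,6),(129,8),(130,4)]))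 (.leaf [(2,9),(5,6),(7,6),(8,6),(9,5),(10,10),(11,10),(12,5),(13,10),(14,1),(17,1),(18,4),(19,5),(22,3),(25,9),(26,3),(28,10),(29,8),(30,4),(31,4),(32,8),(33,1),(34,8),(36,2),(37,3),(38,6),(39,8),(40,5),(41,5),(43,4),(44,8),(45,3),(48,7),(50,8),(51,6),(52,4),(53,1),(54,7),(57,10),(62,4),(64,1),(65,7),(66,3),(67,1),(69,7),(71,6),(72,4),(73,4),(74,5),(75,8),(76,2),(78,6),(81,3),(82,6),(84,1),(85,6),(86,1),(87,1),(88,5),(89,2),(90,5),(92,4),(93,6),(94,1),(95,5),(96,10),(97,10),(99,5),(100,5),(101,5),(104,10),(106,5),(107,1),(108,8),(109,7),(110,3),(113,5),(118,8),(120,2),(121,3),(122,6),(123,6),(125,3),(127,2),(128,8),(129,8),(130,1),(131,5),(132,7)])) 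
 (.node (.leaf [(0,3),(1,8),(2,2),(6,8),(7,2),(10,2),(16,2),(18,1),(19,1),(20,1),(28,6),(29,5),(30,9),(31,5),(33,4),(42,8),(46,6),(47,5),(49,2),(50,5),(52,8),(56,8),(57,4),(59,3),(63,9),(64,3),(66,1),(67,3),(69,6),(74,4),(75,5),(77,8),(78,2),(84,5),(85,6),(86,6),(87,7),(88,10),(89,3),(91,3),(92,1),(94,4),(97,9),(98,9),(101,1),(102,4),(103,3),(105,6),(106,4),(107,3),(108,2),(112,10),(113,2),(119,5),(120,9),(122,3),(123,9),(124,8),(125,7),(131,3)]) (.leaf [(0,2),(1,9),(2,8),(3,2),(6,7),(7,4),(8,2),(9,9),(10,8),(11,4),(15,2),(16,6),(18,1),(19,1),(20,3),(21,9),(22,8),(23,9),(26,2),(28,3),(29,9),(30,7),(31,2),(32,8),(33,8),(34,2),(36,5),(37,2),(38,5),(39,2),(42,5),(45,1),(46,1),(47,6),(48,3),(49,10),(50,2),(51,4),(52,4),(54,1),(55,9),(56,3),(57,2),(59,3),(61,10),(62,1),(64,8),(65,1),(66,8),(67,6),(68,8),(69,4),(70,2),(73,1),(74,7),(75,10),(77,1),(78,7),(79,1),(82,10),(84,2),(85,7),(86,4),(87,9),(88,7),(89,7),(90,10),(92,3),(93,10),(94,3),(95,10),(97,4),(98,6),(101,5),(102,10),(103,10),(104,8),(106,4),(111,4),(112,7),(113,6),(115,5),(126,7),(130,8),(131,5)])))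 
 (.node 
 (.node (.leaf [(2,5),(5,9),(6,7),(7,2),(8,8),(9,9),(11,10),(12,6),(13,2),(14,3),(16,4),(17,9),(19,4),(20,9),(22,3),(24,6),(26,8),(27,6),(28,8),(29,6),(30,8),(31,6),(32,8),(33,2),(34,3),(36,6),(37,7),(38,3),(39,9),(40,8),(42,10),(43,1),(44,5),(45,6),(46,4),(47,6),(48,1),(51,10),(52,7),(53,10),(54,7),(55,5),(56,3),(57,8),(58,4),(59,5),(60,8),(62,4),(64,8),(65,2),(66,4),(67,8),(68,3),(69,4),(70,4),(71,5),(72,3),(73,1),(74,5),(75,4),(76,2),(78,3),(80,6),(82,8),(83,6),(84,8),(85,6),(86,8),(87,6),(88,8),(89,2),(90,3),(92,6),(93,7),(94,3),(95,9),(96,8),(98,10),(99,1),(100,5),(101,6),(102,4),(103,6),(104,1),(107,5),(108,9),(109,5),(110,9),(111,8),(112,7),(113,4),(114,2),(115,8),(116,4),(118,2),(120,4),(121,1),(122,2),(123,4),(124,7),(125,2),(126,2),(127,8),(128,7),(129,6),(130,8),(131,2),(132,1)]) (.leaf [(2,6),(4,7),(5,7),(6,7),(7,6),(10,10),(16,6),(18,1),(19,1),(20,1),(22,10),(25,1),(28,4),(29,8),(31,10),(32,6),(33,6),(36,5),(38,5),(41,1),(42,9),(45,5),(46,1),(47,7),(50,6),(51,3),(52,3),(53,3),(56,3),(57,9),(59,1),(64,8),(66,8),(67,8),(68,8),(69,5),(74,5),(75,10),(78,6),(81,9),(84,3),(85,6),(87,1),(88,8),(89,8),(92,3),(94,3),(97,5),(98,2),(101,3),(102,10),(103,8),(109,7),(112,7),(113,10),(115,9),(130,1),(131,5)]))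 
 (.node (.leaf [(2,10),(4,10),(5,1),(7,2),(8,6),(9,5),(10,5),(11,9),(12,6),(13,5),(14,6),(15,4),(17,6),(18,5),(19,1),(20,1),(21,5),(25,7),(26,6),(28,8),(29,5),(31,4),(32,8),(33,6),(34,8),(35,8),(36,8),(37,6),(39,3),(40,8),(41,8),(42,4),(43,8),(44,3),(45,8),(46,3),(47,7),(48,3),(49,2),(50,4),(51,3),(52,4),(54,3),(55,5),(57,3),(59,6),(62,4),(63,4),(64,4),(65,3),(67,4),(70,6),(71,6),(72,7),(73,7),(74,9),(76,9),(77,9),(81,7),(82,1),(84,8),(87,1),(88,5),(89,1),(90,5),(91,5),(92,5),(93,1),(95,6),(96,5),(97,5),(98,1),(99,9),(100,6),(101,5),(102,9),(103,7),(104,9),(105,8),(106,8),(107,6),(108,8),(109,6),(110,6),(111,1),(113,2),(115,10),(118,8),(119,8),(120,8),(121,6),(123,8),(126,10),(127,7),(128,3),(129,3),(130,4),(132,4)]) (.leaf [(2,9),(4,5),(5,2),(7,8),(8,2),(9,9),(10,2),(11,7),(12,9),(13,7),(14,4),(15,5),(17,4),(19,10),(22,10),(25,7),(26,6),(28,10),(29,7),(32,1),(33,6),(34,5),(37,6),(38,5),(39,1),(40,10),(41,6),(44,5),(45,4),(47,4),(50,2),(51,2),(52,4),(53,1),(54,2),(55,8),(57,1),(59,6),(62,9),(65,2),(66,9),(67,5),(69,7),(70,3),(71,9),(72,9),(73,4),(75,2),(76,1),(81,1),(84,10),(85,7),(86,10),(87,6),(99,5),(102,4),(104,5),(106,2),(107,2),(108,4),(109,4),(110,2),(111,7),(113,3),(115,8),(118,9),(121,2),(122,9),(123,5),(125,7),(126,4),(127,1),(128,9),(129,4),(131,2),(132,5)]))))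 
 (.node 
 (.node 
 (.node (.leaf [(3,5),(4,7),(5,1),(7,7),(8,8),(9,9),(10,2),(11,1),(12,1),(13,9),(14,8),(15,9),(16,7),(19,4),(20,1),(22,3),(23,5),(24,9),(25,6),(27,8),(28,6),(29,8),(30,6),(31,10),(32,3),(34,3),(36,3),(38,10),(39,2),(41,8),(42,6),(43,8),(45,8),(46,10),(47,3),(48,6),(50,7),(52,4),(55,4),(57,7),(58,5),(59,3),(60,1),(61,3),(62,4),(64,4),(66,6),(67,7),(68,8),(69,4),(70,5),(71,7),(73,10),(74,3),(75,7),(76,3),(78,3),(79,5),(80,9),(81,6),(83,8),(84,6),(85,8),(86,6),(87,10),(88,3),(90,3),(92,3),(94,10),(95,2),(97,8),(98,6),(99,8),(101,8),(102,10),(103,3),(104,6),(106,9),(108,2),(111,2),(113,9),(114,8),(115,7),(116,6),(117,7),(118,2),(120,2),(122,3),(123,9),(124,4),(125,2),(126,8),(127,9),(129,5),(130,7),(131,9),(132,7)]) (.leaf [(3,4),(4,4),(6,7),(7,3),(8,4),(9,7),(11,8),(15,8),(19,7),(20,3),(23,2),(25,2),(26,9),(28,1),(31,10),(32,2),(34,9),(35,2),(37,9),(38,9),(39,1),(42,1),(43,9),(45,2),(46,10),(47,10),(48,10),(52,1),(54,10),(55,4),(56,1),(61,1),(62,10),(63,1),(65,10),(66,10),(67,1),(70,7),(71,10),(74,6),(79,4),(81,4),(82,7),(84,1),(87,8),(88,4),(90,7),(91,4),(93,7),(94,7),(95,1),(98,3),(99,7),(101,4),(102,8),(103,10),(104,8),(108,2),(110,9),(111,3),(112,2),(117,2),(118,9),(119,2),(121,9),(122,9),(123,2),(126,8),(127,9),(129,4),(130,10)]))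 
 (.node (.leaf [(0,3),(1,8),(2,1),(3,3),(6,5),(7,6),(8,3),(9,8),(10,1),(11,6),(15,3),(16,9),(18,7),(19,7),(20,10),(28,9),(29,6),(30,2),(31,10),(41,4),(42,3),(46,5),(47,2),(48,4),(49,2),(50,2),(51,3),(52,3),(54,9),(55,10),(56,10),(57,5),(59,7),(61,2),(62,9),(64,6),(65,9),(66,6),(67,10),(68,6),(69,3),(70,1),(73,9),(74,9),(75,4),(77,8),(78,1),(79,8),(82,3),(84,10),(85,8),(86,5),(87,3),(88,1),(89,1),(90,3),(92,2),(93,3),(94,2),(95,3),(98,2),(101,7),(102,7),(103,9),(104,10),(105,6),(106,9),(107,9),(108,9),(110,5),(112,5),(113,3),(117,6),(118,5),(120,7),(121,5),(122,7),(123,8),(124,7),(125,9),(129,5),(131,2)]) (.leaf [(2,7),(4,7),(5,4),(7,8),(8,2),(9,9),(10,9),(11,3),(12,2),(13,9),(14,2),(15,5),(17,2),(18,9),(19,4),(20,4),(21,1),(25,6),(26,1),(28,10),(29,8),(32,5),(33,1),(34,5),(35,5),(36,5),(37,1),(39,6),(40,5),(41,5),(43,8),(44,6),(45,5),(47,6),(49,9),(50,9),(51,4),(52,9),(53,4),(54,4),(55,8),(57,5),(59,3),(62,9),(63,9),(64,9),(65,4),(67,9),(70,3),(71,1),(72,2),(73,2),(74,10),(76,10),(77,4),(81,6),(84,10),(85,7),(87,6),(98,6),(99,6),(102,10),(103,6),(104,10),(105,7),(106,9),(107,4),(108,9),(109,1),(110,4),(111,7),(113,7),(115,4),(118,9),(119,9),(120,9),(121,4),(123,9),(126,4),(127,9),(128,2),(129,2),(130,6),(132,6)])))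 
 (.node 
 (.node (.leaf [(2,9),(4,5),(5,5),(6,5),(7,9),(10,4),(16,9),(18,7),(19,7),(20,7),(25,4),(28,5),(29,10),(31,6),(42,1),(46,5),(47,6),(50,10),(51,5),(52,5),(53,10),(56,10),(57,8),(59,6),(64,6),(66,6),(67,6),(68,6),(69,1),(74,8),(75,4),(78,4),(81,7),(84,6),(85,1),(87,4),(88,9),(89,9),(92,2),(94,2),(97,7),(98,8),(101,2),(102,7),(103,5),(106,8),(107,4),(108,4),(109,5),(112,5),(113,4),(120,7),(122,7),(123,7),(124,7),(125,3),(131,2)]) (.leaf [(0,2),(1,9),(2,5),(6,9),(7,5),(10,5),(16,5),(18,8),(19,8),(20,8),(21,9),(22,5),(28,7),(29,4),(30,4),(31,1),(32,3),(33,2),(35,2),(36,8),(38,10),(41,6),(42,6),(45,8),(46,10),(47,2),(49,10),(50,3),(51,3),(52,7),(56,4),(57,10),(59,6),(63,1),(64,4),(66,5),(67,4),(68,8),(69,8),(74,8),(75,2),(77,1),(78,3),(84,8),(85,3),(86,7),(87,10),(88,4),(89,3),(91,10),(92,7),(94,6),(97,8),(98,5),(101,7),(102,1),(103,4),(107,4),(112,7),(113,5),(115,10),(124,7),(130,6),(131,6)]))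 
 (.node (.leaf [(2,5),(4,4),(5,6),(7,2),(8,6),(9,5),(10,6),(11,10),(12,5),(13,10),(14,1),(15,4),(17,1),(19,8),(22,5),(25,6),(26,3),(28,8),(29,10),(30,3),(31,4),(32,6),(33,3),(34,8),(37,3),(38,8),(39,6),(40,5),(41,3),(43,7),(44,8),(45,2),(46,10),(47,2),(48,7),(50,7),(51,7),(52,3),(53,1),(54,7),(55,5),(59,1),(62,4),(65,7),(66,4),(67,1),(69,8),(70,6),(71,7),(72,4),(73,3),(75,7),(76,2),(78,10),(81,9),(82,6),(84,8),(85,10),(86,9),(87,1),(88,1),(89,6),(90,5),(93,6),(94,5),(95,1),(96,10),(97,6),(99,10),(100,5),(101,4),(102,8),(103,4),(104,10),(106,3),(107,3),(108,6),(109,7),(110,3),(111,1),(113,7),(115,9),(118,8),(121,3),(122,8),(123,2),(125,5),(126,10),(127,8),(128,8),(129,6),(131,3),(132,7)]) (.leaf [(2,3),(5,2),(7,2),(8,2),(9,9),(10,7),(11,7),(12,9),(13,7),(14,4),(17,4),(18,5),(19,9),(22,6),(25,4),(26,6),(28,3),(29,3),(32,5),(33,2),(34,5),(36,4),(37,6),(38,1),(39,5),(40,10),(41,10),(43,3),(44,5),(45,8),(50,7),(51,8),(52,9),(53,1),(54,2),(57,7),(62,9),(64,5),(65,2),(66,4),(67,4),(69,2),(71,5),(72,9),(73,9),(74,8),(75,7),(76,1),(81,5),(84,10),(85,7),(86,6),(87,6),(99,1),(101,4),(104,5),(106,7),(107,8),(108,9),(109,4),(110,2),(113,9),(118,9),(120,5),(121,2),(122,4),(123,2),(125,2),(127,10),(128,9),(129,9),(130,7),(131,7),(132,5)])))))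 
 (.node 
 (.node 
 (.node 
 (.node (.leaf [(2,4),(4,7),(5,1),(6,4),(8,3),(9,2),(10,9),(11,1),(12,1),(13,9),(14,8),(15,2),(16,7),(17,2),(18,4),(19,10),(20,1),(22,8),(24,8),(25,6),(26,5),(27,8),(29,2),(30,6),(31,10),(32,3),(33,6),(34,8),(35,6),(36,8),(37,6),(39,7),(40,10),(41,3),(42,6),(43,8),(45,3),(46,10),(47,9),(48,6),(50,4),(51,8),(52,4),(54,3),(55,2),(56,8),(57,10),(58,3),(59,3),(60,7),(62,7),(63,8),(64,7),(65,8),(67,4),(68,8),(69,7),(70,5),(71,7),(73,2),(74,5),(75,10),(76,3),(78,8),(80,8),(81,6),(82,5),(83,8),(85,2),(86,6),(87,10),(88,3),(89,6),(90,8),(91,6),(92,8),(93,6),(95,7),(96,10),(97,3),(98,6),(99,8),(101,3),(102,10),(103,9),(104,6),(106,2),(107,4),(108,2),(110,7),(111,1),(112,4),(113,5),(114,7),(115,7),(116,9),(118,9),(119,4),(120,9),(121,4),(123,2),(124,4),(125,9),(126,8),(127,9),(129,1),(130,8),(131,5),(132,7)]) (.leaf [(0,4),(1,7),(2,4),(3,4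),(4,3),(6,7),(7,8),(8,5),(9,6),(11,8),(13,4),(14,7),(15,8),(18,5),(19,2),(20,1),(21,2),(22,3),(23,2),(25,2),(26,9),(28,7),(29,10),(30,3),(31,7),(32,3),(33,9),(34,3),(35,2),(36,6),(37,9),(38,6),(39,9),(42,4),(43,6),(45,10),(46,3),(47,6),(48,10),(49,1),(51,10),(52,7),(54,10),(55,10),(56,1),(57,5),(58,5),(59,6),(61,1),(62,7),(63,6),(64,3),(65,10),(66,3),(67,5),(69,7),(70,7),(71,3),(73,10),(74,10),(75,7),(77,4),(78,6),(79,4),(81,5),(82,7),(84,9),(85,9),(86,9),(87,10),(88,6),(89,7),(90,6),(91,3),(92,1),(93,7),(94,1),(95,7),(98,1),(99,1),(101,9),(102,9),(103,6),(104,8),(105,2),(107,9),(108,3),(110,9),(111,2),(112,2),(113,10),(114,1),(115,10),(117,2),(118,3),(119,5),(120,6),(121,9),(122,6),(123,10),(125,3),(126,8),(127,6),(129,9),(130,2),(131,3)])) 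
 (.node (.leaf [(2,10),(4,8),(5,10),(7,10),(8,4),(9,7),(13,9),(14,2),(17,9),(18,8),(19,1),(20,9),(27,2),(28,10),(29,10),(30,9),(31,2),(42,6),(45,4),(51,8),(52,8),(53,6),(54,3),(55,7),(56,2),(57,5),(58,8),(59,10),(60,8),(62,1),(63,5),(64,2),(65,8),(66,6),(67,3),(68,4),(69,3),(73,3),(75,3),(78,1),(80,10),(81,3),(82,1),(83,5),(84,9),(86,6),(87,5),(88,10),(89,10),(90,4),(91,9),(92,8),(93,10),(94,2),(95,1),(96,9),(98,4),(101,4),(107,2),(108,2),(109,8),(110,9),(112,5),(113,6),(116,2),(118,3),(119,4),(120,6),(121,2),(122,7),(123,1),(124,10),(125,9),(129,9),(131,6)]) (.leaf [(2,2),(3,2),(6,7),(7,7),(10,2),(11,6),(15,2),(16,9),(19,9),(20,9),(23,9),(26,2),(27,4),(28,1),(31,7),(32,9),(33,2),(37,1),(38,2),(39,2),(41,9),(42,4),(45,9),(46,7),(47,10),(48,10),(50,10),(51,1),(52,10),(54,1),(55,9),(56,3),(61,10),(65,8),(66,1),(67,10),(68,1),(70,2),(73,1),(74,2),(79,1),(82,10),(83,7),(84,9),(87,4),(88,1),(89,10),(93,9),(94,10),(95,10),(97,1),(98,7),(101,1),(102,4),(103,2),(104,1),(111,4),(112,7),(121,4),(126,7),(130,7)])))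 
 (.node 
 (.node (.leaf [(2,10),(4,8),(5,9),(6,8),(7,7),(8,2),(9,9),(10,1),(11,3),(13,10),(14,1),(16,9),(17,10),(18,7),(19,9),(20,9),(21,4),(28,10),(31,8),(42,6),(46,5),(47,6),(48,2),(49,5),(50,8),(51,8),(52,8),(53,7),(54,6),(55,3),(56,6),(57,3),(58,4),(59,7),(60,3),(62,6),(63,8),(64,8),(65,3),(67,8),(68,8),(73,6),(74,8),(75,4),(77,1),(80,1),(81,3),(82,2),(84,1),(85,1),(87,9),(88,10),(89,10),(90,2),(91,10),(92,10),(93,1),(95,2),(96,10),(97,10),(98,4),(101,10),(102,7),(103,5),(104,5),(105,7),(106,2),(107,2),(108,2),(109,9),(110,7),(112,5),(113,9),(116,9),(118,7),(119,2),(120,2),(121,9),(123,2),(124,1),(129,7),(131,10)]) (.leaf [(2,3),(4,9),(5,3),(6,9),(7,1),(8,8),(9,3),(11,2),(13,6),(14,5),(16,9),(17,6),(18,7),(19,4),(20,8),(22,6),(24,3),(25,2),(26,8),(28,8),(29,1),(30,7),(32,5),(33,3),(34,8),(35,8),(37,5),(38,3),(39,8),(40,6),(42,6),(45,9),(46,7),(47,9),(48,7),(51,7),(52,8),(53,9),(54,4),(55,3),(56,8),(57,9),(58,5),(60,7),(62,4),(63,4),(65,8),(66,7),(67,10),(68,3),(69,3),(73,4),(74,2),(75,8),(78,8),(80,4),(81,10),(82,7),(84,6),(86,4),(88,3),(89,4),(90,7),(91,7),(93,3),(94,4),(95,7),(96,8),(98,5),(101,1),(102,4),(103,1),(104,4),(109,5),(111,5),(112,6),(113,6),(114,1),(124,5),(130,7)]))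 
 (.node (.leaf [(4,10),(5,3),(7,1),(8,1),(9,10),(13,8),(14,3),(15,8),(18,9),(19,2),(20,4),(22,1),(25,5),(28,4),(29,10),(30,3),(31,8),(32,5),(34,5),(35,10),(36,6),(38,6),(42,5),(43,6),(45,6),(46,3),(47,7),(52,8),(57,5),(58,10),(62,8),(63,5),(64,3),(66,3),(67,3),(69,6),(70,1),(71,3),(74,3),(75,8),(78,2),(81,10),(84,4),(85,9),(86,9),(87,2),(88,10),(90,10),(91,9),(92,1),(94,1),(98,4),(99,1),(101,1),(102,9),(103,7),(108,5),(109,7),(113,10),(114,2),(118,5),(119,10),(120,6),(122,6),(123,6),(125,1),(126,9),(127,6),(130,5),(131,5)]) (.leaf [(0,5),(1,6),(4,9),(7,7),(8,7),(9,4),(10,6),(13,5),(14,6),(15,5),(18,7),(19,9),(20,8),(21,4),(22,1),(25,5),(28,6),(29,6),(32,5),(34,2),(35,10),(36,6),(38,2),(41,7),(43,9),(45,6),(47,9),(49,5),(50,6),(52,9),(57,2),(58,8),(59,8),(62,2),(63,7),(64,2),(66,8),(67,2),(69,4),(70,3),(71,9),(74,1),(75,3),(84,6),(86,5),(87,10),(90,4),(98,1),(99,7),(102,1),(103,5),(105,5),(106,6),(108,9),(113,2),(114,7),(115,7),(119,7),(120,2),(122,8),(123,2),(125,4),(126,4),(130,5),(131,3)]))))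 
 (.node 
 (.node 
 (.node (.leaf [(2,9),(5,3),(6,3),(7,5),(8,5),(9,7),(10,6),(11,2),(15,1),(16,4),(17,2),(18,7),(19,2),(20,1),(24,10),(26,9),(27,8),(28,9),(29,3),(30,1),(31,6),(32,5),(33,8),(34,6),(36,8),(37,7),(38,2),(39,7),(40,3),(41,2),(42,6),(43,9),(44,5),(45,8),(46,4),(47,3),(48,8),(50,10),(51,7),(52,3),(53,7),(54,1),(55,8),(56,6),(57,4),(58,4),(59,3),(60,6),(62,8),(64,7),(65,2),(66,10),(67,7),(68,3),(70,6),(71,1),(72,3),(73,2),(74,3),(75,8),(76,2),(80,10),(82,9),(83,8),(84,9),(85,3),(86,1),(87,6),(88,5),(89,8),(90,6),(92,8),(93,7),(94,2),(95,7),(96,3),(97,2),(98,6),(99,9),(100,5),(101,8),(102,4),(103,3),(104,8),(106,5),(107,9),(108,7),(109,9),(110,6),(111,4),(112,3),(113,2),(114,2),(115,7),(116,3),(118,4),(120,9),(121,1),(122,5),(123,9),(124,7),(126,3),(127,6),(128,7),(129,1),(130,7),(131,4),(132,1)]) (.leaf [(2,3),(4,9),(5,6),(6,9),(7,1),(8,5),(9,6)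,(10,8),(11,2),(13,3),(14,8),(16,6),(17,3),(18,1),(19,6),(20,6),(21,8),(24,8),(25,2),(26,5),(28,8),(29,8),(31,6),(32,3),(33,3),(34,5),(35,3),(36,3),(37,8),(39,5),(40,3),(41,3),(42,10),(45,3),(46,1),(47,7),(48,7),(49,6),(50,7),(51,7),(52,7),(53,1),(54,8),(55,6),(56,6),(57,4),(58,8),(59,3),(60,4),(62,8),(63,7),(64,7),(65,4),(67,7),(68,6),(73,8),(74,5),(75,7),(80,7),(81,10),(82,3),(84,6),(85,7),(87,5),(88,4),(89,4),(90,3),(91,4),(92,4),(93,7),(95,3),(96,4),(97,4),(98,1),(101,4),(102,10),(103,8),(104,4),(105,4),(109,6),(111,10),(112,1),(114,6),(115,5),(124,6),(130,1),(131,1)])) 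
 (.node (.leaf [(2,3),(3,3),(6,5),(7,5),(10,3),(11,9),(15,3),(16,8),(19,8),(20,8),(27,9),(28,4),(31,2),(37,4),(42,9),(46,2),(47,7),(48,6),(50,2),(51,9),(52,2),(54,9),(55,10),(56,10),(61,2),(65,1),(66,9),(67,2),(68,9),(70,1),(73,9),(74,1),(79,8),(82,3),(83,6),(84,7),(87,5),(88,8),(89,3),(93,7),(94,3),(95,3),(97,8),(98,6),(101,8),(102,5),(103,4),(104,4),(106,6),(107,5),(108,6),(110,5),(112,5),(117,6),(121,6),(122,5),(123,6),(124,5),(129,5)]) (.leaf [(4,7),(5,1),(7,4),(8,4),(9,7),(13,10),(14,1),(15,10),(18,3),(19,8),(20,5),(22,2),(25,10),(28,5),(29,9),(32,10),(34,10),(35,9),(36,1),(38,1),(43,1),(45,1),(47,6),(52,7),(53,1),(57,3),(58,5),(62,7),(63,3),(64,4),(66,4),(67,4),(69,8),(70,6),(71,4),(74,7),(75,7),(84,5),(86,10),(87,1),(98,2),(102,10),(103,6),(108,7),(109,3),(113,3),(114,3),(118,7),(119,3),(120,4),(122,4),(123,4),(125,8),(126,8),(127,4),(130,2),(131,7)])))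 
 (.node 
 (.node (.leaf [(2,10),(4,8),(5,10),(6,8),(7,7),(8,1),(9,10),(11,3),(13,9),(14,2),(16,8),(17,9),(18,5),(19,6),(20,1),(28,10),(29,6),(30,2),(42,8),(46,2),(48,2),(51,8),(52,6),(53,6),(54,3),(55,7),(56,4),(57,2),(58,8),(60,8),(62,3),(63,3),(65,6),(66,8),(67,2),(68,7),(69,5),(73,3),(74,1),(75,6),(78,9),(80,10),(81,3),(82,1),(84,1),(85,7),(86,5),(88,2),(89,10),(90,1),(91,1),(93,2),(94,10),(95,1),(96,9),(98,9),(101,8),(102,5),(103,8),(104,5),(107,2),(108,7),(109,8),(110,9),(113,5),(116,2),(118,9),(119,9),(121,7),(122,2),(123,6),(125,4),(129,9),(131,7)]) (.leaf [(2,3),(4,9),(5,3),(7,3),(8,10),(9,1),(13,6),(14,5),(17,6),(18,9),(19,8),(20,6),(22,8),(24,3),(25,2),(26,8),(27,7),(28,6),(30,4),(31,7),(32,3),(33,3),(34,10),(35,6),(36,9),(37,3),(38,5),(39,8),(40,6),(42,10),(45,10),(51,7),(52,7),(53,9),(54,4),(55,3),(56,9),(57,5),(58,5),(59,9),(60,7),(62,5),(63,3),(64,10),(65,7),(66,8),(67,7),(68,7),(69,4),(73,4),(75,1),(78,7),(80,4),(81,10),(82,7),(83,4),(84,7),(85,10),(86,7),(87,4),(88,4),(89,4),(90,6),(91,8),(92,1),(93,4),(94,3),(95,7),(96,8),(98,1),(101,10),(109,5),(111,5),(112,6),(113,10),(114,1),(115,4),(123,4),(124,1),(131,7)]))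 
 (.node (.leaf [(0,4),(1,7),(4,5),(7,10),(8,10),(9,1),(10,7),(13,4),(14,7),(15,4),(18,10),(19,5),(20,2),(21,2),(22,6),(25,8),(28,7),(29,3),(30,7),(31,3),(32,8),(35,5),(36,3),(38,1),(41,9),(42,8),(45,3),(46,8),(47,6),(49,1),(50,10),(52,4),(57,7),(58,5),(59,5),(62,5),(63,8),(64,7),(66,6),(67,7),(69,3),(70,6),(71,6),(74,2),(75,5),(77,4),(78,1),(81,5),(84,7),(85,6),(86,10),(87,9),(88,5),(90,10),(91,10),(92,6),(94,2),(97,7),(98,2),(99,1),(101,6),(102,2),(103,8),(105,2),(106,9),(108,8),(113,3),(114,1),(115,1),(118,3),(119,5),(120,3),(122,1),(123,3),(125,6),(126,10),(127,8),(130,7),(131,10)]) (.leaf [(0,5),(1,6),(2,5),(3,5),(4,1),(6,6),(7,10),(8,9),(9,2),(11,10),(13,5),(14,6),(15,10),(18,9),(19,8),(20,4),(21,4),(22,6),(23,4),(25,2),(26,7),(28,2),(29,9),(32,6),(33,7),(34,6),(35,6),(36,1),(37,7),(38,1),(39,7),(43,1),(45,9),(47,2),(49,5),(51,6),(52,2),(54,6),(55,5),(56,5),(57,3),(58,8),(59,3),(61,5),(62,2),(63,7),(64,4),(65,6),(66,4),(67,3),(69,2),(70,9),(71,4),(73,6),(74,5),(75,2),(81,7),(84,9),(86,10),(87,5),(91,4),(98,6),(102,10),(103,2),(104,4),(105,5),(107,6),(108,2),(110,6),(111,3),(112,5),(113,3),(114,7),(115,4),(117,5),(118,2),(119,5),(120,4),(121,6),(122,4),(123,3),(125,2),(126,1),(127,4),(129,6),(130,3),(131,2)]))))))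 
 (.node 
 (.node 
 (.node 
 (.node 
 (.node 
 (.node (.leaf [(2,2),(5,8),(6,4),(7,2),(8,10),(9,7),(11,10),(12,1),(13,4),(14,1),(16,7),(17,9),(19,3),(20,9),(22,2),(24,5),(26,8),(28,8),(29,5),(30,9),(31,4),(32,9),(33,3),(34,2),(35,1),(36,6),(37,9),(38,2),(39,7),(40,8),(42,7),(44,6),(45,5),(46,2),(47,6),(48,9),(51,4),(52,1),(53,4),(54,7),(55,9),(56,8),(57,3),(58,10),(59,9),(60,3),(62,10),(63,5),(64,8),(65,1),(66,10),(67,3),(68,8),(69,10),(70,1),(72,8),(73,2),(75,4),(76,1),(78,2),(80,5),(82,8),(84,8),(85,5),(86,9),(87,4),(88,9),(89,3),(90,2),(91,1),(92,6),(93,9),(94,2),(95,7),(96,8),(98,7),(100,6),(101,5),(102,2),(103,6),(104,9),(107,2),(108,6),(109,2),(110,9),(111,10),(112,4),(113,7),(114,5),(115,10),(116,7),(118,5),(119,8),(120,4),(121,6),(122,5),(123,7),(124,4),(125,5),(126,6),(128,4),(129,1),(131,2),(132,6)]) (.leaf [(2,5),(4,7),(7,4),(8,4),(9,7),(10,5),(16,5),(18,9),(19,2),(20,3),(22,6),(25,10),(28,5),(29,8),(32,6),(33,7),(34,10),(35,1),(36,5),(38,5),(41,4),(43,1),(45,5),(47,6),(50,5),(51,6),(52,2),(57,5),(59,3),(62,7),(63,4),(64,9),(66,9),(67,9),(68,5),(69,2),(71,4),(74,10),(75,6),(84,5),(85,7),(86,6),(87,1),(98,10),(102,10),(103,6),(106,5),(107,6),(108,2),(113,7),(115,4),(118,7),(119,4),(120,9),(122,9),(123,9),(124,5),(125,2),(127,4),(130,6),(131,4)]))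 (.leaf [(2,9),(4,10),(5,10),(7,3),(10,10),(11,7),(12,1),(13,2),(14,9),(17,1),(18,1),(20,9),(22,10),(25,9),(26,1),(28,1),(29,5),(30,8),(33,1),(35,6),(36,10),(37,6),(38,5),(39,6),(40,5),(41,5),(42,3),(43,4),(44,6),(45,10),(46,3),(47,7),(48,6),(50,8),(51,6),(54,6),(55,10),(57,3),(58,1),(59,1),(63,3),(64,5),(65,8),(66,8),(67,5),(69,5),(72,3),(73,3),(74,4),(75,3),(76,7),(78,9),(81,4),(82,2),(84,1),(86,2),(89,2),(91,1),(92,9),(94,10),(95,1),(96,10),(97,10),(98,9),(99,4),(100,1),(101,9),(102,9),(103,7),(104,7),(106,5),(107,1),(109,5),(110,1),(111,2),(113,2),(114,9),(115,9),(119,6),(120,10),(121,9),(122,5),(123,10),(125,10),(127,5),(128,6),(129,6),(130,3),(131,6),(132,8)])) 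
 (.node (.leaf [(0,3),(1,8),(2,1),(3,3),(5,9),(6,5),(7,9),(8,2),(9,9),(10,3),(11,3),(13,2),(14,9),(15,3),(17,2),(19,10),(20,7),(22,4),(28,5),(29,5),(31,2),(42,1),(47,7),(48,2),(49,2),(50,2),(51,3),(52,5),(53,7),(54,6),(55,3),(56,8),(57,7),(58,3),(59,10),(60,3),(61,2),(62,6),(63,8),(64,9),(65,3),(66,1),(68,2),(69,9),(70,1),(73,6),(74,1),(75,3),(77,8),(78,6),(79,8),(80,1),(82,2),(84,6),(85,7),(87,5),(88,9),(89,1),(90,2),(91,10),(92,3),(93,1),(94,4),(95,2),(96,2),(97,8),(98,8),(103,4),(104,5),(105,6),(106,6),(107,9),(108,4),(109,9),(110,7),(116,9),(117,6),(118,7),(119,2),(120,5),(121,9),(122,3),(124,5),(125,8),(129,7),(131,9)]) (.leaf [(5,6),(6,9),(7,9),(8,3),(9,8),(10,5),(11,2),(13,5),(14,6),(16,3),(17,5),(18,8),(20,9),(22,8),(24,10),(26,5),(27,4),(28,10),(29,4),(31,5),(32,9),(34,3),(35,3),(36,8),(37,8),(38,3),(39,5),(40,2),(41,6),(42,4),(45,6),(46,6),(47,2),(48,7),(50,3),(52,10),(53,1),(54,8),(55,6),(56,6),(57,5),(58,6),(59,8),(60,5),(62,7),(63,7),(64,4),(65,4),(66,7),(67,3),(68,2),(69,4),(73,8),(74,8),(75,5),(78,7),(80,6),(82,3),(83,7),(84,10),(85,4),(87,6),(88,1),(90,4),(91,4),(92,7),(93,7),(94,4),(95,3),(96,3),(97,8),(98,7),(101,8),(102,5),(103,4),(104,4),(109,6),(111,10),(112,1),(113,6),(114,10),(115,6),(124,6),(130,6),(131,6)])))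 
 (.node 
 (.node (.leaf [(2,4),(5,5),(7,7),(8,3),(9,2),(10,2),(11,1),(12,1),(13,9),(14,8),(15,9),(17,6),(19,6),(20,10),(22,2),(24,3),(27,8),(28,6),(29,7),(30,6),(31,10),(32,9),(33,6),(34,8),(35,1),(36,8),(37,6),(38,5),(39,8),(40,5),(41,8),(42,2),(43,3),(44,5),(45,2),(46,6),(47,8),(48,6),(50,7),(51,8),(52,1),(53,8),(55,4),(57,2),(58,3),(59,1),(60,4),(62,7),(63,5),(64,7),(65,8),(66,3),(67,10),(69,10),(70,5),(71,4),(72,3),(73,7),(74,3),(75,4),(76,3),(78,2),(80,3),(83,8),(84,6),(85,7),(86,6),(87,10),(88,9),(89,6),(90,8),(91,1),(92,8),(93,6),(94,5),(95,8),(96,5),(97,8),(98,2),(99,3),(100,5),(101,2),(102,6),(103,8),(104,6),(106,9),(107,4),(108,6),(109,4),(111,2),(113,1),(114,7),(115,6),(116,2),(118,9),(119,8),(120,9),(121,4),(122,7),(123,5),(125,5),(126,8),(127,2),(128,7),(129,9),(130,7),(131,2),(132,7)]) (.leaf [(2,1),(3,9),(4,9),(5,1),(6,2),(7,5),(8,8),(9,3),(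11,9),(12,7),(13,6),(14,5),(17,8),(18,7),(19,6),(20,6),(22,8),(23,2),(24,1),(25,2),(26,8),(27,3),(28,7),(31,4),(32,5),(33,1),(34,8),(35,6),(37,3),(38,3),(39,6),(40,8),(42,10),(44,2),(45,2),(48,4),(51,6),(52,8),(53,2),(54,4),(55,5),(56,5),(57,5),(58,5),(59,9),(60,6),(61,1),(62,4),(63,3),(65,7),(66,7),(67,1),(68,2),(69,4),(72,1),(73,3),(75,8),(76,9),(78,7),(79,10),(80,5),(81,10),(82,7),(83,8),(84,8),(85,10),(87,7),(88,3),(89,5),(90,7),(91,8),(93,4),(94,4),(95,8),(96,7),(98,1),(100,10),(101,10),(104,7),(109,1),(111,1),(112,10),(113,10),(114,1),(115,4),(124,5),(132,4)])) 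
 (.node (.leaf [(0,4),(1,7),(2,3),(4,4),(5,1),(7,1),(8,1),(9,10),(10,5),(11,9),(12,6),(13,9),(14,2),(15,4),(17,6),(18,4),(19,6),(21,2),(22,6),(25,4),(26,6),(28,4),(29,10),(30,7),(31,8),(32,3),(33,9),(34,5),(37,6),(38,3),(39,5),(40,8),(41,8),(43,2),(44,3),(47,2),(48,3),(49,1),(50,4),(51,4),(52,7),(54,3),(58,5),(59,6),(62,8),(65,3),(66,7),(69,3),(70,6),(71,3),(72,7),(73,8),(75,4),(76,9),(77,4),(78,1),(81,1),(82,1),(84,4),(85,10),(86,10),(87,2),(88,6),(89,6),(90,10),(93,1),(94,6),(95,10),(96,5),(97,5),(99,8),(100,6),(103,4),(104,9),(105,2),(106,8),(107,1),(108,3),(109,6),(110,6),(113,7),(114,1),(115,10),(118,5),(121,6),(122,3),(125,6),(126,10),(127,1),(128,3),(129,5),(131,8),(132,4)]) (.leaf [(2,4),(3,6),(4,10),(5,8),(7,3),(8,4),(9,7),(10,7),(11,8),(12,4),(13,7),(14,4),(17,9),(18,7),(19,2),(20,8),(22,7),(23,7),(25,2),(26,10),(28,1),(29,6),(32,10),(33,10),(34,1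0),(35,6),(36,6),(37,6),(38,7),(39,9),(40,6),(41,10),(43,2),(44,5),(45,2),(47,5),(50,7),(51,7),(52,7),(53,8),(54,7),(55,6),(57,2),(58,8),(59,5),(61,6),(62,7),(63,2),(64,2),(65,2),(66,6),(67,8),(69,6),(70,8),(71,1),(72,9),(73,3),(74,9),(75,5),(76,9),(81,9),(84,1),(87,1),(98,1),(99,1),(102,1),(103,5),(104,1),(106,7),(107,7),(108,7),(109,2),(110,7),(111,8),(113,2),(114,7),(115,3),(117,6),(118,7),(119,2),(120,2),(121,2),(122,6),(123,8),(125,6),(126,7),(127,6),(128,9),(129,3),(130,1),(131,5),(132,1)])))) 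
 (.node 
 (.node 
 (.node (.leaf [(2,9),(5,3),(6,7),(7,9),(8,5),(9,7),(10,6),(11,7),(12,5),(13,4),(14,6),(15,5),(16,4),(17,2),(19,8),(20,6),(24,4),(26,9),(27,9),(28,3),(29,8),(30,2),(33,8),(34,6),(36,8),(37,2),(38,8),(39,1),(40,3),(41,2),(43,9),(44,10),(45,3),(46,9),(47,8),(48,2),(50,10),(51,7),(53,7),(54,1),(55,3),(56,3),(57,7),(58,1),(60,9),(62,8),(64,7),(65,10),(66,7),(67,4),(68,3),(70,1),(71,1),(72,6),(73,5),(76,10),(80,4),(82,9),(83,9),(84,3),(85,8),(86,2),(89,8),(90,6),(92,8),(93,2),(94,8),(95,1),(96,3),(97,2),(99,9),(100,10),(101,3),(102,9),(103,8),(104,2),(106,5),(107,9),(109,9),(110,6),(111,7),(112,7),(113,9),(114,6),(116,10),(118,4),(120,9),(121,5),(122,9),(123,2),(124,7),(126,6),(127,6),(128,3),(129,8),(132,5)]) (.leaf [(2,4),(4,10),(7,1),(8,1),(9,10),(10,4),(16,4),(18,5),(19,6),(20,9),(22,3),(25,5),(28,4),(29,5),(30,4),(31,8),(32,3),(33,9),(34,5),(35,6),(36,8),(38,8),(41,2),(42,3),(43,6),(45,8),(46,3),(47,7),(50,1),(51,10),(52,7),(57,3),(59,6),(62,8),(63,3),(64,4),(66,4),(67,4),(68,1),(69,7),(71,3),(74,9),(75,8),(78,6),(81,10),(84,4),(86,1),(87,2),(88,6),(89,7),(90,10),(91,1),(92,5),(94,5),(97,4),(98,9),(99,1),(101,5),(102,9),(103,7),(106,2),(107,9),(108,3),(113,2),(115,10),(118,5),(119,6),(120,8),(122,8),(123,8),(124,2),(125,3),(127,6),(130,4),(131,9)]))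 
 (.node (.leaf [(5,9),(6,8),(7,8),(8,10),(9,1),(10,2),(11,3),(13,2),(14,9),(16,10),(17,2),(18,1),(20,8),(27,9),(28,4),(29,6),(31,3),(40,4),(42,9),(46,8),(47,5),(48,2),(50,5),(52,2),(53,7),(54,6),(55,3),(56,6),(57,10),(58,3),(59,4),(60,1),(62,8),(63,8),(64,3),(65,3),(66,8),(67,5),(68,5),(69,3),(73,6),(74,4),(75,10),(78,1),(80,4),(82,2),(83,6),(84,4),(85,6),(87,2),(88,8),(90,10),(91,10),(92,1),(93,1),(94,10),(95,2),(96,3),(97,9),(98,6),(101,9),(102,9),(103,3),(104,5),(106,4),(108,6),(109,9),(110,7),(112,5),(113,7),(116,3),(118,2),(119,2),(120,9),(121,9),(122,2),(123,4),(124,3),(125,9),(129,7),(131,7)]) (.leaf [(0,5),(1,6),(2,1),(4,5),(5,4),(7,4),(8,4),(9,7),(10,9),(11,3),(12,2),(13,3),(14,8),(15,5),(17,2),(18,5),(19,2),(21,4),(22,1),(26,1),(28,5),(29,7),(32,6),(33,9),(34,10),(37,1),(38,6),(39,10),(40,5),(41,5),(43,7),(44,6),(47,4),(49,5),(50,9),(51,8),(52,2),(53,4),(54,4),(57,1),(58,8),(59,3),(62,7),(65,4),(66,2),(69,4),(70,3),(71,8),(72,2),(73,7),(75,9),(76,10),(81,6),(84,5),(85,7),(86,5),(87,1),(89,4),(99,6),(104,10),(105,5),(106,9),(107,6),(108,2),(109,1),(110,4),(113,3),(114,7),(115,4),(118,7),(121,4),(122,2),(125,4),(126,4),(127,5),(128,2),(129,7),(131,9),(132,6)])))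 
 (.node 
 (.node (.leaf [(2,7),(3,8),(4,8),(5,7),(6,3),(7,2),(8,1),(9,10),(11,8),(12,5),(13,9),(14,2),(17,1),(18,5),(19,9),(20,9),(27,4),(28,6),(29,10),(31,9),(42,6),(48,9),(51,10),(52,6),(53,3),(54,3),(55,8),(56,5),(57,5),(58,8),(59,10),(60,10),(61,9),(62,3),(63,5),(65,8),(66,8),(67,9),(68,9),(69,3),(72,9),(73,5),(75,6),(76,10),(78,1),(79,3),(80,7),(81,3),(82,1),(83,10),(84,5),(87,6),(88,2),(89,7),(90,1),(91,9),(93,10),(94,10),(95,9),(96,1),(98,4),(100,3),(101,3),(104,6),(107,8),(108,7),(109,7),(110,9),(112,6),(113,6),(116,8),(117,5),(118,9),(119,4),(121,2),(122,2),(123,5),(124,6),(125,9),(128,5),(129,4),(131,7)]) (.leaf [(0,2),(1,9),(2,8),(3,2),(5,6),(6,7),(7,6),(8,5),(9,6),(10,2),(11,2),(13,5),(14,6),(15,2),(17,5),(19,3),(20,1),(21,9),(22,4),(23,9),(24,8),(26,5),(28,4),(29,1),(31,7),(32,6),(33,8),(34,5),(35,3),(36,2),(37,8),(38,10),(39,5),(40,5),(41,9),(42,9),(47,10),(48,7),(49,10),(50,10),(51,4),(52,3),(53,1),(54,8),(55,6),(56,5),(57,3),(58,6),(59,9),(60,4),(61,10),(62,8),(63,7),(64,1),(65,4),(66,5),(68,9),(69,4),(70,2),(73,8),(74,2),(75,4),(77,1),(78,2),(79,1),(80,7),(82,3),(84,3),(85,10),(87,4),(88,8),(89,7),(90,3),(91,4),(92,10),(93,7),(94,6),(95,3),(96,3),(97,1),(98,2),(103,2),(104,4),(109,6),(111,10),(112,1),(113,5),(114,10),(115,4),(124,6),(125,4),(126,7),(130,7)]))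 
 (.node (.leaf [(2,1),(3,7),(4,8),(5,2),(7,9),(8,1),(9,10),(10,10),(11,2),(12,1),(13,10),(14,1),(17,5),(18,10),(19,6),(20,2),(22,9),(23,9),(25,7),(26,5),(28,3),(29,3),(31,8),(32,5),(33,5),(34,5),(35,3),(36,3),(37,3),(38,9),(39,10),(40,3),(41,5),(42,8),(43,9),(44,8),(45,1),(46,8),(47,4),(48,8),(50,8),(51,8),(52,8),(54,8),(55,1),(57,7),(58,5),(59,10),(61,10),(62,8),(63,7),(64,7),(65,7),(66,10),(67,6),(69,10),(70,5),(71,3),(72,4),(73,5),(74,7),(75,1),(76,7),(78,7),(79,7),(81,9),(82,10),(84,3),(85,6),(87,2),(88,10),(89,10),(90,10),(91,6),(92,6),(93,6),(94,7),(95,9),(96,6),(97,10),(98,2),(99,4),(100,5),(101,2),(102,2),(103,4),(104,2),(106,5),(107,5),(108,5),(109,1),(110,5),(111,9),(113,3),(114,1),(115,2),(117,9),(118,5),(119,3),(120,3),(121,3),(122,9),(123,1),(125,9),(126,1),(127,7),(128,8),(129,10),(130,8),(131,2),(132,8)]) (.leaf [(2,3),(4,7),(5,7),(7,1),(10,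7),(11,6),(12,4),(13,8),(14,3),(17,4),(18,4),(20,3),(22,9),(25,2),(26,2),(28,4),(29,8),(33,2),(35,1),(36,9),(37,3),(38,10),(39,1),(40,10),(41,10),(43,5),(44,1),(45,9),(47,6),(50,7),(51,8),(53,7),(54,8),(55,5),(57,5),(58,6),(59,6),(63,4),(64,3),(65,6),(66,7),(67,3),(69,3),(71,7),(72,4),(73,4),(74,2),(75,4),(76,9),(81,1),(84,4),(85,7),(86,1),(93,4),(98,10),(99,5),(102,10),(103,6),(104,9),(106,7),(107,8),(109,10),(110,8),(111,3),(113,7),(114,8),(115,8),(119,4),(120,3),(121,4),(122,7),(123,3),(125,3),(127,10),(128,4),(129,4),(130,10),(131,4),(132,1)]))))) 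
 (.node 
 (.node 
 (.node 
 (.node (.leaf [(2,9),(5,3),(6,7),(7,9),(8,8),(9,9),(10,4),(11,8),(12,8),(13,2),(14,3),(15,5),(16,4),(17,2),(19,10),(20,9),(22,3),(26,3),(27,6),(28,3),(30,8),(31,6),(32,8),(33,8),(34,3),(37,3),(38,9),(39,9),(40,3),(41,5),(42,10),(43,6),(44,5),(46,4),(47,10),(48,8),(50,3),(51,7),(52,7),(53,7),(54,4),(55,5),(56,3),(58,4),(59,5),(62,4),(65,4),(66,1),(68,3),(69,4),(70,2),(71,8),(72,3),(73,1),(74,3),(75,4),(76,4),(78,3),(82,3),(83,6),(84,3),(86,8),(87,6),(88,8),(89,8),(90,3),(93,3),(94,9),(95,9),(96,3),(97,5),(98,10),(99,6),(100,5),(102,4),(103,10),(104,8),(106,7),(107,9),(108,9),(109,9),(110,2),(111,8),(112,7),(114,2),(115,8),(118,2),(121,2),(122,6),(124,7),(125,2),(126,1),(127,4),(128,7),(129,6),(130,7),(131,2),(132,2)]) (.leaf [(2,6),(4,5),(5,1),(7,7),(10,5),(11,9),(12,2),(13,1),(14,10),(15,4),(17,10),(18,6),(20,2),(22,3),(25,10),(2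6,6),(28,3),(29,3),(30,4),(32,2),(33,8),(35,5),(36,3),(37,6),(38,8),(39,3),(41,8),(42,8),(43,5),(44,1),(45,5),(46,7),(47,6),(48,3),(50,4),(51,4),(52,1),(54,3),(55,5),(57,7),(63,8),(64,7),(65,3),(66,4),(67,8),(69,7),(70,6),(71,10),(72,6),(73,7),(74,2),(75,7),(76,3),(78,6),(81,2),(82,1),(84,5),(85,6),(86,1),(88,4),(89,5),(91,10),(92,6),(93,1),(94,5),(95,6),(96,10),(97,5),(98,2),(99,3),(100,2),(101,10),(102,10),(103,8),(104,9),(106,8),(107,8),(108,2),(109,6),(110,6),(111,1),(113,3),(119,5),(120,3),(121,6),(122,8),(123,5),(125,3),(126,10),(127,4),(128,1),(129,3),(130,7),(131,3),(132,5)])) 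
 (.node (.leaf [(5,2),(7,5),(8,4),(9,7),(10,9),(11,6),(13,9),(14,2),(16,9),(17,9),(18,7),(28,4),(29,1),(31,10),(39,4),(46,5),(47,6),(48,4),(50,6),(53,4),(54,1),(55,6),(56,7),(57,9),(58,8),(59,8),(60,6),(62,1),(63,5),(64,10),(65,6),(66,5),(67,10),(68,4),(69,10),(73,6),(74,8),(75,9),(78,7),(80,2),(82,4),(84,7),(85,1),(87,3),(90,4),(91,9),(92,7),(93,2),(94,9),(95,5),(96,9),(97,2),(101,7),(102,7),(103,5),(104,10),(106,7),(109,2),(110,3),(112,1),(113,3),(116,7),(118,3),(119,4),(120,8),(121,7),(122,4),(123,8),(124,2),(125,8),(129,10),(131,3)]) (.leaf [(2,6),(4,9),(7,6),(8,2),(9,9),(10,6),(16,6),(18,1),(19,3),(20,3),(22,8),(25,2),(28,4),(29,6),(30,7),(31,6),(32,8),(33,6),(34,2),(35,9),(36,3),(38,3),(41,5),(42,5),(43,9),(45,3),(46,5),(47,7),(50,8),(51,3),(52,4),(57,8),(59,3),(62,1),(63,10),(64,7),(66,7),(67,7),(68,8),(69,4),(71,10),(74,5),(75,3),(78,7),(81,10),(84,3),(85,7),(86,4),(87,5),(88,7),(89,8),(90,10),(91,1),(92,4),(94,4),(97,3),(98,6),(99,1),(101,4),(102,6),(103,8),(113,10),(115,5),(130,1),(131,1)])))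 
 (.node 
 (.node (.leaf [(0,3),(1,8),(2,9),(4,8),(5,9),(6,8),(7,9),(8,5),(9,6),(13,10),(14,1),(17,10),(18,5),(19,10),(20,10),(27,2),(28,5),(29,5),(31,2),(34,4),(42,3),(49,2),(51,5),(52,3),(53,7),(54,6),(55,3),(56,6),(57,7),(58,4),(59,10),(60,3),(62,9),(63,8),(65,5),(66,3),(68,2),(69,6),(73,6),(74,1),(75,3),(77,8),(78,2),(80,1),(81,3),(82,2),(83,5),(84,6),(85,7),(87,5),(88,1),(89,9),(90,6),(91,10),(93,9),(94,1),(95,2),(96,10),(98,2),(103,8),(105,6),(107,4),(108,9),(109,9),(110,7),(112,5),(116,9),(118,8),(119,2),(121,4),(122,9),(124,5),(125,7),(129,7),(131,9)]) (.leaf [(2,6),(3,9),(5,1),(7,10),(8,6),(9,5),(10,3),(11,7),(13,10),(14,1),(16,5),(17,8),(18,8),(19,3),(20,1),(22,2),(23,2),(24,3),(26,6),(28,3),(29,2),(31,5),(32,6),(33,6),(34,6),(35,6),(36,8),(37,1),(38,2),(39,8),(40,8),(41,8),(42,9),(45,10),(46,6),(47,4),(48,8),(50,4),(51,3),(52,3),(53,2),(54,3),(55,5),(56,9),(57,3),(58,3),(59,6),(60,7),(61,1),(62,3),(63,3),(64,4),(65,6),(66,1),(67,5),(68,10),(69,1),(73,4),(74,6),(75,9),(78,10),(79,10),(80,4),(82,8),(84,5),(85,3),(87,6),(88,8),(89,8),(90,8),(91,8),(92,7),(93,5),(94,10),(95,7),(96,7),(97,7),(98,2),(101,6),(102,5),(103,3),(104,3),(109,1),(111,1),(112,6),(113,4),(114,5),(115,10),(124,1),(130,10),(131,6)]))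 
 (.node (.leaf [(2,5),(3,7),(5,2),(7,10),(8,2),(9,9),(10,10),(11,2),(12,5),(13,7),(14,4),(15,7),(17,5),(18,4),(19,1),(22,3),(23,9),(24,9),(25,9),(26,3),(28,7),(29,10),(30,3),(31,5),(32,6),(33,3),(34,10),(37,5),(38,8),(39,8),(40,3),(41,5),(43,9),(44,10),(45,9),(48,8),(50,8),(51,7),(52,3),(54,7),(55,6),(58,10),(59,6),(60,10),(61,10),(62,5),(65,8),(66,4),(67,10),(69,7),(70,5),(71,8),(72,5),(73,4),(74,5),(75,8),(76,2),(78,6),(79,7),(80,7),(81,3),(82,6),(84,7),(85,10),(86,9),(87,4),(88,1),(89,6),(90,9),(93,10),(94,5),(95,5),(96,6),(97,10),(99,3),(100,9),(101,7),(104,2),(106,5),(107,3),(108,6),(109,1),(110,3),(111,10),(113,7),(114,2),(115,10),(116,9),(117,9),(118,10),(121,5),(122,8),(123,9),(125,3),(126,1),(127,10),(128,10),(129,8),(130,1),(131,5),(132,7)]) (.leaf [(0,5),(1,6),(2,7),(3,5),(4,5),(5,4),(6,6),(7,4),(8,9),(9,2),(10,9),(11,3),(12,2),(13,3),(14,8),(15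,10),(17,7),(18,5),(19,2),(20,1),(21,4),(22,9),(23,4),(26,1),(28,5),(32,10),(33,1),(34,6),(35,4),(36,7),(37,1),(38,2),(39,6),(40,1),(41,5),(43,7),(44,6),(47,7),(49,5),(50,9),(51,4),(52,7),(53,4),(54,4),(55,8),(56,5),(58,5),(59,8),(61,5),(62,2),(63,5),(64,6),(65,4),(66,8),(69,8),(70,9),(71,8),(72,2),(73,2),(74,3),(75,9),(76,10),(78,4),(81,6),(84,5),(86,5),(87,5),(98,7),(99,6),(103,7),(104,10),(105,5),(106,9),(107,4),(108,7),(109,1),(110,4),(111,7),(112,5),(114,3),(115,7),(117,5),(118,2),(119,5),(120,6),(121,4),(122,8),(125,6),(126,1),(127,5),(128,2),(129,2),(130,4),(131,9),(132,6)])))) 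
 (.node 
 (.node 
 (.node (.leaf [(2,2),(5,8),(6,7),(7,3),(8,3),(9,2),(10,4),(11,1),(12,10),(13,9),(14,8),(15,7),(16,4),(17,8),(19,3),(20,9),(22,8),(26,8),(28,8),(30,2),(32,3),(33,3),(34,8),(35,1),(37,8),(38,3),(39,3),(40,8),(41,5),(42,7),(43,6),(44,5),(46,9),(48,2),(50,3),(51,4),(52,4),(53,4),(54,7),(56,3),(58,10),(62,7),(63,5),(65,7),(66,4),(68,3),(69,7),(70,1),(71,8),(72,3),(73,4),(75,1),(76,10),(78,8),(82,8),(84,8),(86,2),(88,3),(89,3),(90,8),(91,1),(93,8),(94,3),(95,3),(96,8),(97,5),(98,7),(99,6),(100,5),(102,9),(104,2),(106,7),(107,2),(108,2),(109,2),(110,9),(112,7),(114,5),(118,9),(119,8),(121,9),(122,2),(124,7),(125,9),(126,6),(127,4),(128,7),(129,2),(131,6),(132,5)]) (.leaf [(0,2),(1,9),(2,6),(4,9),(5,6),(6,9),(7,6),(8,7),(9,4),(13,3),(14,8),(17,3),(18,7),(19,3),(20,3),(21,9),(22,5),(24,8),(25,2),(26,5),(27,7),(28,4),(29,1),(31,7),(32,8),(33,6),(34,4),(35,3),(37,6),(38,8),(39,5),(40,3),(42,5),(47,9),(49,10),(51,3),(52,4),(53,1),(54,8),(55,6),(56,6),(57,3),(58,8),(59,9),(60,4),(62,4),(63,7),(65,3),(66,4),(68,9),(69,8),(73,8),(74,2),(75,4),(77,1),(78,3),(80,7),(81,10),(82,3),(83,4),(84,3),(85,10),(87,4),(88,7),(89,8),(90,2),(91,4),(93,8),(94,7),(95,3),(96,4),(98,6),(103,1),(109,6),(111,10),(112,1),(113,5),(114,6),(115,4),(118,4),(124,6),(130,7)]))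 
 (.node (.leaf [(2,9),(4,8),(7,9),(8,3),(9,8),(10,9),(16,9),(18,7),(19,10),(20,10),(28,5),(29,10),(30,2),(31,8),(42,3),(46,3),(47,6),(50,6),(51,5),(52,3),(57,10),(59,7),(62,9),(63,2),(64,8),(66,8),(67,8),(68,6),(69,3),(71,2),(74,8),(75,1),(78,1),(81,3),(84,6),(85,9),(86,5),(87,9),(88,1),(89,9),(90,3),(91,8),(92,10),(94,10),(97,2),(98,2),(99,8),(101,10),(102,2),(103,5),(106,7),(107,4),(108,9),(113,10),(118,5),(119,6),(120,2),(122,2),(123,2),(124,7),(125,9),(127,6),(131,1)]) (.leaf [(2,9),(3,6),(5,8),(7,7),(8,8),(9,3),(10,7),(11,8),(12,9),(13,6),(14,5),(15,6),(17,9),(18,5),(19,4),(22,6),(23,7),(24,7),(25,4),(26,6),(28,6),(29,7),(32,1),(33,6),(34,9),(37,10),(38,5),(39,5),(40,6),(41,10),(43,4),(44,9),(45,7),(50,7),(51,2),(52,4),(53,8),(54,2),(55,3),(57,1),(58,5),(59,3),(60,6),(61,6),(62,3),(65,7),(66,9),(67,6),(69,2),(70,8),(71,3),(72,3),(73,9),(74,8),(75,7),(76,1),(81,5),(84,6),(85,7),(86,10),(87,2),(99,5),(104,1),(106,7),(107,2),(108,4),(109,2),(110,2),(111,4),(113,3),(114,3),(115,4),(116,6),(117,6),(118,3),(121,7),(122,9),(123,6),(125,2),(126,7),(127,6),(128,3),(129,9),(130,7),(131,7),(132,5)])))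 
 (.node 
 (.node (.leaf [(2,9),(3,8),(5,7),(7,4),(8,9),(9,2),(10,10),(11,5),(13,4),(14,7),(16,2),(17,1),(18,1),(19,10),(20,7),(28,1),(29,4),(31,3),(42,1),(46,8),(47,5),(48,7),(50,3),(51,5),(52,5),(53,3),(54,5),(55,8),(56,2),(58,7),(59,3),(60,8),(61,9),(62,5),(63,5),(64,3),(65,10),(66,9),(67,1),(68,9),(69,9),(73,3),(74,3),(75,2),(78,3),(79,3),(80,10),(82,9),(84,10),(85,3),(87,2),(88,9),(89,9),(90,9),(91,9),(92,1),(93,7),(94,3),(95,1),(96,1),(97,1),(98,8),(101,4),(102,9),(103,6),(104,1),(106,9),(107,4),(108,4),(109,7),(110,4),(112,5),(113,3),(116,2),(117,5),(118,4),(119,4),(120,9),(121,8),(122,5),(123,3),(124,3),(125,5),(129,9),(131,5)]) (.leaf [(5,5),(7,7),(8,10),(9,1),(10,6),(11,4),(13,6),(14,5),(16,6),(17,6),(18,1),(22,1),(24,5),(26,10),(28,1),(29,8),(31,2),(34,10),(35,6),(36,1),(37,5),(38,6),(39,7),(40,6),(41,5),(45,1),(46,1),(47,7),(48,3),(50,8),(53,10),(54,5),(55,1),(56,4),(57,10),(58,5),(59,5),(60,8),(62,5),(63,3),(64,6),(65,8),(66,3),(67,6),(68,10),(69,6),(74,5),(75,10),(78,5),(80,3),(82,6),(84,9),(85,8),(87,9),(90,6),(91,8),(92,5),(93,3),(94,8),(95,6),(96,8),(97,3),(101,5),(102,10),(103,8),(104,8),(109,5),(111,9),(112,10),(113,1),(114,1),(115,1),(124,5),(129,4),(130,1),(131,1)]))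 
 (.node (.leaf [(0,4),(1,7),(2,10),(3,4),(4,4),(5,1),(6,7),(7,1),(8,5),(9,6),(10,5),(11,9),(12,6),(13,9),(14,2),(15,8),(17,10),(18,4),(19,6),(20,3),(21,2),(22,9),(23,2),(25,4),(26,6),(28,4),(30,7),(31,7),(32,5),(33,6),(34,3),(35,2),(36,9),(37,6),(38,1),(39,3),(40,6),(41,8),(42,1),(43,2),(44,3),(47,10),(48,3),(49,1),(50,4),(51,3),(52,8),(54,3),(55,5),(56,1),(58,10),(59,5),(61,1),(62,7),(63,1),(64,10),(65,3),(66,6),(69,4),(70,7),(71,3),(72,7),(73,7),(74,6),(75,4),(76,9),(77,4),(78,6),(79,4),(81,1),(82,1),(84,4),(86,10),(87,10),(88,10),(89,1),(90,6),(91,4),(92,7),(93,1),(94,2),(95,6),(96,1),(97,5),(98,3),(99,8),(100,6),(103,10),(104,9),(105,2),(106,8),(107,6),(108,5),(109,6),(110,6),(111,1),(112,2),(114,2),(115,1),(117,2),(118,3),(119,2),(120,9),(121,6),(122,1),(125,1),(126,8),(127,1),(128,3),(129,3),(130,10),(131,8),(132,4)]) (.leaf [(2,2),(4,9),(5,4),(7,6),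(10,9),(11,3),(12,8),(13,4),(14,7),(15,5),(17,7),(18,2),(20,8),(22,6),(25,1),(26,1),(28,8),(29,6),(32,4),(33,5),(35,10),(36,6),(37,1),(38,5),(39,6),(40,2),(41,5),(43,2),(44,2),(45,10),(47,9),(50,9),(51,9),(52,5),(53,4),(54,4),(55,8),(57,2),(63,7),(64,2),(65,4),(66,9),(67,7),(69,2),(70,3),(71,10),(72,8),(73,2),(74,1),(75,2),(76,7),(81,6),(84,4),(86,6),(96,4),(98,1),(99,6),(102,5),(103,5),(104,10),(106,9),(107,9),(108,5),(109,1),(110,4),(111,7),(113,2),(119,7),(120,2),(121,4),(122,9),(123,7),(125,2),(126,4),(127,7),(128,8),(129,2),(130,5),(131,2),(132,2)]))))))))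

def m7 : Rows := 
 (.node 
 (.node 
 (.node 
 (.node 
 (.node 
 (.node 
 (.node 
 (.node (.leaf [(0,5),(1,7),(3,7),(4,4),(7,7),(8,7),(9,5),(10,6),(11,9),(12,2),(13,6),(14,4),(15,5),(17,4),(18,7),(21,5),(23,6),(25,5),(27,4),(28,6),(32,5),(34,5),(36,6),(37,6),(38,5),(40,6),(41,6),(43,5),(44,7),(45,4),(48,7),(49,3),(50,8),(52,3),(59,9),(61,8),(62,3),(64,8),(65,8),(66,3),(67,9),(71,3),(72,2),(74,9),(75,8),(76,2),(77,5),(79,6),(81,5),(83,4),(84,6),(88,5),(90,5),(92,6),(93,6),(94,5),(96,6),(97,6),(99,5),(100,7),(101,4),(104,7),(105,7),(106,4),(108,7),(115,10),(117,4),(118,7),(120,4),(121,4),(122,7),(123,10),(127,7),(128,1),(130,10),(131,4),(132,1)]) (.leaf [(0,5),(1,6),(4,4),(8,3),(9,8),(10,9),(13,4),(14,7),(16,7),(17,2),(19,3),(21,4),(22,1),(24,8),(25,5),(26,6),(28,7),(29,10),(32,5),(34,2),(35,6),(36,5),(37,5),(38,6),(39,5),(40,8),(41,5),(45,6),(47,9),(49,5),(50,9),(52,9),(54,2),(55,8),(57,5),(59,7),(60,4),(62,8),(63,2),(64,9),(65,9),(66,2),(67,2),(68,7),(69,4),(70,8),(73,9),(74,1),(75,4),(80,4),(81,5),(83,5),(84,6),(85,5),(86,1),(87,5),(96,1),(102,1),(103,1),(105,5),(106,9),(108,9),(110,2),(111,7),(113,8),(115,2),(116,2),(118,8),(119,2),(120,9),(121,9),(122,2),(123,2),(124,7),(125,4),(126,7),(129,9),(130,5),(131,1)]))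 (.leaf [(0,4),(1,7),(3,5),(4,10),(6,1),(7,4),(8,6),(9,5),(10,7),(12,4),(13,10),(14,1),(16,1),(17,6),(18,10),(19,5),(21,2),(22,8),(23,8),(24,6),(25,7),(26,8),(27,4),(28,6),(29,3),(30,3),(31,7),(32,3),(34,8),(35,6),(36,9),(37,5),(39,8),(40,10),(41,9),(45,8),(46,8),(47,7),(49,1),(50,10),(52,7),(54,4),(57,7),(58,5),(59,4),(60,3),(61,4),(62,4),(63,3),(64,4),(65,8),(67,4),(68,3),(69,4),(70,9),(73,4),(74,2),(76,6),(77,4),(78,5),(79,5),(80,1),(81,7),(82,5),(83,1),(84,9),(85,6),(86,9),(87,10),(88,6),(90,5),(91,1),(92,6),(93,10),(95,5),(96,2),(97,7),(101,5),(102,2),(103,10),(105,2),(106,9),(108,3),(110,8),(112,6),(113,3),(114,1),(115,3),(116,6),(117,8),(118,8),(119,6),(120,1),(121,5),(123,8),(124,6),(125,8),(126,4),(129,8),(130,7),(131,6),(132,10)])) 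
 (.node (.leaf [(0,3),(1,8),(3,10),(4,6),(5,9),(8,3),(9,8),(10,1),(11,2),(12,9),(13,7),(14,4),(16,10),(17,8),(18,8),(19,2),(25,9),(27,2),(30,9),(32,4),(43,1),(46,4),(48,5),(49,2),(50,8),(52,5),(53,9),(54,3),(57,6),(58,8),(59,10),(61,3),(62,9),(63,6),(64,8),(65,3),(66,3),(67,6),(68,3),(69,3),(70,3),(71,1),(72,6),(73,10),(74,4),(75,7),(76,7),(77,8),(78,1),(79,1),(81,10),(82,1),(83,5),(85,2),(86,6),(88,1),(90,3),(91,2),(92,10),(93,1),(94,1),(95,7),(96,8),(97,10),(99,2),(100,2),(101,2),(102,10),(103,2),(104,7),(105,6),(106,2),(108,7),(109,3),(110,9),(113,7),(117,9),(118,5),(119,7),(120,2),(121,9),(122,9),(123,7),(124,9),(125,9),(127,1),(128,7),(129,8),(131,9)]) (.leaf [(2,9),(4,4),(5,3),(6,10),(7,2),(8,3),(9,8),(10,6),(12,7),(13,4),(14,7),(15,4),(17,4),(18,7),(19,6),(20,5),(24,3),(25,10),(26,2),(27,7),(28,9),(29,6),(30,3),(33,9),(34,3),(35,4),(36,10),(37,2),(38,8),(39,8),(40,1),(41,5),(42,1),(43,8),(46,5),(47,1),(50,8),(51,10),(53,7),(54,1),(56,9),(57,3),(58,1),(59,8),(60,7),(62,7),(63,2),(64,5),(65,1),(66,4),(70,7),(71,4),(73,4),(74,3),(75,2),(76,9),(80,4),(81,2),(82,10),(83,4),(84,1),(85,8),(86,8),(89,1),(90,4),(91,9),(92,6),(93,10),(94,7),(95,7),(96,9),(97,3),(98,10),(99,7),(102,6),(103,5),(112,10),(114,9),(115,6),(126,8),(130,5),(131,1),(132,4)])))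 
 (.node 
 (.node (.leaf [(3,7),(4,2),(5,7),(7,7),(10,4),(11,7),(12,9),(17,4),(19,4),(20,9),(22,1),(23,6),(24,6),(25,1),(27,10),(28,6),(30,10),(31,10),(32,10),(35,5),(36,5),(37,6),(39,5),(40,6),(41,5),(42,10),(43,10),(44,6),(46,10),(48,6),(50,3),(52,6),(53,3),(55,3),(58,5),(59,5),(60,8),(61,8),(63,3),(64,3),(65,8),(69,5),(70,5),(71,6),(72,8),(73,3),(74,3),(75,3),(76,5),(78,1),(79,6),(80,6),(81,1),(83,10),(84,6),(86,10),(87,10),(88,10),(91,5),(92,5),(93,6),(95,5),(96,6),(97,5),(98,10),(99,10),(100,6),(102,10),(104,6),(106,7),(108,3),(109,7),(111,7),(114,8),(115,8),(116,4),(117,4),(119,7),(120,7),(121,4),(125,8),(126,8),(127,3),(128,4),(129,7),(130,7),(131,7),(132,8)]) (.leaf [(0,2),(1,9),(3,9),(4,2),(5,1),(6,10),(8,3),(9,8),(10,6),(11,2),(12,7),(13,2),(14,9),(15,4),(18,5),(19,6),(20,7),(21,9),(23,2),(24,3),(25,9),(26,2),(27,7),(29,7),(30,7),(31,4),(34,3),(35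,6),(36,8),(37,2),(38,8),(39,6),(41,5),(42,8),(43,8),(44,10),(46,5),(47,3),(48,7),(49,10),(50,8),(53,6),(54,1),(56,9),(57,7),(58,3),(59,8),(60,7),(61,1),(62,7),(63,3),(64,4),(65,1),(66,4),(70,5),(71,4),(72,7),(73,3),(74,3),(75,2),(76,9),(77,1),(79,10),(80,4),(81,1),(82,10),(83,4),(85,9),(86,4),(87,7),(90,4),(91,8),(92,7),(93,10),(94,7),(95,8),(97,3),(98,3),(99,7),(100,10),(102,6),(103,4),(104,4),(112,10),(113,7),(114,5),(115,6),(126,1),(128,4),(130,5),(131,1),(132,4)])) 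
 (.node (.leaf [(2,8),(3,2),(4,4),(5,8),(6,4),(8,2),(9,9),(10,10),(11,2),(12,9),(13,2),(14,9),(15,6),(16,10),(18,5),(20,2),(25,1),(27,4),(30,2),(42,5),(43,9),(48,5),(50,3),(51,2),(53,6),(54,1),(55,10),(56,8),(57,2),(58,3),(59,4),(60,6),(61,5),(62,6),(63,2),(64,9),(65,3),(66,8),(67,6),(68,3),(69,5),(70,1),(71,10),(72,8),(74,10),(75,10),(76,7),(78,9),(79,9),(80,2),(81,10),(82,4),(83,10),(85,8),(86,5),(89,8),(90,2),(91,8),(92,3),(93,1),(94,10),(97,1),(98,7),(100,10),(101,2),(103,1),(104,7),(106,9),(107,6),(109,5),(110,3),(112,4),(113,6),(116,7),(117,4),(118,7),(119,6),(120,5),(121,9),(122,2),(123,7),(124,9),(125,4),(127,1),(128,2),(131,5)]) (.leaf [(2,10),(3,7),(4,4),(5,5),(6,8),(7,1),(8,9),(9,2),(10,5),(12,10),(13,4),(14,7),(15,1),(16,7),(17,4),(18,10),(19,7),(20,9),(22,2),(23,10),(24,6),(25,5),(26,10),(29,5),(32,1),(33,3),(34,6),(35,6),(36,3),(37,9),(38,4),(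39,6),(40,2),(41,4),(43,4),(45,10),(47,10),(50,5),(51,1),(52,4),(53,6),(54,7),(56,8),(57,9),(58,3),(59,1),(60,2),(61,7),(62,2),(63,2),(64,1),(65,3),(66,5),(67,7),(68,7),(69,8),(70,6),(71,5),(73,2),(74,5),(75,6),(76,6),(81,5),(83,1),(84,10),(86,1),(87,6),(96,1),(98,8),(102,10),(103,2),(106,5),(107,1),(108,4),(109,6),(110,7),(112,2),(113,9),(114,4),(115,5),(116,2),(117,7),(118,2),(119,2),(120,1),(121,3),(122,5),(123,7),(124,7),(125,8),(126,8),(127,5),(129,2),(130,3),(131,7),(132,8)])))) 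
 (.node 
 (.node 
 (.node (.leaf [(2,5),(3,9),(4,9),(5,2),(6,5),(7,9),(8,7),(9,5),(10,4),(11,9),(12,4),(15,5),(16,2),(17,9),(18,7),(19,5),(20,2),(22,4),(23,3),(24,7),(25,10),(26,1),(27,6),(28,3),(29,5),(30,4),(31,6),(32,6),(33,6),(34,5),(35,8),(36,8),(37,4),(39,3),(40,8),(41,9),(42,8),(44,9),(45,5),(46,6),(47,5),(50,1),(51,8),(52,8),(53,4),(54,5),(55,4),(56,8),(57,3),(58,1),(59,1),(60,2),(61,4),(62,3),(63,7),(64,7),(65,9),(67,3),(68,5),(69,9),(70,1),(72,1),(73,4),(74,3),(75,7),(76,6),(78,4),(79,3),(80,7),(81,10),(82,1),(83,6),(84,3),(85,5),(86,4),(87,6),(88,6),(89,6),(90,5),(91,8),(92,8),(93,4),(95,3),(96,8),(97,9),(98,8),(100,9),(101,5),(102,6),(103,5),(106,6),(107,4),(108,4),(109,2),(110,8),(111,2),(112,4),(113,7),(114,6),(115,6),(116,1),(117,2),(118,7),(119,9),(120,9),(121,10),(123,7),(124,8),(125,10),(126,6),(128,6),(129,2),(130,7),(131,9),(132,3)]) (.leaf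 [(0,4),(1,7),(4,1),(8,9),(9,2),(10,5),(13,1),(14,10),(16,10),(17,6),(19,9),(21,2),(22,6),(24,3),(25,4),(26,3),(27,7),(28,2),(29,1),(30,8),(31,7),(32,8),(34,1),(35,3),(36,8),(37,8),(38,3),(39,8),(40,1),(41,8),(45,3),(46,8),(47,7),(49,1),(50,4),(52,4),(54,7),(55,5),(57,4),(59,3),(60,1),(62,6),(63,7),(64,4),(65,4),(66,7),(67,7),(68,8),(69,3),(70,5),(73,4),(74,2),(77,4),(78,1),(80,5),(81,4),(82,6),(83,10),(84,8),(85,9),(86,2),(87,10),(88,5),(90,2),(91,6),(92,5),(93,5),(94,6),(95,5),(96,10),(97,5),(101,6),(102,2),(105,2),(106,8),(108,8),(110,3),(111,1),(113,2),(115,5),(116,6),(118,1),(119,3),(120,8),(121,8),(122,3),(123,3),(124,5),(125,6),(126,1),(129,8),(130,7),(131,6)])) 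
 (.node (.leaf [(2,8),(4,6),(5,10),(6,4),(7,3),(8,10),(9,1),(10,9),(12,5),(13,6),(14,5),(15,6),(17,6),(18,5),(19,9),(20,2),(25,7),(27,2),(30,4),(40,4),(42,5),(46,3),(50,6),(51,2),(53,8),(54,9),(56,8),(57,5),(58,6),(59,4),(60,8),(62,8),(63,7),(64,1),(65,9),(66,3),(70,9),(71,3),(73,3),(74,7),(75,3),(76,10),(80,10),(81,4),(82,3),(83,5),(84,8),(85,9),(86,10),(89,8),(90,10),(91,6),(92,4),(93,3),(94,1),(95,1),(96,7),(97,2),(98,7),(99,1),(102,2),(103,7),(106,7),(107,6),(109,2),(110,5),(112,4),(113,4),(116,2),(118,2),(119,10),(120,3),(121,5),(122,9),(127,9),(129,9),(131,7)]) (.leaf [(2,9),(3,5),(4,10),(5,9),(6,10),(8,5),(9,6),(10,3),(11,5),(12,6),(13,5),(14,6),(15,4),(16,3),(18,7),(20,5),(22,6),(23,6),(24,5),(25,3),(26,10),(27,3),(29,9),(30,7),(33,9),(34,5),(35,9),(36,2),(37,8),(38,3),(41,8),(42,1),(44,3),(45,5),(47,8),(48,1),(50,4),(51,10),(53,6),(54,5),(55,9),(56,9),(57,10),(58,6),(59,8),(60,8),(61,3),(62,8),(63,10),(64,1),(65,4),(66,7),(67,8),(68,4),(69,3),(70,2),(71,10),(72,7),(74,9),(75,3),(76,3),(78,8),(79,8),(80,3),(81,5),(82,6),(83,8),(85,1),(86,4),(89,1),(90,3),(91,1),(92,10),(93,7),(94,4),(97,7),(98,10),(99,9),(100,4),(101,3),(103,7),(104,10),(109,1),(111,4),(112,10),(114,10),(115,6),(126,7),(127,9),(130,4),(131,7),(132,5)])))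 
 (.node 
 (.node (.leaf [(0,3),(1,8),(3,8),(4,3),(5,7),(6,4),(8,10),(9,1),(10,9),(11,3),(12,5),(13,3),(14,8),(15,6),(18,2),(19,9),(20,5),(27,2),(29,7),(30,2),(31,9),(42,7),(44,4),(46,3),(48,2),(49,2),(50,6),(53,10),(54,9),(56,8),(57,2),(58,7),(59,4),(60,8),(61,9),(62,8),(63,5),(64,3),(65,9),(66,3),(70,8),(71,3),(72,3),(73,5),(74,7),(75,3),(76,10),(77,8),(79,3),(80,10),(81,8),(82,3),(83,5),(85,5),(86,5),(87,6),(90,10),(91,9),(92,1),(93,3),(94,1),(95,9),(97,2),(98,1),(99,1),(100,4),(102,2),(103,10),(104,5),(105,6),(106,7),(109,8),(110,5),(112,4),(113,3),(116,2),(117,5),(118,2),(119,4),(120,9),(121,5),(122,9),(127,9),(128,1),(129,4),(131,7)]) (.leaf [(0,2),(1,9),(3,3),(4,4),(5,6),(8,2),(9,9),(10,8),(11,5),(12,6),(13,1),(14,10),(16,3),(17,9),(18,9),(19,5),(21,9),(22,8),(23,8),(25,3),(26,8),(27,7),(29,5),(30,4),(32,8),(34,2),(35,5),(36,3),(37,8),(38,8),(39,1),(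40,9),(41,3),(43,5),(44,5),(45,5),(46,3),(47,5),(48,1),(49,10),(50,7),(52,6),(53,10),(54,4),(57,8),(58,5),(59,9),(61,4),(62,1),(63,8),(64,7),(65,4),(66,4),(67,8),(68,4),(69,4),(70,6),(71,3),(72,8),(73,6),(74,8),(75,1),(76,3),(77,1),(78,7),(79,7),(81,2),(82,7),(83,4),(85,3),(86,7),(90,10),(91,3),(92,4),(93,7),(94,7),(95,5),(96,1),(97,4),(99,4),(100,3),(101,3),(102,8),(103,3),(104,10),(108,4),(109,1),(114,1),(115,4),(126,10),(127,1),(130,6),(131,6),(132,5)])) 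
 (.node (.leaf [(2,8),(3,10),(4,1),(5,4),(6,2),(7,3),(8,5),(9,6),(10,4),(12,8),(13,1),(14,10),(15,3),(16,10),(17,1),(18,8),(19,10),(20,5),(22,1),(23,5),(24,3),(25,4),(26,5),(27,8),(28,3),(29,8),(30,8),(31,4),(32,6),(33,7),(34,3),(35,3),(36,7),(37,10),(38,2),(39,3),(40,9),(41,2),(42,9),(43,2),(45,5),(46,3),(47,10),(50,1),(51,9),(52,3),(53,10),(54,8),(57,4),(58,6),(59,2),(60,7),(61,8),(62,7),(63,7),(64,9),(65,5),(66,1),(67,8),(68,8),(69,6),(70,1),(71,1),(73,7),(74,10),(76,1),(78,2),(79,10),(80,6),(81,4),(82,10),(83,2),(84,9),(85,5),(86,2),(87,1),(88,1),(89,3),(90,6),(91,6),(92,3),(93,9),(94,4),(95,6),(96,4),(97,4),(98,5),(99,4),(101,10),(102,9),(103,3),(106,2),(107,7),(108,6),(109,9),(110,5),(112,1),(113,8),(114,10),(115,7),(116,3),(117,5),(118,3),(119,3),(120,7),(121,10),(122,2),(123,5),(124,5),(125,1),(126,9),(127,2),(129,3),(130,2),(131,9),(132,9)]) (.leaf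 [(0,5),(1,6),(3,9),(4,7),(6,4),(7,5),(8,2),(9,9),(10,6),(12,5),(13,7),(14,4),(16,4),(17,2),(18,7),(19,9),(21,4),(22,5),(23,5),(24,1),(25,6),(26,5),(28,7),(29,6),(32,6),(34,5),(35,1),(36,9),(37,10),(39,5),(40,1),(41,7),(45,5),(49,5),(50,6),(52,2),(54,9),(56,4),(57,2),(58,8),(59,2),(60,4),(61,9),(62,9),(63,4),(64,8),(65,7),(67,9),(68,4),(69,9),(70,10),(73,9),(74,1),(75,4),(76,3),(81,6),(83,6),(84,1),(86,10),(87,5),(92,4),(96,6),(102,1),(103,5),(105,5),(106,6),(108,2),(110,9),(112,1),(113,2),(114,7),(115,10),(116,4),(117,9),(118,9),(119,4),(120,6),(121,7),(123,9),(124,4),(125,9),(126,6),(129,9),(130,5),(131,1),(132,4)]))))) 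
 (.node 
 (.node 
 (.node 
 (.node 
 (.node (.leaf [(3,2),(5,2),(7,2),(10,9),(12,2),(16,2),(17,9),(19,9),(20,2),(22,10),(23,8),(24,8),(26,6),(27,6),(28,8),(30,4),(31,6),(32,6),(35,3),(36,3),(37,9),(39,8),(40,8),(41,3),(42,8),(44,8),(46,10),(48,4),(50,4),(52,8),(53,4),(54,8),(55,4),(58,3),(59,3),(60,7),(61,7),(63,4),(64,4),(65,1),(68,5),(69,6),(70,3),(72,7),(73,7),(74,3),(75,10),(76,4),(78,10),(79,8),(80,8),(82,6),(83,6),(84,8),(86,4),(87,6),(88,6),(91,3),(92,3),(93,9),(95,8),(96,8),(97,3),(98,8),(100,8),(102,10),(104,4),(106,2),(108,4),(109,2),(110,4),(111,2),(114,7),(115,7),(116,9),(117,9),(119,2),(120,2),(121,6),(124,8),(125,3),(126,7),(128,9),(129,9),(130,7),(131,5),(132,2)]) (.leaf [(2,6),(3,4),(4,3),(6,3),(7,10),(8,4),(9,7),(10,2),(12,1),(13,3),(14,8),(16,2),(17,10),(18,1),(19,5),(20,1),(22,4),(23,1),(24,1),(25,1),(26,2),(28,4),(29,7),(32,5),(33,4),(34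,10),(35,10),(36,7),(37,1),(38,5),(40,8),(41,6),(45,6),(47,2),(50,2),(51,5),(52,9),(54,8),(56,3),(57,8),(58,5),(59,3),(60,4),(61,4),(62,7),(63,7),(64,6),(65,4),(66,9),(67,2),(68,2),(69,5),(70,2),(74,8),(75,1),(76,5),(81,1),(83,5),(84,6),(85,6),(86,5),(96,9),(98,7),(102,7),(103,4),(106,2),(107,5),(108,9),(110,8),(112,9),(113,5),(114,3),(115,4),(116,4),(117,4),(118,7),(119,7),(120,6),(121,4),(122,9),(123,2),(124,2),(125,5),(126,10),(130,7),(131,3),(132,3)])) (.leaf [(2,7),(3,5),(4,8),(6,9),(7,8),(10,1),(12,7),(15,4),(17,5),(18,3),(19,10),(20,3),(22,7),(23,8),(24,8),(25,10),(26,9),(27,10),(28,10),(29,4),(31,3),(33,2),(36,1),(38,3),(39,3),(40,3),(41,6),(42,1),(43,1),(45,9),(46,4),(47,8),(50,3),(51,1),(54,10),(55,5),(59,2),(60,4),(61,4),(64,6),(66,7),(67,10),(69,9),(70,10),(73,7),(74,8),(76,5),(78,3),(79,5),(80,5),(81,10),(82,7),(83,8),(84,10),(85,4),(87,9),(89,4),(92,2),(94,6),(95,6),(96,6),(97,1),(98,3),(99,1),(101,7),(102,1),(103,8),(106,6),(107,2),(110,9),(111,1),(112,10),(113,5),(115,7),(116,8),(117,8),(120,1),(122,3),(123,9),(125,7),(126,2),(127,4),(129,3),(130,6),(131,1),(132,1)]))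 
 (.node (.leaf [(0,3),(1,8),(3,1),(4,2),(5,9),(6,9),(8,10),(9,1),(10,8),(11,1),(12,2),(13,4),(14,7),(15,3),(16,9),(18,2),(19,10),(20,8),(25,6),(27,9),(30,4),(36,4),(42,9),(43,6),(46,6),(48,8),(49,2),(50,9),(53,7),(54,8),(56,7),(57,8),(58,10),(59,4),(60,6),(61,8),(62,8),(63,8),(64,9),(65,8),(67,5),(68,6),(69,6),(70,4),(71,10),(72,3),(73,8),(74,4),(75,7),(76,4),(77,8),(78,2),(79,10),(80,2),(81,5),(82,10),(83,6),(85,10),(86,10),(90,10),(91,10),(92,6),(93,10),(95,10),(97,3),(98,6),(99,6),(100,1),(101,9),(102,4),(104,9),(105,6),(106,5),(109,9),(110,2),(112,9),(113,2),(116,7),(117,2),(118,2),(119,2),(120,8),(121,2),(123,4),(124,7),(125,7),(127,7),(128,9),(129,2),(131,9)]) (.leaf [(0,2),(1,9),(3,1),(4,6),(5,6),(10,8),(11,3),(12,6),(13,5),(14,6),(16,5),(19,3),(21,9),(22,8),(23,10),(24,10),(25,4),(26,8),(29,4),(31,4),(35,5),(36,3),(37,8),(38,8),(39,3),(41,3),(43,5),(44,3),(45,3),(46,10),(47,3),(48,5),(49,10),(50,7),(53,5),(54,4),(58,3),(60,7),(61,5),(63,8),(64,7),(65,4),(66,4),(67,7),(68,3),(69,4),(70,6),(71,3),(72,7),(73,7),(74,8),(75,1),(76,3),(77,1),(78,7),(79,6),(80,10),(81,3),(82,7),(85,5),(87,7),(91,3),(92,4),(93,7),(94,7),(95,4),(97,4),(99,4),(100,4),(101,4),(102,1),(103,4),(104,6),(109,5),(113,7),(114,5),(116,4),(126,10),(127,1),(130,6),(131,6),(132,5)])))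 
 (.node 
 (.node (.leaf [(4,4),(5,4),(6,5),(7,7),(10,6),(11,9),(12,2),(15,5),(16,6),(17,4),(18,7),(19,7),(22,5),(24,5),(25,5),(26,6),(28,6),(29,5),(30,7),(32,6),(35,5),(37,1),(38,5),(40,6),(41,6),(43,5),(44,6),(45,10),(47,10),(48,7),(50,8),(52,8),(53,8),(54,8),(56,8),(57,3),(59,9),(60,3),(63,3),(65,5),(66,3),(67,6),(68,8),(69,3),(70,9),(71,3),(72,8),(74,9),(76,2),(78,5),(80,5),(81,5),(82,6),(84,6),(85,5),(86,7),(88,6),(91,5),(93,1),(94,5),(96,6),(97,6),(99,5),(100,6),(101,10),(103,10),(104,7),(106,4),(108,4),(109,4),(110,4),(112,4),(113,7),(115,10),(116,7),(119,7),(121,8),(122,7),(123,3),(124,4),(125,7),(126,10),(127,7),(128,4),(130,10),(132,1)]) (.leaf [(2,4),(3,3),(4,6),(5,5),(6,1),(7,7),(8,6),(9,5),(10,2),(11,5),(12,10),(13,1),(14,10),(15,7),(16,5),(17,9),(18,4),(19,8),(20,8),(22,8),(23,8),(24,8),(25,4),(26,6),(27,8),(28,1),(29,9),(30,8),(31,4),(33,4),(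34,6),(35,10),(36,4),(37,6),(38,9),(39,8),(40,9),(41,9),(42,6),(43,8),(44,5),(45,1),(46,8),(48,1),(50,10),(51,2),(53,10),(54,3),(56,2),(57,8),(58,2),(59,5),(60,4),(61,4),(62,3),(63,5),(64,2),(65,3),(66,10),(67,6),(68,3),(69,4),(70,1),(71,10),(72,8),(73,4),(74,5),(75,7),(76,5),(78,7),(79,7),(80,7),(81,3),(82,8),(83,3),(84,9),(85,8),(86,3),(87,7),(89,9),(90,8),(91,6),(92,9),(93,8),(94,1),(95,7),(96,1),(97,1),(98,5),(99,8),(100,3),(101,5),(102,3),(104,10),(109,5),(112,1),(113,7),(114,7),(115,1),(126,9),(127,1),(130,1),(131,9),(132,1)])) 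
 (.node (.leaf [(0,4),(1,7),(3,5),(4,4),(5,4),(6,9),(7,8),(8,4),(9,7),(10,1),(12,7),(17,5),(18,10),(19,3),(21,2),(22,5),(23,8),(24,8),(25,2),(26,9),(27,10),(28,10),(29,4),(31,3),(32,3),(34,9),(36,3),(38,3),(39,5),(40,3),(41,6),(45,9),(46,5),(47,5),(49,1),(50,3),(52,1),(53,10),(54,10),(59,7),(60,4),(61,4),(62,10),(64,7),(66,7),(67,10),(69,8),(70,4),(73,8),(74,9),(76,5),(77,4),(78,10),(79,5),(80,5),(81,4),(82,7),(83,8),(84,10),(85,4),(87,9),(88,5),(90,7),(92,6),(94,6),(95,10),(96,6),(97,1),(101,7),(102,4),(103,3),(105,2),(106,6),(108,6),(109,9),(110,9),(112,10),(113,5),(115,8),(116,8),(117,8),(118,9),(120,3),(122,3),(123,9),(125,5),(126,3),(129,5),(130,4),(131,1),(132,1)]) (.leaf [(0,5),(1,6),(3,6),(4,10),(5,6),(8,9),(9,2),(10,9),(12,6),(13,9),(14,2),(16,2),(17,2),(18,6),(19,4),(21,4),(22,1),(23,7),(25,2),(26,6),(28,7),(29,2),(32,1),(34,6),(35,6),(36,5),(37,1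),(38,6),(39,9),(40,8),(41,5),(43,4),(44,1),(45,6),(47,2),(49,5),(50,9),(52,4),(53,5),(54,2),(55,3),(57,1),(59,7),(61,6),(62,2),(63,2),(64,9),(65,4),(66,2),(67,2),(68,2),(69,4),(70,8),(71,5),(72,9),(73,3),(74,4),(75,4),(76,8),(81,9),(83,5),(84,6),(85,1),(86,5),(87,1),(96,1),(100,4),(102,1),(103,1),(105,5),(106,9),(108,4),(109,5),(110,2),(111,4),(113,6),(115,2),(117,6),(118,2),(119,2),(120,9),(121,4),(122,2),(123,2),(124,2),(125,4),(126,7),(127,5),(128,7),(129,3),(130,9),(131,1),(132,7)])))) 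
 (.node 
 (.node 
 (.node (.leaf [(3,9),(5,9),(7,9),(8,7),(9,5),(10,8),(11,5),(12,7),(13,6),(14,4),(15,5),(17,2),(19,2),(20,7),(22,6),(23,3),(24,8),(26,5),(27,4),(28,3),(29,6),(30,2),(32,10),(34,5),(35,8),(36,3),(37,3),(39,8),(40,3),(41,3),(42,2),(43,5),(44,4),(45,5),(47,6),(48,9),(50,4),(52,6),(53,7),(54,3),(55,10),(57,8),(60,7),(61,4),(62,3),(63,7),(64,4),(65,4),(67,3),(69,8),(71,3),(72,9),(73,7),(75,4),(76,1),(78,6),(79,3),(80,8),(82,5),(83,4),(84,3),(85,6),(86,2),(88,10),(90,5),(91,8),(92,3),(93,3),(95,8),(96,3),(97,3),(98,2),(99,5),(100,4),(101,5),(103,6),(104,9),(106,2),(108,3),(109,9),(110,7),(111,5),(113,4),(116,9),(117,2),(118,7),(119,9),(120,2),(121,2),(123,7),(125,4),(127,7),(128,10),(129,9),(131,2),(132,6)]) (.leaf [(2,7),(3,1),(4,9),(6,9),(7,8),(8,1),(9,10),(10,6),(12,3),(13,9),(14,2),(16,6),(17,8),(18,3),(19,4),(20,3),(22,2),(23,6),(24,6),(25,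3),(26,1),(27,7),(28,6),(29,2),(30,7),(32,8),(33,2),(34,5),(35,5),(36,9),(37,6),(38,8),(40,10),(41,3),(42,1),(45,3),(46,1),(50,7),(51,1),(52,4),(54,6),(57,3),(58,10),(59,6),(60,3),(61,3),(62,8),(63,8),(64,10),(65,3),(66,4),(67,7),(68,7),(69,1),(70,4),(74,5),(76,10),(78,4),(79,1),(80,1),(81,3),(82,2),(83,10),(84,5),(85,8),(86,10),(88,5),(89,4),(90,10),(91,10),(92,7),(93,1),(94,5),(96,4),(97,6),(98,3),(101,6),(102,3),(103,10),(106,3),(107,2),(108,8),(110,1),(112,10),(113,1),(114,2),(115,10),(116,6),(117,6),(118,5),(119,5),(120,9),(121,6),(122,8),(123,3),(124,3),(125,2),(126,3),(130,1),(131,7),(132,2)])) 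
 (.node (.leaf [(0,3),(1,8),(3,7),(4,9),(5,9),(10,1),(11,10),(12,9),(13,2),(14,9),(16,2),(19,10),(24,4),(25,5),(29,7),(31,9),(43,1),(46,6),(48,3),(49,2),(50,8),(53,3),(54,3),(57,5),(58,7),(60,3),(61,1),(63,6),(64,8),(65,3),(66,3),(67,8),(68,5),(69,3),(70,3),(71,1),(72,8),(73,8),(74,4),(75,7),(76,7),(77,8),(78,1),(79,4),(80,4),(81,6),(82,1),(85,6),(87,6),(91,2),(92,10),(93,1),(94,1),(95,10),(97,10),(99,2),(100,10),(101,10),(102,4),(103,10),(104,2),(105,6),(106,2),(109,10),(110,9),(113,1),(116,1),(117,3),(119,7),(120,2),(121,9),(122,9),(123,2),(124,4),(125,9),(127,1),(128,2),(129,2),(131,9)]) (.leaf [(0,5),(1,6),(3,9),(4,5),(5,5),(6,3),(7,10),(8,5),(9,6),(10,4),(12,6),(17,9),(18,7),(19,1),(21,4),(22,10),(23,5),(24,5),(25,4),(26,7),(28,7),(29,5),(32,8),(34,7),(36,6),(38,6),(39,10),(40,6),(41,1),(45,7),(47,2),(49,5),(50,4),(52,4),(53,6),(54,6),(56,3),(57,7),(59,9),(60,9),(61,9),(62,6),(64,2),(66,2),(67,6),(69,7),(70,2),(73,7),(74,10),(75,8),(76,8),(83,4),(84,7),(85,5),(87,10),(88,4),(102,2),(103,6),(105,5),(106,4),(108,2),(109,6),(110,6),(112,9),(113,10),(115,1),(116,9),(117,9),(118,6),(120,2),(122,2),(123,6),(125,7),(126,10),(129,7),(130,6),(131,2),(132,7)])))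 
 (.node 
 (.node (.leaf [(2,6),(3,10),(4,9),(5,2),(6,7),(7,5),(8,9),(9,2),(10,3),(11,2),(12,4),(13,7),(14,4),(15,5),(16,2),(17,8),(18,6),(19,1),(20,1),(25,5),(27,7),(28,4),(29,7),(30,7),(31,9),(42,8),(43,1),(46,7),(48,5),(50,2),(51,7),(53,4),(54,5),(56,3),(58,1),(59,8),(60,3),(61,3),(62,5),(63,1),(64,7),(65,5),(66,2),(67,10),(68,5),(69,3),(70,6),(71,9),(72,6),(73,3),(74,8),(75,5),(76,8),(78,1),(79,1),(80,1),(81,6),(82,9),(83,1),(84,7),(85,8),(86,1),(87,6),(89,6),(90,9),(91,4),(92,6),(93,9),(94,8),(95,1),(96,8),(97,8),(98,9),(99,1),(100,2),(101,7),(102,1),(104,7),(106,6),(107,10),(109,2),(110,4),(112,7),(113,8),(116,9),(117,9),(118,4),(119,3),(120,10),(121,4),(122,6),(123,8),(124,4),(125,9),(127,3),(128,7),(129,9),(131,8)]) (.leaf [(0,2),(1,9),(3,8),(4,5),(5,6),(6,6),(8,3),(9,8),(10,9),(11,8),(12,5),(13,10),(14,1),(15,2),(16,6),(18,5),(19,3),(20,9),(21,9),(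22,5),(23,3),(24,5),(25,7),(26,3),(27,4),(29,3),(30,3),(34,3),(35,3),(36,4),(37,3),(39,3),(41,2),(42,4),(43,4),(44,8),(45,6),(46,10),(48,6),(49,10),(50,1),(53,1),(54,7),(56,1),(57,7),(58,9),(59,8),(60,8),(61,7),(62,7),(63,7),(64,4),(65,7),(67,3),(68,8),(69,8),(70,8),(71,5),(72,4),(73,7),(74,8),(75,1),(76,8),(77,1),(78,3),(79,4),(80,3),(81,8),(82,4),(83,7),(85,4),(86,8),(90,4),(91,4),(92,2),(93,4),(95,4),(97,10),(98,7),(99,4),(100,7),(101,8),(102,1),(104,5),(109,6),(112,6),(114,4),(115,6),(120,4),(126,6),(127,6),(130,6),(131,6),(132,6)])) 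
 (.node (.leaf [(0,4),(1,7),(3,7),(4,8),(5,7),(8,5),(9,6),(10,5),(12,7),(13,5),(14,6),(16,6),(17,6),(18,7),(19,1),(21,2),(22,6),(23,9),(25,7),(26,3),(27,7),(28,2),(29,9),(30,7),(31,8),(32,6),(34,3),(35,3),(36,8),(37,6),(38,3),(39,10),(40,1),(41,8),(43,2),(44,5),(45,3),(46,8),(47,9),(49,1),(50,4),(52,3),(53,1),(54,7),(55,6),(57,3),(59,3),(61,10),(62,7),(63,7),(64,4),(65,3),(66,7),(67,7),(68,7),(69,3),(70,5),(71,1),(72,2),(73,5),(74,8),(76,5),(77,4),(78,1),(79,7),(81,9),(82,6),(83,10),(84,8),(85,4),(86,10),(87,2),(88,1),(90,6),(91,6),(92,5),(93,1),(94,6),(95,9),(96,10),(97,5),(99,4),(100,9),(101,6),(102,2),(103,4),(105,2),(106,8),(108,6),(109,2),(110,3),(111,10),(113,7),(115,5),(117,9),(118,3),(119,3),(120,8),(121,6),(122,3),(123,3),(124,3),(125,6),(126,1),(127,2),(128,8),(129,10),(130,6),(131,6),(132,1)]) (.leaf [(2,6),(3,9),(4,10),(6,3),(7,10),(10,4),(12,6)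,(15,5),(17,9),(18,1),(19,7),(20,1),(22,3),(23,5),(24,5),(25,7),(26,7),(28,7),(29,5),(33,4),(36,2),(38,6),(39,6),(40,6),(41,1),(43,4),(45,7),(47,10),(50,4),(51,5),(54,6),(55,8),(56,3),(57,7),(59,1),(60,9),(61,9),(64,8),(66,2),(67,6),(69,1),(70,5),(71,10),(73,2),(74,4),(75,8),(76,8),(81,7),(83,4),(84,7),(85,5),(87,10),(98,7),(99,4),(102,6),(103,10),(106,4),(107,5),(110,6),(111,7),(112,9),(113,10),(115,5),(116,9),(117,9),(120,8),(122,2),(123,6),(125,1),(126,3),(127,8),(129,2),(130,9),(131,2),(132,7)])))))) 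
 (.node 
 (.node 
 (.node 
 (.node 
 (.node 
 (.node (.leaf [(4,6),(5,4),(6,6),(7,4),(8,5),(9,7),(11,2),(12,9),(13,4),(14,6),(16,5),(17,7),(18,5),(19,7),(25,6),(26,5),(28,5),(31,7),(34,6),(35,6),(36,5),(38,7),(39,6),(40,5),(44,4),(45,6),(47,5),(48,4),(53,8),(54,3),(56,3),(59,2),(62,8),(63,8),(64,3),(66,2),(67,8),(68,3),(72,9),(73,8),(75,3),(76,9),(81,6),(82,5),(84,5),(87,7),(90,6),(91,6),(92,5),(94,7),(95,6),(96,5),(100,4),(101,6),(103,5),(104,4),(109,4),(110,7),(112,7),(115,1),(118,4),(119,4),(120,7),(122,1),(123,4),(124,7),(128,10),(129,4),(131,7),(132,10)]) (.leaf [(2,6),(7,10),(10,6),(16,6),(18,5),(19,5),(20,1),(22,4),(28,7),(29,4),(32,4),(33,4),(36,7),(38,7),(41,7),(45,7),(47,4),(50,6),(51,5),(52,5),(57,10),(59,8),(64,6),(66,6),(67,6),(68,6),(69,5),(74,8),(75,1),(84,7),(85,4),(87,4),(98,7),(102,7),(103,4),(106,6),(107,5),(108,5),(113,8),(115,7),(120,6),(122,6),(123,6),(124,6),(125,5),(130,7),(131,3)]))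 (.leaf [(0,4),(1,7),(3,6),(4,1),(5,4),(6,10),(7,4),(8,9),(9,2),(12,7),(13,1),(14,10),(16,10),(17,5),(18,5),(19,3),(21,2),(22,3),(23,3),(24,3),(25,4),(26,3),(27,7),(28,4),(29,6),(30,8),(31,3),(32,8),(34,1),(35,3),(36,5),(37,6),(38,3),(39,5),(40,1),(43,2),(45,3),(46,5),(47,2),(49,1),(52,4),(53,10),(54,7),(57,3),(59,1),(60,7),(61,7),(62,6),(63,7),(64,8),(65,3),(66,1),(67,7),(68,8),(69,7),(70,7),(71,1),(73,8),(74,4),(76,5),(77,4),(78,6),(79,6),(80,6),(81,4),(82,6),(83,10),(84,1),(85,1),(86,2),(87,9),(88,5),(90,2),(91,6),(92,10),(93,1),(94,5),(95,10),(96,9),(99,4),(101,6),(102,4),(103,8),(105,2),(108,8),(109,9),(110,3),(112,5),(113,6),(115,9),(116,3),(117,3),(118,1),(119,3),(120,5),(121,6),(122,6),(123,3),(124,5),(125,3),(126,8),(127,2),(129,5),(130,3),(131,1),(132,1)])) 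
 (.node (.leaf [(0,3),(1,8),(5,7),(6,4),(8,2),(9,9),(10,1),(11,3),(12,5),(15,6),(18,2),(19,1),(20,5),(27,4),(31,9),(33,4),(42,7),(46,1),(48,2),(49,2),(50,8),(51,5),(53,5),(54,9),(56,8),(57,5),(58,7),(59,3),(60,8),(62,6),(63,5),(64,3),(65,9),(66,3),(67,9),(69,9),(70,8),(71,3),(72,9),(73,7),(74,7),(75,3),(76,10),(77,8),(78,3),(80,10),(82,3),(83,10),(85,9),(87,6),(89,1),(90,2),(91,9),(92,1),(93,3),(94,1),(95,6),(97,10),(98,1),(99,1),(100,3),(101,3),(102,8),(103,10),(104,5),(105,6),(106,2),(107,7),(109,1),(110,5),(112,4),(113,4),(116,2),(118,7),(119,4),(120,9),(121,5),(122,9),(123,5),(125,5),(127,9),(128,5),(129,10),(131,7)]) (.leaf [(3,3),(4,10),(5,8),(6,4),(10,6),(11,3),(12,6),(13,5),(14,6),(15,2),(16,5),(18,2),(19,3),(22,6),(23,8),(25,3),(26,8),(27,7),(29,2),(30,7),(31,4),(32,2),(35,3),(36,3),(37,8),(38,6),(39,3),(41,5),(43,4),(44,3),(45,3),(46,6),(47,3),(48,5),(50,8),(52,1),(53,6),(54,4),(56,8),(57,10),(58,3),(59,2),(61,4),(63,7),(64,7),(65,4),(66,3),(67,7),(68,3),(69,3),(70,8),(71,10),(72,7),(73,7),(74,6),(75,1),(76,3),(78,8),(79,7),(81,5),(82,7),(83,4),(85,6),(86,4),(87,7),(88,10),(91,4),(92,4),(93,7),(94,8),(95,4),(97,3),(99,3),(100,4),(101,4),(102,5),(103,4),(104,6),(109,5),(112,4),(113,7),(114,5),(115,7),(126,6),(127,5),(130,10),(131,6),(132,5)])))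 
 (.node 
 (.node (.leaf [(4,6),(5,6),(6,3),(7,2),(8,9),(9,8),(10,2),(12,2),(13,3),(14,2),(16,10),(17,9),(18,5),(19,5),(20,1),(22,4),(24,10),(25,2),(26,3),(27,8),(28,8),(29,6),(30,4),(31,2),(32,6),(34,8),(35,3),(36,3),(37,6),(38,3),(39,9),(40,8),(41,1),(42,6),(44,3),(45,2),(46,6),(47,8),(48,4),(50,5),(52,8),(53,1),(54,4),(55,4),(56,7),(57,8),(58,1),(59,2),(60,6),(62,7),(63,4),(64,4),(65,8),(66,4),(67,10),(68,1),(69,9),(70,2),(72,4),(73,1),(74,2),(75,4),(76,4),(78,4),(80,10),(81,2),(82,3),(83,8),(84,8),(85,6),(86,4),(87,2),(88,6),(90,8),(91,3),(92,3),(93,6),(94,3),(95,9),(96,8),(97,1),(98,6),(100,3),(101,2),(102,6),(103,8),(104,4),(106,8),(108,4),(109,6),(110,2),(111,2),(112,9),(113,4),(114,6),(115,1),(116,3),(118,9),(119,2),(120,2),(121,4),(122,2),(123,5),(124,6),(125,10),(126,1),(128,2),(129,6),(130,1),(131,2),(132,2)]) (.leaf [(0,2),(1,9),(3,9),(5,6),(6,5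),(8,8),(9,3),(10,3),(11,2),(12,7),(15,2),(18,6),(19,3),(20,9),(21,9),(23,2),(24,6),(26,10),(27,7),(29,3),(34,8),(35,3),(36,3),(37,2),(38,5),(39,3),(41,8),(42,4),(43,6),(44,2),(46,10),(47,6),(48,7),(49,10),(50,4),(53,3),(54,7),(56,10),(57,7),(58,8),(59,3),(60,3),(61,1),(62,4),(63,7),(64,7),(65,1),(66,8),(70,8),(71,1),(72,1),(73,7),(74,8),(75,1),(76,9),(77,1),(79,10),(80,8),(82,10),(83,4),(85,4),(90,7),(91,4),(92,4),(93,10),(94,3),(95,4),(97,7),(98,7),(99,4),(100,10),(102,1),(103,8),(104,4),(110,4),(112,5),(114,6),(115,5),(126,6),(127,7),(130,6),(131,6),(132,4)])) 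
 (.node (.leaf [(0,4),(1,7),(4,10),(5,4),(6,4),(7,8),(8,10),(9,1),(10,6),(12,7),(13,6),(14,5),(16,5),(17,5),(18,4),(19,3),(21,2),(22,5),(25,7),(26,6),(27,3),(28,8),(29,2),(30,4),(31,3),(32,3),(34,6),(36,3),(37,3),(38,6),(39,5),(40,5),(41,3),(45,6),(46,5),(47,8),(49,1),(50,7),(52,7),(53,10),(54,3),(56,1),(57,8),(59,7),(62,3),(63,5),(64,7),(65,7),(66,3),(67,3),(68,4),(69,8),(73,8),(74,9),(76,5),(77,4),(78,10),(81,7),(82,1),(83,9),(84,2),(85,7),(86,1),(87,9),(88,6),(90,1),(91,10),(92,6),(93,6),(94,1),(95,10),(96,3),(97,6),(101,1),(102,4),(103,9),(105,2),(106,3),(108,3),(109,9),(110,6),(112,6),(113,4),(115,8),(118,6),(119,3),(120,3),(121,3),(122,6),(123,6),(124,8),(125,5),(129,5),(130,4),(131,1),(132,1)]) (.leaf [(3,7),(4,3),(5,5),(6,7),(7,5),(8,9),(9,2),(12,6),(13,4),(14,7),(16,7),(17,3),(18,9),(19,1),(22,6),(23,10),(24,10),(25,1),(26,6),(29,9),(32,5),(34,6),(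35,10),(36,6),(37,5),(39,6),(40,6),(44,7),(45,6),(47,7),(52,9),(53,6),(54,2),(56,7),(57,8),(59,9),(60,7),(61,7),(62,2),(63,7),(64,2),(65,9),(67,2),(68,7),(69,2),(70,4),(72,6),(73,2),(74,10),(75,7),(76,8),(81,1),(83,5),(84,6),(85,4),(86,1),(87,10),(96,5),(102,6),(103,6),(108,9),(109,6),(110,2),(112,10),(113,6),(115,1),(116,7),(117,7),(118,2),(119,7),(120,2),(121,9),(123,2),(124,7),(125,2),(126,9),(128,6),(129,2),(130,6),(131,10),(132,7)])))) 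
 (.node 
 (.node 
 (.node (.leaf [(3,2),(4,3),(5,7),(6,8),(8,2),(9,3),(10,9),(13,8),(14,9),(16,3),(18,8),(19,4),(20,1),(22,6),(23,8),(24,8),(25,8),(26,3),(27,9),(29,6),(34,3),(35,10),(37,2),(38,8),(41,3),(42,2),(44,6),(45,9),(47,3),(50,4),(53,3),(54,4),(56,4),(57,8),(59,1),(60,7),(61,7),(62,4),(63,6),(65,10),(66,7),(67,1),(68,4),(69,8),(70,10),(72,8),(74,1),(78,6),(79,8),(80,8),(81,8),(82,3),(83,9),(85,6),(90,3),(91,10),(93,2),(94,8),(97,3),(98,2),(100,6),(101,9),(103,3),(106,2),(109,7),(110,2),(112,2),(113,4),(115,6),(116,9),(117,9),(118,2),(119,3),(121,5),(122,9),(123,6),(124,2),(125,4),(126,5),(128,4),(130,6)]) (.leaf [(2,7),(7,8),(10,7),(16,7),(18,4),(19,4),(20,3),(22,2),(28,10),(29,1),(31,10),(32,2),(33,2),(36,9),(38,9),(41,9),(42,1),(45,9),(46,1),(47,1),(50,10),(51,1),(52,1),(59,5),(64,10),(66,10),(67,10),(68,10),(69,1),(74,5),(78,4),(84,10),(85,1),(87,8),(88,4),(89,4),(92,7),(94,7),(97,7),(98,3),(101,7),(102,3),(103,1),(106,9),(107,2),(108,2),(113,4),(115,1),(120,9),(122,9),(123,9),(124,9),(125,2),(130,1),(131,7)]))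 
 (.node (.leaf [(3,10),(4,4),(5,1),(6,6),(10,9),(11,10),(12,9),(13,2),(14,9),(15,3),(16,2),(18,3),(19,10),(25,1),(27,2),(29,7),(30,2),(31,9),(43,5),(46,8),(48,3),(50,6),(52,9),(53,1),(54,3),(56,1),(57,7),(58,7),(59,1),(61,3),(63,8),(64,8),(65,3),(66,5),(67,8),(68,5),(69,5),(70,4),(71,4),(72,8),(73,8),(74,3),(75,7),(76,7),(78,9),(79,1),(81,10),(82,1),(83,5),(85,3),(86,5),(87,6),(88,3),(91,10),(92,10),(93,1),(94,9),(95,10),(97,2),(99,6),(100,10),(101,10),(102,9),(103,10),(104,2),(106,7),(108,5),(109,4),(110,9),(112,6),(113,7),(117,9),(119,2),(120,2),(121,9),(122,4),(123,2),(124,4),(125,4),(127,2),(128,2),(129,2),(131,9)]) (.leaf [(0,5),(1,6),(4,7),(5,5),(6,5),(7,10),(8,7),(9,4),(10,2),(12,6),(13,2),(14,9),(16,9),(17,9),(18,5),(19,1),(21,4),(22,10),(25,6),(26,1),(29,9),(32,6),(34,1),(35,2),(36,6),(37,6),(38,1),(39,10),(40,2),(41,6),(45,1),(47,8),(49,5),(50,2),(52,2),(53,6),(54,4),(56,4),(57,10),(59,9),(62,4),(63,2),(64,2),(65,2),(66,4),(67,4),(68,9),(69,7),(73,7),(74,10),(75,8),(76,8),(81,6),(83,10),(84,1),(85,10),(86,6),(87,10),(91,4),(96,6),(102,2),(103,6),(105,5),(106,2),(108,2),(109,6),(110,4),(112,2),(113,5),(115,1),(118,4),(120,2),(121,2),(122,4),(123,4),(124,9),(125,7),(129,7),(130,6),(131,2),(132,7)])))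 
 (.node 
 (.node (.leaf [(0,3),(1,8),(3,8),(5,9),(6,2),(8,1),(9,10),(10,10),(11,3),(12,5),(15,3),(18,9),(19,10),(20,8),(26,4),(27,2),(42,9),(43,7),(46,6),(48,2),(49,2),(50,3),(53,5),(54,3),(56,4),(57,8),(58,4),(59,7),(60,5),(61,9),(62,3),(63,8),(64,8),(65,9),(66,6),(70,4),(71,3),(72,9),(73,8),(74,4),(75,7),(76,10),(77,8),(79,3),(80,9),(82,4),(83,5),(85,10),(90,1),(91,10),(92,10),(93,3),(94,2),(95,10),(97,1),(98,6),(99,9),(100,3),(102,4),(103,9),(104,5),(105,6),(106,9),(109,4),(110,1),(112,2),(113,2),(116,4),(117,5),(118,9),(119,2),(120,2),(121,5),(122,7),(127,6),(128,5),(129,2),(131,9)]) (.leaf [(0,2),(1,9),(5,1),(6,10),(8,5),(9,6),(10,8),(11,2),(12,7),(15,4),(18,5),(19,8),(20,7),(21,9),(22,2),(24,3),(26,2),(27,3),(29,6),(31,4),(33,8),(34,5),(35,6),(36,8),(37,2),(38,8),(39,4),(41,3),(42,8),(43,8),(44,2),(45,2),(46,9),(47,3),(48,7),(49,10),(50,7),(51,6),(54,1),(56,9),(57,3),(58,3),(59,6),(60,7),(62,8),(63,3),(64,4),(65,1),(66,4),(67,1),(69,1),(70,5),(71,4),(72,1),(73,2),(74,3),(75,2),(76,9),(77,1),(78,10),(80,4),(82,10),(83,8),(85,8),(87,7),(90,3),(91,8),(92,7),(93,10),(94,7),(95,9),(97,4),(98,3),(99,7),(100,10),(101,10),(102,2),(103,4),(104,4),(107,4),(109,7),(112,10),(114,5),(115,10),(126,1),(130,5),(131,1),(132,4)]))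 
 (.node (.leaf [(3,10),(4,9),(5,4),(6,10),(7,4),(8,5),(9,6),(12,7),(13,1),(14,10),(16,10),(17,9),(18,5),(19,3),(22,3),(23,5),(24,5),(25,3),(26,3),(27,7),(28,4),(29,9),(30,8),(31,3),(32,8),(34,3),(35,5),(36,3),(37,8),(39,3),(40,10),(44,9),(45,3),(46,4),(47,2),(52,4),(53,10),(54,7),(57,4),(59,7),(60,8),(61,8),(62,7),(63,8),(64,7),(65,4),(67,7),(68,8),(69,7),(70,8),(72,10),(73,7),(74,9),(76,5),(78,6),(79,10),(80,10),(81,3),(82,6),(83,10),(84,1),(85,6),(86,2),(87,9),(88,5),(90,6),(91,10),(92,6),(93,5),(95,6),(96,5),(100,7),(101,6),(102,1),(103,8),(108,8),(109,9),(110,3),(112,5),(113,1),(115,8),(116,5),(117,5),(118,3),(119,5),(120,3),(121,8),(123,3),(124,5),(125,3),(126,6),(128,9),(129,3),(130,4),(131,5),(132,1)]) (.leaf [(0,5),(1,6),(3,2),(4,4),(5,5),(6,7),(7,5),(8,3),(9,8),(12,6),(13,4),(14,7),(16,7),(17,9),(18,9),(19,1),(21,4),(22,6),(23,6),(24,6),(25,5),(26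,6),(29,1),(32,5),(34,2),(35,6),(36,10),(37,1),(38,8),(39,10),(40,10),(43,4),(45,6),(47,7),(49,5),(52,9),(53,6),(54,2),(56,7),(57,4),(59,6),(60,2),(61,2),(62,8),(63,2),(64,7),(65,4),(66,4),(67,2),(68,7),(69,2),(70,9),(71,5),(73,7),(74,2),(75,8),(76,8),(81,5),(83,5),(84,6),(86,1),(87,10),(94,4),(96,5),(102,2),(103,6),(105,5),(108,9),(109,6),(110,2),(112,10),(113,4),(115,8),(116,2),(117,2),(118,8),(119,2),(120,7),(121,4),(122,2),(123,2),(124,7),(125,2),(126,1),(127,5),(129,7),(130,10),(131,2),(132,7)]))))) 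
 (.node 
 (.node 
 (.node 
 (.node (.leaf [(3,9),(4,9),(5,7),(6,3),(8,9),(9,8),(10,2),(11,9),(12,7),(13,3),(14,2),(15,2),(16,8),(18,4),(19,4),(20,6),(22,6),(23,3),(24,3),(25,3),(26,8),(27,8),(29,6),(30,10),(31,10),(34,8),(37,7),(38,2),(41,8),(42,4),(44,6),(45,3),(46,6),(47,9),(48,10),(50,7),(53,3),(54,7),(55,3),(56,7),(57,8),(58,3),(59,4),(60,4),(61,4),(62,7),(65,2),(66,10),(67,4),(68,7),(69,8),(70,6),(72,8),(74,4),(75,5),(76,3),(78,6),(79,3),(80,3),(81,3),(82,8),(83,8),(85,6),(86,10),(87,10),(90,8),(93,7),(94,2),(97,8),(98,4),(100,6),(101,3),(102,6),(103,9),(104,10),(106,9),(109,7),(110,9),(111,7),(112,9),(113,4),(114,7),(115,2),(116,2),(117,2),(118,9),(121,1),(122,5),(123,2),(124,9),(125,4),(126,3),(128,4),(130,2),(131,8),(132,7)]) (.leaf [(4,9),(5,4),(6,8),(7,4),(8,5),(9,6),(10,1),(12,7),(13,1),(14,10),(16,10),(17,10),(18,4),(19,2),(22,8),(25,3),(26,3),(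27,7),(28,4),(29,1),(30,8),(31,7),(32,8),(34,3),(35,5),(36,8),(37,8),(38,5),(39,8),(40,4),(41,6),(44,9),(45,3),(46,8),(47,10),(50,3),(52,4),(53,10),(54,7),(57,4),(59,4),(62,7),(63,8),(64,4),(65,4),(66,8),(67,7),(68,8),(69,4),(72,10),(73,4),(74,1),(76,5),(78,5),(81,3),(82,6),(83,10),(84,1),(85,9),(86,2),(87,10),(88,5),(90,6),(91,10),(92,5),(93,5),(94,10),(95,5),(96,4),(97,1),(100,7),(101,6),(102,2),(103,5),(106,6),(108,8),(109,9),(110,3),(112,4),(113,2),(115,3),(118,3),(119,5),(120,8),(121,8),(122,5),(123,3),(124,5),(125,8),(128,9),(129,8),(130,9),(131,6),(132,1)])) 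
 (.node (.leaf [(0,3),(1,8),(3,7),(4,9),(5,7),(6,2),(8,1),(9,10),(11,10),(12,9),(13,2),(14,9),(15,3),(16,2),(17,8),(18,1),(19,9),(20,8),(25,5),(27,2),(29,7),(31,9),(38,4),(42,9),(43,5),(46,3),(48,3),(49,2),(53,3),(54,3),(56,4),(57,2),(59,7),(60,3),(61,1),(62,3),(63,3),(64,5),(65,3),(66,3),(67,6),(68,5),(69,3),(70,7),(71,1),(72,8),(73,5),(74,7),(75,3),(76,7),(77,8),(78,1),(79,4),(80,1),(81,6),(82,1),(83,5),(85,5),(87,6),(90,1),(91,1),(92,9),(93,1),(94,4),(95,9),(96,8),(98,6),(99,5),(100,10),(101,2),(102,2),(104,2),(105,6),(109,7),(110,9),(112,2),(113,3),(116,9),(117,3),(118,9),(119,9),(120,4),(121,9),(122,1),(123,7),(124,4),(125,9),(127,4),(128,2),(129,4),(131,7)]) (.leaf [(2,9),(5,9),(10,9),(13,4),(14,7),(15,4),(16,9),(18,2),(19,7),(20,5),(29,9),(30,10),(33,9),(35,9),(36,2),(37,2),(38,2),(41,2),(42,1),(44,9),(47,9),(50,1),(51,10),(53,10),(57,10),(58,9),(63,10),(64,1),(65,1),(66,1),(68,1),(70,2),(72,10),(75,3),(85,1),(86,1),(89,1),(91,1),(92,10),(93,10),(94,10),(97,10),(98,10),(100,1),(103,1),(114,4),(126,7),(131,7)])))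 
 (.node 
 (.node (.leaf [(0,3),(1,8),(3,9),(4,2),(5,7),(6,3),(10,10),(11,1),(12,7),(13,4),(14,7),(15,6),(16,1),(18,3),(19,9),(20,5),(22,4),(25,6),(27,2),(29,7),(30,2),(31,9),(42,7),(43,6),(46,3),(48,8),(49,2),(50,3),(53,1),(54,6),(56,3),(57,2),(58,3),(61,6),(63,5),(64,3),(65,6),(66,6),(67,3),(68,8),(70,8),(71,5),(72,3),(73,5),(74,7),(75,3),(76,3),(77,8),(78,3),(79,2),(81,5),(82,2),(83,5),(85,5),(86,5),(87,6),(91,9),(92,1),(93,2),(94,2),(95,9),(97,1),(98,1),(99,8),(100,1),(101,1),(102,2),(103,9),(104,9),(105,6),(106,9),(109,2),(110,7),(112,1),(113,3),(117,7),(119,4),(120,9),(121,7),(122,7),(123,9),(124,2),(125,3),(127,3),(128,9),(129,4),(131,7)]) (.leaf [(3,3),(4,10),(5,3),(6,5),(8,6),(9,5),(11,3),(12,6),(13,5),(14,6),(15,2),(16,5),(18,8),(19,4),(22,6),(23,8),(24,6),(25,3),(26,8),(27,7),(29,7),(30,7),(31,4),(32,2),(34,6),(35,8),(36,8),(37,8),(39,8),(43,9),(44,3),(45,3),(46,8),(47,9),(48,5),(52,1),(53,9),(54,4),(56,10),(57,7),(59,5),(60,3),(61,4),(62,3),(63,4),(64,4),(65,4),(67,7),(68,3),(69,3),(70,5),(71,7),(72,7),(73,4),(74,3),(75,10),(76,3),(78,8),(79,7),(80,8),(81,5),(82,7),(83,4),(85,9),(86,4),(87,7),(88,10),(90,8),(91,7),(92,7),(93,7),(95,7),(99,6),(100,4),(101,4),(102,3),(103,1),(104,6),(109,5),(112,5),(113,7),(115,1),(126,1),(127,5),(130,5),(131,5),(132,5)]))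 
 (.node (.leaf [(0,4),(1,7),(3,6),(6,10),(7,4),(8,4),(9,7),(10,6),(12,7),(17,6),(18,1),(19,5),(21,2),(22,8),(23,3),(24,5),(26,3),(27,10),(28,8),(29,10),(31,7),(32,9),(34,9),(36,8),(38,6),(39,8),(40,3),(41,3),(45,9),(46,8),(47,1),(49,1),(50,7),(52,10),(54,1),(57,1),(58,6),(59,3),(60,8),(61,7),(62,10),(64,4),(66,3),(67,10),(69,4),(70,2),(73,4),(74,2),(76,5),(77,4),(78,5),(79,6),(80,10),(82,5),(83,8),(84,6),(85,1),(87,10),(88,7),(90,7),(92,5),(94,1),(95,5),(96,7),(97,6),(101,7),(102,2),(103,10),(105,2),(106,3),(108,9),(110,6),(112,5),(113,1),(114,10),(115,5),(116,5),(117,3),(118,9),(120,8),(122,6),(123,9),(125,8),(126,7),(129,8),(130,7),(131,6),(132,1)]) (.leaf [(0,5),(1,6),(3,4),(6,3),(7,10),(10,9),(12,1),(17,9),(18,7),(19,7),(21,4),(22,10),(23,1),(24,5),(26,7),(28,7),(29,8),(32,7),(33,1),(35,7),(36,6),(37,7),(38,6),(39,3),(40,6),(41,5),(45,7),(47,3),(49,5),(50,9),(51,9),(52,6),(54,6),(55,3),(56,3),(57,3),(59,9),(60,9),(61,4),(63,6),(64,2),(65,6),(66,2),(67,6),(69,7),(70,10),(73,1),(74,10),(75,8),(76,5),(83,4),(84,7),(85,1),(87,6),(89,4),(102,2),(103,10),(105,5),(106,9),(107,7),(108,6),(110,6),(111,4),(112,9),(113,8),(115,1),(116,9),(117,4),(119,6),(120,2),(121,6),(122,2),(123,6),(125,7),(126,6),(129,1),(130,6),(131,2),(132,3)]))))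 
 (.node 
 (.node 
 (.node (.leaf [(3,7),(4,6),(5,2),(6,8),(7,5),(8,5),(9,2),(10,1),(11,9),(12,4),(13,3),(14,2),(15,10),(16,10),(17,2),(18,10),(19,5),(20,3),(22,10),(23,6),(24,5),(25,2),(26,3),(27,1),(28,9),(29,5),(30,4),(31,6),(32,5),(34,2),(35,8),(36,3),(37,7),(38,8),(39,3),(40,3),(41,1),(42,10),(43,5),(44,4),(45,1),(46,6),(47,8),(50,5),(52,3),(53,4),(54,4),(55,4),(56,4),(57,3),(58,3),(60,3),(61,8),(62,10),(63,7),(64,4),(65,2),(66,7),(67,5),(68,1),(69,6),(70,2),(71,3),(72,9),(73,4),(74,2),(75,7),(76,6),(78,10),(79,6),(80,5),(81,2),(82,3),(83,1),(84,9),(85,5),(86,4),(87,6),(88,5),(90,2),(91,8),(92,3),(93,7),(94,8),(95,3),(96,3),(97,1),(98,10),(99,5),(100,4),(101,1),(102,6),(103,8),(106,8),(108,7),(109,2),(110,2),(111,2),(112,2),(113,7),(114,7),(116,7),(117,4),(118,5),(119,9),(120,2),(121,1),(122,9),(123,8),(124,6),(125,3),(126,1),(127,7),(128,10),(129,2),(130,1),(131,9),(132,3)])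 (.leaf [(0,2),(1,9),(3,6),(4,5),(5,1),(6,2),(10,3),(11,8),(12,1),(13,10),(14,1),(15,4),(16,8),(18,2),(19,6),(20,7),(21,9),(22,2),(23,5),(25,7),(26,5),(27,7),(29,7),(30,7),(31,4),(35,6),(36,8),(37,5),(38,5),(39,6),(41,8),(42,8),(43,9),(44,8),(45,8),(46,5),(47,6),(48,6),(49,10),(50,4),(53,4),(54,8),(56,7),(57,7),(58,6),(61,8),(63,3),(64,4),(65,8),(66,8),(67,4),(68,7),(69,3),(70,5),(71,2),(72,4),(73,3),(74,3),(75,2),(76,6),(77,1),(78,3),(79,3),(81,8),(82,3),(83,4),(85,9),(86,4),(87,7),(91,8),(92,7),(93,3),(94,3),(95,8),(97,7),(98,3),(99,7),(100,7),(101,7),(102,6),(103,8),(104,5),(109,6),(112,4),(113,7),(114,10),(125,4),(126,1),(127,6),(130,5),(131,1),(132,10)])) 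
 (.node (.leaf [(2,8),(5,8),(10,8),(13,6),(14,5),(15,6),(16,8),(18,3),(19,5),(20,2),(30,6),(42,5),(50,9),(51,2),(53,2),(57,2),(58,10),(63,2),(64,9),(65,9),(66,9),(68,9),(70,1),(72,2),(75,10),(85,8),(86,4),(89,8),(91,8),(92,3),(93,3),(94,3),(97,3),(98,7),(100,8),(103,8),(106,5),(107,6),(109,6),(113,6),(119,6),(120,5),(121,5),(122,5),(124,5),(128,6),(131,5)]) (.leaf [(0,5),(1,6),(3,2),(6,7),(7,5),(8,5),(9,6),(10,2),(12,6),(17,2),(18,4),(19,9),(21,4),(22,5),(23,6),(24,10),(26,8),(28,3),(29,3),(32,7),(34,7),(36,5),(38,1),(39,5),(40,4),(41,6),(45,7),(47,8),(49,5),(50,2),(52,6),(54,4),(56,7),(57,8),(58,3),(59,7),(60,7),(61,2),(62,6),(64,9),(66,4),(67,6),(69,9),(70,1),(73,9),(74,1),(75,4),(76,8),(82,4),(83,4),(84,7),(85,10),(87,5),(96,7),(102,1),(103,1),(105,5),(106,2),(108,6),(110,2),(112,10),(113,3),(114,4),(115,2),(116,7),(117,2),(118,6),(120,9),(122,4),(123,6),(125,9),(126,5),(129,9),(130,5),(131,1),(132,7)])))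 
 (.node 
 (.node (.leaf [(3,10),(4,4),(5,10),(6,2),(8,9),(9,2),(11,10),(12,9),(13,2),(14,9),(15,3),(16,2),(18,1),(19,6),(25,1),(27,2),(29,7),(30,2),(31,9),(43,5),(46,7),(48,3),(52,9),(53,6),(54,3),(56,4),(57,2),(59,8),(60,5),(61,3),(62,5),(63,3),(64,3),(65,3),(67,8),(68,5),(69,5),(70,8),(71,10),(72,8),(73,3),(74,7),(75,4),(76,7),(78,9),(79,1),(80,9),(81,10),(82,1),(83,5),(85,5),(86,5),(87,6),(88,3),(90,9),(91,1),(92,1),(93,1),(95,1),(99,8),(100,10),(101,10),(102,1),(103,8),(104,2),(108,5),(109,8),(110,9),(112,2),(113,3),(116,4),(117,9),(118,4),(119,9),(120,9),(121,9),(123,2),(124,4),(125,4),(127,9),(128,2),(129,9),(131,2)]) (.leaf [(0,2),(1,9),(3,1),(4,6),(5,1),(6,5),(8,8),(9,3),(11,3),(12,6),(13,5),(14,6),(15,2),(16,5),(17,9),(18,8),(19,6),(20,9),(21,9),(22,8),(23,10),(24,8),(25,4),(26,8),(27,7),(29,7),(31,4),(34,8),(35,8),(36,6),(37,8),(38,10),(39,6),(40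,9),(42,4),(43,7),(44,3),(45,5),(46,5),(48,5),(49,10),(53,2),(54,4),(56,10),(57,7),(59,3),(60,4),(61,5),(62,4),(63,4),(64,3),(65,4),(66,7),(67,8),(68,3),(69,4),(70,3),(71,6),(72,7),(73,3),(74,3),(75,2),(76,3),(77,1),(78,7),(79,6),(80,7),(81,3),(82,7),(83,4),(85,9),(87,7),(90,7),(91,7),(92,8),(93,7),(94,10),(95,8),(96,1),(98,7),(99,7),(100,4),(101,3),(102,6),(104,6),(109,1),(112,5),(113,7),(115,5),(122,4),(126,5),(127,5),(130,5),(131,1),(132,5)])) 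
 (.node (.leaf [(0,4),(1,7),(3,1),(6,9),(7,8),(10,5),(12,3),(17,5),(18,10),(19,10),(21,2),(22,5),(23,6),(24,8),(26,9),(27,10),(28,10),(29,1),(31,4),(32,9),(33,5),(35,9),(36,3),(37,9),(38,3),(39,7),(40,3),(41,8),(45,9),(46,5),(47,10),(49,1),(50,4),(51,2),(52,10),(54,10),(55,6),(57,10),(59,7),(60,4),(61,3),(63,10),(64,7),(65,10),(66,7),(67,10),(69,8),(70,9),(73,9),(74,9),(76,10),(77,4),(78,10),(79,1),(80,5),(82,7),(83,8),(84,10),(85,10),(87,1),(88,7),(89,9),(91,7),(92,6),(93,7),(94,6),(95,3),(96,6),(97,5),(101,7),(102,4),(103,1),(105,2),(106,8),(107,8),(108,9),(110,9),(111,10),(112,10),(113,10),(115,8),(116,8),(117,6),(119,9),(120,3),(121,9),(122,3),(123,9),(125,5),(126,4),(129,7),(130,4),(131,1),(132,2)]) (.leaf [(4,3),(5,5),(6,10),(7,5),(8,9),(9,2),(10,4),(12,6),(13,4),(14,7),(16,7),(17,7),(18,5),(19,8),(22,5),(25,1),(26,6),(29,10),(32,5),(34,6),(35,10),(36,5),(37,5),(38,10),(39,5),(40,5),(41,1),(44,7),(45,6),(47,6),(50,4),(52,9),(53,6),(54,2),(56,10),(57,5),(59,2),(62,2),(63,7),(64,9),(65,9),(66,7),(67,2),(68,7),(69,9),(72,6),(73,9),(74,6),(75,4),(76,8),(81,1),(83,5),(84,6),(85,5),(86,1),(87,5),(96,5),(102,1),(103,5),(106,4),(108,9),(109,6),(110,2),(112,8),(113,8),(115,10),(118,2),(119,7),(120,9),(121,9),(122,7),(123,2),(124,7),(125,9),(128,6),(129,9),(130,8),(131,1),(132,7)])))))))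 
 (.node 
 (.node 
 (.node 
 (.node 
 (.node 
 (.node 
 (.node (.leaf [(0,7),(1,5),(3,7),(4,10),(5,4),(6,5),(7,3),(8,7),(9,5),(10,10),(11,7),(12,4),(13,6),(14,4),(15,10),(16,6),(17,8),(18,1),(19,7),(20,2),(21,6),(22,5),(23,6),(24,5),(26,6),(27,4),(28,1),(29,5),(32,10),(34,5),(35,5),(36,5),(37,8),(40,1),(42,4),(43,10),(44,1),(45,4),(47,10),(48,3),(49,8),(52,6),(53,8),(54,8),(56,8),(57,3),(59,9),(60,3),(61,8),(62,3),(63,3),(64,3),(65,7),(67,9),(68,8),(69,3),(70,9),(71,6),(72,5),(74,9),(75,3),(76,4),(77,6),(78,5),(79,6),(80,5),(82,6),(83,4),(84,1),(85,5),(88,10),(90,5),(91,5),(92,5),(93,8),(96,1),(98,4),(99,10),(100,1),(101,4),(103,10),(104,3),(105,4),(108,3),(109,4),(110,4),(112,4),(113,7),(115,10),(116,7),(117,4),(118,7),(119,7),(120,7),(121,9),(123,10),(124,4),(125,7),(126,10),(127,3),(128,8),(130,10),(131,7),(132,2)]) (.leaf [(2,6),(3,6),(6,10),(7,10),(12,7),(15,5),(17,5),(18,5),(20,1),(22,4),(23,7),(24,4),(26,7),(28,7),(33,4),(37,4),(38,7),(39,4),(40,7),(45,7),(51,5),(54,6),(55,3),(56,10),(59,8),(60,5),(61,6),(65,10),(66,6),(67,6),(69,5),(70,3),(73,5),(74,8),(75,1),(76,2),(83,4),(84,7),(93,4),(98,7),(102,7),(107,5),(110,6),(111,4),(112,8),(115,7),(116,5),(117,6),(121,8),(122,6),(123,6),(125,5),(126,4),(129,5),(130,7),(131,3),(132,10)]))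 (.leaf [(3,5),(4,5),(5,4),(6,5),(8,9),(9,2),(10,6),(13,1),(14,10),(16,10),(18,6),(19,4),(23,8),(24,8),(25,6),(26,3),(27,7),(28,2),(29,5),(30,8),(31,10),(32,8),(34,1),(35,5),(36,2),(37,8),(38,6),(39,3),(40,4),(41,3),(45,3),(47,3),(50,7),(52,4),(53,10),(54,7),(55,5),(56,1),(57,4),(58,6),(59,5),(60,4),(61,4),(62,6),(63,8),(64,1),(65,4),(66,3),(67,7),(68,8),(70,4),(73,1),(79,5),(80,5),(81,8),(82,6),(83,10),(84,8),(85,2),(86,2),(87,8),(88,5),(90,2),(91,10),(92,4),(93,5),(94,1),(95,5),(96,5),(97,6),(101,6),(103,7),(106,3),(108,8),(109,9),(110,3),(111,1),(112,1),(113,7),(114,10),(115,1),(116,8),(117,8),(118,1),(119,5),(120,2),(121,8),(122,6),(123,3),(124,5),(126,3),(129,6)])) 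
 (.node (.leaf [(0,3),(1,8),(5,10),(6,9),(8,2),(9,9),(10,9),(13,3),(14,8),(15,3),(18,10),(19,9),(20,8),(30,2),(31,2),(34,4),(42,9),(43,7),(46,3),(49,2),(50,6),(53,8),(56,7),(57,3),(58,7),(59,3),(60,8),(63,5),(64,3),(66,1),(69,9),(70,8),(73,3),(74,8),(75,6),(77,8),(78,3),(80,10),(85,1),(86,5),(87,5),(90,3),(91,9),(92,1),(94,4),(95,1),(97,2),(98,6),(99,8),(102,2),(103,7),(105,6),(106,7),(109,2),(112,9),(113,9),(116,2),(118,3),(119,4),(120,9),(122,3),(125,5),(127,8),(129,9),(131,8)]) (.leaf [(0,2),(1,9),(2,9),(3,9),(5,4),(6,7),(7,2),(8,8),(9,3),(10,3),(12,7),(13,2),(14,9),(15,4),(18,10),(19,3),(20,5),(21,9),(23,2),(24,8),(26,2),(27,3),(28,9),(29,1),(30,7),(31,4),(33,9),(34,8),(36,5),(37,2),(38,5),(39,1),(41,8),(42,1),(43,5),(45,2),(46,3),(47,8),(49,10),(50,4),(51,10),(53,7),(54,1),(56,6),(57,6),(58,6),(59,3),(60,4),(61,1),(62,4),(63,2),(64,8),(65,1),(66,8),(67,1),(70,8),(71,8),(73,6),(74,6),(75,4),(76,9),(77,1),(79,10),(80,7),(82,10),(83,8),(84,1),(85,5),(86,4),(87,7),(89,1),(90,7),(91,4),(92,3),(93,10),(94,3),(95,5),(97,7),(98,10),(99,3),(101,10),(102,8),(103,7),(109,7),(112,9),(114,10),(115,5),(119,4),(126,6),(130,10),(131,2),(132,4)])))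 
 (.node 
 (.node (.leaf [(3,9),(4,6),(5,4),(6,3),(8,5),(9,2),(10,8),(11,7),(12,9),(13,7),(14,8),(15,5),(16,8),(17,9),(18,3),(19,7),(20,8),(23,3),(24,8),(25,2),(26,8),(27,1),(30,6),(31,6),(32,5),(34,2),(36,6),(37,9),(38,3),(39,6),(40,1),(41,3),(42,8),(43,5),(44,6),(45,7),(46,6),(47,2),(48,6),(50,4),(52,3),(53,8),(54,7),(55,3),(56,7),(58,5),(59,2),(60,7),(61,4),(62,10),(64,8),(65,1),(66,4),(67,2),(68,7),(70,2),(71,3),(72,8),(73,8),(74,2),(75,8),(76,5),(79,3),(80,8),(81,2),(82,8),(83,1),(86,6),(87,6),(88,5),(90,2),(92,6),(93,9),(94,3),(95,6),(96,1),(97,3),(98,8),(99,5),(100,6),(101,7),(102,6),(103,2),(104,6),(106,2),(108,7),(109,4),(110,9),(111,7),(112,9),(114,8),(115,1),(116,9),(117,2),(118,5),(120,4),(121,6),(122,2),(123,1),(124,9),(126,1),(127,7),(128,4),(129,4),(130,1),(131,4),(132,8)]) (.leaf [(4,4),(5,6),(6,5),(8,6),(9,5),(10,1),(13,4),(14,7),(15,4),(18,10),(19,1),(20,7),(24,6),(25,10),(29,1),(30,3),(34,6),(35,1),(36,5),(38,5),(39,5),(41,10),(42,8),(43,5),(46,2),(47,6),(50,5),(53,3),(56,10),(57,6),(58,6),(59,5),(60,3),(62,3),(63,6),(64,8),(66,8),(70,10),(71,8),(73,8),(74,6),(75,1),(80,8),(81,2),(85,5),(86,8),(90,8),(91,5),(92,3),(94,3),(95,3),(97,6),(98,3),(99,3),(102,9),(103,8),(112,5),(114,10),(115,1),(126,2),(130,10),(131,6)]))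 
 (.node (.leaf [(3,5),(4,10),(5,4),(6,9),(7,4),(8,10),(9,1),(12,7),(13,6),(14,5),(16,5),(17,10),(18,10),(19,9),(21,5),(22,8),(23,8),(24,8),(25,7),(26,6),(27,3),(28,6),(29,3),(30,4),(31,7),(32,3),(34,6),(35,8),(36,8),(37,3),(39,8),(40,8),(45,6),(46,8),(47,4),(49,2),(52,7),(53,10),(54,3),(57,7),(59,9),(60,4),(61,4),(62,3),(63,4),(64,4),(65,7),(67,3),(68,4),(69,4),(70,4),(73,4),(74,7),(76,5),(77,9),(78,5),(79,5),(80,5),(81,7),(82,1),(83,9),(84,9),(85,6),(86,1),(87,10),(88,6),(90,1),(91,5),(92,5),(93,6),(95,5),(96,9),(101,1),(102,2),(103,5),(105,8),(108,3),(109,9),(110,6),(112,10),(113,3),(115,4),(116,8),(117,8),(118,6),(119,8),(120,8),(121,3),(123,6),(124,8),(125,8),(126,3),(129,8),(130,8),(131,6),(132,1)]) (.leaf [(3,9),(4,9),(5,5),(6,3),(7,5),(8,9),(9,2),(10,7),(12,6),(13,4),(14,7),(16,7),(17,5),(18,1),(19,10),(23,5),(24,1),(25,9),(26,6),(29,7),(32,5),(34,6),(35,6),(37,1),(38,5),(39,4),(41,10),(45,6),(47,1),(50,7),(52,9),(53,6),(54,2),(56,3),(57,8),(58,8),(60,4),(61,9),(62,2),(63,2),(65,4),(66,9),(67,2),(68,7),(70,10),(73,5),(74,8),(75,5),(76,8),(81,5),(83,5),(84,6),(85,6),(86,1),(96,5),(102,7),(106,7),(108,9),(109,6),(110,2),(112,9),(113,5),(114,7),(116,4),(117,9),(118,2),(119,2),(121,4),(122,9),(123,2),(124,7),(126,6),(129,5),(130,7),(131,5),(132,7)]))))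 
 (.node 
 (.node 
 (.node (.leaf [(2,7),(3,9),(4,1),(5,5),(6,5),(7,9),(10,9),(11,2),(12,2),(13,7),(14,5),(17,9),(18,6),(19,2),(20,2),(23,3),(24,3),(27,6),(28,3),(30,8),(31,10),(33,5),(35,8),(36,3),(37,2),(38,10),(39,8),(40,8),(41,3),(42,8),(43,6),(44,9),(46,6),(47,1),(48,8),(50,4),(51,3),(53,10),(55,4),(56,8),(58,3),(59,3),(60,4),(61,4),(63,7),(64,4),(65,10),(66,6),(70,5),(71,8),(72,1),(73,7),(74,5),(75,4),(76,4),(79,3),(80,3),(83,6),(84,3),(86,8),(87,10),(89,5),(91,8),(92,3),(93,2),(94,10),(95,8),(96,8),(97,3),(98,8),(99,6),(100,9),(102,6),(103,1),(104,8),(106,2),(107,7),(109,5),(111,2),(112,4),(114,7),(115,7),(116,2),(117,2),(119,9),(120,2),(121,5),(122,3),(126,8),(127,4),(128,6),(129,9),(130,8),(131,2),(132,2)]) (.leaf [(2,7),(3,7),(6,8),(7,8),(12,10),(15,4),(17,4),(18,4),(20,3),(22,2),(23,9),(24,2),(26,9),(27,10),(28,10),(33,2),(37,1),(38,9),(39,2),(40,9),(42,1),(45,9),(46,1),(51,1),(54,10),(55,6),(59,5),(60,1),(61,10),(66,10),(67,10),(69,1),(70,6),(73,1),(74,5),(76,4),(78,4),(79,7),(80,4),(82,7),(83,8),(84,10),(89,4),(93,1),(94,7),(95,4),(96,7),(98,3),(101,7),(102,3),(107,2),(110,9),(111,10),(112,4),(115,1),(116,2),(117,9),(121,4),(122,9),(123,9),(125,2),(126,10),(129,2),(130,1),(131,7),(132,3)]))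 
 (.node (.leaf [(0,3),(1,8),(2,8),(3,8),(5,6),(6,5),(7,3),(8,1),(9,10),(10,10),(12,5),(13,3),(14,8),(15,6),(18,4),(19,10),(20,2),(27,4),(30,2),(31,9),(35,4),(42,5),(46,4),(49,2),(50,3),(51,2),(53,2),(54,9),(56,7),(57,10),(58,3),(59,7),(60,3),(61,9),(62,3),(63,2),(64,6),(65,9),(66,6),(67,9),(70,4),(71,6),(73,10),(74,3),(75,6),(76,10),(77,8),(79,3),(80,1),(82,3),(83,10),(84,8),(85,7),(86,5),(87,6),(89,8),(90,1),(92,2),(93,3),(94,2),(95,7),(97,1),(98,7),(99,2),(101,3),(102,10),(103,1),(105,6),(106,9),(107,6),(109,3),(110,5),(112,3),(113,8),(116,9),(117,5),(118,9),(119,9),(120,7),(121,5),(122,7),(123,5),(127,7),(129,8),(131,3)]) (.leaf [(3,9),(4,7),(5,5),(6,3),(7,5),(8,7),(9,4),(12,6),(13,2),(14,9),(16,9),(17,7),(18,7),(19,3),(21,1),(22,5),(23,5),(24,5),(25,6),(26,1),(28,7),(29,6),(32,6),(34,1),(35,5),(36,5),(37,6),(39,5),(40,8),(45,1),(47,3),(49,9),(52,2),(53,6),(54,4),(56,3),(57,2),(59,10),(60,9),(61,9),(62,4),(63,9),(64,9),(65,2),(67,4),(68,9),(69,9),(70,2),(73,9),(74,9),(75,4),(76,8),(77,4),(81,6),(83,10),(84,1),(86,6),(87,5),(96,6),(102,1),(103,1),(105,7),(108,2),(109,6),(110,4),(112,9),(113,2),(115,6),(116,9),(117,9),(118,4),(119,9),(120,9),(121,2),(123,4),(124,9),(125,9),(126,10),(129,9),(130,1),(131,1),(132,7)])))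 
 (.node 
 (.node (.leaf [(4,6),(5,9),(6,2),(8,9),(9,2),(10,7),(13,6),(14,5),(15,6),(18,4),(19,7),(20,5),(25,7),(30,4),(42,7),(46,10),(50,1),(53,5),(56,4),(57,10),(58,3),(59,8),(60,5),(62,5),(63,10),(64,6),(66,6),(70,5),(71,6),(73,6),(74,3),(75,7),(80,9),(81,4),(85,7),(86,10),(90,9),(91,7),(92,2),(94,2),(95,2),(97,4),(98,1),(99,2),(102,3),(103,9),(106,3),(109,4),(112,2),(113,8),(116,4),(118,4),(119,8),(120,7),(122,7),(127,7),(129,7),(131,9)]) (.leaf [(0,2),(1,9),(5,3),(6,6),(8,5),(9,6),(10,6),(13,2),(14,9),(15,2),(18,3),(19,6),(20,9),(21,9),(22,2),(24,3),(29,8),(30,7),(31,7),(34,2),(35,6),(36,8),(38,10),(39,8),(41,5),(42,4),(43,9),(46,5),(47,1),(49,10),(50,8),(53,7),(56,1),(57,4),(58,3),(59,6),(60,7),(62,3),(63,3),(64,4),(66,5),(69,1),(70,5),(71,8),(73,4),(74,5),(75,9),(77,1),(78,10),(80,4),(85,7),(86,4),(87,4),(90,3),(91,8),(92,7),(94,6),(95,7),(97,3),(98,7),(99,8),(102,6),(103,5),(112,6),(114,5),(115,10),(118,4),(126,1),(127,7),(130,1),(131,5)]))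 
 (.node (.leaf [(3,5),(4,5),(5,4),(6,9),(7,4),(8,5),(9,6),(10,10),(12,7),(13,1),(14,10),(16,10),(17,4),(18,3),(19,8),(23,8),(24,6),(25,6),(26,3),(27,7),(28,4),(29,2),(30,8),(32,8),(34,3),(35,3),(37,6),(38,8),(39,2),(40,7),(41,5),(45,3),(46,1),(47,6),(50,8),(52,4),(53,10),(54,7),(57,3),(58,5),(60,3),(61,4),(62,7),(63,7),(65,3),(66,4),(67,7),(68,8),(70,9),(73,1),(74,5),(75,1),(76,5),(79,5),(80,1),(81,8),(82,6),(83,10),(84,1),(85,8),(86,2),(88,5),(90,6),(91,6),(93,1),(94,5),(95,4),(96,10),(97,10),(101,6),(102,3),(103,1),(106,5),(108,8),(109,9),(110,3),(112,10),(113,1),(114,1),(116,6),(117,8),(118,3),(119,3),(121,6),(122,8),(123,3),(124,5),(126,4),(129,2),(130,1),(131,2),(132,1)]) (.leaf [(3,9),(4,9),(5,5),(6,9),(8,3),(9,8),(10,2),(13,4),(14,7),(16,7),(18,2),(19,5),(23,5),(24,5),(25,9),(26,6),(28,7),(29,4),(32,5),(34,2),(35,10),(36,4),(37,5),(38,1),(39,8),(40,3),(41,6),(45,6),(47,4),(50,2),(52,9),(53,6),(54,2),(55,8),(56,8),(57,1),(58,3),(59,8),(60,9),(61,9),(62,8),(63,7),(64,5),(65,9),(66,4),(67,2),(68,7),(70,2),(73,4),(81,5),(83,5),(84,6),(85,10),(86,1),(87,4),(95,4),(96,1),(103,7),(106,2),(108,9),(109,6),(110,2),(111,7),(112,3),(113,7),(114,4),(115,7),(116,9),(117,9),(118,8),(119,7),(120,5),(121,9),(122,4),(123,2),(124,7),(126,10),(129,2)])))))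 
 (.node 
 (.node 
 (.node 
 (.node (.leaf [(3,2),(4,1),(5,3),(7,2),(8,4),(9,6),(10,3),(11,4),(13,7),(14,5),(15,6),(16,9),(17,9),(18,10),(19,6),(22,6),(23,8),(24,3),(26,5),(27,6),(28,8),(29,6),(30,1),(31,6),(34,6),(35,3),(36,8),(37,7),(39,3),(40,8),(41,8),(42,4),(43,6),(44,8),(45,6),(46,6),(47,6),(48,1),(50,7),(53,4),(54,3),(55,4),(57,8),(58,3),(59,5),(60,4),(61,7),(62,8),(63,4),(64,7),(65,2),(67,8),(68,6),(69,8),(70,5),(71,8),(72,7),(73,4),(74,5),(75,1),(76,2),(78,6),(79,8),(80,3),(82,5),(83,6),(84,8),(85,6),(86,1),(87,6),(90,6),(91,3),(92,8),(93,7),(95,3),(96,8),(97,8),(98,4),(99,6),(100,8),(101,6),(102,6),(103,6),(104,1),(106,9),(109,2),(110,7),(111,2),(113,4),(114,7),(115,8),(116,2),(117,9),(118,4),(119,2),(120,9),(121,1),(123,4),(124,3),(125,4),(126,8),(127,4),(128,9),(129,2),(130,8),(131,6),(132,1)]) (.leaf [(0,4),(1,7),(2,7),(3,6),(6,3),(7,8),(8,4),(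9,7),(10,6),(12,3),(15,4),(17,10),(18,9),(19,9),(20,3),(21,2),(22,2),(23,3),(24,3),(26,9),(27,10),(28,10),(29,5),(31,7),(33,2),(34,9),(36,6),(37,9),(38,6),(39,10),(40,6),(41,3),(42,1),(45,9),(46,9),(47,4),(49,1),(50,7),(51,1),(54,10),(56,1),(57,10),(58,5),(59,3),(60,7),(61,7),(62,10),(64,3),(65,10),(66,3),(67,10),(69,6),(70,2),(73,5),(74,7),(76,10),(77,4),(78,3),(79,6),(80,6),(82,7),(83,8),(84,10),(85,3),(87,10),(89,4),(90,7),(92,1),(93,7),(94,1),(95,9),(96,1),(97,6),(98,3),(101,7),(102,5),(103,4),(105,2),(106,3),(107,2),(110,9),(113,4),(114,1),(115,5),(116,3),(117,3),(118,9),(120,6),(121,9),(122,6),(123,9),(125,5),(126,7),(129,10),(130,8),(131,2),(132,2)])) 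
 (.node (.leaf [(3,7),(4,1),(6,1),(8,10),(9,1),(10,10),(11,10),(12,9),(13,2),(14,9),(16,2),(18,10),(19,8),(25,5),(29,7),(39,4),(43,1),(46,2),(48,3),(50,3),(53,9),(54,3),(56,10),(57,8),(58,4),(59,4),(60,8),(61,1),(62,8),(64,2),(65,3),(66,6),(67,8),(68,5),(69,5),(71,4),(72,8),(73,3),(76,7),(78,9),(79,4),(80,10),(81,3),(82,1),(85,7),(90,10),(92,8),(93,1),(94,2),(95,4),(97,1),(99,3),(100,10),(101,10),(102,5),(103,9),(104,2),(106,9),(109,6),(110,9),(112,10),(113,10),(116,2),(117,3),(118,2),(120,6),(121,9),(122,7),(123,2),(124,4),(125,4),(127,10),(128,2),(129,1)]) (.leaf [(2,9),(5,9),(6,4),(7,2),(8,2),(9,9),(12,7),(15,4),(18,2),(20,5),(24,9),(26,2),(27,10),(28,9),(33,9),(34,2),(35,9),(37,2),(38,2),(39,9),(42,1),(43,2),(45,1),(46,4),(51,10),(53,10),(54,1),(56,8),(59,9),(60,10),(62,1),(63,10),(65,1),(66,1),(67,8),(70,2),(71,1),(73,10),(74,9),(75,3),(76,9),(80,1),(82,10),(83,1),(84,1),(89,1),(90,10),(91,1),(93,10),(94,10),(95,1),(98,10),(99,10),(101,9),(102,7),(112,4),(115,4),(123,4),(126,7),(130,4),(131,7),(132,4)])))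 
 (.node 
 (.node (.leaf [(3,9),(4,2),(5,9),(6,4),(8,10),(9,1),(11,1),(12,7),(13,1),(14,10),(15,3),(16,1),(18,2),(19,10),(20,8),(21,4),(25,6),(27,2),(29,7),(31,9),(42,9),(43,6),(46,8),(48,8),(49,5),(53,7),(54,6),(56,8),(57,5),(59,4),(60,8),(61,6),(62,8),(63,8),(64,8),(65,6),(67,3),(68,8),(69,8),(70,4),(71,8),(72,3),(73,8),(74,3),(75,7),(76,3),(77,1),(78,10),(79,2),(80,10),(81,5),(82,2),(83,5),(85,6),(87,6),(90,10),(91,10),(92,10),(93,2),(95,10),(98,6),(99,9),(100,1),(101,1),(102,9),(104,9),(105,7),(109,9),(110,7),(112,4),(113,1),(116,2),(117,7),(118,2),(119,2),(120,2),(121,7),(123,9),(124,2),(125,2),(127,1),(128,9),(129,2),(131,9)]) (.leaf [(3,3),(4,8),(5,9),(6,10),(8,3),(9,8),(10,5),(11,3),(12,6),(13,5),(14,6),(15,2),(16,5),(18,7),(20,9),(22,8),(23,8),(24,5),(25,2),(26,8),(27,7),(29,10),(31,8),(34,3),(37,8),(38,3),(39,9),(41,6),(42,4),(43,1),(44,3),(45,5),(47,8),(48,5),(50,3),(53,6),(54,4),(56,9),(57,3),(58,6),(59,8),(60,8),(61,4),(62,7),(65,4),(66,7),(67,8),(68,3),(69,4),(71,3),(72,7),(73,10),(74,9),(75,10),(76,3),(78,7),(79,7),(80,3),(81,4),(82,7),(83,4),(85,2),(87,3),(90,4),(93,7),(94,4),(95,1),(97,8),(98,7),(99,10),(100,4),(101,3),(103,7),(104,6),(109,1),(112,10),(113,7),(114,10),(115,6),(127,5),(130,4),(132,5)]))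 
 (.node (.leaf [(3,10),(4,8),(5,8),(6,10),(7,8),(10,2),(17,10),(18,9),(19,9),(22,10),(23,5),(24,5),(25,10),(28,10),(29,8),(31,6),(36,6),(38,6),(39,6),(40,6),(41,1),(46,8),(47,4),(50,6),(59,4),(60,8),(61,8),(64,3),(66,3),(69,5),(70,8),(73,3),(74,7),(78,9),(79,10),(80,10),(81,10),(84,10),(85,8),(87,7),(92,1),(94,1),(95,1),(96,1),(97,2),(102,2),(103,4),(106,1),(109,4),(112,5),(113,10),(115,3),(116,5),(117,5),(120,6),(122,6),(125,10),(126,6),(129,6),(130,8),(131,6)]) (.leaf [(0,5),(1,6),(3,4),(6,4),(7,5),(10,4),(17,4),(18,2),(19,2),(21,4),(22,10),(23,2),(24,5),(28,3),(29,5),(35,7),(36,6),(38,2),(39,6),(40,9),(41,1),(47,2),(49,5),(50,4),(56,4),(57,7),(58,3),(59,9),(60,9),(61,2),(63,6),(64,2),(66,8),(69,7),(70,10),(73,2),(74,2),(75,1),(79,4),(84,7),(85,5),(87,10),(96,7),(102,6),(103,6),(105,5),(106,4),(112,1),(113,10),(114,4),(115,1),(116,9),(119,6),(120,2),(122,8),(125,7),(126,6),(129,2),(130,10),(131,4)]))))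 
 (.node 
 (.node 
 (.node (.leaf [(3,7),(4,2),(5,9),(6,2),(7,1),(8,9),(9,8),(10,10),(11,9),(12,6),(13,10),(14,7),(15,10),(16,3),(17,6),(18,5),(19,9),(20,3),(23,6),(24,5),(25,8),(26,9),(27,8),(28,4),(29,5),(30,8),(31,10),(32,5),(34,8),(35,2),(36,8),(37,7),(38,2),(39,8),(40,9),(42,10),(43,5),(44,10),(45,7),(46,6),(47,2),(52,3),(53,7),(54,1),(55,4),(56,1),(57,3),(58,3),(59,2),(60,3),(61,8),(62,7),(63,10),(64,7),(65,2),(66,10),(67,2),(68,4),(70,2),(71,3),(72,6),(73,7),(74,2),(75,4),(76,8),(79,6),(80,5),(81,8),(82,9),(83,8),(84,4),(85,5),(86,8),(87,10),(88,5),(90,8),(91,2),(92,8),(93,7),(94,2),(95,8),(96,9),(98,10),(99,5),(100,10),(101,7),(102,6),(103,2),(108,7),(109,9),(110,6),(111,2),(112,6),(113,7),(114,7),(115,1),(116,7),(117,4),(118,9),(119,5),(120,9),(121,1),(122,5),(123,1),(124,2),(126,1),(127,7),(128,3),(129,9),(130,1),(131,2),(132,4)]) (.leaf [(3,6),(4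,5),(5,6),(6,10),(8,3),(9,8),(11,8),(12,1),(13,8),(14,3),(15,2),(16,8),(18,5),(19,3),(20,9),(21,8),(22,3),(23,5),(24,3),(25,7),(26,5),(27,7),(29,4),(31,4),(34,3),(35,3),(36,3),(37,5),(39,3),(42,4),(43,6),(44,8),(45,8),(46,6),(48,6),(49,6),(53,1),(54,8),(56,9),(59,8),(60,7),(61,8),(62,7),(63,7),(64,7),(65,8),(67,4),(68,7),(69,7),(70,8),(71,6),(72,4),(73,7),(74,6),(75,1),(76,6),(78,4),(79,3),(80,4),(81,8),(82,3),(83,4),(85,5),(87,7),(90,4),(91,4),(92,4),(93,3),(95,4),(98,7),(99,3),(100,7),(101,7),(102,5),(104,5),(105,4),(109,6),(112,10),(113,7),(115,6),(126,6),(127,6),(130,10),(131,6),(132,10)])) 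
 (.node (.leaf [(2,8),(5,8),(6,6),(7,3),(8,3),(9,8),(12,5),(15,6),(18,3),(20,2),(27,6),(42,5),(45,4),(46,9),(51,2),(53,2),(54,9),(56,1),(59,10),(60,2),(62,9),(63,2),(65,9),(66,9),(67,1),(70,1),(71,9),(73,2),(74,10),(75,10),(76,10),(80,8),(82,3),(83,4),(84,8),(89,8),(90,3),(91,8),(93,3),(94,3),(95,8),(98,7),(99,3),(101,7),(102,6),(107,6),(109,6),(110,5),(112,6),(116,6),(118,5),(119,6),(121,5),(122,5),(123,6),(127,5),(129,6),(131,5)]) (.leaf [(3,7),(4,10),(5,10),(6,7),(7,10),(10,8),(17,7),(18,3),(19,3),(22,9),(23,10),(24,10),(25,7),(28,7),(29,10),(36,1),(38,1),(39,1),(40,1),(41,2),(47,5),(50,8),(53,10),(56,7),(57,3),(59,2),(60,7),(61,7),(64,4),(66,4),(69,3),(70,4),(73,4),(74,9),(75,4),(81,7),(84,7),(85,10),(87,9),(102,1),(103,5),(106,8),(109,8),(112,10),(113,9),(115,10),(116,7),(117,7),(120,4),(122,4),(125,3),(126,9),(129,4),(130,1),(131,1)]))) 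
 (.node 
 (.node (.leaf [(3,10),(4,1),(5,8),(6,4),(8,10),(9,1),(10,2),(11,10),(12,9),(13,2),(14,9),(15,3),(16,2),(18,5),(20,8),(25,5),(27,2),(29,7),(31,7),(42,9),(43,5),(48,3),(50,5),(53,6),(54,3),(56,8),(57,10),(58,3),(59,4),(60,6),(61,3),(62,8),(65,3),(66,8),(67,6),(68,5),(69,3),(71,7),(72,8),(73,2),(74,10),(75,2),(76,7),(78,1),(79,1),(80,2),(81,3),(82,1),(83,5),(85,4),(87,1),(90,10),(93,1),(94,10),(95,8),(97,9),(98,6),(99,7),(100,10),(101,2),(103,1),(104,2),(106,4),(109,5),(110,9),(112,4),(113,5),(116,7),(117,9),(118,2),(121,9),(122,2),(123,7),(124,4),(125,9),(128,2),(129,6),(131,6)]) (.leaf [(3,1),(4,8),(6,8),(8,3),(9,8),(10,3),(11,3),(12,6),(13,5),(14,6),(16,5),(18,3),(19,9),(22,6),(23,10),(24,3),(25,2),(26,8),(29,1),(34,3),(36,9),(37,8),(38,5),(39,10),(41,8),(43,2),(44,3),(45,3),(46,7),(47,6),(48,5),(50,4),(53,2),(54,4),(56,8),(57,4),(58,8),(59,8),(60,7),(61,5),(62,7),(64,10),(65,4),(66,8),(67,7),(68,3),(69,3),(71,7),(72,7),(73,7),(76,3),(78,8),(79,6),(80,4),(81,4),(82,7),(85,1),(90,4),(92,1),(93,7),(94,3),(95,10),(97,7),(100,4),(101,4),(102,4),(103,8),(104,6),(109,5),(112,10),(113,7),(114,6),(115,6),(127,1),(129,4),(132,5)]))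 
 (.node (.leaf [(0,4),(1,7),(3,1),(6,1),(7,4),(10,1),(17,1),(18,6),(19,6),(21,2),(22,5),(24,8),(28,8),(29,4),(31,3),(35,9),(36,3),(38,1),(39,3),(41,6),(46,4),(47,5),(49,1),(50,3),(58,6),(59,7),(60,4),(61,5),(63,10),(64,7),(66,6),(69,8),(70,9),(73,7),(74,4),(75,1),(77,4),(78,10),(79,10),(80,5),(84,6),(85,4),(87,9),(91,7),(92,6),(94,2),(95,6),(96,1),(97,1),(102,1),(103,3),(105,2),(106,6),(112,6),(113,5),(114,10),(115,8),(116,8),(117,3),(119,9),(120,3),(122,1),(125,5),(126,4),(129,3),(130,3),(131,7)]) (.leaf [(0,5),(1,6),(2,6),(3,2),(6,1),(7,10),(8,5),(9,6),(10,2),(12,1),(15,5),(17,7),(18,3),(19,3),(20,1),(21,4),(22,6),(23,6),(24,6),(26,7),(28,7),(29,2),(33,4),(34,7),(36,1),(37,7),(38,1),(39,9),(40,1),(41,6),(45,7),(47,5),(49,5),(50,2),(51,5),(54,6),(57,10),(58,8),(59,7),(60,2),(61,2),(62,6),(64,4),(65,6),(66,4),(67,6),(69,7),(70,1),(73,3),(74,9),(75,5),(76,5),(78,4),(83,4),(84,7),(85,6),(87,5),(98,7),(102,8),(103,5),(105,5),(106,2),(107,5),(110,6),(112,1),(113,7),(114,7),(115,2),(116,2),(117,2),(118,6),(120,4),(121,6),(122,4),(123,6),(125,5),(126,5),(129,3),(130,1),(131,4),(132,3)]))))))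 
 (.node 
 (.node 
 (.node 
 (.node 
 (.node 
 (.node (.leaf [(3,7),(4,9),(5,7),(6,3),(8,2),(9,3),(10,7),(11,2),(12,9),(13,8),(14,9),(15,6),(16,8),(18,2),(19,4),(20,10),(22,1),(23,2),(24,9),(25,3),(26,8),(27,9),(31,4),(32,6),(34,3),(36,6),(37,7),(38,2),(39,5),(41,2),(42,9),(43,6),(44,5),(45,9),(47,3),(48,4),(50,10),(52,8),(53,3),(54,7),(56,7),(58,2),(59,1),(60,1),(61,10),(62,4),(64,8),(65,2),(66,10),(67,1),(68,7),(69,5),(70,1),(71,8),(72,3),(73,3),(74,1),(75,8),(76,9),(78,1),(79,2),(80,9),(81,3),(82,8),(83,9),(87,4),(88,6),(90,3),(92,6),(93,7),(94,2),(95,5),(97,2),(98,9),(99,6),(100,5),(101,9),(103,3),(104,4),(106,5),(108,4),(109,7),(110,9),(112,9),(114,1),(115,6),(116,6),(117,5),(118,2),(120,4),(121,1),(122,5),(123,6),(124,9),(125,8),(126,6),(127,4),(128,7),(129,7),(130,6),(131,4),(132,10)]) (.leaf [(3,7),(5,5),(6,7),(8,5),(9,6),(10,2),(17,7),(18,9),(19,3),(22,1),(23,10),(24,6),(29,3),(34,7),(35,4),(36,5),(38,5),(39,5),(40,1),(41,6),(43,4),(47,8),(50,2),(53,6),(56,7),(57,8),(58,8),(59,10),(60,2),(61,7),(62,6),(63,5),(64,9),(66,9),(69,4),(70,1),(71,5),(73,9),(74,1),(75,4),(85,10),(87,5),(102,1),(103,1),(106,2),(109,6),(112,10),(113,3),(114,7),(115,6),(116,2),(117,7),(118,6),(119,5),(120,9),(122,9),(125,4),(126,5),(127,5),(129,9),(130,5),(131,1)]))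 (.leaf [(4,1),(6,8),(8,9),(9,2),(10,9),(12,3),(13,1),(14,10),(16,10),(17,10),(19,9),(22,6),(25,4),(26,1),(27,6),(28,7),(29,9),(30,8),(31,8),(32,6),(34,1),(35,5),(36,10),(37,6),(38,5),(39,10),(40,4),(41,10),(45,6),(46,8),(47,9),(50,5),(52,3),(54,6),(57,3),(59,3),(62,6),(63,8),(64,5),(65,3),(66,8),(67,8),(68,8),(69,3),(73,5),(74,7),(76,10),(78,1),(81,4),(82,2),(83,7),(84,6),(85,4),(86,2),(87,2),(88,1),(90,2),(91,10),(92,9),(93,1),(94,10),(95,9),(96,4),(97,9),(102,2),(103,4),(106,10),(108,6),(110,1),(112,4),(113,7),(115,5),(118,1),(119,5),(120,10),(121,6),(122,5),(123,9),(124,5),(125,6),(129,10),(130,8),(131,6),(132,2)])) 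
 (.node (.leaf [(0,3),(1,8),(2,8),(3,9),(4,2),(5,8),(6,2),(7,3),(8,1),(9,10),(10,6),(11,1),(12,7),(13,4),(14,7),(15,6),(16,9),(18,1),(19,8),(20,2),(25,6),(27,2),(30,4),(31,2),(41,4),(42,5),(43,6),(46,9),(48,8),(49,2),(50,9),(51,2),(53,4),(54,6),(56,4),(58,7),(59,7),(60,5),(61,6),(62,3),(63,2),(64,9),(65,6),(66,1),(67,3),(68,6),(69,8),(70,1),(71,2),(72,3),(75,10),(76,3),(77,8),(78,10),(79,2),(80,9),(81,5),(82,2),(83,5),(84,8),(86,10),(87,5),(89,8),(90,1),(91,8),(92,3),(93,2),(94,4),(97,6),(98,7),(99,7),(100,1),(101,1),(102,6),(103,10),(104,9),(105,6),(106,8),(107,6),(110,7),(112,2),(116,4),(117,7),(118,9),(119,6),(120,5),(121,7),(122,3),(123,9),(124,7),(125,2),(127,5),(128,9),(131,5)]) (.leaf [(3,8),(4,5),(5,3),(6,2),(10,3),(11,10),(12,1),(13,6),(14,5),(15,2),(16,6),(19,8),(20,9),(22,3),(23,3),(24,9),(25,7),(26,5),(27,7),(29,8),(35,6),(36,8),(37,5),(38,3),(3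9,6),(41,8),(42,4),(43,9),(44,10),(45,8),(46,5),(47,8),(48,2),(50,4),(53,5),(54,8),(56,7),(57,4),(58,8),(60,10),(61,7),(63,3),(64,4),(65,8),(66,7),(67,4),(68,3),(69,7),(70,5),(71,2),(72,5),(73,3),(74,3),(75,9),(76,6),(78,4),(79,4),(80,1),(81,8),(82,3),(83,4),(85,7),(91,8),(92,7),(93,3),(94,4),(95,8),(97,7),(98,7),(99,7),(100,6),(101,7),(102,6),(103,7),(104,9),(109,6),(112,4),(114,6),(124,4),(126,1),(127,6),(130,5),(131,5),(132,10)]))) 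
 (.node 
 (.node (.leaf [(3,2),(4,7),(5,9),(6,5),(7,9),(8,4),(9,6),(10,7),(11,2),(12,2),(13,7),(14,5),(16,4),(17,2),(18,4),(20,2),(22,1),(23,8),(24,9),(25,6),(27,6),(28,3),(30,1),(31,10),(32,5),(34,6),(35,8),(36,8),(37,8),(38,5),(39,2),(40,3),(41,2),(42,8),(44,3),(45,6),(46,10),(47,6),(48,8),(50,10),(52,3),(53,7),(55,4),(56,8),(58,5),(59,5),(60,1),(61,7),(62,8),(63,7),(64,7),(65,7),(66,3),(67,8),(68,3),(69,5),(70,5),(72,4),(73,10),(74,5),(75,7),(76,4),(78,1),(79,8),(80,9),(81,6),(83,6),(84,3),(86,1),(87,10),(88,5),(90,6),(91,8),(92,8),(93,8),(94,5),(95,2),(96,3),(97,2),(98,8),(100,3),(101,6),(102,10),(103,6),(104,8),(106,5),(108,7),(109,9),(111,2),(112,4),(114,8),(115,8),(116,6),(117,9),(118,4),(119,9),(120,9),(121,9),(122,7),(123,4),(124,7),(125,8),(126,8),(128,2),(129,5),(130,8),(131,9),(132,2)]) (.leaf [(2,2),(3,3),(4,10),(6,6),(8,1),(9,10),(10,3),(11,3)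,(12,10),(13,9),(14,2),(15,9),(16,3),(18,5),(19,9),(20,2),(22,6),(23,8),(24,5),(25,3),(26,8),(27,4),(29,10),(30,3),(31,4),(32,2),(33,2),(34,1),(37,6),(38,3),(39,2),(41,8),(42,7),(43,10),(44,1),(45,3),(46,7),(47,6),(48,5),(50,4),(51,1),(52,1),(53,2),(54,4),(56,1),(57,3),(58,6),(59,10),(60,8),(61,4),(62,6),(65,3),(66,7),(67,7),(68,4),(69,3),(71,2),(72,6),(73,1),(76,5),(78,8),(79,7),(80,3),(81,5),(82,7),(83,7),(85,2),(86,8),(87,7),(88,10),(89,10),(90,5),(93,8),(94,4),(95,10),(97,7),(98,4),(100,5),(101,4),(102,4),(103,8),(104,6),(109,5),(112,6),(113,7),(114,10),(115,2),(127,5),(132,1)])) 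
 (.node (.leaf [(0,4),(1,7),(3,10),(4,10),(5,4),(6,10),(7,4),(8,3),(9,8),(10,1),(13,6),(14,5),(16,5),(18,5),(19,8),(21,2),(23,5),(24,3),(25,7),(26,6),(27,3),(28,6),(29,7),(30,4),(31,10),(32,3),(34,9),(35,8),(37,5),(38,3),(40,2),(41,6),(45,6),(46,1),(47,3),(49,1),(50,3),(52,7),(53,10),(54,3),(55,5),(57,7),(59,5),(60,7),(61,8),(62,4),(63,4),(65,8),(66,7),(67,3),(68,4),(70,2),(75,1),(77,4),(79,10),(80,6),(81,7),(82,1),(83,9),(84,9),(85,10),(86,1),(87,8),(88,6),(90,6),(91,5),(93,10),(94,6),(96,8),(97,1),(101,1),(102,3),(103,6),(105,2),(106,6),(108,3),(109,9),(110,6),(111,1),(112,5),(113,8),(115,1),(116,3),(117,5),(118,1),(119,8),(121,5),(122,3),(123,6),(124,8),(126,7),(131,2)]) (.leaf [(2,5),(3,7),(4,3),(6,8),(8,4),(9,7),(10,6),(12,10),(13,3),(14,8),(16,2),(17,4),(18,9),(19,2),(22,6),(23,10),(24,10),(25,1),(26,10),(28,7),(29,2),(32,5),(33,7),(34,10),(35,10),(36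,6),(37,9),(38,7),(39,2),(40,2),(41,7),(45,6),(47,7),(50,6),(51,6),(52,9),(54,7),(56,8),(57,2),(59,1),(60,7),(61,7),(62,7),(63,7),(64,2),(65,3),(66,6),(67,2),(68,2),(69,2),(70,4),(73,8),(74,10),(75,7),(76,6),(81,1),(83,1),(84,6),(85,4),(86,5),(87,10),(96,1),(102,10),(103,6),(106,6),(107,6),(108,9),(110,7),(112,2),(115,5),(116,7),(117,7),(118,7),(119,7),(120,2),(121,3),(122,6),(123,2),(124,2),(125,2),(126,9),(129,8),(130,6),(131,10),(132,8)])))) 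
 (.node 
 (.node 
 (.node (.leaf [(3,7),(4,2),(5,9),(6,8),(7,5),(8,9),(9,8),(10,10),(11,3),(12,9),(13,3),(14,2),(15,5),(16,3),(17,6),(18,9),(19,2),(20,8),(23,6),(25,8),(26,9),(27,2),(28,9),(30,2),(32,10),(34,8),(35,2),(36,8),(37,1),(38,8),(39,3),(40,9),(42,4),(43,5),(44,4),(45,2),(47,8),(48,5),(52,6),(53,7),(54,1),(55,1),(56,4),(59,10),(61,8),(62,7),(63,10),(64,7),(65,5),(66,7),(67,10),(68,4),(70,10),(71,3),(72,9),(73,4),(74,10),(75,7),(76,3),(79,6),(81,8),(82,9),(83,2),(84,9),(86,2),(88,10),(90,8),(91,2),(92,8),(93,1),(94,8),(95,3),(96,9),(98,4),(99,5),(100,4),(101,2),(103,8),(104,5),(108,3),(109,9),(110,6),(111,6),(112,2),(115,5),(117,4),(118,9),(119,5),(120,9),(121,8),(122,9),(123,5),(124,2),(126,5),(127,7),(128,10),(129,2),(130,5),(131,9),(132,7)]) (.leaf [(3,10),(5,4),(6,10),(8,4),(9,7),(10,6),(17,10),(18,5),(19,9),(22,6),(23,5),(24,3),(29,10),(31,7),(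34,9),(35,2),(36,8),(38,8),(39,8),(40,6),(41,3),(43,2),(46,8),(47,1),(50,7),(53,10),(57,1),(58,5),(59,9),(60,7),(61,8),(62,10),(63,1),(64,4),(66,4),(69,3),(70,2),(71,1),(73,4),(74,2),(78,1),(79,10),(80,6),(85,1),(87,10),(90,7),(91,4),(92,5),(94,5),(95,5),(96,1),(97,6),(99,4),(102,2),(103,10),(106,3),(109,9),(112,5),(113,1),(114,1),(115,4),(116,3),(117,5),(118,9),(119,2),(120,8),(122,8),(125,6),(126,7),(127,2),(129,8),(130,7),(131,6)])) 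
 (.node (.leaf [(3,1),(4,2),(5,10),(6,3),(10,10),(11,4),(12,7),(13,9),(14,2),(15,3),(16,9),(19,1),(20,8),(25,6),(27,2),(42,9),(43,6),(46,3),(48,10),(50,3),(53,10),(54,6),(56,3),(57,3),(58,4),(60,2),(61,8),(63,5),(64,3),(65,6),(66,8),(67,3),(69,8),(70,8),(71,5),(72,1),(73,5),(74,7),(75,6),(76,3),(78,10),(79,10),(80,8),(81,5),(82,2),(83,5),(85,1),(91,9),(92,1),(93,2),(94,10),(95,9),(97,1),(98,6),(99,8),(100,4),(101,1),(102,2),(103,1),(104,3),(106,9),(109,7),(110,7),(112,1),(113,9),(116,6),(117,2),(119,4),(120,9),(121,7),(122,2),(123,9),(124,3),(125,2),(127,3),(128,3),(129,4),(131,8)]) (.leaf [(0,5),(1,6),(3,7),(4,7),(5,5),(6,7),(7,5),(8,1),(9,10),(10,4),(13,2),(14,9),(16,9),(18,9),(19,10),(21,4),(23,10),(24,6),(25,6),(26,1),(28,7),(32,6),(34,9),(35,5),(37,10),(38,6),(40,7),(41,1),(45,1),(47,6),(49,5),(50,4),(52,2),(53,6),(54,4),(55,8),(56,7),(57,9),(59,8),(60,2),(61,7),(62,8),(63,9),(65,7),(66,2),(67,4),(68,9),(70,1),(75,5),(81,6),(83,10),(84,1),(85,5),(86,6),(87,4),(90,4),(96,6),(102,7),(105,5),(106,4),(108,2),(109,6),(110,4),(111,7),(112,10),(113,1),(115,7),(116,2),(117,7),(118,6),(119,9),(121,7),(122,2),(123,4),(124,9),(126,5),(131,5)])))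 
 (.node 
 (.node (.leaf [(2,3),(3,10),(4,4),(6,9),(8,7),(9,4),(10,10),(11,10),(12,4),(13,8),(14,3),(15,8),(16,10),(18,2),(19,8),(20,3),(25,1),(27,9),(29,7),(30,4),(31,9),(42,2),(43,5),(46,2),(48,3),(50,3),(51,9),(52,9),(53,9),(54,3),(56,7),(57,10),(58,3),(59,5),(60,6),(61,3),(62,10),(65,5),(66,8),(67,8),(68,3),(69,5),(71,9),(72,10),(73,9),(76,8),(78,9),(79,1),(80,2),(81,10),(82,1),(83,6),(85,4),(86,10),(87,6),(88,3),(89,3),(90,7),(93,9),(94,10),(95,3),(97,1),(98,5),(99,4),(100,7),(101,10),(102,5),(103,9),(104,2),(106,9),(107,5),(108,5),(109,6),(110,9),(112,9),(113,5),(116,7),(117,9),(118,8),(121,4),(122,2),(123,2),(124,9),(125,4),(127,6),(128,8),(129,5)]) (.leaf [(0,2),(1,9),(2,9),(3,6),(4,5),(5,9),(6,5),(7,2),(8,8),(9,3),(10,4),(11,8),(12,1),(13,10),(14,1),(15,4),(16,6),(18,8),(19,9),(20,5),(21,9),(22,3),(23,5),(24,6),(25,7),(26,5),(27,7),(28,9),(30,3),(3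1,7),(33,9),(34,8),(35,9),(36,2),(37,5),(38,10),(41,4),(42,1),(43,1),(44,8),(45,8),(46,4),(47,3),(48,6),(49,10),(50,4),(51,10),(53,8),(54,8),(56,10),(58,3),(59,3),(60,3),(61,8),(62,4),(63,10),(64,1),(65,8),(66,5),(67,4),(68,8),(69,7),(70,2),(71,9),(72,4),(75,3),(76,6),(77,1),(78,4),(79,3),(80,8),(81,8),(82,3),(83,4),(84,1),(86,8),(87,4),(89,1),(90,7),(91,1),(92,10),(93,3),(94,6),(97,2),(98,10),(100,7),(101,7),(102,7),(103,4),(104,5),(106,4),(109,6),(112,5),(114,5),(115,5),(126,7),(127,6),(131,7),(132,10)])) 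
 (.node (.leaf [(2,4),(3,10),(4,9),(6,2),(8,1),(9,10),(10,7),(12,8),(13,9),(14,2),(16,6),(17,1),(18,5),(19,6),(22,3),(23,5),(24,5),(25,3),(26,5),(27,8),(28,2),(30,7),(31,3),(32,8),(33,9),(34,5),(35,5),(36,3),(37,10),(38,9),(39,1),(40,9),(41,9),(45,3),(46,3),(47,2),(50,10),(51,10),(52,4),(54,8),(57,5),(59,2),(60,8),(61,8),(62,8),(63,8),(64,7),(65,5),(66,10),(67,7),(68,7),(69,7),(70,8),(73,6),(74,9),(76,1),(78,6),(79,10),(80,10),(81,3),(82,10),(83,2),(84,8),(85,10),(86,10),(87,9),(88,5),(89,7),(90,10),(91,10),(92,6),(93,9),(94,7),(95,2),(96,4),(97,7),(101,6),(102,9),(103,8),(106,9),(107,9),(108,8),(110,5),(112,1),(113,3),(115,7),(116,5),(117,5),(118,5),(119,5),(120,3),(121,10),(122,9),(123,3),(124,3),(125,3),(126,6),(129,1),(130,4),(131,5),(132,9)]) (.leaf [(4,4),(6,10),(8,3),(9,8),(10,3),(12,1),(13,4),(14,7),(16,7),(17,7),(19,3),(22,1),(25,5),(26,2),(28,8),(29,2),(32,1),(34,2),(35,10),(36,9),(37,1),(38,10),(39,9),(40,5),(41,9),(45,3),(47,2),(50,3),(52,4),(54,8),(56,10),(57,1),(59,7),(62,8),(63,7),(64,3),(65,4),(66,7),(67,6),(68,7),(69,4),(73,3),(74,9),(75,4),(76,5),(81,5),(83,9),(84,10),(85,1),(86,1),(87,1),(96,5),(101,4),(102,1),(103,1),(106,3),(108,4),(110,8),(112,8),(113,6),(115,2),(118,8),(119,7),(120,3),(121,4),(122,7),(123,4),(124,7),(125,4),(129,3),(130,1),(131,1),(132,3)])))))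 
 (.node 
 (.node 
 (.node 
 (.node (.leaf [(3,9),(4,2),(6,8),(7,5),(8,9),(9,8),(10,8),(11,7),(12,9),(13,1),(14,4),(15,5),(16,3),(17,4),(18,7),(20,10),(23,3),(24,8),(25,8),(26,3),(27,8),(28,5),(30,6),(31,6),(32,5),(34,8),(35,5),(37,9),(38,9),(40,6),(41,3),(42,1),(43,5),(45,3),(46,10),(47,8),(48,6),(50,4),(52,3),(54,4),(55,3),(56,4),(58,5),(59,4),(60,7),(61,4),(62,7),(63,3),(65,1),(66,1),(67,4),(68,4),(70,2),(71,3),(74,4),(75,6),(76,5),(79,3),(80,8),(81,8),(82,3),(83,8),(84,5),(86,6),(87,6),(88,5),(90,8),(91,5),(93,9),(94,9),(96,6),(97,3),(98,1),(99,5),(101,3),(102,10),(103,8),(104,6),(106,2),(108,7),(110,2),(111,7),(112,2),(114,8),(115,2),(116,9),(117,2),(118,9),(119,7),(121,6),(122,6),(123,2),(124,2),(126,1),(127,7),(130,2),(131,3),(132,8)]) (.leaf [(4,10),(6,4),(7,4),(8,6),(9,5),(10,6),(12,7),(13,10),(14,1),(16,1),(17,5),(19,6),(22,5),(24,2),(25,7),(26,6)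,(27,3),(28,6),(29,10),(30,3),(31,4),(32,1),(34,8),(35,8),(36,3),(37,3),(38,8),(39,5),(40,5),(41,3),(45,6),(46,4),(47,10),(50,7),(52,6),(54,3),(55,6),(56,1),(57,7),(59,2),(60,1),(62,4),(63,4),(64,7),(65,7),(66,4),(67,3),(68,5),(69,8),(70,6),(73,8),(74,9),(75,1),(76,5),(78,10),(80,4),(81,7),(82,1),(83,9),(84,9),(85,2),(86,9),(87,1),(88,2),(90,5),(91,5),(92,6),(93,6),(94,5),(95,10),(96,3),(97,6),(101,1),(102,1),(103,2),(106,3),(108,1),(110,6),(111,10),(112,6),(113,9),(115,7),(116,2),(118,8),(119,8),(120,3),(121,3),(122,8),(123,6),(124,3),(125,5),(126,10),(129,5),(130,4),(131,7),(132,1)])) 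
 (.node (.leaf [(3,7),(4,9),(5,9),(6,6),(10,4),(11,2),(12,3),(13,7),(14,4),(16,2),(19,2),(25,5),(27,4),(29,7),(30,7),(31,7),(37,4),(43,5),(46,6),(48,5),(50,10),(53,9),(54,1),(56,1),(57,5),(58,8),(61,1),(63,6),(64,10),(65,6),(66,5),(67,6),(68,5),(69,5),(70,3),(71,4),(72,6),(73,10),(74,3),(75,7),(76,6),(78,9),(79,4),(81,6),(82,4),(83,10),(85,6),(86,1),(87,1),(91,2),(92,7),(93,5),(94,9),(95,7),(97,7),(99,6),(100,2),(101,2),(102,4),(103,2),(104,7),(106,8),(109,3),(110,3),(112,6),(113,1),(117,3),(119,7),(120,8),(121,10),(122,4),(123,7),(124,4),(125,4),(127,2),(128,7),(129,8),(131,9)]) (.leaf [(3,9),(5,6),(6,5),(8,6),(9,5),(10,3),(17,9),(18,8),(19,3),(22,9),(23,2),(24,8),(29,4),(31,4),(34,6),(35,5),(36,3),(38,3),(39,3),(40,9),(41,8),(43,5),(46,6),(47,7),(50,4),(53,3),(56,10),(58,8),(59,5),(60,4),(61,1),(62,3),(63,8),(64,7),(66,7),(69,10),(70,6),(71,8),(73,7),(74,6),(75,1),(78,1),(79,10),(80,7),(85,5),(87,7),(90,8),(91,3),(92,4),(94,4),(95,4),(96,1),(97,7),(99,3),(102,5),(103,6),(112,5),(113,7),(114,6),(115,1),(126,10),(130,10),(131,6)])))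 
 (.node 
 (.node (.leaf [(0,3),(1,8),(3,6),(4,2),(5,8),(6,2),(8,9),(9,2),(10,9),(11,1),(12,7),(13,4),(14,7),(15,3),(16,1),(18,1),(19,8),(20,8),(23,4),(25,6),(29,7),(30,2),(31,9),(42,9),(43,6),(48,8),(49,2),(50,6),(53,4),(54,6),(56,4),(57,10),(58,7),(59,8),(60,3),(61,9),(62,5),(65,6),(66,3),(67,5),(68,8),(69,8),(71,2),(72,3),(75,2),(76,3),(77,8),(78,10),(79,6),(80,1),(81,5),(82,2),(85,4),(86,5),(87,6),(90,9),(93,2),(94,1),(97,2),(98,6),(99,7),(100,1),(101,9),(103,10),(104,9),(105,6),(106,7),(110,7),(112,2),(113,5),(116,9),(117,8),(118,4),(121,7),(122,9),(123,4),(124,2),(125,2),(127,5),(128,9),(131,6)]) (.leaf [(2,2),(3,5),(4,10),(5,7),(6,1),(8,6),(9,5),(10,9),(11,5),(12,10),(13,5),(14,6),(16,3),(18,8),(19,6),(20,2),(22,6),(23,6),(24,6),(25,3),(26,6),(27,8),(29,8),(30,7),(31,3),(33,2),(34,6),(35,8),(36,8),(37,8),(38,2),(39,10),(41,2),(42,7),(43,8),(44,3),(45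,1),(46,1),(47,9),(48,1),(50,1),(51,1),(53,6),(54,3),(56,2),(57,4),(59,5),(60,3),(61,3),(62,3),(63,4),(64,4),(65,4),(66,1),(67,6),(68,4),(69,3),(70,5),(71,10),(72,7),(73,5),(74,5),(75,10),(76,5),(78,8),(79,8),(80,8),(81,5),(82,8),(83,3),(85,7),(86,4),(87,8),(89,10),(90,8),(91,7),(92,7),(93,7),(94,10),(95,6),(97,10),(98,4),(99,8),(100,4),(101,5),(102,10),(103,1),(104,10),(109,9),(112,1),(115,1),(126,1),(127,1),(130,1),(131,5),(132,1)])) 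
 (.node (.leaf [(2,4),(3,9),(4,9),(5,4),(6,1),(7,7),(8,5),(9,6),(10,6),(11,8),(12,4),(13,1),(14,10),(16,6),(18,10),(19,8),(23,10),(24,6),(25,3),(26,3),(27,8),(28,5),(29,5),(30,8),(31,10),(32,10),(33,9),(34,3),(35,5),(37,8),(38,8),(39,9),(40,9),(41,3),(44,9),(45,5),(47,6),(48,10),(50,7),(51,10),(52,5),(53,10),(54,7),(55,10),(57,4),(59,6),(60,3),(61,5),(62,7),(63,8),(65,4),(66,4),(67,8),(68,7),(70,4),(72,10),(73,10),(76,6),(79,9),(80,1),(81,3),(82,6),(83,2),(84,2),(85,2),(86,2),(87,8),(88,9),(89,7),(90,6),(91,10),(93,5),(94,5),(95,7),(96,3),(97,6),(100,7),(101,10),(103,1),(104,8),(106,3),(107,9),(108,10),(109,9),(110,3),(111,2),(112,6),(113,7),(115,10),(116,6),(117,10),(118,3),(119,5),(121,8),(122,8),(123,5),(124,3),(126,3),(128,9),(129,9),(132,10)]) (.leaf [(0,5),(1,6),(2,6),(3,2),(4,7),(6,7),(7,10),(8,7),(9,4),(10,10),(12,6),(13,7),(14,4),(15,5),(16,4),(18,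9),(20,1),(21,4),(22,4),(23,6),(24,10),(25,6),(26,1),(32,6),(33,4),(34,1),(35,5),(36,7),(37,6),(38,2),(40,7),(41,9),(45,1),(47,6),(49,5),(50,8),(51,5),(52,2),(54,4),(56,7),(57,9),(59,8),(60,7),(61,2),(62,4),(63,9),(64,6),(65,2),(66,8),(67,4),(68,4),(69,5),(70,4),(75,1),(76,8),(81,6),(83,10),(84,1),(85,5),(86,10),(87,4),(96,6),(97,4),(98,7),(102,7),(105,5),(106,6),(107,5),(108,2),(110,4),(112,10),(113,1),(115,7),(116,7),(117,2),(118,4),(119,9),(120,6),(121,2),(122,8),(123,4),(124,4),(125,5),(126,9),(131,3),(132,7)])))) 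
 (.node 
 (.node 
 (.node (.leaf [(3,2),(4,9),(6,4),(7,7),(8,2),(9,3),(10,2),(13,8),(14,9),(15,5),(16,7),(17,4),(18,2),(20,1),(22,1),(23,8),(24,3),(25,3),(26,8),(27,2),(28,6),(32,5),(34,3),(35,5),(37,3),(38,3),(40,6),(41,8),(42,2),(43,5),(45,8),(47,2),(50,7),(52,3),(54,7),(56,7),(58,2),(59,1),(60,4),(61,7),(62,4),(63,3),(65,4),(66,4),(67,7),(68,7),(69,5),(70,10),(71,3),(74,10),(78,1),(79,8),(80,3),(81,3),(82,8),(83,2),(84,6),(88,5),(90,3),(91,5),(93,3),(94,3),(96,6),(97,8),(98,2),(99,5),(101,8),(103,2),(106,9),(108,7),(110,9),(112,9),(114,1),(115,6),(116,2),(117,9),(118,2),(119,7),(121,2),(122,2),(123,9),(124,9),(125,8),(126,5),(127,7),(130,5)]) (.leaf [(0,2),(1,9),(3,4),(4,5),(5,9),(6,5),(8,6),(9,5),(10,6),(11,8),(12,1),(13,10),(14,1),(15,2),(16,8),(18,8),(19,9),(20,9),(21,9),(22,3),(23,4),(24,8),(25,7),(26,5),(29,10),(30,7),(31,4),(34,6),(37,5),(38,8),(41,5),(42,4),(43,1),(44,8),(45,6),(47,3),(48,6),(49,10),(50,8),(53,8),(54,8),(56,10),(57,3),(58,3),(59,5),(60,4),(61,4),(62,3),(65,8),(66,4),(67,3),(68,7),(69,7),(71,9),(72,4),(75,10),(76,6),(77,1),(78,4),(79,2),(80,7),(81,8),(82,3),(85,2),(86,4),(87,7),(90,8),(93,3),(94,7),(97,3),(98,7),(100,7),(101,8),(103,4),(104,5),(109,6),(112,5),(113,7),(114,5),(115,1),(117,4),(127,6),(132,10)]))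 
 (.node (.leaf [(3,8),(5,9),(6,2),(8,9),(9,2),(10,10),(17,8),(18,1),(19,10),(29,7),(31,9),(46,8),(47,4),(50,3),(53,5),(56,4),(57,5),(58,4),(59,8),(60,3),(61,9),(62,5),(63,6),(64,8),(66,8),(69,2),(70,3),(71,6),(73,8),(74,3),(75,7),(78,8),(79,3),(80,1),(85,6),(87,6),(90,9),(91,2),(92,10),(94,10),(95,10),(96,8),(97,1),(99,2),(102,9),(103,5),(106,9),(109,4),(112,2),(113,1),(116,9),(117,5),(118,4),(119,7),(120,2),(122,2),(125,6),(127,7),(129,2),(131,9)]) (.leaf [(2,5),(3,3),(4,3),(5,5),(6,4),(7,6),(8,9),(9,2),(10,2),(11,10),(12,5),(13,4),(14,7),(16,2),(18,7),(19,10),(23,9),(24,1),(25,1),(26,6),(28,4),(29,4),(32,9),(33,7),(34,6),(35,10),(37,5),(38,5),(39,7),(40,4),(41,6),(44,7),(45,10),(47,1),(50,2),(51,6),(52,3),(53,6),(54,2),(55,5),(56,4),(57,1),(59,3),(60,4),(61,3),(62,2),(63,7),(65,9),(66,9),(67,7),(68,2),(70,2),(72,6),(73,6),(76,3),(81,1),(83,1),(84,10),(85,10),(86,1),(87,4),(96,5),(104,4),(106,2),(107,6),(108,3),(109,6),(110,2),(111,3),(112,1),(113,7),(115,4),(116,4),(117,3),(118,2),(119,7),(121,9),(122,9),(123,7),(124,2),(126,10),(128,6),(129,6),(132,4)])))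 
 (.node 
 (.node (.leaf [(2,3),(3,2),(4,4),(5,5),(6,7),(8,9),(9,2),(10,8),(11,2),(12,4),(13,2),(14,9),(16,10),(18,1),(19,9),(20,3),(25,1),(27,7),(30,2),(31,4),(42,2),(43,1),(46,5),(48,5),(50,9),(51,9),(53,7),(54,5),(56,3),(57,3),(59,8),(60,5),(61,5),(62,5),(63,3),(64,3),(65,3),(66,9),(67,10),(68,3),(69,5),(70,8),(71,9),(72,8),(73,1),(74,8),(75,4),(76,8),(78,9),(79,9),(80,9),(81,10),(82,9),(83,1),(85,1),(86,5),(87,10),(89,3),(90,9),(91,1),(92,1),(93,1),(94,3),(95,4),(97,3),(98,5),(99,1),(100,10),(101,7),(102,7),(103,8),(104,7),(106,5),(107,5),(109,3),(110,4),(112,7),(113,9),(116,4),(117,4),(118,4),(119,9),(120,9),(121,9),(122,5),(123,8),(124,9),(125,4),(127,3),(128,2),(129,3),(131,2)]) (.leaf [(3,1),(4,6),(5,6),(6,4),(10,10),(11,5),(12,2),(13,1),(14,10),(16,5),(19,5),(22,6),(23,10),(25,4),(26,10),(27,3),(29,4),(30,8),(31,8),(35,5),(36,1),(37,7),(38,6),(39,1),(41,1),(43,4),(44,5),(45,5),(46,10),(47,5),(48,1),(50,6),(53,10),(54,5),(56,8),(58,5),(61,5),(63,8),(64,6),(66,3),(67,8),(68,3),(69,3),(70,6),(71,10),(72,8),(73,6),(74,6),(75,1),(76,1),(78,8),(79,6),(81,3),(82,6),(83,8),(85,5),(86,3),(87,3),(91,3),(92,5),(93,6),(94,8),(95,5),(97,5),(99,3),(100,3),(101,3),(102,1),(103,3),(104,10),(109,1),(112,4),(113,7),(114,1),(121,4),(126,10),(127,5),(130,10),(131,6),(132,9)]))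 
 (.node (.leaf [(0,4),(1,7),(2,7),(3,6),(4,10),(6,10),(7,8),(8,10),(9,1),(10,8),(12,7),(13,10),(14,1),(15,4),(16,1),(18,5),(20,3),(21,2),(22,2),(23,3),(24,5),(25,7),(26,6),(27,3),(28,8),(29,7),(30,3),(31,10),(32,3),(33,2),(34,6),(35,8),(36,9),(37,3),(38,1),(40,2),(41,9),(42,1),(45,6),(46,1),(47,3),(49,1),(50,4),(51,1),(52,7),(54,3),(57,7),(59,5),(60,8),(61,7),(62,3),(63,4),(64,10),(65,7),(66,6),(67,3),(68,3),(69,1),(70,8),(76,5),(77,4),(78,4),(79,6),(80,10),(81,7),(82,1),(83,9),(84,2),(85,10),(86,9),(87,8),(88,6),(89,4),(90,1),(91,5),(92,7),(93,6),(94,2),(96,8),(97,6),(98,3),(101,1),(102,3),(103,6),(105,2),(106,1),(107,2),(108,3),(110,6),(112,5),(113,8),(115,1),(116,5),(117,3),(118,6),(119,8),(120,9),(121,3),(122,1),(123,6),(124,6),(125,2),(126,6),(131,7),(132,1)]) (.leaf [(4,7),(6,5),(7,5),(8,2),(9,9),(10,2),(12,6),(13,7),(14,4),(16,4),(17,9),(19,2),(22,1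0),(24,4),(25,6),(26,1),(28,7),(29,1),(32,2),(34,5),(35,5),(36,6),(37,6),(38,5),(39,10),(40,2),(41,6),(45,1),(47,1),(50,2),(52,8),(54,4),(55,3),(56,4),(57,6),(59,1),(60,5),(62,9),(63,9),(64,2),(65,2),(66,9),(67,4),(68,2),(69,7),(70,3),(73,7),(74,10),(75,1),(76,8),(81,6),(83,10),(84,1),(85,6),(86,10),(87,6),(96,6),(102,6),(103,6),(106,2),(108,8),(110,4),(111,4),(112,2),(113,3),(115,5),(116,5),(118,9),(119,9),(120,2),(121,2),(122,9),(123,4),(125,7),(126,4),(129,7),(130,6),(131,4),(132,7)]))))))))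

end CfsgLib.Presented.HNMatA12
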