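import Cfsg.Agent.Lib.Presented.Cert.HNMatA12Part0
import Cfsg.Agent.Lib.Presented.Cert.HNMatA12Part1
import Cfsg.Agent.Lib.Presented.Cert.HNMatA12Part2

/-! Generated data: words and matrices for an alternating group of degree twelve. -/
set_option autoImplicit false

namespace CfsgLib.Presented.HNMatA12

open MatCheck

def gens : List Rows := [m0, m1, m2, m3, m4, m5, m6, m7, m8, m9, m10, m11]

def wordW : List ℕ := [3, 1, 2, 0, 3, 3, 3, 1, 3, 3, 1, 2, 0, 2, 2, 0, 2, 2, 1, 3, 1, 3, 3, 0, 3, 0]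

def wordWinv : List ℕ := [1, 2, 1, 2, 2, 0, 2, 0, 3, 3, 1, 3, 3, 1, 3, 0, 2, 2, 0, 2, 2, 2, 1, 3, 0, 2]

def baseWords : List (List ℕ) := [[0, 0, 4, 7, 7],
  [7, 4, 6],
  [6, 6, 4, 7, 7],
  [2, 1, 2, 2, 0, 2, 7, 7, 3, 4, 2, 4, 3, 0, 0, 7, 4, 6, 1, 1, 2, 4, 3, 4, 2, 6, 6, 3, 1, 3, 3, 0, 3],
  [7, 1, 3, 4, 3, 1, 4, 2, 4, 2, 0, 4, 7, 2, 4, 3, 4, 2, 0, 0, 7, 4, 6, 1, 1, 3, 4, 2, 4, 3, 6, 4, 1, 3, 4, 3, 4, 0, 2, 4, 2, 0, 6]]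

end CfsgLib.Presented.HNMatA12
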