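import Mathlib.Data.List.Basic

/-! Generated data: the subgroup normalised by the fifth generator. -/
set_option autoImplicit false

namespace CfsgLib.Presented.LyK

/-- x162, …, x169 -/
def xWords : List (List ℕ) := [[1, 3, 1, 2, 5, 3, 0, 5, 2, 0], [3, 3, 0, 4, 1, 2, 4, 2], [1, 3, 1, 4, 0, 2, 0], [3, 1, 2, 4, 3, 0, 2], [2, 2, 1, 3, 4, 2, 0, 4, 3, 3, 5], [1, 1, 1], [2, 1, 3, 1, 1], [0, 2, 2, 0, 3, 3, 1]]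

/-- c1, …, c5, a1, a2, a3 -/
def thWords : List (List ℕ) := [[4], [1, 4, 0], [3, 4, 2], [2, 4, 3], [5, 1, 5, 0, 4, 1, 4, 0], [0], [2, 0, 3], [2, 2, 0, 3, 3]]

/-- representatives -/
def reps : List (List ℕ) := [[], [2], [0, 2], [2, 0, 2], [2, 2, 0, 2]]

/-- rows (i, x, j, k): x t_i = t_j k -/
def rows : List (ℕ × ℕ × ℕ × List ℕ) := [(0, 0, 0, [5, 5, 5, 5, 5]), (0, 2, 1, []), (0, 4, 0, [5, 7, 5, 3, 1, 1, 7]), (1, 0, 2, []), (1, 2, 2, [5, 6, 7, 5, 5, 5, 5]), (1, 4, 1, [3, 3, 3, 3, 1, 1]), (2, 0, 1, [5, 5]), (2, 2, 3, []), (2, 4, 2, [7, 5, 7, 2, 2, 2, 5]), (3, 0, 3, [5, 6, 7, 6, 5]), (3, 2, 4, []), (3, 4, 3, [5, 7, 5, 2, 7]), (4, 0, 4, [7]), (4, 2, 0, [5, 7, 5, 6, 5]), (4, 4, 4, [7, 5, 3, 7, 5])]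

end CfsgLib.Presented.LyK
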