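import Mathlib.Data.List.Basic

/-! Generated data: images of vectors in the representation of dimension 111. -/
set_option autoImplicit false

namespace CfsgLib.Presented.LyVec

/-- (word, vector, image) -/
def facts : List (List ℕ × ℕ × ℕ) := [([11, 2, 2, 0, 8, 3, 1, 5, 3, 0, 2, 4, 1, 2, 10], 0x1, 0x4e38e02d84902c831161252045911c85c48969911a2e03112e22d30e361109c4db62062226001b),
  ([11, 3, 3, 0, 2, 2, 10], 0x1, 0x6442826832934a484b8e36242984582421146cb3018926020db32224920101361b0a45148d041c),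
  ([11, 8, 5, 1, 8, 5, 5, 2, 4, 4, 3, 10], 0x1, 0x1300a91966321948910c28989a6e28cc2442626dc6e12513004e261050108801949c4c1902821121),
  ([11, 4, 8, 3, 0, 3, 0, 8, 0, 8, 2, 0, 2, 4, 2, 2, 1, 2, 4, 2, 10], 0x1, 0xe16c84cc8438a02592916836204086024614144180816883188100c06030cc0a08210820488424e009a),
  ([11, 0, 3, 8, 2, 0, 5, 8, 0, 8, 1, 3, 3, 1, 3, 5, 0, 2, 4, 0, 10], 0x1, 0xc19044d104291406108c42469a11c0232e06a04222132442e471c68851409a41a40b6246c06e0820301),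
  ([10], 0x1, 0x5018c34c28da6c932228a4098d07109030594a28442db40309284b92480401a4120c9659298619),
  ([10, 2, 10, 8, 10, 2, 10, 8, 10, 2, 10, 8, 10, 2, 10, 8, 10, 2, 10, 8, 10, 2, 10, 8, 10, 2, 10, 8, 10, 2, 10, 8, 10, 2, 10, 8, 10, 2, 10, 8, 10, 2, 10, 8], 0x1, 0x1),
  ([10, 2, 10, 8], 0x1, 0xa40c981228245204965125b89009c5042c38c98dc0d18c201112341a71269881c09980a4da6d4),
  ([10, 0, 10, 8, 10, 6, 10, 0, 10, 8, 10, 6, 10, 0, 10, 8, 10, 6, 10, 0, 10, 8, 10, 6, 10, 0, 10, 8, 10, 6, 10, 0, 10, 8, 10, 6, 10, 0, 10, 8, 10, 6, 10, 0, 10, 8, 10, 6, 10, 0, 10, 8, 10, 6, 10, 0, 10, 8, 10, 6, 10, 0, 10, 8, 10, 6, 10, 0, 10, 8, 10, 6, 10, 0, 10, 8, 10, 6, 10, 0, 10, 8, 10, 6, 10, 0, 10, 8, 10, 6, 10, 0, 10, 8, 10, 6, 10, 0, 10, 8, 10, 6, 10, 0, 10, 8, 10, 6, 10, 0, 10, 8, 10, 6, 10, 0, 10, 8, 10, 6,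 10, 0, 10, 8, 10, 6, 10, 0, 10, 8, 10, 6, 10, 0, 10, 8, 10, 6, 10, 0, 10, 8, 10, 6, 10, 0, 10, 8, 10, 6, 10, 0, 10, 8, 10, 6, 10, 0, 10, 8, 10, 6, 10, 0, 10, 8, 10, 6, 10, 0, 10, 8, 10, 6, 10, 0, 10, 8, 10, 6, 10, 0, 10, 8, 10, 6, 10, 0, 10, 8, 10, 6, 10, 0, 10, 8, 10, 6, 10, 0, 10, 8, 10, 6, 10, 0, 10, 8, 10, 6, 10, 0, 10, 8, 10, 6, 10, 0, 10, 8, 10, 6], 0x1, 0x1),
  ([10, 0, 10, 8, 10, 6], 0x1, 0x4ca8906e05145128934c02c36cb80b2809104128038c360a4d351b30c2134da70b51080804a89c),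
  ([11, 9, 10, 3, 11, 9, 10, 3, 11, 9, 10, 3, 11, 9, 10, 3, 11, 9, 10, 3, 11, 9, 10, 3, 11, 9, 10, 3, 11, 9, 10, 3, 11, 9, 10, 3, 11, 9, 10, 3, 11, 9, 10, 3, 11, 9, 10, 3, 11, 9, 10, 3, 11, 9, 10, 3, 11, 9, 10, 3, 11, 9, 10, 3, 11, 9, 10, 3, 11, 9, 10, 3, 11, 9, 10, 3, 11, 9, 10, 3, 11, 9, 10, 3, 11, 9, 10, 3, 11, 9, 10, 3, 11, 9, 10, 3, 11, 9, 10, 3, 11, 9, 10, 3, 11, 9, 10, 3, 11, 9, 10, 3, 11, 9, 10, 3, 11, 9, 10, 3, 11, 9, 10, 3, 11, 9, 10, 3, 11, 9, 10, 3, 11, 9, 10, 3, 11, 9, 10, 3, 11, 9, 10, 3, 11, 9, 10, 3, 11, 9, 10, 3, 11, 9, 10, 3, 11, 9, 10, 3, 11, 9, 10, 3, 11, 9, 10, 3, 11, 9, 10, 3, 11, 9, 10, 3, 11, 9, 10, 3, 11, 9, 10, 3, 11, 9, 10, 3, 11, 9, 10, 3, 11, 9, 10, 3, 11, 9, 10, 3, 11, 9, 10, 3, 11, 9, 10, 3, 11, 9, 10, 3, 11, 9, 10, 3, 11, 9, 10, 3, 11, 9, 10, 3, 11, 9, 10,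 3, 11, 9, 10, 3, 11, 9, 10, 3, 11, 9, 10, 3, 11, 9, 10, 3, 11, 9, 10, 3, 11, 9, 10, 3, 11, 9, 10, 3, 11, 9, 10, 3, 11, 9, 10, 3, 11, 9, 10, 3], 0x1, 0x1),
  ([11, 9, 10, 3], 0x1, 0x42146172330c9040596ca2da4a45132e24212d170c4c368a00b2411100430e130a80c2e088c644)]

end CfsgLib.Presented.LyVec
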