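import Cfsg.Agent.Lib.Presented.Cert.Suz3Valid
import Cfsg.Agent.Lib.Presented.Cert.Suz3Run4

/-! Generated coset table certificate. -/
set_option autoImplicit false
set_option maxRecDepth 8000
set_option Elab.async false

namespace CfsgLib.Presented.Suz3Cert

theorem cert_ok : cert.ok = true :=
  VCert.ok_of_run cert_valid_ok (VCert.runAll_append run0 (VCert.runAll_append run1 (VCert.runAll_append run2 (VCert.runAll_append run3 (VCert.runAll_append run4 (VCert.runAll_append run5 (VCert.runAll_append run6 (VCert.runAll_append run7 (VCert.runAll_append run8 run9)))))))))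

end CfsgLib.Presented.Suz3Cert
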