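import Cfsg.Agent.Lib.Presented.Cert.Suz3Data

/-! The static part of the certificate is valid. -/
set_option autoImplicit false
set_option maxRecDepth 8000
set_option Elab.async false

namespace CfsgLib.Presented.Suz3Cert

theorem cert_valid_ok : cert.valid = true := by decide +kernel

end CfsgLib.Presented.Suz3Cert
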