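import Cfsg.Agent.Lib.Presented.VCert

/-! Generated coset table certificate. -/
set_option autoImplicit false
set_option maxRecDepth 8000

namespace CfsgLib.Presented.SuzCCert

def alphabet : Alphabet := ⟨4, (.leaf 0x40c2040)⟩

def relWords : List (List ℕ) := [[0, 1, 0, 1, 0, 1, 0, 1, 0, 1],
  [0, 2, 0, 2],
  [0, 3, 0, 3],
  [1, 2, 1, 2, 1, 2],
  [1, 3, 1, 3],
  [2, 3, 2, 3, 2, 3, 2, 3, 2, 3, 2, 3, 2, 3, 2, 3],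
  [0, 3, 2, 3, 2, 3, 2, 3, 2]]

def subWords : List (List ℕ) := [[0],
  [1],
  [2],
  [3, 2, 1, 0, 3, 2, 1, 0, 1, 2, 1, 0, 1, 2, 3, 0, 1, 2, 3]]

def net0 : List Vec.Stage := [
  ⟨16, 0xa000⟩,
  ⟨8, 0x9200e8⟩,
  ⟨4, 0x7030f08⟩,
  ⟨2, 0x111100⟩,
  ⟨1, 0x411440⟩,
  ⟨2, 0x222200⟩,
  ⟨4, 0xc0008⟩,
  ⟨8, 0x9200e8⟩,
  ⟨16, 0xa000⟩]

def net1 : List Vec.Stage := [
  ⟨16, 0x9000⟩,
  ⟨8, 0x150000⟩,
  ⟨4, 0x30f0000⟩,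
  ⟨2, 0x1302230⟩,
  ⟨1, 0x1441104⟩,
  ⟨2, 0x2222200⟩,
  ⟨4, 0xa000000⟩,
  ⟨8, 0xa80000⟩,
  ⟨16, 0x9000⟩]

def net2 : List Vec.Stage := [
  ⟨32, 0xa0000000⟩,
  ⟨16, 0xa00000006480⟩,
  ⟨8, 0xa000e20042⟩,
  ⟨4, 0x20a060d00⟩,
  ⟨2, 0x2000020202⟩,
  ⟨1, 0x104010404⟩,
  ⟨2, 0x20202⟩,
  ⟨4, 0x208000004⟩,
  ⟨8, 0xa000c00004⟩,
  ⟨16, 0xa00000006480⟩,
  ⟨32, 0xa0000000⟩]

def net3 : List Vec.Stage := [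
  ⟨16, 0x1134⟩,
  ⟨8, 0x34005c⟩,
  ⟨4, 0xf07030c⟩,
  ⟨2, 0x331113100⟩,
  ⟨1, 0x41141411⟩,
  ⟨2, 0x20222000⟩,
  ⟨4, 0x80c00⟩,
  ⟨8, 0x34005c⟩,
  ⟨16, 0x1134⟩]

def rep : Rep := ⟨alphabet, 6, 36, [net0, net1, net2, net3]⟩

def tree : List ℕ := [
  0x2200420,
  0x8890088,
  0x300049204,
  0xcf5526952]

def steps : List VStep := [
  .sub 0 0,
  .sub 1 0,
  .sub 2 0,
  .sub 3 9,
  .rel 2 0 false,
  .rel 4 0 false,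
  .rel 3 1 false,
  .rel 6 4 false,
  .rel 6 8 false,
  .rel 6 8 true,
  .rel 0 1 false,
  .rel 1 0 false,
  .rel 1 1 false,
  .rel 2 0 false,
  .rel 3 0 false,
  .rel 3 1 false,
  .rel 0 0 false,
  .rel 2 0 false,
  .rel 4 0 false,
  .rel 3 1 false,
  .rel 6 2 false,
  .rel 6 4 false,
  .rel 6 8 true,
  .rel 3 0 false,
  .rel 3 1 false,
  .rel 6 2 false,
  .rel 6 4 false,
  .rel 4 0 false,
  .rel 3 0 false,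
  .rel 4 0 false]

def cert : VCert := ⟨rep, relWords, subWords, tree, steps⟩

theorem cert_ok : cert.ok = true := by decide +kernel

end CfsgLib.Presented.SuzCCert
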