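import Cfsg.Agent.Lib.Presented.VCert

/-! Generated coset table certificate. -/
set_option autoImplicit false
set_option maxRecDepth 8000

namespace CfsgLib.Presented.SuzDCert

def alphabet : Alphabet := ⟨3, (.leaf 0xc2040)⟩

def relWords : List (List ℕ) := [[0, 1, 0, 1, 0, 1, 0, 1, 0, 1],
  [0, 2, 0, 2],
  [1, 2, 1, 2, 1, 2],
  [0, 1, 2, 0, 1, 2, 0, 1, 2, 0, 1, 2, 0, 1, 2]]

def subWords : List (List ℕ) := []

def net0 : List Vec.Stage := [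
  ⟨32, 0x9fd7d528⟩,
  ⟨16, 0xe17a0000f2fc⟩,
  ⟨8, 0x37003400a90009⟩,
  ⟨4, 0xd050a0e07070204⟩,
  ⟨2, 0x1311012100022030⟩,
  ⟨1, 0x4141004010014151⟩,
  ⟨2, 0x2202002020002000⟩,
  ⟨4, 0xa02000608080402⟩,
  ⟨8, 0xc8002400120066⟩,
  ⟨16, 0xe17a0000f2fc⟩,
  ⟨32, 0x9fd7d528⟩]

def net1 : List Vec.Stage := [
  ⟨32, 0x50800820⟩,
  ⟨16, 0x6e7100002f1a⟩,
  ⟨8, 0x83001f003e0062⟩,
  ⟨4, 0xb07010303080a0b⟩,
  ⟨2, 0x2002013202203311⟩,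
  ⟨1, 0x4110041411410514⟩,
  ⟨2, 0x200020220200022⟩,
  ⟨4, 0xc000c0c08000a04⟩,
  ⟨8, 0xaa0090003a0062⟩,
  ⟨16, 0x38ea00002f1a⟩,
  ⟨32, 0x50800820⟩]

def net2 : List Vec.Stage := [
  ⟨32, 0x8c472651⟩,
  ⟨16, 0x29100009e20⟩,
  ⟨8, 0x6600cd00dd0011⟩,
  ⟨4, 0x20103050a020f00⟩,
  ⟨2, 0x121121331311313⟩,
  ⟨1, 0x4110154510445451⟩,
  ⟨2, 0x220002020200202⟩,
  ⟨4, 0x2080c0c0800080e⟩,
  ⟨8, 0x64004800000050⟩,
  ⟨16, 0xf280000864a⟩,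
  ⟨32, 0x8d432e58⟩]

def rep : Rep := ⟨alphabet, 6, 60, [net0, net1, net2]⟩

def tree : List ℕ := [
  0x14a294512988242,
  0x88514a2a9455914,
  0x630c218442224a8]

def steps : List VStep := [
  .rel 1 0 false,
  .rel 2 1 false,
  .rel 0 1 false,
  .rel 3 2 false,
  .rel 1 1 false,
  .rel 2 0 false,
  .rel 2 1 false,
  .rel 0 0 false,
  .rel 3 0 false,
  .rel 3 1 false,
  .rel 3 2 false]

def cert : VCert := ⟨rep, relWords, subWords, tree, steps⟩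

theorem cert_ok : cert.ok = true := by decide +kernel

end CfsgLib.Presented.SuzDCert
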